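import Cfsg.Agent.H6.ChA

set_option autoImplicit false

/-! Encoded tables of the Chevalley datum B2. -/

namespace CfsgH6
namespace Chv

def aTB2 : ℕ := 0x8a987aa66a967886
def cTB2 : ℕ := 0x99a9899878876777
def kTB2 : ℕ := 0x9a99899878877776
def eTB2 : ℕ := 0x40000000000001014000000000000081400000000000008040000000000000013fffffffffffffff3fffffffffffff803fffffffffffff7f3ffffffffffffeff
def wTB2 : ℕ := 0x7010500060103010400010102000001040106010201070100010501010103
def hTB2 : ℕ := 0x6700005900000000000700000000000000007600000007905700004a00000004902900000600000000007a00000007706700000000000000003a03701700000500000000000000006900000000000000000000002700000000000400000000005900000000000000000000001700000000000000000304706900004600000000000000701900000000000600000000000203905700000000003600902900000000000a000000000000000001000000000027000019000000000000000000000000000000000000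
def rmB2 : ℕ := 0xffffffffffffffffffffffffffffffffffffffffffffffffffffff
def wmB2 : ℕ := 0xffffffffffffffffffffffffffffffff
def encB2 : Enc where
  n := 8
  l := 2
  cw := 2
  hw := 24
  hm := 16777215
  rw := 216
  rm := rmB2
  ww := 128
  wm := wmB2
  off := 4611686018427387904
  sT := 0x405
  aT := aTB2
  cT := cTB2
  kT := kTB2
  eT := eTB2
  wT := wTB2
  hT := hTB2

end Chv
end CfsgH6
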