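import Cfsg.Agent.H6.ChA

set_option autoImplicit false

/-! Encoded tables of the Chevalley datum D4. -/

namespace CfsgH6
namespace Chv

def aTD4 : ℕ := 0x88989979798997897799887a99877997979777a78a78a878689886989969797997797789889699777987978777978878
def cTD4 : ℕ := 0x99a999998999989988998889999889989898889889889888788887888878787887787778888788777877877777777767
def kTD4 : ℕ := 0x99a999998999989988998889999889989898889889889888788887888878787887787778888788777877877777777767
def eTD4 : ℕ := 0x4000000000208081400000000020408140000000002040804000000000204001400000000020400040000000002000004000000000004081400000000000408040000000000040014000000000004000400000000000008040000000000000013fffffffffffffff3fffffffffffff803fffffffffffc0003fffffffffffbfff3fffffffffffbf803fffffffffffbf7f3fffffffffe000003fffffffffdfc0003fffffffffdfbfff3fffffffffdfbf803fffffffffdfbf7f3fffffffffdf7f7f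
def wTD4 : ℕ := 0x170115001601130014001201100011010e000f000d010b010c000a0008010900060107000500030104000101020000001701140113001600150012010f010e00110010010a000c000b010d00070006010901080005000200010104010300000116001700150014011200130011000d000c01090110010f01080107010e000b000a0006000401050003000200000101001700110010000f000e01050116011501140113000d000c000b000a0104010301020101011200090008000700060000
def hTD4 : ℕ := 0x1671591491370001191070f70e90000170000000000000000000000000001770000001571470000000001271190000d90c90000990160000000000000000000000001790000001670001370000001270001090d90000000b90870150000000000000000000001790000001670001370000001270000000f90c90000000a90770140000000000000000001770000000001571470000001270000000000e90000b90a90000690130000000000000000001671571471370000000000000000000000000000990890790690000120000000000001791690000000000000000001070f70000d90c90000000000000000570470110000000001770001590000000000000001170000e70d90000000b90000000000570000390100000001770000001490000000000001170000e70000c90000000a900000005700000002900f0001790000000001390000000000001070f70000000000b90a900000005700000000001700e00000000016915900000000011910900000000000000000009708700000000004703700000d0000001690001490000001190000f900000000000000009700007700000004700002700000c0001590001390000001090000e900000000000000008700006700000003700001700000000b0001491390000000000f90e90000000000000000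0007706700000000002701700000000000a1690000000001290000000d70c70000000000890790000000000000470000000000070000091570000001290000000d70000000b70000990000690000000000000370000000090000000081470001290000000000c70000000a70990000690000000000000000270000090000000000071391290000000000000000b70a70000890790000000000000000000170070000000000000060001171070f70e70000000000000000000000000000490390290190000000000000000000051170000d70c70000970000000000590000000390290000000000090000000000000000000041090d70000000b70870000000590000000490000190000000070000000000000000000000030f90c70000000a70770000590000000490000190000000070000000000000000000000000020e70000b70a7000067059000000000039029000000009000000000000000000000000000001000097089079067000049037027019000000000000000000000000000000000000000000000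
def rmD4 : ℕ := 0xfffffffffffffffffffffffffffffffffffffffffffffffffffffffffffffffffffffffffff
def wmD4 : ℕ := 0xffffffffffffffffffffffffffffffffffffffffffffffffffffffffffffffffffffffffffffffffffffffffffffffff
def encD4 : Enc where
  n := 24
  l := 4
  cw := 1
  hw := 12
  hm := 4095
  rw := 300
  rm := rmD4
  ww := 384
  wm := wmD4
  off := 4611686018427387904
  sT := 0xc0d0e12
  aT := aTD4
  cT := cTD4
  kT := kTD4
  eT := eTD4
  wT := wTD4
  hT := hTD4

end Chv
end CfsgH6
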