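import Cfsg.Agent.H6.ChR9
import Cfsg.Agent.S0311

set_option autoImplicit false

/-! Parabolic subgroups, Levi decomposition. -/

namespace CfsgH6
namespace Chv

open Cfsg.Lie Matrix

variable {D : ChevalleyDatum} (g : Good D) {F : Type*} [Field F]

namespace Good

include g

open Classical in
/-- the degree with respect to the roots outside `J` -/
noncomputable def dg (J : Set ℕ) (r : ℕ) : ℤ := ∑ i ∈ Finset.range D.rank, if i ∈ J then 0 else g.coef r i

theorem dg_neg {J : Set ℕ} {r : ℕ} (hr : r < D.nroots) : g.dg J (D.neg r) = - g.dg J r := by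
  unfold dg
  rw [← Finset.sum_neg_distrib]
  apply Finset.sum_congr rfl
  intro i hi
  split_ifs
  · simp
  · rw [g.coef_neg r hr i (Finset.mem_range.1 hi)]

theorem dg_nonneg {J : Set ℕ} {r : ℕ} (hr : r < D.nroots) (hp : g.N ≤ r) : 0 ≤ g.dg J r := by
  unfold dg
  apply Finset.sum_nonneg
  intro i hi
  split_ifs
  · exact le_rfl
  · exact g.coef_nonneg r hr hp i (Finset.mem_range.1 hi)

theorem dg_nonpos {J : Set ℕ} {r : ℕ} (hr : r < D.nroots) (hp : r < g.N) : g.dg J r ≤ 0 := by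
  have h1 := g.neg_eq r hr
  have h2 := g.hN
  have h3 := g.dg_nonneg (J := J) (g.neg_lt hr) (by omega)
  rw [g.dg_neg hr] at h3
  omega

theorem dg_lin {J : Set ℕ} {r s u : ℕ} (x y : ℤ) (h : ∀ j < D.rank, g.coef u j = x * g.coef r j + y * g.coef s j) :
    g.dg J u = x * g.dg J r + y * g.dg J s := by
  unfold dg
  rw [Finset.mul_sum, Finset.mul_sum, ← Finset.sum_add_distrib]
  apply Finset.sum_congr rfl
  intro i hi
  split_ifs
  · simp
  · rw [h i (Finset.mem_range.1 hi)]

theorem dg_pos {J : Set ℕ} {r : ℕ} (hr : r < D.nroots) (h : 0 < g.dg J r) : g.N ≤ r := by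
  by_contra hc
  have := g.dg_nonpos (J := J) hr (by omega)
  omega

theorem inRootSub_iff {J : Set ℕ} {r : ℕ} : D.InRootSub J r ↔ r < D.nroots ∧ g.dg J r = 0 := by
  unfold ChevalleyDatum.InRootSub
  constructor
  · rintro ⟨hr, h⟩
    refine ⟨hr, ?_⟩
    unfold dg
    apply Finset.sum_eq_zero
    intro i hi
    split_ifs with hJ
    · rfl
    · exact (g.cor_zero_iff r hr i (Finset.mem_range.1 hi)).1 (h i (Finset.mem_range.1 hi) hJ)
  · rintro ⟨hr, h⟩
    refine ⟨hr, fun i hi hJ => (g.cor_zero_iff r hr i hi).2 ?_⟩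
    by_cases hp : g.N ≤ r
    · unfold dg at h
      rw [Finset.sum_eq_zero_iff_of_nonneg] at h
      · have := h i (Finset.mem_range.2 hi)
        rwa [if_neg hJ] at this
      · intro j hj
        split_ifs
        · exact le_rfl
        · exact g.coef_nonneg r hr hp j (Finset.mem_range.1 hj)
    · have h1 := g.neg_eq r hr
      have h2 := g.hN
      have h3 := g.neg_lt hr
      have h4 : g.dg J (D.neg r) = 0 := by rw [g.dg_neg hr, h]; simp
      unfold dg at h4
      rw [Finset.sum_eq_zero_iff_of_nonneg] at h4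
      · have := h4 i (Finset.mem_range.2 hi)
        rw [if_neg hJ, g.coef_neg r hr i hi] at this
        omega
      · intro j hj
        split_ifs
        · exact le_rfl
        · exact g.coef_nonneg _ h3 (by omega) j (Finset.mem_range.1 hj)

theorem dg_simple {J : Set ℕ} {i : ℕ} (hi : i < D.rank) (hJ : i ∈ J) : g.dg J (D.simple i) = 0 := by
  unfold dg
  apply Finset.sum_eq_zero
  intro j hj
  split_ifs with h
  · rfl
  · rw [g.coef_simple i hi j (Finset.mem_range.1 hj), if_neg]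
    rintro rfl
    exact h hJ

theorem dg_simple_out {J : Set ℕ} {i : ℕ} (hi : i < D.rank) (hJ : i ∉ J) : g.dg J (D.simple i) = 1 := by
  unfold dg
  rw [Finset.sum_eq_single i]
  · rw [if_neg hJ, g.coef_simple i hi i hi, if_pos rfl]
  · intro j hj hij
    split_ifs with h
    · rfl
    · rw [g.coef_simple i hi j (Finset.mem_range.1 hj), if_neg (Ne.symm hij)]
  · intro h; exact absurd (Finset.mem_range.2 hi) h

theorem dg_w {J : Set ℕ} {i r : ℕ} (hi : i < D.rank) (hJ : i ∈ J) (hr : r < D.nroots) : g.dg J (g.w i r) = g.dg J r := by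
  unfold dg
  apply Finset.sum_congr rfl
  intro j hj
  split_ifs with h
  · rfl
  · rw [g.coef_w i hi r hr j (Finset.mem_range.1 hj), if_neg, sub_zero]
    rintro rfl
    exact h hJ

/-- parabolic, Levi, unipotent radical -/
def PJ (F : Type*) [Field F] (J : Set ℕ) : Subgroup (GL D.Idx F) := g.HH F ⊔ g.XS F (fun r => g.N ≤ r ∨ g.dg J r = 0)
def LJ (F : Type*) [Field F] (J : Set ℕ) : Subgroup (GL D.Idx F) := g.HH F ⊔ g.XS F (fun r => g.dg J r = 0)
def RJ (F : Type*) [Field F] (J : Set ℕ) : Subgroup (GL D.Idx F) := g.XS F (fun r => 0 < g.dg J r)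

theorem PJ_aux {J : Set ℕ} {P : Subgroup (GL D.Idx F)} (hB : g.BB F ≤ P) (hn : ∀ j ∈ J, j < D.rank → g.nn j ∈ P) :
    ∀ r, r < D.nroots → g.N ≤ r → g.dg J r = 0 → ∀ t : F, g.xg (D.neg r) t ∈ P := by
  intro r
  induction r using Nat.strong_induction_on with
  | _ r ih =>
    intro hr hp hd t
    -- some `i ∈ J` with positive Cartan integer
    have h1 : ∃ i < D.rank, i ∈ J ∧ 0 < D.cartan i r := by
      by_contra hcon
      push Not at hcon
      have h2 := g.cor_cartan r hr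
      have h3 : ∑ i ∈ Finset.range D.rank, cor D r i * D.cartan i r ≤ 0 := by
        apply Finset.sum_nonpos
        intro i hi
        have hi' := Finset.mem_range.1 hi
        by_cases hJ : i ∈ J
        · exact mul_nonpos_of_nonneg_of_nonpos (g.cor_nonneg r hr hp i hi') (hcon i hi' hJ)
        · have h4 := (g.inRootSub_iff.2 ⟨hr, hd⟩).2 i hi' hJ
          have h5 : cor D r i = 0 := h4
          rw [h5, zero_mul]
      omega
    obtain ⟨i, hi, hJ, hc⟩ := h1
    by_cases hs : r = D.simple i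
    · subst hs
      have h2 := g.nn_x (F := F) hi hr (-t)
      rw [g.e_simple i hi, g.w_simple i hi] at h2
      have h3 : ((-1 : ℤ) : F) * -t = t := by push_cast; ring
      rw [h3] at h2
      rw [← h2]
      exact Subgroup.mul_mem _ (Subgroup.mul_mem _ (hn i hJ hi) (hB (g.UU_le_BB (g.xg_mem_UU hp _)))) (Subgroup.inv_mem _ (hn i hJ hi))
    · have hw := g.w_lt i hi r hr
      have h2 := ih (g.w i r) ((g.w_lt_iff hi hr).2 hc) hw (g.w_pos i hi r hr hp hs) (by rw [g.dg_w hi hJ hr, hd])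
        (((g.e i (D.neg (g.w i r)) : ℤ) : F) * t)
      have h3 := g.nn_x (F := F) hi (g.neg_lt hw) (((g.e i (D.neg (g.w i r)) : ℤ) : F) * t)
      rw [← mul_assoc, g.e_sq hi (g.neg_lt hw), one_mul, g.w_neg i hi _ hw, g.w_w i hi r hr] at h3
      rw [← h3]
      exact Subgroup.mul_mem _ (Subgroup.mul_mem _ (hn i hJ hi) h2) (Subgroup.inv_mem _ (hn i hJ hi))

theorem BB_le_PJ (J : Set ℕ) : g.BB F ≤ g.PJ F J := by
  rintro x ⟨y, hy, h, hh, rfl⟩
  exact Subgroup.mul_mem _ (Subgroup.mem_sup_right (g.XS_mono (fun r _ h => Or.inl h) hy)) (Subgroup.mem_sup_left hh)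

theorem nn_mem_PJ {J : Set ℕ} {j : ℕ} (hJ : j ∈ J) (hj : j < D.rank) : g.nn j ∈ g.PJ F J := by
  unfold nn PJ
  have hd := g.dg_simple hj hJ
  have h1 : ∀ t : F, g.xg (D.simple j) t ∈ g.XS F (fun r => g.N ≤ r ∨ g.dg J r = 0) := fun t =>
    g.xg_mem (S := fun r => g.N ≤ r ∨ g.dg J r = 0) (Or.inr hd) t
  have h2 : ∀ t : F, g.xg (D.neg (D.simple j)) t ∈ g.XS F (fun r => g.N ≤ r ∨ g.dg J r = 0) := fun t =>
    g.xg_mem (S := fun r => g.N ≤ r ∨ g.dg J r = 0) (Or.inr (by rw [g.dg_neg (g.simple_lt j hj), hd]; simp)) t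
  apply Subgroup.mem_sup_right
  exact Subgroup.mul_mem _ (Subgroup.mul_mem _ (h1 _) (h2 _)) (h1 _)

theorem parab_eq (J : Set ℕ) : D.parabolicSubgroup F J = g.PJ F J := by
  unfold ChevalleyDatum.parabolicSubgroup
  rw [g.borel_eq]
  apply le_antisymm
  · apply sup_le (g.BB_le_PJ J)
    rw [Subgroup.closure_le]
    rintro x ⟨j, hJ, hj, hx⟩
    rw [g.nMat_eq, ← g.nn_eq_ng] at hx
    have : x = g.nn j := Units.ext hx
    rw [this]
    exact g.nn_mem_PJ hJ hj
  · apply sup_le
    · exact g.HH_le_BB.trans le_sup_left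
    · unfold XS
      rw [Subgroup.closure_le]
      rintro x ⟨r, t, hr, hr2, rfl⟩
      by_cases hp : g.N ≤ r
      · exact Subgroup.mem_sup_left (g.UU_le_BB (g.xg_mem_UU hp t))
      · rcases hr with hr | hr
        · exact absurd hr hp
        · have h1 := g.neg_eq r hr2
          have h2 := g.hN
          have h3 := g.PJ_aux (J := J) (P := g.BB F ⊔ Subgroup.closure {x | ∃ j ∈ J, j < D.rank ∧
            (x : Matrix D.Idx D.Idx F) = D.nMat F (D.simple j) 1}) le_sup_left (by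
              intro j hJ hj
              apply Subgroup.mem_sup_right
              apply Subgroup.subset_closure
              refine ⟨j, hJ, hj, ?_⟩
              rw [g.nMat_eq, ← g.nn_eq_ng]) (D.neg r) (g.neg_lt hr2) (by omega) (by rw [g.dg_neg hr2, hr]; simp) t
          rw [g.neg_neg hr2] at h3
          exact h3

theorem levi_eq (J : Set ℕ) : D.leviSubgroup F J = g.LJ F J := by
  unfold ChevalleyDatum.leviSubgroup LJ XS
  rw [g.diag_eq]
  congr 2
  ext x
  constructor
  · rintro ⟨r, t, h1, h2⟩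
    rw [g.inRootSub_iff] at h1
    exact ⟨r, t, h1.2, h1.1, (g.eq_xg_iff r t x).1 h2⟩
  · rintro ⟨r, t, h1, h2, h3⟩
    exact ⟨r, t, g.inRootSub_iff.2 ⟨h2, h1⟩, (g.eq_xg_iff r t x).2 h3⟩

theorem dg_pos_iff {J : Set ℕ} {r : ℕ} (hr : r < D.nroots) : 0 < g.dg J r ↔ g.N ≤ r ∧ g.dg J r ≠ 0 := by
  constructor
  · intro h; exact ⟨g.dg_pos hr h, by omega⟩
  · rintro ⟨h1, h2⟩
    have := g.dg_nonneg (J := J) hr h1
    omega

theorem rad_eq (J : Set ℕ) : D.unipotentRadical F J = g.RJ F J := by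
  unfold ChevalleyDatum.unipotentRadical RJ XS
  congr 1
  ext x
  constructor
  · rintro ⟨r, t, h0, h1, h2⟩
    rw [g.isPosRoot_iff] at h0
    rw [g.inRootSub_iff] at h1
    refine ⟨r, t, (g.dg_pos_iff h0.1).2 ⟨h0.2, fun h => h1 ⟨h0.1, h⟩⟩, h0.1, (g.eq_xg_iff r t x).1 h2⟩
  · rintro ⟨r, t, h1, h2, h3⟩
    rw [g.dg_pos_iff h2] at h1
    refine ⟨r, t, (g.isPosRoot_iff r).2 ⟨h2, h1.1⟩, ?_, (g.eq_xg_iff r t x).2 h3⟩
    rw [g.inRootSub_iff]
    rintro ⟨_, h⟩
    exact h1.2 h

theorem RJ_norm (J : Set ℕ) : g.PJ F J ≤ Subgroup.normalizer (g.RJ F J : Set (GL D.Idx F)) := by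
  have key : ∀ x ∈ g.PJ F J, ∀ y ∈ g.RJ F J, x * y * x⁻¹ ∈ g.RJ F J := by
    intro x hx
    unfold PJ at hx
    have hle : g.HH F ⊔ g.XS F (fun r => g.N ≤ r ∨ g.dg J r = 0) =
        Subgroup.closure ((g.HH F : Set (GL D.Idx F)) ∪ {x | ∃ (r : ℕ) (t : F), (g.N ≤ r ∨ g.dg J r = 0) ∧ r < D.nroots ∧ x = g.xg r t}) := by
      rw [Subgroup.closure_union, Subgroup.closure_eq]; rfl
    have hok : ∀ r < D.nroots, (g.N ≤ r ∨ g.dg J r = 0) → ∀ s < D.nroots, 0 < g.dg J s → s ≠ D.neg r ∧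
        (s = r ∨ ∀ c ∈ D.commTerms r s, 0 < g.dg J c.1) := by
      intro r hr hr' s hs hs'
      have h1 : 0 ≤ g.dg J r := by
        rcases hr' with h | h
        · exact g.dg_nonneg hr h
        · rw [h]
      refine ⟨?_, Or.inr fun c hc => ?_⟩
      · rintro rfl
        rw [g.dg_neg hr] at hs'
        omega
      · obtain ⟨h2, h3, h4, h5⟩ := g.commTerms_mem hr hs hc
        rw [g.dg_lin _ _ h5]
        have h6 : (0 : ℤ) ≤ (c.2.2.1 : ℤ) * g.dg J r := mul_nonneg (by positivity) h1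
        have h7 : (0 : ℤ) < (c.2.2.2 : ℤ) * g.dg J s := mul_pos (by exact_mod_cast h4) hs'
        omega
    rw [hle] at hx
    induction hx using Subgroup.closure_induction'' with
    | one => intro y hy; simpa using hy
    | mem x hx =>
      rcases hx with hx | ⟨r, t, h1, h2, rfl⟩
      · intro y hy; exact g.HH_conj_XS hx y hy
      · exact g.conj_XS' h2 (hok r h2 h1) t
    | inv_mem x hx =>
      rcases hx with hx | ⟨r, t, h1, h2, rfl⟩
      · intro y hy; exact g.HH_conj_XS (Subgroup.inv_mem _ hx) y hy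
      · intro y hy
        rw [_root_.inv_inv]
        exact g.conj_XS h2 (hok r h2 h1) t y hy
    | mul a b _ _ ha hb =>
      intro y hy
      have : a * b * y * (a * b)⁻¹ = a * (b * y * b⁻¹) * a⁻¹ := by group
      rw [this]; exact ha _ (hb y hy)
  intro x hx
  rw [Subgroup.mem_normalizer_iff]
  intro y
  constructor
  · intro hy; exact key x hx y hy
  · intro hy
    have h1 := key x⁻¹ (Subgroup.inv_mem _ hx) _ hy
    have h2 : x⁻¹ * (x * y * x⁻¹) * x⁻¹⁻¹ = y := by group
    rwa [h2] at h1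

theorem RJ_sup_LJ (J : Set ℕ) : g.RJ F J ⊔ g.LJ F J = g.PJ F J := by
  apply le_antisymm
  · apply sup_le
    · exact (g.XS_mono (fun r hr h => Or.inl (g.dg_pos hr h))).trans le_sup_right
    · apply sup_le le_sup_left
      exact (g.XS_mono (fun r hr h => Or.inr h)).trans le_sup_right
  · apply sup_le
    · exact le_sup_left.trans le_sup_right
    · unfold XS
      rw [Subgroup.closure_le]
      rintro x ⟨r, t, h1, h2, rfl⟩
      by_cases hd : g.dg J r = 0
      · exact Subgroup.mem_sup_right (Subgroup.mem_sup_right (g.xg_mem (S := fun r => g.dg J r = 0) hd t))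
      · apply Subgroup.mem_sup_left
        apply g.xg_mem (S := fun r => 0 < g.dg J r)
        rw [g.dg_pos_iff h2]
        rcases h1 with h1 | h1
        · exact ⟨h1, hd⟩
        · exact absurd h1 hd

/-! ### matrices -/

/-- degree of an index -/
noncomputable def dI (J : Set ℕ) (a : D.Idx) : ℤ := match a with
  | Sum.inl _ => 0
  | Sum.inr s => g.dg J s

def GrM (J : Set ℕ) (A : Matrix D.Idx D.Idx F) : Prop := ∀ a b, g.dI J a ≠ g.dI J b → A a b = 0
def UpM (J : Set ℕ) (A : Matrix D.Idx D.Idx F) : Prop := ∀ a b, g.dI J a ≤ g.dI J b → A a b = if a = b then 1 else 0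

theorem chain_dg {J : Set ℕ} {r s : ℕ} (hr : r < D.nroots) (hs : s < D.nroots) : ∀ p ∈ D.chainEntry r s, ∃ k : ℕ,
    g.dg J p.1 = ((k : ℤ) + 1) * g.dg J r + g.dg J s := by
  intro p hp
  obtain ⟨k, hk⟩ := List.mem_iff_getElem?.1 hp
  obtain ⟨_, _, _, _, h5⟩ := g.chain_ent r hr s hs k p.1 p.2 hk
  refine ⟨k, ?_⟩
  rw [g.dg_lin (r := r) (s := s) (u := p.1) ((k : ℤ) + 1) 1 (fun j hj => by rw [h5 j hj]; ring)]
  ring

theorem xR_entry {J : Set ℕ} {r : ℕ} (hr : r < D.nroots) (t : F) (a b : D.Idx) (h : xR D r t a b ≠ if a = b then 1 else 0) :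
    ∃ k : ℕ, g.dI J a = ((k : ℤ) + 1) * g.dg J r + g.dI J b := by
  rcases b with i | s
  · rw [← mulVec_hv D i.2 (xR D r t) a, xv_h D i.2] at h
    rcases a with j | u
    · exfalso; apply h; simp [hv, ev, Fin.ext_iff]
    · by_cases hu : u.val = r
      · refine ⟨0, ?_⟩
        simp only [dI, hu]; push_cast; ring
      · exfalso; apply h; simp [hv, ev, hu]
  · rw [← mulVec_ev D s.2 (xR D r t) a] at h
    by_cases h1 : s.val = r
    · rw [h1, xv_self D hr] at h
      exfalso; apply h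
      rcases a with j | u
      · simp [ev]
      · simp [ev, Fin.ext_iff, h1]
    · by_cases h2 : s.val = D.neg r
      · rw [h2, xv_neg D (g.neg_lt hr) (g.neg_ne hr)] at h
        rcases a with j | u
        · refine ⟨0, ?_⟩
          simp only [dI, h2, g.dg_neg hr]; push_cast; ring
        · by_cases hu : u.val = r
          · refine ⟨1, ?_⟩
            simp only [dI, h2, hu, g.dg_neg hr]; push_cast; ring
          · exfalso; apply h
            simp [ev, hh_inr, hu, Fin.ext_iff, h2]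
      · rw [xv_chain D g.coeffOK hr s.2 h1 h2] at h
        rcases a with j | u
        · exfalso; apply h; simp [ev, chV_inl]
        · by_cases hp : ∃ p ∈ D.chainEntry r s, p.1 = u.val
          · obtain ⟨p, hp, hpu⟩ := hp
            obtain ⟨k, hk⟩ := g.chain_dg (J := J) hr s.2 p hp
            refine ⟨k, ?_⟩
            simp only [dI]
            rw [← hpu, hk]
          · exfalso; apply h
            rw [Pi.add_apply, chV_eq_zero _ _ _ (fun p hp' hpu => hp ⟨p, hp', hpu⟩), add_zero]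
            simp [ev, Fin.ext_iff]

theorem xR_Gr {J : Set ℕ} {r : ℕ} (hr : r < D.nroots) (hd : g.dg J r = 0) (t : F) : g.GrM J (xR D r t) := by
  intro a b hab
  by_contra hc
  have hne : a ≠ b := by rintro rfl; exact hab rfl
  obtain ⟨k, hk⟩ := g.xR_entry (J := J) hr t a b (by rwa [if_neg hne])
  rw [hd, mul_zero, zero_add] at hk
  exact hab hk

theorem xR_Up {J : Set ℕ} {r : ℕ} (hr : r < D.nroots) (hd : 0 < g.dg J r) (t : F) : g.UpM J (xR D r t) := by
  intro a b hab
  by_contra hc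
  obtain ⟨k, hk⟩ := g.xR_entry (J := J) hr t a b hc
  have : (0 : ℤ) < ((k : ℤ) + 1) * g.dg J r := mul_pos (by positivity) hd
  omega

theorem Gr_mul {J : Set ℕ} {A B : Matrix D.Idx D.Idx F} (hA : g.GrM J A) (hB : g.GrM J B) : g.GrM J (A * B) := by
  intro a b hab
  rw [Matrix.mul_apply]
  apply Finset.sum_eq_zero
  intro c _
  by_cases h : g.dI J a = g.dI J c
  · rw [hB c b (by rwa [← h]), mul_zero]
  · rw [hA a c h, zero_mul]

theorem Up_mul {J : Set ℕ} {A B : Matrix D.Idx D.Idx F} (hA : g.UpM J A) (hB : g.UpM J B) : g.UpM J (A * B) := by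
  intro a b hab
  rw [Matrix.mul_apply, Finset.sum_eq_single a]
  · rw [hA a a le_rfl, if_pos rfl, one_mul, hB a b hab]
  · intro c _ hca
    by_cases h : g.dI J a ≤ g.dI J c
    · rw [hA a c h, if_neg (Ne.symm hca), zero_mul]
    · have h1 : g.dI J c ≤ g.dI J b := by omega
      rw [hB c b h1]
      by_cases hcb : c = b
      · subst hcb; omega
      · rw [if_neg hcb, mul_zero]
  · intro h; exact absurd (Finset.mem_univ _) h

/-- graded invertible matrices -/
def GrS (F : Type*) [Field F] (J : Set ℕ) : Subgroup (GL D.Idx F) where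
  carrier := {x | g.GrM J (x : Matrix D.Idx D.Idx F) ∧ g.GrM J ((x⁻¹ : GL D.Idx F) : Matrix D.Idx D.Idx F)}
  one_mem' := by
    have h1 : g.GrM J (1 : Matrix D.Idx D.Idx F) := by
      intro a b hab
      rw [Matrix.one_apply, if_neg]; rintro rfl; exact hab rfl
    simp only [Set.mem_ofPred_eq, _root_.inv_one]
    exact ⟨h1, h1⟩
  mul_mem' := by
    rintro x y ⟨h1, h2⟩ ⟨h3, h4⟩
    refine ⟨?_, ?_⟩
    · rw [Units.val_mul]; exact g.Gr_mul h1 h3
    · rw [_root_.mul_inv_rev, Units.val_mul]; exact g.Gr_mul h4 h2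
  inv_mem' := by
    rintro x ⟨h1, h2⟩
    refine ⟨h2, ?_⟩
    rw [_root_.inv_inv]; exact h1

/-- unipotent graded-upper matrices -/
def UpS (F : Type*) [Field F] (J : Set ℕ) : Subgroup (GL D.Idx F) where
  carrier := {x | g.UpM J (x : Matrix D.Idx D.Idx F) ∧ g.UpM J ((x⁻¹ : GL D.Idx F) : Matrix D.Idx D.Idx F)}
  one_mem' := by
    have h1 : g.UpM J (1 : Matrix D.Idx D.Idx F) := by
      intro a b hab
      rw [Matrix.one_apply]
    simp only [Set.mem_ofPred_eq, _root_.inv_one]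
    exact ⟨h1, h1⟩
  mul_mem' := by
    rintro x y ⟨h1, h2⟩ ⟨h3, h4⟩
    refine ⟨?_, ?_⟩
    · rw [Units.val_mul]; exact g.Up_mul h1 h3
    · rw [_root_.mul_inv_rev, Units.val_mul]; exact g.Up_mul h4 h2
  inv_mem' := by
    rintro x ⟨h1, h2⟩
    refine ⟨h2, ?_⟩
    rw [_root_.inv_inv]; exact h1

theorem LJ_le (J : Set ℕ) : g.LJ F J ≤ g.GrS F J := by
  apply sup_le
  · rintro x ⟨c, rfl⟩
    have h1 : ∀ f : ℕ → Fˣ, g.GrM J ((g.dgl f : GL D.Idx F) : Matrix D.Idx D.Idx F) := by
      intro f a b hab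
      rw [g.dgl_val, Dg, Matrix.diagonal_apply, if_neg]
      rintro rfl; exact hab rfl
    refine ⟨h1 _, ?_⟩
    unfold hc
    rw [g.dgl_inv]
    exact h1 _
  · unfold XS
    rw [Subgroup.closure_le]
    rintro x ⟨r, t, h1, h2, rfl⟩
    refine ⟨?_, ?_⟩
    · rw [g.xg_val h2]; exact g.xR_Gr h2 h1 t
    · rw [g.xg_inv h2, g.xg_val h2]; exact g.xR_Gr h2 h1 _

theorem RJ_le (J : Set ℕ) : g.RJ F J ≤ g.UpS F J := by
  unfold RJ XS
  rw [Subgroup.closure_le]
  rintro x ⟨r, t, h1, h2, rfl⟩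
  refine ⟨?_, ?_⟩
  · rw [g.xg_val h2]; exact g.xR_Up h2 h1 t
  · rw [g.xg_inv h2, g.xg_val h2]; exact g.xR_Up h2 h1 _

theorem RJ_inf_LJ (J : Set ℕ) : g.RJ F J ⊓ g.LJ F J = ⊥ := by
  rw [eq_bot_iff]
  rintro x ⟨h1, h2⟩
  have h3 := (g.RJ_le J h1).1
  have h4 := (g.LJ_le J h2).1
  rw [Subgroup.mem_bot]
  apply Units.ext
  ext a b
  rw [Units.val_one, Matrix.one_apply]
  by_cases hab : g.dI J a ≤ g.dI J b
  · exact h3 a b hab
  · rw [h4 a b (by omega), if_neg]
    rintro rfl; exact hab le_rfl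

theorem PJ_le_GG (J : Set ℕ) : g.PJ F J ≤ g.GG F :=
  sup_le g.HH_le_GG (g.XS_mono (fun _ _ _ => trivial))

theorem RJ_normalizer (J : Set ℕ) : Subgroup.normalizer (g.RJ F J : Set (GL D.Idx F)) ⊓ g.GG F = g.PJ F J := by
  apply le_antisymm
  · obtain ⟨J', hJ', hM⟩ := Cfsg.Agent.S0311.result (g.bn F) ((Subgroup.normalizer (g.RJ F J : Set (GL D.Idx F)) ⊓ g.GG F).subgroupOf (g.GG F)) (by
      intro x hx
      rw [Subgroup.mem_subgroupOf]
      exact ⟨g.RJ_norm J (g.BB_le_PJ J hx), x.2⟩)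
    have hle : (g.bn F).parabolic J' ≤ (g.PJ F J).subgroupOf (g.GG F) := by
      unfold Cfsg.BNPair.parabolic
      apply sup_le
      · intro x hx
        rw [Subgroup.mem_subgroupOf]
        exact g.BB_le_PJ J hx
      · rw [Subgroup.closure_le]
        intro s hs
        obtain ⟨i, hi, hsi⟩ := hJ' hs
        have h1 : s ∈ (g.bn F).parabolic J' := by
          unfold Cfsg.BNPair.parabolic
          exact Subgroup.mem_sup_right (Subgroup.subset_closure hs)
        rw [← hM, Subgroup.mem_subgroupOf] at h1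
        rw [SetLike.mem_coe, Subgroup.mem_subgroupOf, hsi]
        by_cases hJi : i ∈ J
        · exact g.nn_mem_PJ hJi hi
        · exfalso
          have h2 : (s : GL D.Idx F) ∈ Subgroup.normalizer (g.RJ F J : Set (GL D.Idx F)) := h1.1
          rw [Subgroup.mem_normalizer_iff] at h2
          have h3 : g.xg (D.simple i) (1 : F) ∈ g.RJ F J :=
            g.xg_mem (S := fun r => 0 < g.dg J r) (by rw [g.dg_simple_out hi hJi]; exact one_pos) 1
          have h4 := (h2 _).1 h3
          rw [hsi, g.nn_x hi (g.simple_lt i hi), g.w_simple i hi, g.e_simple i hi] at h4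
          have h5 : g.xg (D.neg (D.simple i)) (((-1 : ℤ) : F) * 1) ∈ g.UU F := g.XS_mono (fun r hr h => g.dg_pos hr h) h4
          have h6 : g.xg (D.neg (D.simple i)) (((-1 : ℤ) : F) * 1) ∈ g.VV F := by
            apply g.xg_mem_VV
            rw [g.neg_eq _ (g.simple_lt i hi)]
            have := g.N_le_simple hi
            have := g.hN
            have := g.simple_lt i hi
            omega
          have h7 := g.UU_inf_VV h5 h6
          have h8 : (-1 : F) ≠ 0 := by simp
          have h9 := g.xg_inj (g.neg_lt (g.simple_lt i hi)) (g.simple_lt i hi) (t := ((-1 : ℤ) : F) * 1) (u := 0) (by simp) (by rw [h7, g.xg_zero])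
          exact g.neg_ne (g.simple_lt i hi) h9
    intro x hx
    have h1 : (⟨x, hx.2⟩ : ↥(g.GG F)) ∈ (Subgroup.normalizer (g.RJ F J : Set (GL D.Idx F)) ⊓ g.GG F).subgroupOf (g.GG F) := hx
    rw [hM] at h1
    exact hle h1
  · exact le_inf (g.RJ_norm J) (g.PJ_le_GG J)

end Good

end Chv
end CfsgH6
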