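import Cfsg.Agent.H6.ChA

set_option autoImplicit false

/-! Encoded tables of the Chevalley datum G2. -/

namespace CfsgH6
namespace Chv

def aTG2 : ℕ := 0x987b89977aa56b9679879578
def cTG2 : ℕ := 0xa999bab98998788757567767
def kTG2 : ℕ := 0xab9b9a998998788777767565
def eTG2 : ℕ := 0x4000000000000182400000000000018140000000000001014000000000000081400000000000008040000000000000013fffffffffffffff3fffffffffffff803fffffffffffff7f3ffffffffffffeff3ffffffffffffe7f3ffffffffffffe7e
def wTG2 : ℕ := 0x10a000b0009010700080105010600030104000200000101000b0106010800090104000a000101070002010301050000
def hTG2 : ℕ := 0xa700000000000000009700000008900000006900000000000000000b0000000000000000000000000000000000000000000000000000b700000000000000009700000000000000007900000000000000005900000000a0000000000000000000000000000000000b50000000a50000000000000000000000b508a0000ab0760000000000b70890490a90770390000000090000000000000000000000000bb0000000000000bb09a0000000000b709707700000006b0000000000000650460000000000690490270000000080000000000000000000000000ab0000a50960000000000a909908700000000000000000000000005b00005b03a0570370270000000000000000070000000000000000b90000000000000000000000000890000000000000000000000000000000000470000000000000000000000000170000000060000000a900000000000000000000000007900000000000000000000000000000000003700000000000000000000000000700000000000000000500000000006908709900006b08600000006500000000000000000001702903900000000000001502a00000001500000000000000000000000000405707909900000000000005507a00000000000000005500902704900000000000000b02600000000000000000500000000000000000000000000301704708700903907700000000000001b04a00000503600000000000000000000000001b00000000b000000000000000000000000000000000002000000067000000000000000047000000000000000029000000000000000009000000000000000000000000000000000000000000000000000001000000000000000057000000037000000029000000000000000019000000000000000000000000000000000000000000000000000000000000000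
def rmG2 : ℕ := 0xfffffffffffffffffffffffffffffffffffffffffffffffffffffffffffffffffffffffffffffffffffffffffffffffffffffffffffffffffffff
def wmG2 : ℕ := 0xffffffffffffffffffffffffffffffffffffffffffffffff
def encG2 : Enc where
  n := 12
  l := 2
  cw := 3
  hw := 36
  hm := 68719476735
  rw := 468
  rm := rmG2
  ww := 192
  wm := wmG2
  off := 4611686018427387904
  sT := 0x607
  aT := aTG2
  cT := cTG2
  kT := kTG2
  eT := eTG2
  wT := wTG2
  hT := hTG2

end Chv
end CfsgH6
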