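import Cfsg.Agent.H6.ChO4
import Cfsg.Agent.H6.ChO2

set_option autoImplicit false

/-! Orbit certificates and polynomial identities for the orders of the Chevalley groups. -/

namespace CfsgH6
namespace Chv

open Cfsg.Lie

/-! ### polynomials as lists of coefficients -/

/-- evaluation -/
def hev (p : List ℤ) (q : ℤ) : ℤ := p.foldr (fun c acc => c + q * acc) 0

theorem hev_nil (q : ℤ) : hev [] q = 0 := rfl
theorem hev_cons (c : ℤ) (p : List ℤ) (q : ℤ) : hev (c :: p) q = c + q * hev p q := rfl

def addP : List ℤ → List ℤ → List ℤ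
  | [], r => r
  | p, [] => p
  | a :: p, b :: r => (a + b) :: addP p r

theorem hev_addP (q : ℤ) : ∀ p r : List ℤ, hev (addP p r) q = hev p q + hev r q := by
  intro p
  induction p with
  | nil => intro r; cases r <;> simp [addP, hev_nil]
  | cons a p ih =>
    intro r
    cases r with
    | nil => simp [addP, hev_nil]
    | cons b r => rw [addP, hev_cons, ih, hev_cons, hev_cons]; ring

def scP (c : ℤ) (r : List ℤ) : List ℤ := r.map (c * ·)

theorem hev_scP (c q : ℤ) (r : List ℤ) : hev (scP c r) q = c * hev r q := by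
  induction r with
  | nil => simp [scP, hev_nil]
  | cons b r ih =>
    have : scP c (b :: r) = (c * b) :: scP c r := rfl
    rw [this, hev_cons, ih, hev_cons]; ring

def mulP : List ℤ → List ℤ → List ℤ
  | [], _ => []
  | a :: p, r => addP (scP a r) (0 :: mulP p r)

theorem hev_mulP (q : ℤ) (p r : List ℤ) : hev (mulP p r) q = hev p q * hev r q := by
  induction p with
  | nil => simp [mulP, hev_nil]
  | cons a p ih => rw [mulP, hev_addP, hev_scP, hev_cons, ih, hev_cons]; ring

def prodP : List (List ℤ) → List ℤ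
  | [] => [1]
  | p :: L => mulP p (prodP L)

theorem hev_prodP (q : ℤ) (L : List (List ℤ)) : hev (prodP L) q = (L.map (hev · q)).prod := by
  induction L with
  | nil => simp [prodP, hev_cons, hev_nil]
  | cons p L ih => rw [prodP, hev_mulP, ih]; simp

/-- the polynomial `q^d - 1`, `d ≥ 1` -/
def qdP (d : ℕ) : List ℤ := (-1) :: (List.replicate (d - 1) 0 ++ [1])

theorem hev_mono (q : ℤ) (n : ℕ) : hev (List.replicate n 0 ++ [1]) q = q ^ n := by
  induction n with
  | zero => simp [hev_cons, hev_nil]
  | succ n ih => rw [List.replicate_succ, List.cons_append, hev_cons, ih, pow_succ]; ring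

theorem hev_qdP (q : ℤ) {d : ℕ} (hd : 1 ≤ d) : hev (qdP d) q = q ^ d - 1 := by
  unfold qdP
  rw [hev_cons, hev_mono]
  obtain ⟨e, rfl⟩ : ∃ e, d = e + 1 := ⟨d - 1, by omega⟩
  rw [Nat.add_sub_cancel, pow_succ]; ring

/-- add the monomial `q^d` -/
def addm : ℕ → List ℤ → List ℤ
  | 0, [] => [1]
  | 0, c :: p => (c + 1) :: p
  | d + 1, [] => 0 :: addm d []
  | d + 1, c :: p => c :: addm d p

theorem hev_addm (q : ℤ) : ∀ (d : ℕ) (p : List ℤ), hev (addm d p) q = q ^ d + hev p q := by
  intro d
  induction d with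
  | zero => intro p; cases p <;> simp [addm, hev_cons, hev_nil]; ring
  | succ d ih => intro p; cases p <;> rw [addm, hev_cons, ih] <;> simp [hev_cons, hev_nil, pow_succ] <;> ring

abbrev OEt : Type := List ℤ × ℕ × List ℕ

def mkP : List OEt → List ℤ
  | [] => []
  | e :: O => addm e.2.1 (mkP O)

theorem hev_mkP (q : ℤ) (O : List OEt) : hev (mkP O) q = (O.map fun e => q ^ e.2.1).sum := by
  induction O with
  | nil => rfl
  | cons e O ih => rw [mkP, hev_addm, ih]; simp

/-! ### orbit certificates -/

def codeV (v : List ℤ) : ℤ := v.foldr (fun a acc => a + 64 * acc) 0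

def eD : OEt := ([], 0, [])

def oN (A : List (List ℤ)) (l k : ℕ) (O : List OEt) (e : OEt) : Bool :=
  (List.range (k + 1)).all fun i =>
    decide (e.2.2.getD i 0 < O.length) &&
    (let e' := O.getD (e.2.2.getD i 0) eD
     (List.range l).all (fun j => decide (e'.1.getD j 0 = e.1.getD j 0 - e.1.getD i 0 * (A.getD j []).getD i 0)) &&
      (!(decide (0 < e.1.getD i 0)) || decide (e'.2.1 = e.2.1 + 1)))

def oL (k k0 : ℕ) : ℕ → List OEt → Bool
  | _, [] => true
  | m, e :: O => (decide (m = k0) || (List.range (k + 1)).any fun i => decide (e.1.getD i 0 < 0)) && oL k k0 (m + 1) O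

def oS : List OEt → Bool
  | [] => true
  | [_] => true
  | a :: b :: O => decide (codeV a.1 < codeV b.1) && oS (b :: O)

def oO (A : List (List ℤ)) (l k k0 : ℕ) (O : List OEt) : Bool :=
  decide (k < l) && decide (k0 < O.length) && decide ((O.getD k0 eD).2.1 = 0) &&
  (List.range l).all (fun i => decide ((O.getD k0 eD).1.getD i 0 = if i = k then 1 else 0)) &&
  O.all (fun e => decide (e.1.length = l)) && O.all (oN A l k O) && oL k k0 0 O && oS O

theorem oS_spec : ∀ O : List OEt, oS O = true → ∀ m m', m < m' → m' < O.length →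
    codeV (O.getD m eD).1 < codeV (O.getD m' eD).1 := by
  intro O
  induction O with
  | nil => intro _ m m' _ h; simp at h
  | cons a O ih =>
    intro h m m' hmm hm'
    cases O with
    | nil => simp at hm'; omega
    | cons b O =>
      rw [oS, Bool.and_eq_true, decide_eq_true_eq] at h
      obtain ⟨h1, h2⟩ := h
      obtain ⟨n', rfl⟩ : ∃ n', m' = n' + 1 := ⟨m' - 1, by omega⟩
      have hn' : n' < (b :: O).length := by simpa using hm'
      cases m with
      | zero =>
        rw [List.getD_cons_zero, List.getD_cons_succ]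
        cases n' with
        | zero => exact h1
        | succ n'' =>
          have := ih h2 0 (n'' + 1) (by omega) hn'
          rw [List.getD_cons_zero] at this
          exact lt_trans h1 this
      | succ m =>
        rw [List.getD_cons_succ, List.getD_cons_succ]
        exact ih h2 m n' (by omega) hn'

theorem oL_spec {k k0 : ℕ} : ∀ (O : List OEt) (n : ℕ), oL k k0 n O = true → ∀ m < O.length, n + m ≠ k0 →
    ∃ i < k + 1, (O.getD m eD).1.getD i 0 < 0 := by
  intro O
  induction O with
  | nil => intro n _ m hm; simp at hm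
  | cons a O ih =>
    intro n h m hm hne
    rw [oL, Bool.and_eq_true, Bool.or_eq_true, decide_eq_true_eq] at h
    obtain ⟨h1, h2⟩ := h
    cases m with
    | zero =>
      rcases h1 with h1 | h1
      · exact absurd h1 hne
      · rw [List.any_eq_true] at h1
        obtain ⟨i, hi, h3⟩ := h1
        exact ⟨i, List.mem_range.1 hi, by simpa using h3⟩
    | succ m =>
      rw [List.getD_cons_succ]
      exact ih (n + 1) h2 m (by simpa using hm) (by omega)

theorem getD_mem {O : List OEt} {m : ℕ} (hm : m < O.length) : O.getD m eD ∈ O := by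
  rw [List.getD_eq_getElem _ _ hm]; exact List.getElem_mem hm

theorem list_ext_getD {v v' : List ℤ} (h : v.length = v'.length) (h2 : ∀ j < v.length, v.getD j 0 = v'.getD j 0) : v = v' := by
  apply List.ext_getElem h
  intro i h3 h4
  have := h2 i h3
  rwa [List.getD_eq_getElem _ _ h3, List.getD_eq_getElem _ _ h4] at this

theorem oO_spec {D : ChevalleyDatum} (g : Good D) {A : List (List ℤ)} {k k0 : ℕ} {O : List OEt}
    (hA : ∀ j < D.rank, ∀ i < D.rank, (A.getD j []).getD i 0 = D.cartan j (D.simple i)) (h : oO A D.rank k k0 O = true) :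
    OrbC g k O.length k0 (fun m j => (O.getD m eD).1.getD j 0) (fun m => (O.getD m eD).2.1) (fun m i => (O.getD m eD).2.2.getD i 0) := by
  unfold oO at h
  simp only [Bool.and_eq_true, decide_eq_true_eq, List.all_eq_true, List.mem_range] at h
  obtain ⟨⟨⟨⟨⟨⟨⟨h1, h2⟩, h3⟩, h4⟩, h5⟩, h6⟩, h7⟩, h8⟩ := h
  have hN : ∀ m < O.length, ∀ i < k + 1, (O.getD m eD).2.2.getD i 0 < O.length ∧
      (∀ j < D.rank, (O.getD ((O.getD m eD).2.2.getD i 0) eD).1.getD j 0 = (O.getD m eD).1.getD j 0 -
        (O.getD m eD).1.getD i 0 * (A.getD j []).getD i 0) ∧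
      (0 < (O.getD m eD).1.getD i 0 → (O.getD ((O.getD m eD).2.2.getD i 0) eD).2.1 = (O.getD m eD).2.1 + 1) := by
    intro m hm i hi
    have := h6 _ (getD_mem hm)
    unfold oN at this
    rw [List.all_eq_true] at this
    have h9 := this i (List.mem_range.2 hi)
    simp only [Bool.and_eq_true, decide_eq_true_eq, List.all_eq_true, List.mem_range, Bool.or_eq_true, Bool.not_eq_true',
      decide_eq_false_iff_not] at h9
    refine ⟨h9.1, h9.2.1, fun h10 => ?_⟩
    rcases h9.2.2 with h11 | h11
    · exact absurd h10 h11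
    · exact h11
  refine ⟨h1, h2, h3, ?_, ?_, ?_, ?_, ?_, ?_⟩
  · intro i hi; exact h4 i hi
  · intro m hm i _ hi; exact (hN m hm i hi).1
  · intro m hm i hi' hi j hj
    unfold Good.sV
    rw [← hA j hj i hi']
    exact (hN m hm i hi).2.1 j hj
  · intro m hm i _ hi; exact (hN m hm i hi).2.2
  · intro m hm hne
    obtain ⟨i, hi, h9⟩ := oL_spec O 0 h7 m hm (by simpa using hne)
    exact ⟨i, by omega, hi, h9⟩
  · intro m hm m' hm' he
    have hv : (O.getD m eD).1 = (O.getD m' eD).1 := by
      apply list_ext_getD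
      · rw [h5 _ (getD_mem hm), h5 _ (getD_mem hm')]
      · intro j hj
        rw [h5 _ (getD_mem hm)] at hj
        exact he j hj
    rcases lt_trichotomy m m' with h9 | h9 | h9
    · have := oS_spec O h8 m m' h9 hm'
      rw [hv] at this; exact absurd this (lt_irrefl _)
    · exact h9
    · have := oS_spec O h8 m' m h9 hm
      rw [hv] at this; exact absurd this (lt_irrefl _)

theorem sum_getD {α : Type*} (f : α → ℤ) (d : α) (O : List α) : ∑ m ∈ Finset.range O.length, f (O.getD m d) = (O.map f).sum := by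
  induction O with
  | nil => simp
  | cons a O ih =>
    rw [List.length_cons, Finset.sum_range_succ', List.map_cons, List.sum_cons, ← ih]
    simp only [List.getD_cons_succ, List.getD_cons_zero]
    ring

def oOs (A : List (List ℤ)) (l : ℕ) : List (ℕ × List OEt) → Bool
  | [] => true
  | (k0, O) :: Os => oO A l Os.length k0 O && oOs A l Os

def polyOs : List (ℕ × List OEt) → List ℤ
  | [] => [1]
  | (_, O) :: Os => mulP (mkP O) (polyOs Os)

theorem SW_eq {D : ChevalleyDatum} (g : Good D) {A : List (List ℤ)}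
    (hA : ∀ j < D.rank, ∀ i < D.rank, (A.getD j []).getD i 0 = D.cartan j (D.simple i)) (q : ℕ) :
    ∀ Os : List (ℕ × List OEt), oOs A D.rank Os = true → ((g.SW Os.length q : ℕ) : ℤ) = hev (polyOs Os) q := by
  intro Os
  induction Os with
  | nil => intro _; rw [List.length_nil, g.SW_zero]; simp [polyOs, hev_cons, hev_nil]
  | cons p Os ih =>
    obtain ⟨k0, O⟩ := p
    intro h
    rw [oOs, Bool.and_eq_true] at h
    have C := oO_spec g hA h.1
    rw [List.length_cons, C.SW_succ q, polyOs, hev_mulP, ← ih h.2, hev_mkP, ← sum_getD (fun e => (q : ℤ) ^ e.2.1) eD]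
    push_cast
    rfl

def cartB (D : ChevalleyDatum) (A : List (List ℤ)) : Bool :=
  (List.range D.rank).all fun j => (List.range D.rank).all fun i => decide ((A.getD j []).getD i 0 = D.cartan j (D.simple i))

theorem cartB_spec {D : ChevalleyDatum} {A : List (List ℤ)} (h : cartB D A = true) :
    ∀ j < D.rank, ∀ i < D.rank, (A.getD j []).getD i 0 = D.cartan j (D.simple i) := by
  unfold cartB at h
  simp only [decide_eq_true_eq, List.all_eq_true, List.mem_range] at h
  exact h

/-- the full certificate: orbits and degrees -/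
def ordB (D : ChevalleyDatum) (A : List (List ℤ)) (Os : List (ℕ × List OEt)) (dg : List ℕ) : Bool :=
  cartB D A && decide (Os.length = D.rank) && oOs A D.rank Os && dg.all (fun d => decide (1 ≤ d)) &&
    decide (mulP (polyOs Os) (prodP (List.replicate D.rank (qdP 1))) = prodP (dg.map qdP))

theorem ordB_spec {D : ChevalleyDatum} (g : Good D) {A : List (List ℤ)} {Os : List (ℕ × List OEt)} {dg : List ℕ}
    (h : ordB D A Os dg = true) (q : ℕ) :
    ((g.SW D.rank q : ℕ) : ℤ) = hev (polyOs Os) q ∧
    ((g.SW D.rank q : ℕ) : ℤ) * ((q : ℤ) - 1) ^ D.rank = (dg.map fun d => (q : ℤ) ^ d - 1).prod := by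
  unfold ordB at h
  simp only [Bool.and_eq_true, decide_eq_true_eq, List.all_eq_true] at h
  obtain ⟨⟨⟨⟨h1, h2⟩, h3⟩, h4⟩, h5⟩ := h
  have h6 := SW_eq g (cartB_spec h1) q Os h3
  rw [h2] at h6
  refine ⟨h6, ?_⟩
  have h7 := congrArg (fun p => hev p (q : ℤ)) h5
  beta_reduce at h7
  rw [hev_mulP, hev_prodP, hev_prodP, ← h6, List.map_replicate, List.prod_replicate, hev_qdP _ le_rfl, pow_one, List.map_map] at h7
  rw [h7]
  congr 1
  apply List.map_congr_left
  intro d hd
  exact hev_qdP _ (h4 d hd)

end Chv
end CfsgH6
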