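import Cfsg.Agent.H6.ChO5

set_option autoImplicit false

/-! Orders of the Chevalley groups. -/

namespace CfsgH6
namespace Chv

open Cfsg.Lie

theorem ord_GG {D : ChevalleyDatum} (g : Good D) {F : Type*} [Field F] [Fintype F] {A : List (List ℤ)} {Os : List (ℕ × List OEt)} {dg : List ℕ}
    (h : ordB D A Os dg = true) {d : ℕ} (hd : d * Nat.card (g.HH F) = (Fintype.card F - 1) ^ D.rank) {N : ℕ} (hN : D.nroots = N + N) :
    d * Nat.card (g.GG F) = Fintype.card F ^ N * (dg.map fun d => Fintype.card F ^ d - 1).prod := by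
  have hq : 1 ≤ Fintype.card F := Fintype.card_pos
  have h1 := (ordB_spec g h (Fintype.card F)).2
  have h2 : g.N = N := by have := g.hN; omega
  rw [g.card_GG, g.card_BB, h2]
  have h3 : d * (Fintype.card F ^ N * Nat.card (g.HH F) * g.SW D.rank (Fintype.card F)) =
      Fintype.card F ^ N * (g.SW D.rank (Fintype.card F) * (d * Nat.card (g.HH F))) := by ring
  rw [h3, hd]
  congr 1
  apply Nat.cast_injective (R := ℤ)
  rw [Nat.cast_mul, Nat.cast_pow, Nat.cast_sub hq, Nat.cast_one, h1, Nat.cast_list_prod, List.map_map]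
  congr 1
  apply List.map_congr_left
  intro e _
  simp only [Function.comp]
  rw [Nat.cast_sub (Nat.one_le_pow _ _ hq), Nat.cast_pow, Nat.cast_one]

end Chv
end CfsgH6
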