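import Cfsg.Agent.H6.ChO5

set_option autoImplicit false
set_option maxRecDepth 100000

/-! Order certificate. -/

namespace CfsgH6
namespace Chv

open Cfsg.Lie

def cAB2 : List (List ℤ) := [[2, -2], [-1, 2]]

def cOB2_0_0 : List OEt := [([0, -1], 3, [0, 2]), ([2, -1], 1, [2, 3]), ([-2, 1], 2, [1, 0]), ([0, 1], 0, [3, 1])]

def cOB2_0 : ℕ × List OEt := (3, cOB2_0_0)

def cOB2_1_0 : List OEt := [([1, 0], 0, [1]), ([-1, 1], 1, [0])]

def cOB2_1 : ℕ × List OEt := (0, cOB2_1_0)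

theorem ordB2 : ordB chevB2 cAB2 [cOB2_0, cOB2_1] [2, 4] = true := by decide +kernel

end Chv
end CfsgH6
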