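import Cfsg.Agent.H6.ChO5

set_option autoImplicit false
set_option maxRecDepth 100000

/-! Order certificate. -/

namespace CfsgH6
namespace Chv

open Cfsg.Lie

def cAD4 : List (List ℤ) := [[2, -1, 0, 0], [-1, 2, -1, -1], [0, -1, 2, 0], [0, -1, 0, 2]]

def cOD4_0_0 : List OEt := [([0, 0, 0, -1], 6, [0, 0, 0, 6]), ([0, 1, 0, -1], 1, [1, 4, 1, 7]), ([1, 0, -1, 0], 3, [3, 2, 4, 2]), ([-1, 1, -1, 0], 4, [2, 6, 5, 3]), ([1, -1, 1, 0], 2, [5, 1, 2, 4]), ([-1, 0, 1, 0], 3, [4, 5, 3, 5]), ([0, -1, 0, 1], 5, [6, 3, 6, 0]), ([0, 0, 0, 1], 0, [7, 7, 7, 1])]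

def cOD4_0 : ℕ × List OEt := (7, cOD4_0_0)

def cOD4_1_0 : List OEt := [([0, 1, -1, 0], 1, [0, 2, 1]), ([0, 0, 1, 0], 0, [1, 1, 0]), ([1, -1, 0, 1], 2, [3, 0, 2]), ([-1, 0, 0, 1], 3, [2, 3, 3])]

def cOD4_1 : ℕ × List OEt := (1, cOD4_1_0)

def cOD4_2_0 : List OEt := [([0, 1, 0, 0], 0, [0, 1]), ([1, -1, 1, 1], 1, [2, 0]), ([-1, 0, 1, 1], 2, [1, 2])]

def cOD4_2 : ℕ × List OEt := (0, cOD4_2_0)

def cOD4_3_0 : List OEt := [([1, 0, 0, 0], 0, [1]), ([-1, 1, 0, 0], 1, [0])]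

def cOD4_3 : ℕ × List OEt := (0, cOD4_3_0)

theorem ordD4 : ordB chevD4 cAD4 [cOD4_0, cOD4_1, cOD4_2, cOD4_3] [2, 4, 4, 6] = true := by decide +kernel

end Chv
end CfsgH6
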