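import Cfsg.Agent.H6.ChO5

set_option autoImplicit false
set_option maxRecDepth 100000

/-! Order certificate. -/

namespace CfsgH6
namespace Chv

open Cfsg.Lie

def cAE6 : List (List ℤ) := [[2, 0, -1, 0, 0, 0], [0, 2, 0, -1, 0, 0], [-1, 0, 2, -1, 0, 0], [0, -1, -1, 2, -1, 0], [0, 0, 0, -1, 2, -1], [0, 0, 0, 0, -1, 2]]

def cOE6_0_0 : List OEt := [([1, 0, 0, 0, 0, -1], 8, [1, 0, 0, 0, 0, 21]), ([-1, 0, 1, 0, 0, -1], 9, [0, 1, 2, 1, 1, 22]), ([0, 0, -1, 1, 0, -1], 10, [2, 2, 1, 3, 2, 23]), ([0, 1, 0, -1, 1, -1], 11, [3, 4, 3, 2, 6, 24]), ([0, -1, 0, 0, 1, -1], 12, [4, 3, 4, 4, 7, 25]), ([0, 0, 0, 0, 1, -1], 1, [5, 5, 5, 5, 8, 26]), ([0, 1, 0, 0, -1, 0], 12, [6, 7, 6, 6, 3, 6]), ([0, -1, 0, 1, -1, 0], 13, [7, 6, 7, 9, 4, 7]), ([0, 0, 0, 1, -1, 0],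 2, [8, 8, 8, 10, 5, 8]), ([0, 0, 1, -1, 0, 0], 14, [9, 9, 11, 7, 9, 9]), ([0, 1, 1, -1, 0, 0], 3, [10, 15, 12, 8, 10, 10]), ([1, 0, -1, 0, 0, 0], 15, [13, 11, 9, 11, 11, 11]), ([1, 1, -1, 0, 0, 0], 4, [14, 16, 10, 12, 12, 12]), ([-1, 0, 0, 0, 0, 0], 16, [11, 13, 13, 13, 13, 13]), ([-1, 1, 0, 0, 0, 0], 5, [12, 17, 14, 14, 14, 14]), ([0, -1, 1, 0, 0, 0], 4, [15, 10, 16, 15, 15, 15]), ([1, -1, -1, 1, 0, 0], 5, [17, 12, 15, 18, 16, 16]), ([-1, -1, 0, 1, 0, 0], 6, [16, 14, 17, 19, 17, 17]), ([1, 0, 0, -1, 1, 0], 6, [19, 18, 18, 16, 21, 18]), ([-1, 0, 1, -1, 1, 0], 7, [18, 19, 20, 17, 22, 19]), ([0, 0, -1, 0, 1, 0], 8, [20, 20, 19, 20, 23, 20]), ([1, 0, 0, 0, -1, 1], 7, [22, 21, 21, 21, 18, 0]), ([-1, 0, 1, 0, -1, 1], 8, [21, 22, 23, 22, 19, 1]), ([0,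 0, -1, 1, -1, 1], 9, [23, 23, 22, 24, 20, 2]), ([0, 1, 0, -1, 0, 1], 10, [24, 25, 24, 23, 24, 3]), ([0, -1, 0, 0, 0, 1], 11, [25, 24, 25, 25, 25, 4]), ([0, 0, 0, 0, 0, 1], 0, [26, 26, 26, 26, 26, 5])]

def cOE6_0 : ℕ × List OEt := (26, cOE6_0_0)

def cOE6_1_0 : List OEt := [([0, 0, 0, 0, 1, 0], 0, [0, 0, 0, 0, 1]), ([0, 0, 0, 1, -1, 1], 1, [1, 1, 1, 2, 0]), ([0, 1, 1, -1, 0, 1], 2, [2, 5, 3, 1, 2]), ([1, 1, -1, 0, 0, 1], 3, [4, 6, 2, 3, 3]), ([-1, 1, 0, 0, 0, 1], 4, [3, 7, 4, 4, 4]), ([0, -1, 1, 0, 0, 1], 3, [5, 2, 6, 5, 5]), ([1, -1, -1, 1, 0, 1], 4, [7, 3, 5, 8, 6]), ([-1, -1, 0, 1, 0, 1], 5, [6, 4, 7, 9, 7]), ([1, 0, 0, -1, 1, 1], 5, [9, 8, 8, 6, 11]), ([-1, 0, 1, -1, 1, 1], 6, [8, 9, 10, 7, 12]), ([0, 0, -1, 0, 1, 1], 7, [10, 10, 9, 10, 13]),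 ([1, 0, 0, 0, -1, 2], 6, [12, 11, 11, 11, 8]), ([-1, 0, 1, 0, -1, 2], 7, [11, 12, 13, 12, 9]), ([0, 0, -1, 1, -1, 2], 8, [13, 13, 12, 14, 10]), ([0, 1, 0, -1, 0, 2], 9, [14, 15, 14, 13, 14]), ([0, -1, 0, 0, 0, 2], 10, [15, 14, 15, 15, 15])]

def cOE6_1 : ℕ × List OEt := (0, cOE6_1_0)

def cOE6_2_0 : List OEt := [([0, 0, 0, 1, 0, 0], 0, [0, 0, 0, 1]), ([0, 1, 1, -1, 1, 0], 1, [1, 4, 2, 0]), ([1, 1, -1, 0, 1, 0], 2, [3, 5, 1, 2]), ([-1, 1, 0, 0, 1, 0], 3, [2, 6, 3, 3]), ([0, -1, 1, 0, 1, 0], 2, [4, 1, 5, 4]), ([1, -1, -1, 1, 1, 0], 3, [6, 2, 4, 7]), ([-1, -1, 0, 1, 1, 0], 4, [5, 3, 6, 8]), ([1, 0, 0, -1, 2, 0], 4, [8, 7, 7, 5]), ([-1, 0, 1, -1, 2, 0], 5, [7, 8, 9, 6]), ([0, 0, -1, 0, 2, 0], 6, [9, 9, 8, 9])]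

def cOE6_2 : ℕ × List OEt := (0, cOE6_2_0)

def cOE6_3_0 : List OEt := [([0, 0, 1, 0, 0, 0], 0, [0, 0, 1]), ([1, 0, -1, 1, 0, 0], 1, [2, 1, 0]), ([-1, 0, 0, 1, 0, 0], 2, [1, 2, 2])]

def cOE6_3 : ℕ × List OEt := (0, cOE6_3_0)

def cOE6_4_0 : List OEt := [([0, 1, 0, 0, 0, 0], 0, [0, 1]), ([0, -1, 0, 1, 0, 0], 1, [1, 0])]

def cOE6_4 : ℕ × List OEt := (0, cOE6_4_0)

def cOE6_5_0 : List OEt := [([1, 0, 0, 0, 0, 0], 0, [1]), ([-1, 0, 1, 0, 0, 0], 1, [0])]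

def cOE6_5 : ℕ × List OEt := (0, cOE6_5_0)

theorem ordE6 : ordB chevE6 cAE6 [cOE6_0, cOE6_1, cOE6_2, cOE6_3, cOE6_4, cOE6_5] [2, 5, 6, 8, 9, 12] = true := by decide +kernel

end Chv
end CfsgH6
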