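import Cfsg.Agent.H6.ChO5

set_option autoImplicit false
set_option maxRecDepth 100000

/-! Order certificate. -/

namespace CfsgH6
namespace Chv

open Cfsg.Lie

def cAE7 : List (List ℤ) := [[2, 0, -1, 0, 0, 0, 0], [0, 2, 0, -1, 0, 0, 0], [-1, 0, 2, -1, 0, 0, 0], [0, -1, -1, 2, -1, 0, 0], [0, 0, 0, -1, 2, -1, 0], [0, 0, 0, 0, -1, 2, -1], [0, 0, 0, 0, 0, -1, 2]]

def cOE7_0_0 : List OEt := [([0, 0, 0, 0, 0, 0, -1], 27, [0, 0, 0, 0, 0, 0, 44]), ([1, 0, 0, 0, 0, 0, -1], 10, [2, 1, 1, 1, 1, 1, 45]), ([-1, 0, 1, 0, 0, 0, -1], 11, [1, 2, 3, 2, 2, 2, 46]), ([0, 0, -1, 1, 0, 0, -1], 12, [3, 3, 2, 4, 3, 3, 47]), ([0, 1, 0, -1, 1, 0, -1], 13, [4, 5, 4, 3, 6, 4, 48]), ([0, -1, 0, 0, 1, 0, -1], 14, [5, 4, 5, 5, 7, 5, 49]), ([0, 1, 0, 0, -1, 1, -1], 14,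 [6, 7, 6, 6, 4, 12, 50]), ([0, -1, 0, 1, -1, 1, -1], 15, [7, 6, 7, 8, 5, 13, 51]), ([0, 0, 1, -1, 0, 1, -1], 16, [8, 8, 9, 7, 8, 14, 52]), ([1, 0, -1, 0, 0, 1, -1], 17, [10, 9, 8, 9, 9, 15, 53]), ([-1, 0, 0, 0, 0, 1, -1], 18, [9, 10, 10, 10, 10, 16, 54]), ([0, 0, 0, 0, 0, 1, -1], 1, [11, 11, 11, 11, 11, 17, 55]), ([0, 1, 0, 0, 0, -1, 0], 15, [12, 13, 12, 12, 12, 6, 12]), ([0, -1, 0, 1, 0, -1, 0], 16, [13, 12, 13, 14, 13, 7, 13]), ([0, 0, 1, -1, 1, -1, 0], 17, [14, 14, 15, 13, 18, 8, 14]), ([1, 0, -1, 0, 1, -1, 0], 18, [16, 15, 14, 15, 19, 9, 15]), ([-1, 0, 0, 0, 1, -1, 0], 19, [15, 16, 16, 16, 20, 10, 16]), ([0, 0, 0, 0, 1, -1, 0], 2, [17, 17, 17, 17, 21, 11, 17]), ([0, 0, 1, 0, -1, 0, 0], 18, [18, 18, 19, 18, 14, 18, 18]), ([1, 0, -1, 1,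 -1, 0, 0], 19, [20, 19, 18, 22, 15, 19, 19]), ([-1, 0, 0, 1, -1, 0, 0], 20, [19, 20, 20, 23, 16, 20, 20]), ([0, 0, 0, 1, -1, 0, 0], 3, [21, 21, 21, 24, 17, 21, 21]), ([1, 1, 0, -1, 0, 0, 0], 20, [23, 27, 22, 19, 22, 22, 22]), ([-1, 1, 1, -1, 0, 0, 0], 21, [22, 29, 25, 20, 23, 23, 23]), ([0, 1, 1, -1, 0, 0, 0], 4, [24, 30, 26, 21, 24, 24, 24]), ([0, 1, -1, 0, 0, 0, 0], 22, [25, 31, 23, 25, 25, 25, 25]), ([1, 1, -1, 0, 0, 0, 0], 5, [28, 32, 24, 26, 26, 26, 26]), ([1, -1, 0, 0, 0, 0, 0], 21, [29, 22, 27, 27, 27, 27, 27]), ([-1, 1, 0, 0, 0, 0, 0], 6, [26, 33, 28, 28, 28, 28, 28]), ([-1, -1, 1, 0, 0, 0, 0], 22, [27, 23, 31, 29, 29, 29, 29])]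

def cOE7_0_1 : List OEt := [([0, -1, 1, 0, 0, 0, 0], 5, [30, 24, 32, 30, 30, 30, 30]), ([0, -1, -1, 1, 0, 0, 0], 23, [31, 25, 29, 34, 31, 31, 31]), ([1, -1, -1, 1, 0, 0, 0], 6, [33, 26, 30, 35, 32, 32, 32]), ([-1, -1, 0, 1, 0, 0, 0], 7, [32, 28, 33, 36, 33, 33, 33]), ([0, 0, 0, -1, 1, 0, 0], 24, [34, 34, 34, 31, 38, 34, 34]), ([1, 0, 0, -1, 1, 0, 0], 7, [36, 35, 35, 32, 39, 35, 35]), ([-1, 0, 1, -1, 1, 0, 0], 8, [35, 36, 37, 33, 40, 36, 36]), ([0, 0, -1, 0, 1, 0, 0], 9, [37, 37, 36, 37, 41, 37, 37]), ([0, 0, 0, 0, -1, 1, 0], 25, [38, 38, 38, 38, 34, 44, 38]), ([1, 0, 0, 0, -1, 1, 0], 8, [40, 39, 39, 39, 35, 45, 39]), ([-1, 0, 1, 0, -1, 1, 0], 9, [39, 40, 41, 40, 36, 46, 40]), ([0, 0, -1, 1, -1, 1, 0], 10, [41, 41, 40, 42, 37, 47, 41]), ([0,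 1, 0, -1, 0, 1, 0], 11, [42, 43, 42, 41, 42, 48, 42]), ([0, -1, 0, 0, 0, 1, 0], 12, [43, 42, 43, 43, 43, 49, 43]), ([0, 0, 0, 0, 0, -1, 1], 26, [44, 44, 44, 44, 44, 38, 0]), ([1, 0, 0, 0, 0, -1, 1], 9, [46, 45, 45, 45, 45, 39, 1]), ([-1, 0, 1, 0, 0, -1, 1], 10, [45, 46, 47, 46, 46, 40, 2]), ([0, 0, -1, 1, 0, -1, 1], 11, [47, 47, 46, 48, 47, 41, 3]), ([0, 1, 0, -1, 1, -1, 1], 12, [48, 49, 48, 47, 50, 42, 4]), ([0, -1, 0, 0, 1, -1, 1], 13, [49, 48, 49, 49, 51, 43, 5]), ([0, 1, 0, 0, -1, 0, 1], 13, [50, 51, 50, 50, 48, 50, 6]), ([0, -1, 0, 1, -1, 0, 1], 14, [51, 50, 51, 52, 49, 51, 7]), ([0, 0, 1, -1, 0, 0, 1], 15, [52, 52, 53, 51, 52, 52, 8]), ([1, 0, -1, 0, 0, 0, 1], 16, [54, 53, 52, 53, 53, 53, 9]), ([-1, 0, 0, 0, 0, 0, 1], 17, [53, 54, 54,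 54, 54, 54, 10]), ([0, 0, 0, 0, 0, 0, 1], 0, [55, 55, 55, 55, 55, 55, 11])]

def cOE7_0 : ℕ × List OEt := (55, cOE7_0_0 ++ cOE7_0_1)

def cOE7_1_0 : List OEt := [([0, 0, 0, 0, 0, 1, 0], 0, [0, 0, 0, 0, 0, 1]), ([0, 0, 0, 0, 1, -1, 1], 1, [1, 1, 1, 1, 2, 0]), ([0, 0, 0, 1, -1, 0, 1], 2, [2, 2, 2, 3, 1, 2]), ([0, 1, 1, -1, 0, 0, 1], 3, [3, 6, 4, 2, 3, 3]), ([1, 1, -1, 0, 0, 0, 1], 4, [5, 7, 3, 4, 4, 4]), ([-1, 1, 0, 0, 0, 0, 1], 5, [4, 8, 5, 5, 5, 5]), ([0, -1, 1, 0, 0, 0, 1], 4, [6, 3, 7, 6, 6, 6]), ([1, -1, -1, 1, 0, 0, 1], 5, [8, 4, 6, 9, 7, 7]), ([-1, -1, 0, 1, 0, 0, 1], 6, [7, 5, 8, 10, 8, 8]), ([1, 0, 0, -1, 1, 0, 1], 6, [10, 9, 9, 7, 12, 9]), ([-1, 0, 1, -1, 1, 0, 1], 7, [9, 10, 11, 8, 13, 10]), ([0, 0, -1, 0, 1, 0, 1], 8, [11, 11, 10,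 11, 14, 11]), ([1, 0, 0, 0, -1, 1, 1], 7, [13, 12, 12, 12, 9, 17]), ([-1, 0, 1, 0, -1, 1, 1], 8, [12, 13, 14, 13, 10, 18]), ([0, 0, -1, 1, -1, 1, 1], 9, [14, 14, 13, 15, 11, 19]), ([0, 1, 0, -1, 0, 1, 1], 10, [15, 16, 15, 14, 15, 20]), ([0, -1, 0, 0, 0, 1, 1], 11, [16, 15, 16, 16, 16, 21]), ([1, 0, 0, 0, 0, -1, 2], 8, [18, 17, 17, 17, 17, 12]), ([-1, 0, 1, 0, 0, -1, 2], 9, [17, 18, 19, 18, 18, 13]), ([0, 0, -1, 1, 0, -1, 2], 10, [19, 19, 18, 20, 19, 14]), ([0, 1, 0, -1, 1, -1, 2], 11, [20, 21, 20, 19, 22, 15]), ([0, -1, 0, 0, 1, -1, 2], 12, [21, 20, 21, 21, 23, 16]), ([0, 1, 0, 0, -1, 0, 2], 12, [22, 23, 22, 22, 20, 22]), ([0, -1, 0, 1, -1, 0, 2], 13, [23, 22, 23, 24, 21, 23]), ([0, 0, 1, -1, 0, 0, 2], 14, [24, 24, 25, 23, 24, 24]), ([1,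 0, -1, 0, 0, 0, 2], 15, [26, 25, 24, 25, 25, 25]), ([-1, 0, 0, 0, 0, 0, 2], 16, [25, 26, 26, 26, 26, 26])]

def cOE7_1 : ℕ × List OEt := (0, cOE7_1_0)

def cOE7_2_0 : List OEt := [([0, 0, 0, 0, 1, 0, 0], 0, [0, 0, 0, 0, 1]), ([0, 0, 0, 1, -1, 1, 0], 1, [1, 1, 1, 2, 0]), ([0, 1, 1, -1, 0, 1, 0], 2, [2, 5, 3, 1, 2]), ([1, 1, -1, 0, 0, 1, 0], 3, [4, 6, 2, 3, 3]), ([-1, 1, 0, 0, 0, 1, 0], 4, [3, 7, 4, 4, 4]), ([0, -1, 1, 0, 0, 1, 0], 3, [5, 2, 6, 5, 5]), ([1, -1, -1, 1, 0, 1, 0], 4, [7, 3, 5, 8, 6]), ([-1, -1, 0, 1, 0, 1, 0], 5, [6, 4, 7, 9, 7]), ([1, 0, 0, -1, 1, 1, 0], 5, [9, 8, 8, 6, 11]), ([-1, 0, 1, -1, 1, 1, 0], 6, [8, 9, 10, 7, 12]), ([0, 0, -1, 0, 1, 1, 0], 7, [10, 10, 9, 10, 13]), ([1, 0, 0, 0, -1, 2, 0], 6, [12, 11, 11, 11, 8]), ([-1,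 0, 1, 0, -1, 2, 0], 7, [11, 12, 13, 12, 9]), ([0, 0, -1, 1, -1, 2, 0], 8, [13, 13, 12, 14, 10]), ([0, 1, 0, -1, 0, 2, 0], 9, [14, 15, 14, 13, 14]), ([0, -1, 0, 0, 0, 2, 0], 10, [15, 14, 15, 15, 15])]

def cOE7_2 : ℕ × List OEt := (0, cOE7_2_0)

def cOE7_3_0 : List OEt := [([0, 0, 0, 1, 0, 0, 0], 0, [0, 0, 0, 1]), ([0, 1, 1, -1, 1, 0, 0], 1, [1, 4, 2, 0]), ([1, 1, -1, 0, 1, 0, 0], 2, [3, 5, 1, 2]), ([-1, 1, 0, 0, 1, 0, 0], 3, [2, 6, 3, 3]), ([0, -1, 1, 0, 1, 0, 0], 2, [4, 1, 5, 4]), ([1, -1, -1, 1, 1, 0, 0], 3, [6, 2, 4, 7]), ([-1, -1, 0, 1, 1, 0, 0], 4, [5, 3, 6, 8]), ([1, 0, 0, -1, 2, 0, 0], 4, [8, 7, 7, 5]), ([-1, 0, 1, -1, 2, 0, 0], 5, [7, 8, 9, 6]), ([0, 0, -1, 0, 2, 0, 0], 6, [9, 9, 8, 9])]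

def cOE7_3 : ℕ × List OEt := (0, cOE7_3_0)

def cOE7_4_0 : List OEt := [([0, 0, 1, 0, 0, 0, 0], 0, [0, 0, 1]), ([1, 0, -1, 1, 0, 0, 0], 1, [2, 1, 0]), ([-1, 0, 0, 1, 0, 0, 0], 2, [1, 2, 2])]

def cOE7_4 : ℕ × List OEt := (0, cOE7_4_0)

def cOE7_5_0 : List OEt := [([0, 1, 0, 0, 0, 0, 0], 0, [0, 1]), ([0, -1, 0, 1, 0, 0, 0], 1, [1, 0])]

def cOE7_5 : ℕ × List OEt := (0, cOE7_5_0)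

def cOE7_6_0 : List OEt := [([1, 0, 0, 0, 0, 0, 0], 0, [1]), ([-1, 0, 1, 0, 0, 0, 0], 1, [0])]

def cOE7_6 : ℕ × List OEt := (0, cOE7_6_0)

theorem ordE7 : ordB chevE7 cAE7 [cOE7_0, cOE7_1, cOE7_2, cOE7_3, cOE7_4, cOE7_5, cOE7_6] [2, 6, 8, 10, 12, 14, 18] = true := by decide +kernel

end Chv
end CfsgH6
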