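import Cfsg.Agent.H6.ChO5

set_option autoImplicit false
set_option maxRecDepth 100000

/-! Order certificate. -/

namespace CfsgH6
namespace Chv

open Cfsg.Lie

def cAE8 : List (List ℤ) := [[2, 0, -1, 0, 0, 0, 0, 0], [0, 2, 0, -1, 0, 0, 0, 0], [-1, 0, 2, -1, 0, 0, 0, 0], [0, -1, -1, 2, -1, 0, 0, 0], [0, 0, 0, -1, 2, -1, 0, 0], [0, 0, 0, 0, -1, 2, -1, 0], [0, 0, 0, 0, 0, -1, 2, -1], [0, 0, 0, 0, 0, 0, -1, 2]]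

def cOE8_0_0 : List OEt := [([0, 0, 0, 0, 0, 0, 1, -2], 29, [0, 0, 0, 0, 0, 0, 1, 239]), ([0, 0, 0, 0, 0, 1, -1, -1], 30, [1, 1, 1, 1, 1, 2, 0, 183]), ([0, 0, 0, 0, 1, -1, 0, -1], 31, [2, 2, 2, 2, 3, 1, 2, 184]), ([0, 0, 0, 1, -1, 0, 0, -1], 32, [3, 3, 3, 4, 2, 3, 3, 185]), ([0, 1, 1, -1, 0, 0, 0, -1], 33, [4, 9, 5, 3, 4, 4, 4, 186]), ([1, 1, -1, 0, 0, 0, 0, -1], 34, [8, 11, 4, 5, 5, 5, 5, 187]), ([0, 0, 0, 0, 0, 0, 0, -1], 57, [6, 6, 6, 6, 6, 6, 6, 188]), ([1, 0, 0, 0, 0, 0, 0, -1], 12, [10, 7, 7, 7, 7, 7, 7, 189]), ([-1, 1, 0, 0, 0, 0, 0, -1], 35, [5, 13, 8, 8, 8, 8, 8, 190]), ([0, -1, 1, 0, 0, 0, 0, -1], 34, [9, 4, 11, 9, 9, 9, 9, 191]), ([-1, 0, 1, 0, 0, 0, 0, -1], 13, [7, 10, 12, 10, 10, 10, 10, 192]), ([1, -1, -1, 1, 0, 0, 0, -1], 35, [13, 5, 9, 14, 11, 11, 11, 193]), ([0,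 0, -1, 1, 0, 0, 0, -1], 14, [12, 12, 10, 15, 12, 12, 12, 194]), ([-1, -1, 0, 1, 0, 0, 0, -1], 36, [11, 8, 13, 16, 13, 13, 13, 195]), ([1, 0, 0, -1, 1, 0, 0, -1], 36, [16, 14, 14, 11, 19, 14, 14, 196]), ([0, 1, 0, -1, 1, 0, 0, -1], 15, [15, 18, 15, 12, 20, 15, 15, 197]), ([-1, 0, 1, -1, 1, 0, 0, -1], 37, [14, 16, 17, 13, 21, 16, 16, 198]), ([0, 0, -1, 0, 1, 0, 0, -1], 38, [17, 17, 16, 17, 22, 17, 17, 199]), ([0, -1, 0, 0, 1, 0, 0, -1], 16, [18, 15, 18, 18, 23, 18, 18, 200]), ([1, 0, 0, 0, -1, 1, 0, -1], 37, [21, 19, 19, 19, 14, 29, 19, 201]), ([0, 1, 0, 0, -1, 1, 0, -1], 16, [20, 23, 20, 20, 15, 30, 20, 202]), ([-1, 0, 1, 0, -1, 1, 0, -1], 38, [19, 21, 22, 21, 16, 31, 21, 203]), ([0, 0, -1, 1, -1, 1, 0, -1], 39, [22, 22, 21, 24, 17, 32, 22, 204]), ([0, -1, 0, 1, -1, 1, 0, -1], 17,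 [23, 20, 23, 25, 18, 33, 23, 205]), ([0, 1, 0, -1, 0, 1, 0, -1], 40, [24, 27, 24, 22, 24, 34, 24, 206]), ([0, 0, 1, -1, 0, 1, 0, -1], 18, [25, 25, 26, 23, 25, 35, 25, 207]), ([1, 0, -1, 0, 0, 1, 0, -1], 19, [28, 26, 25, 26, 26, 36, 26, 208]), ([0, -1, 0, 0, 0, 1, 0, -1], 41, [27, 24, 27, 27, 27, 37, 27, 209]), ([-1, 0, 0, 0, 0, 1, 0, -1], 20, [26, 28, 28, 28, 28, 38, 28, 210]), ([1, 0, 0, 0, 0, -1, 1, -1], 38, [31, 29, 29, 29, 29, 19, 57, 211])]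

def cOE8_0_1 : List OEt := [([0, 1, 0, 0, 0, -1, 1, -1], 17, [30, 33, 30, 30, 30, 20, 58, 212]), ([-1, 0, 1, 0, 0, -1, 1, -1], 39, [29, 31, 32, 31, 31, 21, 59, 213]), ([0, 0, -1, 1, 0, -1, 1, -1], 40, [32, 32, 31, 34, 32, 22, 60, 214]), ([0, -1, 0, 1, 0, -1, 1, -1], 18, [33, 30, 33, 35, 33, 23, 61, 215]), ([0, 1, 0, -1, 1, -1, 1, -1], 41, [34, 37, 34, 32, 39, 24, 62, 216]), ([0, 0, 1, -1, 1, -1, 1, -1], 19, [35, 35, 36, 33, 40, 25, 63, 217]), ([1, 0, -1, 0, 1, -1, 1, -1], 20, [38, 36, 35, 36, 41, 26, 64, 218]), ([0, -1, 0, 0, 1, -1, 1, -1], 42, [37, 34, 37, 37, 42, 27, 65, 219]), ([-1, 0, 0, 0, 1, -1, 1, -1], 21, [36, 38, 38, 38, 43, 28, 66, 220]), ([0, 1, 0, 0, -1, 0, 1, -1], 42, [39, 42, 39, 39, 34, 39, 67, 221]), ([0, 0, 1, 0, -1, 0, 1, -1], 20, [40, 40, 41, 40, 35, 40, 68, 222]),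 ([1, 0, -1, 1, -1, 0, 1, -1], 21, [43, 41, 40, 44, 36, 41, 69, 223]), ([0, -1, 0, 1, -1, 0, 1, -1], 43, [42, 39, 42, 45, 37, 42, 70, 224]), ([-1, 0, 0, 1, -1, 0, 1, -1], 22, [41, 43, 43, 46, 38, 43, 71, 225]), ([1, 1, 0, -1, 0, 0, 1, -1], 22, [46, 49, 44, 41, 44, 44, 72, 226]), ([0, 0, 1, -1, 0, 0, 1, -1], 44, [45, 45, 47, 42, 45, 45, 73, 227]), ([-1, 1, 1, -1, 0, 0, 1, -1], 23, [44, 52, 48, 43, 46, 46, 74, 228]), ([1, 0, -1, 0, 0, 0, 1, -1], 45, [50, 47, 45, 47, 47, 47, 75, 229]), ([0, 1, -1, 0, 0, 0, 1, -1], 24, [48, 53, 46, 48, 48, 48, 76, 230]), ([1, -1, 0, 0, 0, 0, 1, -1], 23, [52, 44, 49, 49, 49, 49, 77, 231]), ([-1, 0, 0, 0, 0, 0, 1, -1], 46, [47, 50, 50, 50, 50, 50, 78, 232]), ([0, 0, 0, 0, 0, 0, 1, -1], 1, [51, 51, 51, 51, 51, 51, 79, 233]), ([-1, -1, 1, 0, 0, 0, 1, -1],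 24, [49, 46, 53, 52, 52, 52, 80, 234]), ([0, -1, -1, 1, 0, 0, 1, -1], 25, [53, 48, 52, 54, 53, 53, 81, 235]), ([0, 0, 0, -1, 1, 0, 1, -1], 26, [54, 54, 54, 53, 55, 54, 82, 236]), ([0, 0, 0, 0, -1, 1, 1, -1], 27, [55, 55, 55, 55, 54, 56, 83, 237]), ([0, 0, 0, 0, 0, -1, 2, -1], 28, [56, 56, 56, 56, 56, 55, 183, 238]), ([1, 0, 0, 0, 0, 0, -1, 0], 39, [59, 57, 57, 57, 57, 57, 29, 57]), ([0, 1, 0, 0, 0, 0, -1, 0], 18, [58, 61, 58, 58, 58, 58, 30, 58]), ([-1, 0, 1, 0, 0, 0, -1, 0], 40, [57, 59, 60, 59, 59, 59, 31, 59])]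

def cOE8_0_2 : List OEt := [([0, 0, -1, 1, 0, 0, -1, 0], 41, [60, 60, 59, 62, 60, 60, 32, 60]), ([0, -1, 0, 1, 0, 0, -1, 0], 19, [61, 58, 61, 63, 61, 61, 33, 61]), ([0, 1, 0, -1, 1, 0, -1, 0], 42, [62, 65, 62, 60, 67, 62, 34, 62]), ([0, 0, 1, -1, 1, 0, -1, 0], 20, [63, 63, 64, 61, 68, 63, 35, 63]), ([1, 0, -1, 0, 1, 0, -1, 0], 21, [66, 64, 63, 64, 69, 64, 36, 64]), ([0, -1, 0, 0, 1, 0, -1, 0], 43, [65, 62, 65, 65, 70, 65, 37, 65]), ([-1, 0, 0, 0, 1, 0, -1, 0], 22, [64, 66, 66, 66, 71, 66, 38, 66]), ([0, 1, 0, 0, -1, 1, -1, 0], 43, [67, 70, 67, 67, 62, 84, 39, 67]), ([0, 0, 1, 0, -1, 1, -1, 0], 21, [68, 68, 69, 68, 63, 85, 40, 68]), ([1, 0, -1, 1, -1, 1, -1, 0], 22, [71, 69, 68, 72, 64, 86, 41, 69]), ([0, -1, 0, 1, -1, 1, -1, 0], 44, [70, 67, 70, 73, 65, 87, 42, 70]), ([-1, 0, 0,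 1, -1, 1, -1, 0], 23, [69, 71, 71, 74, 66, 88, 43, 71]), ([1, 1, 0, -1, 0, 1, -1, 0], 23, [74, 77, 72, 69, 72, 89, 44, 72]), ([0, 0, 1, -1, 0, 1, -1, 0], 45, [73, 73, 75, 70, 73, 90, 45, 73]), ([-1, 1, 1, -1, 0, 1, -1, 0], 24, [72, 80, 76, 71, 74, 91, 46, 74]), ([1, 0, -1, 0, 0, 1, -1, 0], 46, [78, 75, 73, 75, 75, 92, 47, 75]), ([0, 1, -1, 0, 0, 1, -1, 0], 25, [76, 81, 74, 76, 76, 93, 48, 76]), ([1, -1, 0, 0, 0, 1, -1, 0], 24, [80, 72, 77, 77, 77, 94, 49, 77]), ([-1, 0, 0, 0, 0, 1, -1, 0], 47, [75, 78, 78, 78, 78, 95, 50, 78]), ([0, 0, 0, 0, 0, 1, -1, 0], 2, [79, 79, 79, 79, 79, 96, 51, 79]), ([-1, -1, 1, 0, 0, 1, -1, 0], 25, [77, 74, 81, 80, 80, 97, 52, 80]), ([0, -1, -1, 1, 0, 1, -1, 0], 26, [81, 76, 80, 82, 81, 98, 53, 81]), ([0, 0, 0, -1, 1, 1, -1, 0], 27, [82, 82, 82, 81, 83,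 99, 54, 82]), ([0, 0, 0, 0, -1, 2, -1, 0], 28, [83, 83, 83, 83, 82, 156, 55, 83]), ([0, 1, 0, 0, 0, -1, 0, 0], 44, [84, 87, 84, 84, 84, 67, 84, 84]), ([0, 0, 1, 0, 0, -1, 0, 0], 22, [85, 85, 86, 85, 85, 68, 85, 85]), ([1, 0, -1, 1, 0, -1, 0, 0], 23, [88, 86, 85, 89, 86, 69, 86, 86]), ([0, -1, 0, 1, 0, -1, 0, 0], 45, [87, 84, 87, 90, 87, 70, 87, 87]), ([-1, 0, 0, 1, 0, -1, 0, 0], 24, [86, 88, 88, 91, 88, 71, 88, 88]), ([1, 1, 0, -1, 1, -1, 0, 0], 24, [91, 94, 89, 86, 100, 72, 89, 89])]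

def cOE8_0_3 : List OEt := [([0, 0, 1, -1, 1, -1, 0, 0], 46, [90, 90, 92, 87, 101, 73, 90, 90]), ([-1, 1, 1, -1, 1, -1, 0, 0], 25, [89, 97, 93, 88, 102, 74, 91, 91]), ([1, 0, -1, 0, 1, -1, 0, 0], 47, [95, 92, 90, 92, 103, 75, 92, 92]), ([0, 1, -1, 0, 1, -1, 0, 0], 26, [93, 98, 91, 93, 104, 76, 93, 93]), ([1, -1, 0, 0, 1, -1, 0, 0], 25, [97, 89, 94, 94, 105, 77, 94, 94]), ([-1, 0, 0, 0, 1, -1, 0, 0], 48, [92, 95, 95, 95, 106, 78, 95, 95]), ([0, 0, 0, 0, 1, -1, 0, 0], 3, [96, 96, 96, 96, 107, 79, 96, 96]), ([-1, -1, 1, 0, 1, -1, 0, 0], 26, [94, 91, 98, 97, 108, 80, 97, 97]), ([0, -1, -1, 1, 1, -1, 0, 0], 27, [98, 93, 97, 99, 109, 81, 98, 98]), ([0, 0, 0, -1, 2, -1, 0, 0], 28, [99, 99, 99, 98, 140, 82, 99, 99]), ([1, 1, 0, 0, -1, 0, 0, 0], 25, [102, 105, 100, 100, 89, 100, 100, 100]),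 ([0, 0, 1, 0, -1, 0, 0, 0], 47, [101, 101, 103, 101, 90, 101, 101, 101]), ([-1, 1, 1, 0, -1, 0, 0, 0], 26, [100, 108, 104, 102, 91, 102, 102, 102]), ([1, 0, -1, 1, -1, 0, 0, 0], 48, [106, 103, 101, 110, 92, 103, 103, 103]), ([0, 1, -1, 1, -1, 0, 0, 0], 27, [104, 109, 102, 111, 93, 104, 104, 104]), ([1, -1, 0, 1, -1, 0, 0, 0], 26, [108, 100, 105, 112, 94, 105, 105, 105]), ([-1, 0, 0, 1, -1, 0, 0, 0], 49, [103, 106, 106, 113, 95, 106, 106, 106]), ([0, 0, 0, 1, -1, 0, 0, 0], 4, [107, 107, 107, 114, 96, 107, 107, 107]), ([-1, -1, 1, 1, -1, 0, 0, 0], 27, [105, 102, 109, 115, 97, 108, 108, 108]), ([0, -1, -1, 2, -1, 0, 0, 0], 28, [109, 104, 108, 130, 98, 109, 109, 109]), ([1, 1, 0, -1, 0, 0, 0, 0], 49, [113, 119, 110, 103, 110, 110, 110, 110]), ([0, 2, 0, -1, 0, 0, 0, 0], 28, [111, 128,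 111, 104, 111, 111, 111, 111]), ([1, 0, 1, -1, 0, 0, 0, 0], 27, [115, 112, 116, 105, 112, 112, 112, 112]), ([-1, 1, 1, -1, 0, 0, 0, 0], 50, [110, 121, 117, 106, 113, 113, 113, 113]), ([0, 1, 1, -1, 0, 0, 0, 0], 5, [114, 122, 118, 107, 114, 114, 114, 114]), ([-1, 0, 2, -1, 0, 0, 0, 0], 28, [112, 115, 124, 108, 115, 115, 115, 115]), ([2, 0, -1, 0, 0, 0, 0, 0], 28, [123, 116, 112, 116, 116, 116, 116, 116]), ([0, 1, -1, 0, 0, 0, 0, 0], 51, [117, 125, 113, 117, 117, 117, 117, 117]), ([1, 1, -1, 0, 0, 0, 0, 0], 6, [120, 126, 114, 118, 118, 118, 118, 118]), ([1, -1, 0, 0, 0, 0, 0, 0], 50, [121, 110, 119, 119, 119, 119, 119, 119])]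

def cOE8_0_4 : List OEt := [([-1, 1, 0, 0, 0, 0, 0, 0], 7, [118, 129, 120, 120, 120, 120, 120, 120]), ([-1, -1, 1, 0, 0, 0, 0, 0], 51, [119, 113, 125, 121, 121, 121, 121, 121]), ([0, -1, 1, 0, 0, 0, 0, 0], 6, [122, 114, 126, 122, 122, 122, 122, 122]), ([-2, 0, 1, 0, 0, 0, 0, 0], 29, [116, 123, 127, 123, 123, 123, 123, 123]), ([1, 0, -2, 1, 0, 0, 0, 0], 29, [127, 124, 115, 131, 124, 124, 124, 124]), ([0, -1, -1, 1, 0, 0, 0, 0], 52, [125, 117, 121, 132, 125, 125, 125, 125]), ([1, -1, -1, 1, 0, 0, 0, 0], 7, [129, 118, 122, 133, 126, 126, 126, 126]), ([-1, 0, -1, 1, 0, 0, 0, 0], 30, [124, 127, 123, 134, 127, 127, 127, 127]), ([0, -2, 0, 1, 0, 0, 0, 0], 29, [128, 111, 128, 135, 128, 128, 128, 128]), ([-1, -1, 0, 1, 0, 0, 0, 0], 8, [126, 120, 129, 136, 129, 129, 129, 129]), ([0, 1, 1,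 -2, 1, 0, 0, 0], 29, [130, 135, 131, 109, 141, 130, 130, 130]), ([1, 1, -1, -1, 1, 0, 0, 0], 30, [134, 137, 130, 124, 142, 131, 131, 131]), ([0, 0, 0, -1, 1, 0, 0, 0], 53, [132, 132, 132, 125, 143, 132, 132, 132]), ([1, 0, 0, -1, 1, 0, 0, 0], 8, [136, 133, 133, 126, 144, 133, 133, 133]), ([-1, 1, 0, -1, 1, 0, 0, 0], 31, [131, 139, 134, 127, 145, 134, 134, 134]), ([0, -1, 1, -1, 1, 0, 0, 0], 30, [135, 130, 137, 128, 146, 135, 135, 135]), ([-1, 0, 1, -1, 1, 0, 0, 0], 9, [133, 136, 138, 129, 147, 136, 136, 136]), ([1, -1, -1, 0, 1, 0, 0, 0], 31, [139, 131, 135, 137, 148, 137, 137, 137]), ([0, 0, -1, 0, 1, 0, 0, 0], 10, [138, 138, 136, 138, 149, 138, 138, 138]), ([-1, -1, 0, 0, 1, 0, 0, 0], 32, [137, 134, 139, 139, 150, 139, 139, 139]), ([0, 0, 0, 1, -2, 1, 0, 0], 29, [140, 140, 140,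 141, 99, 157, 140, 140]), ([0, 1, 1, -1, -1, 1, 0, 0], 30, [141, 146, 142, 140, 130, 158, 141, 141]), ([1, 1, -1, 0, -1, 1, 0, 0], 31, [145, 148, 141, 142, 131, 159, 142, 142]), ([0, 0, 0, 0, -1, 1, 0, 0], 54, [143, 143, 143, 143, 132, 160, 143, 143]), ([1, 0, 0, 0, -1, 1, 0, 0], 9, [147, 144, 144, 144, 133, 161, 144, 144]), ([-1, 1, 0, 0, -1, 1, 0, 0], 32, [142, 150, 145, 145, 134, 162, 145, 145]), ([0, -1, 1, 0, -1, 1, 0, 0], 31, [146, 141, 148, 146, 135, 163, 146, 146]), ([-1, 0, 1, 0, -1, 1, 0, 0], 10, [144, 147, 149, 147, 136, 164, 147, 147]), ([1, -1, -1, 1, -1, 1, 0, 0], 32, [150, 142, 146, 151, 137, 165, 148, 148]), ([0, 0, -1, 1, -1, 1, 0, 0], 11, [149, 149, 147, 152, 138, 166, 149, 149])]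

def cOE8_0_5 : List OEt := [([-1, -1, 0, 1, -1, 1, 0, 0], 33, [148, 145, 150, 153, 139, 167, 150, 150]), ([1, 0, 0, -1, 0, 1, 0, 0], 33, [153, 151, 151, 148, 151, 168, 151, 151]), ([0, 1, 0, -1, 0, 1, 0, 0], 12, [152, 155, 152, 149, 152, 169, 152, 152]), ([-1, 0, 1, -1, 0, 1, 0, 0], 34, [151, 153, 154, 150, 153, 170, 153, 153]), ([0, 0, -1, 0, 0, 1, 0, 0], 35, [154, 154, 153, 154, 154, 171, 154, 154]), ([0, -1, 0, 0, 0, 1, 0, 0], 13, [155, 152, 155, 155, 155, 172, 155, 155]), ([0, 0, 0, 0, 1, -2, 1, 0], 29, [156, 156, 156, 156, 157, 83, 184, 156]), ([0, 0, 0, 1, -1, -1, 1, 0], 30, [157, 157, 157, 158, 156, 140, 185, 157]), ([0, 1, 1, -1, 0, -1, 1, 0], 31, [158, 163, 159, 157, 158, 141, 186, 158]), ([1, 1, -1, 0, 0, -1, 1, 0], 32, [162, 165, 158, 159, 159, 142, 187, 159]), ([0, 0,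 0, 0, 0, -1, 1, 0], 55, [160, 160, 160, 160, 160, 143, 188, 160]), ([1, 0, 0, 0, 0, -1, 1, 0], 10, [164, 161, 161, 161, 161, 144, 189, 161]), ([-1, 1, 0, 0, 0, -1, 1, 0], 33, [159, 167, 162, 162, 162, 145, 190, 162]), ([0, -1, 1, 0, 0, -1, 1, 0], 32, [163, 158, 165, 163, 163, 146, 191, 163]), ([-1, 0, 1, 0, 0, -1, 1, 0], 11, [161, 164, 166, 164, 164, 147, 192, 164]), ([1, -1, -1, 1, 0, -1, 1, 0], 33, [167, 159, 163, 168, 165, 148, 193, 165]), ([0, 0, -1, 1, 0, -1, 1, 0], 12, [166, 166, 164, 169, 166, 149, 194, 166]), ([-1, -1, 0, 1, 0, -1, 1, 0], 34, [165, 162, 167, 170, 167, 150, 195, 167]), ([1, 0, 0, -1, 1, -1, 1, 0], 34, [170, 168, 168, 165, 173, 151, 196, 168]), ([0, 1, 0, -1, 1, -1, 1, 0], 13, [169, 172, 169, 166, 174, 152, 197, 169]), ([-1, 0, 1, -1, 1, -1, 1, 0], 35, [168,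 170, 171, 167, 175, 153, 198, 170]), ([0, 0, -1, 0, 1, -1, 1, 0], 36, [171, 171, 170, 171, 176, 154, 199, 171]), ([0, -1, 0, 0, 1, -1, 1, 0], 14, [172, 169, 172, 172, 177, 155, 200, 172]), ([1, 0, 0, 0, -1, 0, 1, 0], 35, [175, 173, 173, 173, 168, 173, 201, 173]), ([0, 1, 0, 0, -1, 0, 1, 0], 14, [174, 177, 174, 174, 169, 174, 202, 174]), ([-1, 0, 1, 0, -1, 0, 1, 0], 36, [173, 175, 176, 175, 170, 175, 203, 175]), ([0, 0, -1, 1, -1, 0, 1, 0], 37, [176, 176, 175, 178, 171, 176, 204, 176]), ([0, -1, 0, 1, -1, 0, 1, 0], 15, [177, 174, 177, 179, 172, 177, 205, 177]), ([0, 1, 0, -1, 0, 0, 1, 0], 38, [178, 181, 178, 176, 178, 178, 206, 178]), ([0, 0, 1, -1, 0, 0, 1, 0], 16, [179, 179, 180, 177, 179, 179, 207, 179])]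

def cOE8_0_6 : List OEt := [([1, 0, -1, 0, 0, 0, 1, 0], 17, [182, 180, 179, 180, 180, 180, 208, 180]), ([0, -1, 0, 0, 0, 0, 1, 0], 39, [181, 178, 181, 181, 181, 181, 209, 181]), ([-1, 0, 0, 0, 0, 0, 1, 0], 18, [180, 182, 182, 182, 182, 182, 210, 182]), ([0, 0, 0, 0, 0, 1, -2, 1], 29, [183, 183, 183, 183, 183, 184, 56, 1]), ([0, 0, 0, 0, 1, -1, -1, 1], 30, [184, 184, 184, 184, 185, 183, 156, 2]), ([0, 0, 0, 1, -1, 0, -1, 1], 31, [185, 185, 185, 186, 184, 185, 157, 3]), ([0, 1, 1, -1, 0, 0, -1, 1], 32, [186, 191, 187, 185, 186, 186, 158, 4]), ([1, 1, -1, 0, 0, 0, -1, 1], 33, [190, 193, 186, 187, 187, 187, 159, 5]), ([0, 0, 0, 0, 0, 0, -1, 1], 56, [188, 188, 188, 188, 188, 188, 160, 6]), ([1, 0, 0, 0, 0, 0, -1, 1], 11, [192, 189, 189, 189, 189, 189, 161, 7]), ([-1, 1, 0, 0, 0, 0, -1,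 1], 34, [187, 195, 190, 190, 190, 190, 162, 8]), ([0, -1, 1, 0, 0, 0, -1, 1], 33, [191, 186, 193, 191, 191, 191, 163, 9]), ([-1, 0, 1, 0, 0, 0, -1, 1], 12, [189, 192, 194, 192, 192, 192, 164, 10]), ([1, -1, -1, 1, 0, 0, -1, 1], 34, [195, 187, 191, 196, 193, 193, 165, 11]), ([0, 0, -1, 1, 0, 0, -1, 1], 13, [194, 194, 192, 197, 194, 194, 166, 12]), ([-1, -1, 0, 1, 0, 0, -1, 1], 35, [193, 190, 195, 198, 195, 195, 167, 13]), ([1, 0, 0, -1, 1, 0, -1, 1], 35, [198, 196, 196, 193, 201, 196, 168, 14]), ([0, 1, 0, -1, 1, 0, -1, 1], 14, [197, 200, 197, 194, 202, 197, 169, 15]), ([-1, 0, 1, -1, 1, 0, -1, 1], 36, [196, 198, 199, 195, 203, 198, 170, 16]), ([0, 0, -1, 0, 1, 0, -1, 1], 37, [199, 199, 198, 199, 204, 199, 171, 17]), ([0, -1, 0, 0, 1, 0, -1, 1], 15, [200, 197, 200, 200, 205, 200,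 172, 18]), ([1, 0, 0, 0, -1, 1, -1, 1], 36, [203, 201, 201, 201, 196, 211, 173, 19]), ([0, 1, 0, 0, -1, 1, -1, 1], 15, [202, 205, 202, 202, 197, 212, 174, 20]), ([-1, 0, 1, 0, -1, 1, -1, 1], 37, [201, 203, 204, 203, 198, 213, 175, 21]), ([0, 0, -1, 1, -1, 1, -1, 1], 38, [204, 204, 203, 206, 199, 214, 176, 22]), ([0, -1, 0, 1, -1, 1, -1, 1], 16, [205, 202, 205, 207, 200, 215, 177, 23]), ([0, 1, 0, -1, 0, 1, -1, 1], 39, [206, 209, 206, 204, 206, 216, 178, 24]), ([0, 0, 1, -1, 0, 1, -1, 1], 17, [207, 207, 208, 205, 207, 217, 179, 25]), ([1, 0, -1, 0, 0, 1, -1, 1], 18, [210, 208, 207, 208, 208, 218, 180, 26]), ([0, -1, 0, 0, 0, 1, -1, 1], 40, [209, 206, 209, 209, 209, 219, 181, 27])]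

def cOE8_0_7 : List OEt := [([-1, 0, 0, 0, 0, 1, -1, 1], 19, [208, 210, 210, 210, 210, 220, 182, 28]), ([1, 0, 0, 0, 0, -1, 0, 1], 37, [213, 211, 211, 211, 211, 201, 211, 29]), ([0, 1, 0, 0, 0, -1, 0, 1], 16, [212, 215, 212, 212, 212, 202, 212, 30]), ([-1, 0, 1, 0, 0, -1, 0, 1], 38, [211, 213, 214, 213, 213, 203, 213, 31]), ([0, 0, -1, 1, 0, -1, 0, 1], 39, [214, 214, 213, 216, 214, 204, 214, 32]), ([0, -1, 0, 1, 0, -1, 0, 1], 17, [215, 212, 215, 217, 215, 205, 215, 33]), ([0, 1, 0, -1, 1, -1, 0, 1], 40, [216, 219, 216, 214, 221, 206, 216, 34]), ([0, 0, 1, -1, 1, -1, 0, 1], 18, [217, 217, 218, 215, 222, 207, 217, 35]), ([1, 0, -1, 0, 1, -1, 0, 1], 19, [220, 218, 217, 218, 223, 208, 218, 36]), ([0, -1, 0, 0, 1, -1, 0, 1], 41, [219, 216, 219, 219, 224, 209, 219, 37]), ([-1, 0, 0, 0,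 1, -1, 0, 1], 20, [218, 220, 220, 220, 225, 210, 220, 38]), ([0, 1, 0, 0, -1, 0, 0, 1], 41, [221, 224, 221, 221, 216, 221, 221, 39]), ([0, 0, 1, 0, -1, 0, 0, 1], 19, [222, 222, 223, 222, 217, 222, 222, 40]), ([1, 0, -1, 1, -1, 0, 0, 1], 20, [225, 223, 222, 226, 218, 223, 223, 41]), ([0, -1, 0, 1, -1, 0, 0, 1], 42, [224, 221, 224, 227, 219, 224, 224, 42]), ([-1, 0, 0, 1, -1, 0, 0, 1], 21, [223, 225, 225, 228, 220, 225, 225, 43]), ([1, 1, 0, -1, 0, 0, 0, 1], 21, [228, 231, 226, 223, 226, 226, 226, 44]), ([0, 0, 1, -1, 0, 0, 0, 1], 43, [227, 227, 229, 224, 227, 227, 227, 45]), ([-1, 1, 1, -1, 0, 0, 0, 1], 22, [226, 234, 230, 225, 228, 228, 228, 46]), ([1, 0, -1, 0, 0, 0, 0, 1], 44, [232, 229, 227, 229, 229, 229, 229, 47]), ([0, 1, -1, 0, 0, 0, 0, 1], 23, [230, 235, 228, 230, 230, 230,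 230, 48]), ([1, -1, 0, 0, 0, 0, 0, 1], 22, [234, 226, 231, 231, 231, 231, 231, 49]), ([-1, 0, 0, 0, 0, 0, 0, 1], 45, [229, 232, 232, 232, 232, 232, 232, 50]), ([0, 0, 0, 0, 0, 0, 0, 1], 0, [233, 233, 233, 233, 233, 233, 233, 51]), ([-1, -1, 1, 0, 0, 0, 0, 1], 23, [231, 228, 235, 234, 234, 234, 234, 52]), ([0, -1, -1, 1, 0, 0, 0, 1], 24, [235, 230, 234, 236, 235, 235, 235, 53]), ([0, 0, 0, -1, 1, 0, 0, 1], 25, [236, 236, 236, 235, 237, 236, 236, 54]), ([0, 0, 0, 0, -1, 1, 0, 1], 26, [237, 237, 237, 237, 236, 238, 237, 55]), ([0, 0, 0, 0, 0, -1, 1, 1], 27, [238, 238, 238, 238, 238, 237, 239, 56]), ([0, 0, 0, 0, 0, 0, -1, 2], 28, [239, 239, 239, 239, 239, 239, 238, 0])]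

def cOE8_0 : ℕ × List OEt := (233, cOE8_0_0 ++ cOE8_0_1 ++ cOE8_0_2 ++ cOE8_0_3 ++ cOE8_0_4 ++ cOE8_0_5 ++ cOE8_0_6 ++ cOE8_0_7)

def cOE8_1_0 : List OEt := [([0, 0, 0, 0, 0, 0, 1, 0], 0, [0, 0, 0, 0, 0, 0, 1]), ([0, 0, 0, 0, 0, 1, -1, 1], 1, [1, 1, 1, 1, 1, 2, 0]), ([0, 0, 0, 0, 1, -1, 0, 1], 2, [2, 2, 2, 2, 3, 1, 2]), ([0, 0, 0, 1, -1, 0, 0, 1], 3, [3, 3, 3, 4, 2, 3, 3]), ([0, 1, 1, -1, 0, 0, 0, 1], 4, [4, 7, 5, 3, 4, 4, 4]), ([1, 1, -1, 0, 0, 0, 0, 1], 5, [6, 8, 4, 5, 5, 5, 5]), ([-1, 1, 0, 0, 0, 0, 0, 1], 6, [5, 9, 6, 6, 6, 6, 6]), ([0, -1, 1, 0, 0, 0, 0, 1], 5, [7, 4, 8, 7, 7, 7, 7]), ([1, -1, -1, 1, 0, 0, 0, 1], 6, [9, 5, 7, 10, 8, 8, 8]), ([-1, -1, 0, 1, 0, 0, 0, 1], 7, [8, 6, 9, 11, 9, 9, 9]), ([1, 0, 0, -1, 1, 0, 0, 1], 7, [11, 10, 10, 8, 13, 10, 10]), ([-1, 0, 1, -1, 1,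 0, 0, 1], 8, [10, 11, 12, 9, 14, 11, 11]), ([0, 0, -1, 0, 1, 0, 0, 1], 9, [12, 12, 11, 12, 15, 12, 12]), ([1, 0, 0, 0, -1, 1, 0, 1], 8, [14, 13, 13, 13, 10, 18, 13]), ([-1, 0, 1, 0, -1, 1, 0, 1], 9, [13, 14, 15, 14, 11, 19, 14]), ([0, 0, -1, 1, -1, 1, 0, 1], 10, [15, 15, 14, 16, 12, 20, 15]), ([0, 1, 0, -1, 0, 1, 0, 1], 11, [16, 17, 16, 15, 16, 21, 16]), ([0, -1, 0, 0, 0, 1, 0, 1], 12, [17, 16, 17, 17, 17, 22, 17]), ([1, 0, 0, 0, 0, -1, 1, 1], 9, [19, 18, 18, 18, 18, 13, 28]), ([-1, 0, 1, 0, 0, -1, 1, 1], 10, [18, 19, 20, 19, 19, 14, 29]), ([0, 0, -1, 1, 0, -1, 1, 1], 11, [20, 20, 19, 21, 20, 15, 30]), ([0, 1, 0, -1, 1, -1, 1, 1], 12, [21, 22, 21, 20, 23, 16, 31]), ([0, -1, 0, 0, 1, -1, 1, 1], 13, [22, 21, 22, 22, 24, 17, 32]), ([0, 1, 0, 0, -1, 0, 1, 1], 13, [23, 24, 23, 23, 21,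 23, 33]), ([0, -1, 0, 1, -1, 0, 1, 1], 14, [24, 23, 24, 25, 22, 24, 34]), ([0, 0, 1, -1, 0, 0, 1, 1], 15, [25, 25, 26, 24, 25, 25, 35]), ([1, 0, -1, 0, 0, 0, 1, 1], 16, [27, 26, 25, 26, 26, 26, 36]), ([-1, 0, 0, 0, 0, 0, 1, 1], 17, [26, 27, 27, 27, 27, 27, 37]), ([1, 0, 0, 0, 0, 0, -1, 2], 10, [29, 28, 28, 28, 28, 28, 18]), ([-1, 0, 1, 0, 0, 0, -1, 2], 11, [28, 29, 30, 29, 29, 29, 19])]

def cOE8_1_1 : List OEt := [([0, 0, -1, 1, 0, 0, -1, 2], 12, [30, 30, 29, 31, 30, 30, 20]), ([0, 1, 0, -1, 1, 0, -1, 2], 13, [31, 32, 31, 30, 33, 31, 21]), ([0, -1, 0, 0, 1, 0, -1, 2], 14, [32, 31, 32, 32, 34, 32, 22]), ([0, 1, 0, 0, -1, 1, -1, 2], 14, [33, 34, 33, 33, 31, 38, 23]), ([0, -1, 0, 1, -1, 1, -1, 2], 15, [34, 33, 34, 35, 32, 39, 24]), ([0, 0, 1, -1, 0, 1, -1, 2], 16, [35, 35, 36, 34,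 35, 40, 25]), ([1, 0, -1, 0, 0, 1, -1, 2], 17, [37, 36, 35, 36, 36, 41, 26]), ([-1, 0, 0, 0, 0, 1, -1, 2], 18, [36, 37, 37, 37, 37, 42, 27]), ([0, 1, 0, 0, 0, -1, 0, 2], 15, [38, 39, 38, 38, 38, 33, 38]), ([0, -1, 0, 1, 0, -1, 0, 2], 16, [39, 38, 39, 40, 39, 34, 39]), ([0, 0, 1, -1, 1, -1, 0, 2], 17, [40, 40, 41, 39, 43, 35, 40]), ([1, 0, -1, 0, 1, -1, 0, 2], 18, [42, 41, 40, 41, 44, 36, 41]), ([-1, 0, 0, 0, 1, -1, 0, 2], 19, [41, 42, 42, 42, 45, 37, 42]), ([0, 0, 1, 0, -1, 0, 0, 2], 18, [43, 43, 44, 43, 40, 43, 43]), ([1, 0, -1, 1, -1, 0, 0, 2], 19, [45, 44, 43, 46, 41, 44, 44]), ([-1, 0, 0, 1, -1, 0, 0, 2], 20, [44, 45, 45, 47, 42, 45, 45]), ([1, 1, 0, -1, 0, 0, 0, 2], 20, [47, 49, 46, 44, 46, 46, 46]), ([-1, 1, 1, -1, 0, 0, 0, 2], 21, [46, 50, 48, 45, 47, 47, 47]), ([0, 1, -1,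 0, 0, 0, 0, 2], 22, [48, 51, 47, 48, 48, 48, 48]), ([1, -1, 0, 0, 0, 0, 0, 2], 21, [50, 46, 49, 49, 49, 49, 49]), ([-1, -1, 1, 0, 0, 0, 0, 2], 22, [49, 47, 51, 50, 50, 50, 50]), ([0, -1, -1, 1, 0, 0, 0, 2], 23, [51, 48, 50, 52, 51, 51, 51]), ([0, 0, 0, -1, 1, 0, 0, 2], 24, [52, 52, 52, 51, 53, 52, 52]), ([0, 0, 0, 0, -1, 1, 0, 2], 25, [53, 53, 53, 53, 52, 54, 53]), ([0, 0, 0, 0, 0, -1, 1, 2], 26, [54, 54, 54, 54, 54, 53, 55]), ([0, 0, 0, 0, 0, 0, -1, 3], 27, [55, 55, 55, 55, 55, 55, 54])]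

def cOE8_1 : ℕ × List OEt := (0, cOE8_1_0 ++ cOE8_1_1)

def cOE8_2_0 : List OEt := [([0, 0, 0, 0, 0, 1, 0, 0], 0, [0, 0, 0, 0, 0, 1]), ([0, 0, 0, 0, 1, -1, 1, 0], 1, [1, 1, 1, 1, 2, 0]), ([0, 0, 0, 1, -1, 0, 1, 0], 2, [2, 2, 2, 3, 1, 2]), ([0, 1, 1, -1, 0, 0, 1, 0], 3, [3, 6, 4, 2, 3, 3]), ([1, 1, -1, 0, 0, 0, 1, 0], 4, [5, 7, 3, 4, 4, 4]), ([-1, 1, 0, 0, 0, 0, 1, 0], 5, [4, 8, 5, 5, 5, 5]), ([0, -1, 1, 0, 0, 0, 1, 0], 4, [6, 3, 7, 6, 6, 6]), ([1, -1, -1, 1, 0, 0, 1, 0], 5, [8, 4, 6, 9, 7, 7]), ([-1, -1, 0, 1, 0, 0, 1, 0], 6, [7, 5, 8, 10, 8, 8]), ([1, 0, 0, -1, 1, 0, 1, 0], 6, [10, 9, 9, 7, 12, 9]), ([-1, 0, 1, -1, 1, 0, 1, 0], 7, [9, 10, 11, 8, 13, 10]), ([0, 0, -1, 0, 1, 0, 1, 0], 8, [11, 11, 10, 11, 14, 11]), ([1, 0, 0, 0, -1, 1, 1, 0], 7, [13, 12, 12, 12, 9, 17]), ([-1, 0,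 1, 0, -1, 1, 1, 0], 8, [12, 13, 14, 13, 10, 18]), ([0, 0, -1, 1, -1, 1, 1, 0], 9, [14, 14, 13, 15, 11, 19]), ([0, 1, 0, -1, 0, 1, 1, 0], 10, [15, 16, 15, 14, 15, 20]), ([0, -1, 0, 0, 0, 1, 1, 0], 11, [16, 15, 16, 16, 16, 21]), ([1, 0, 0, 0, 0, -1, 2, 0], 8, [18, 17, 17, 17, 17, 12]), ([-1, 0, 1, 0, 0, -1, 2, 0], 9, [17, 18, 19, 18, 18, 13]), ([0, 0, -1, 1, 0, -1, 2, 0], 10, [19, 19, 18, 20, 19, 14]), ([0, 1, 0, -1, 1, -1, 2, 0], 11, [20, 21, 20, 19, 22, 15]), ([0, -1, 0, 0, 1, -1, 2, 0], 12, [21, 20, 21, 21, 23, 16]), ([0, 1, 0, 0, -1, 0, 2, 0], 12, [22, 23, 22, 22, 20, 22]), ([0, -1, 0, 1, -1, 0, 2, 0], 13, [23, 22, 23, 24, 21, 23]), ([0, 0, 1, -1, 0, 0, 2, 0], 14, [24, 24, 25, 23, 24, 24]), ([1, 0, -1, 0, 0, 0, 2, 0], 15, [26, 25, 24, 25, 25, 25]), ([-1, 0, 0, 0, 0, 0, 2, 0], 16,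 [25, 26, 26, 26, 26, 26])]

def cOE8_2 : ℕ × List OEt := (0, cOE8_2_0)

def cOE8_3_0 : List OEt := [([0, 0, 0, 0, 1, 0, 0, 0], 0, [0, 0, 0, 0, 1]), ([0, 0, 0, 1, -1, 1, 0, 0], 1, [1, 1, 1, 2, 0]), ([0, 1, 1, -1, 0, 1, 0, 0], 2, [2, 5, 3, 1, 2]), ([1, 1, -1, 0, 0, 1, 0, 0], 3, [4, 6, 2, 3, 3]), ([-1, 1, 0, 0, 0, 1, 0, 0], 4, [3, 7, 4, 4, 4]), ([0, -1, 1, 0, 0, 1, 0, 0], 3, [5, 2, 6, 5, 5]), ([1, -1, -1, 1, 0, 1, 0, 0], 4, [7, 3, 5, 8, 6]), ([-1, -1, 0, 1, 0, 1, 0, 0], 5, [6, 4, 7, 9, 7]), ([1, 0, 0, -1, 1, 1, 0, 0], 5, [9, 8, 8, 6, 11]), ([-1, 0, 1, -1, 1, 1, 0, 0], 6, [8, 9, 10, 7, 12]), ([0, 0, -1, 0, 1, 1, 0, 0], 7, [10, 10, 9, 10, 13]), ([1, 0, 0, 0, -1, 2, 0, 0], 6, [12, 11, 11, 11, 8]), ([-1, 0, 1, 0, -1, 2, 0, 0], 7, [11, 12, 13, 12, 9]), ([0, 0, -1, 1, -1, 2, 0, 0], 8, [13,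 13, 12, 14, 10]), ([0, 1, 0, -1, 0, 2, 0, 0], 9, [14, 15, 14, 13, 14]), ([0, -1, 0, 0, 0, 2, 0, 0], 10, [15, 14, 15, 15, 15])]

def cOE8_3 : ℕ × List OEt := (0, cOE8_3_0)

def cOE8_4_0 : List OEt := [([0, 0, 0, 1, 0, 0, 0, 0], 0, [0, 0, 0, 1]), ([0, 1, 1, -1, 1, 0, 0, 0], 1, [1, 4, 2, 0]), ([1, 1, -1, 0, 1, 0, 0, 0], 2, [3, 5, 1, 2]), ([-1, 1, 0, 0, 1, 0, 0, 0], 3, [2, 6, 3, 3]), ([0, -1, 1, 0, 1, 0, 0, 0], 2, [4, 1, 5, 4]), ([1, -1, -1, 1, 1, 0, 0, 0], 3, [6, 2, 4, 7]), ([-1, -1, 0, 1, 1, 0, 0, 0], 4, [5, 3, 6, 8]), ([1, 0, 0, -1, 2, 0, 0, 0], 4, [8, 7, 7, 5]), ([-1, 0, 1, -1, 2, 0, 0, 0], 5, [7, 8, 9, 6]), ([0, 0, -1, 0, 2, 0, 0, 0], 6, [9, 9, 8, 9])]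

def cOE8_4 : ℕ × List OEt := (0, cOE8_4_0)

def cOE8_5_0 : List OEt := [([0, 0, 1, 0, 0, 0, 0, 0], 0, [0, 0, 1]), ([1, 0, -1, 1, 0, 0, 0, 0], 1, [2, 1, 0]), ([-1, 0, 0, 1, 0, 0, 0, 0], 2, [1, 2, 2])]

def cOE8_5 : ℕ × List OEt := (0, cOE8_5_0)

def cOE8_6_0 : List OEt := [([0, 1, 0, 0, 0, 0, 0, 0], 0, [0, 1]), ([0, -1, 0, 1, 0, 0, 0, 0], 1, [1, 0])]

def cOE8_6 : ℕ × List OEt := (0, cOE8_6_0)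

def cOE8_7_0 : List OEt := [([1, 0, 0, 0, 0, 0, 0, 0], 0, [1]), ([-1, 0, 1, 0, 0, 0, 0, 0], 1, [0])]

def cOE8_7 : ℕ × List OEt := (0, cOE8_7_0)

theorem ordE8 : ordB chevE8 cAE8 [cOE8_0, cOE8_1, cOE8_2, cOE8_3, cOE8_4, cOE8_5, cOE8_6, cOE8_7] [2, 8, 12, 14, 18, 20, 24, 30] = true := by decide +kernel

end Chv
end CfsgH6
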