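import Cfsg.Agent.H6.ChO5

set_option autoImplicit false
set_option maxRecDepth 100000

/-! Order certificate. -/

namespace CfsgH6
namespace Chv

open Cfsg.Lie

def cAF4 : List (List ℤ) := [[2, -1, 0, 0], [-1, 2, -2, 0], [0, -1, 2, -1], [0, 0, -1, 2]]

def cOF4_0_0 : List OEt := [([0, 0, 1, -2], 8, [0, 0, 1, 23]), ([0, 2, -1, -1], 9, [1, 5, 0, 15]), ([0, 0, 0, -1], 15, [2, 2, 2, 16]), ([2, 0, 0, -1], 5, [4, 3, 3, 17]), ([-2, 2, 0, -1], 6, [3, 8, 4, 18]), ([2, -2, 1, -1], 10, [6, 1, 9, 19]), ([-2, 0, 1, -1], 11, [5, 6, 10, 20]), ([0, 0, 1, -1], 1, [7, 7, 11, 21]), ([0, -2, 2, -1], 7, [8, 4, 15, 22]), ([2, 0, -1, 0], 11, [10, 9, 5, 9]), ([-2, 2, -1, 0], 12, [9, 12, 6, 10]), ([0, 2, -1, 0], 2, [11, 13, 7, 11]), ([0, -2, 1, 0], 13, [12, 10, 16, 12]), ([2, -2, 1, 0], 3, [14, 11, 17, 13]), ([-2,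 0, 1, 0], 4, [13, 14, 18, 14]), ([0, 2, -2, 1], 8, [15, 19, 8, 1]), ([0, 0, -1, 1], 14, [16, 16, 12, 2]), ([2, 0, -1, 1], 4, [18, 17, 13, 3]), ([-2, 2, -1, 1], 5, [17, 22, 14, 4]), ([2, -2, 0, 1], 9, [20, 15, 19, 5]), ([-2, 0, 0, 1], 10, [19, 20, 20, 6]), ([0, 0, 0, 1], 0, [21, 21, 21, 7]), ([0, -2, 1, 1], 6, [22, 18, 23, 8]), ([0, 0, -1, 2], 7, [23, 23, 22, 0])]

def cOF4_0 : ℕ × List OEt := (21, cOF4_0_0)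

def cOF4_1_0 : List OEt := [([0, 0, 1, 0], 0, [0, 0, 1]), ([0, 2, -1, 1], 1, [1, 2, 0]), ([2, -2, 1, 1], 2, [3, 1, 4]), ([-2, 0, 1, 1], 3, [2, 3, 5]), ([2, 0, -1, 2], 3, [5, 4, 2]), ([-2, 2, -1, 2], 4, [4, 6, 3]), ([0, -2, 1, 2], 5, [6, 5, 7]), ([0, 0, -1, 3], 6, [7, 7, 6])]

def cOF4_1 : ℕ × List OEt := (0, cOF4_1_0)

def cOF4_2_0 : List OEt := [([0, 1, 0, 0], 0, [0, 1]), ([1, -1, 1, 0], 1, [2, 0]), ([-1, 0, 1, 0], 2, [1, 2])]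

def cOF4_2 : ℕ × List OEt := (0, cOF4_2_0)

def cOF4_3_0 : List OEt := [([1, 0, 0, 0], 0, [1]), ([-1, 1, 0, 0], 1, [0])]

def cOF4_3 : ℕ × List OEt := (0, cOF4_3_0)

theorem ordF4 : ordB chevF4 cAF4 [cOF4_0, cOF4_1, cOF4_2, cOF4_3] [2, 6, 8, 12] = true := by decide +kernel

end Chv
end CfsgH6
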