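import Cfsg.Agent.H6.ChO5

set_option autoImplicit false
set_option maxRecDepth 100000

/-! Order certificate. -/

namespace CfsgH6
namespace Chv

open Cfsg.Lie

def cAG2 : List (List ℤ) := [[2, -3], [-1, 2]]

def cOG2_0_0 : List OEt := [([3, -2], 3, [3, 5]), ([0, -1], 5, [1, 3]), ([3, -1], 1, [5, 4]), ([-3, 1], 4, [0, 1]), ([0, 1], 0, [4, 2]), ([-3, 2], 2, [2, 0])]

def cOG2_0 : ℕ × List OEt := (4, cOG2_0_0)

def cOG2_1_0 : List OEt := [([1, 0], 0, [1]), ([-1, 1], 1, [0])]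

def cOG2_1 : ℕ × List OEt := (0, cOG2_1_0)

theorem ordG2 : ordB chevG2 cAG2 [cOG2_0, cOG2_1] [2, 6] = true := by decide +kernel

end Chv
end CfsgH6
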