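import Cfsg.Agent.H6.ChO3
import Cfsg.Agent.H9.CoxSys

set_option autoImplicit false

/-! The Weyl group is the Coxeter group of its type. -/

namespace CfsgH6
namespace Chv

open Cfsg.Lie

variable {D : ChevalleyDatum} (g : Good D)

/-- the Coxeter number of a pair of Cartan integers -/
def mC (p q : ℤ) : ℕ := if p * q = 0 then 2 else if p * q = 1 then 3 else if p * q = 2 then 4 else 6

/-- admissible pairs of Cartan integers -/
def okC (p q : ℤ) : Prop := (p = 0 ∧ q = 0) ∨ (p = -1 ∧ q = -1) ∨ (p = -1 ∧ q = -2) ∨ (p = -2 ∧ q = -1) ∨ (p = -1 ∧ q = -3) ∨ (p = -3 ∧ q = -1)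

instance (p q : ℤ) : Decidable (okC p q) := by unfold okC; infer_instance

namespace Good

include g

theorem perm_conj {L : List ℕ} (hL : ∀ i ∈ L, i < D.rank) {a b : ℕ} (ha : a < D.rank) (hb : b < D.rank)
    (h : g.wl L (D.simple b) = D.simple a) : g.wP L * g.sP b = g.sP a * g.wP L := by
  have h3 := g.nl_ng (F := ℚ) hL (g.simple_lt b hb) 1
  rw [← g.nn_eq_ng, h, mul_one] at h3
  have h4 : g.nl ℚ (L ++ [b]) = (g.nl ℚ L * g.nn b * (g.nl ℚ L)⁻¹) * g.nl ℚ L := by
    rw [g.nl_append, g.nl_cons, g.nl_nil]; group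
  have key : ∃ k ∈ g.HH ℚ, g.nl ℚ (L ++ [b]) = k * g.nl ℚ (a :: L) := by
    rcases g.el_pm hL (g.simple_lt b hb) with h5 | h5
    · refine ⟨1, Subgroup.one_mem _, ?_⟩
      rw [h4, h3, h5, Int.cast_one, ← g.nn_eq_ng, g.nl_cons, one_mul]
    · refine ⟨g.hD (D.simple a) (-1), g.hD_mem _ _, ?_⟩
      rw [h4, h3, h5, Int.cast_neg, Int.cast_one, ← g.ng_inv (g.simple_lt a ha), ← g.nn_eq_ng, g.nn_inv_eq ha, g.nl_cons]
      group
  obtain ⟨k, hk, he⟩ := key
  have hL1 : ∀ i ∈ L ++ [b], i < D.rank := by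
    intro i hi
    rcases List.mem_append.1 hi with hi | hi
    · exact hL i hi
    · rw [List.mem_singleton.1 hi]; exact hb
  have hL2 : ∀ i ∈ a :: L, i < D.rank := by
    intro i hi
    rcases List.mem_cons.1 hi with rfl | hi
    · exact ha
    · exact hL i hi
  have e1 : g.wP L * g.sP b = g.wP (L ++ [b]) := by rw [wP_append, wP_cons, wP_nil, mul_one]
  rw [e1, ← g.wP_cons]
  ext s
  rw [g.wP_val hL1, g.wP_val hL2]
  exact g.wl_eq_of_nl hL1 hL2 hk he s.2

/-- left exchange -/
theorem perm_exch {L : List ℕ} (hL : ∀ i ∈ L, i < D.rank) {a : ℕ} (ha : a < D.rank)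
    (h : (((g.wP L)⁻¹ ⟨D.simple a, g.simple_lt a ha⟩ : Fin D.nroots) : ℕ) < g.N) :
    ∃ j < L.length, g.sP a * g.wP L = g.wP (L.eraseIdx j) := by
  induction L using List.reverseRecOn with
  | nil =>
    rw [wP_nil, inv_one, Equiv.Perm.one_apply] at h
    have := g.N_le_simple ha
    simp only at h
    omega
  | append_singleton L b ih =>
    have hL0 : ∀ i ∈ L, i < D.rank := fun i hi => hL i (by simp [hi])
    have hb : b < D.rank := hL b (by simp)
    have e1 : g.wP (L ++ [b]) = g.wP L * g.sP b := by rw [wP_append, wP_cons, wP_nil, mul_one]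
    by_cases hc : (((g.wP L)⁻¹ ⟨D.simple a, g.simple_lt a ha⟩ : Fin D.nroots) : ℕ) < g.N
    · obtain ⟨j, hj, he⟩ := ih hL0 hc
      refine ⟨j, by rw [List.length_append]; omega, ?_⟩
      rw [List.eraseIdx_append_of_lt_length hj, e1, ← mul_assoc, he, wP_append, wP_cons, wP_nil, mul_one]
    · rw [e1, mul_inv_rev, g.sP_inv hb, Equiv.Perm.mul_apply, g.sP_val hb] at h
      have h2 : (((g.wP L)⁻¹ ⟨D.simple a, g.simple_lt a ha⟩ : Fin D.nroots) : ℕ) = D.simple b := by
        by_contra hne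
        have := g.w_pos b hb _ (Fin.is_lt _) (by omega) hne
        omega
      have h3 : g.wl L (D.simple b) = D.simple a := by
        have h4 : g.wP L ⟨D.simple b, g.simple_lt b hb⟩ = ⟨D.simple a, g.simple_lt a ha⟩ := by
          have h5 : ((g.wP L)⁻¹ ⟨D.simple a, g.simple_lt a ha⟩ : Fin D.nroots) = ⟨D.simple b, g.simple_lt b hb⟩ := Fin.ext h2
          rw [← h5, ← Equiv.Perm.mul_apply, mul_inv_cancel, Equiv.Perm.one_apply]
        have := congrArg Fin.val h4
        rwa [g.wP_val hL0] at this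
      refine ⟨L.length, by rw [List.length_append]; simp, ?_⟩
      have h6 := g.perm_conj hL0 ha hb h3
      have e2 : (L ++ [b]).eraseIdx L.length = L := by
        rw [List.eraseIdx_append_of_length_le le_rfl]; simp
      rw [e2, e1, ← mul_assoc, ← h6, mul_assoc, g.sP_mul hb, mul_one]

/-- the simple reflections of the Weyl group -/
def σW (i : Fin D.rank) : g.WJ D.rank := ⟨g.sP i, g.sP_mem i.2 i.2⟩

theorem σW_sq (i : Fin D.rank) : g.σW i * g.σW i = 1 := Subtype.ext (g.sP_mul i.2)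

theorem σW_inj : Function.Injective g.σW := by
  intro i j h
  have h1 : g.sP i = g.sP j := congrArg Subtype.val h
  have h2 := congrArg (fun p : Equiv.Perm (Fin D.nroots) => ((p ⟨D.simple i, g.simple_lt i i.2⟩ : Fin D.nroots) : ℕ)) h1
  beta_reduce at h2
  rw [g.sP_val i.2, g.sP_val j.2] at h2
  simp only at h2
  rw [g.w_simple i i.2] at h2
  by_contra hne
  have h3 : D.simple i ≠ D.simple j := fun h => hne (Fin.ext (g.simple_inj i.2 j.2 h))
  have h4 := g.w_pos j j.2 _ (g.simple_lt i i.2) (g.N_le_simple i.2) h3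
  rw [← h2, g.neg_eq _ (g.simple_lt i i.2)] at h4
  have := g.N_le_simple i.2
  have := g.hN
  have := g.simple_lt i i.2
  omega

theorem wp_σW (l : List (Fin D.rank)) : ((CfsgH9.Cox.wp g.σW l : g.WJ D.rank) : Equiv.Perm (Fin D.nroots)) = g.wP (l.map Fin.val) := by
  induction l with
  | nil => rfl
  | cons i l ih => rw [CfsgH9.Cox.wp_cons, Subgroup.coe_mul, ih, List.map_cons, wP_cons]; rfl

theorem map_lt (l : List (Fin D.rank)) : ∀ i ∈ l.map Fin.val, i < D.rank := by
  intro i hi
  obtain ⟨j, _, rfl⟩ := List.mem_map.1 hi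
  exact j.2

theorem exch_left (l : List (Fin D.rank)) (i : Fin D.rank)
    (h : (((CfsgH9.Cox.wp g.σW l : g.WJ D.rank) : Equiv.Perm (Fin D.nroots))⁻¹ ⟨D.simple i, g.simple_lt i i.2⟩ : Fin D.nroots).val < g.N) :
    ∃ j < l.length, g.σW i * CfsgH9.Cox.wp g.σW l = CfsgH9.Cox.wp g.σW (l.eraseIdx j) := by
  rw [g.wp_σW] at h
  obtain ⟨j, hj, he⟩ := g.perm_exch (map_lt g l) i.2 h
  rw [List.length_map] at hj
  refine ⟨j, hj, Subtype.ext ?_⟩
  rw [Subgroup.coe_mul, g.wp_σW, g.wp_σW]
  show g.sP i * _ = _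
  rw [he, List.eraseIdx_map]

theorem σW_exch : CfsgH9.Cox.Exch g.σW := by
  intro l i hred hnot
  apply g.exch_left
  by_contra hpos
  apply hnot
  intro l' hl'
  by_contra hlen
  push Not at hlen
  have h1 : ((CfsgH9.Cox.wp g.σW l' : g.WJ D.rank) : Equiv.Perm (Fin D.nroots))⁻¹ ⟨D.simple i, g.simple_lt i i.2⟩ =
      ((CfsgH9.Cox.wp g.σW l : g.WJ D.rank) : Equiv.Perm (Fin D.nroots))⁻¹ (g.sP i ⟨D.simple i, g.simple_lt i i.2⟩) := by
    rw [hl', CfsgH9.Cox.wp_cons, Subgroup.coe_mul, mul_inv_rev, Equiv.Perm.mul_apply]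
    congr 1
    show (g.sP i)⁻¹ _ = _
    rw [g.sP_inv i.2]
  have h2 : (((CfsgH9.Cox.wp g.σW l' : g.WJ D.rank) : Equiv.Perm (Fin D.nroots))⁻¹ ⟨D.simple i, g.simple_lt i i.2⟩ : Fin D.nroots).val < g.N := by
    rw [h1]
    have e2 : (g.sP i ⟨D.simple i, g.simple_lt i i.2⟩ : Fin D.nroots) = ⟨D.neg (D.simple i), g.neg_lt (g.simple_lt i i.2)⟩ := by
      apply Fin.ext; rw [g.sP_val i.2]; exact g.w_simple i i.2
    rw [e2, g.wp_σW, g.wP_inv (map_lt g l), g.wP_val (fun j hj => map_lt g l j (List.mem_reverse.1 hj))]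
    rw [g.wp_σW, g.wP_inv (map_lt g l), g.wP_val (fun j hj => map_lt g l j (List.mem_reverse.1 hj))] at hpos
    simp only at hpos ⊢
    have hrev : ∀ j ∈ (l.map Fin.val).reverse, j < D.rank := fun j hj => map_lt g l j (List.mem_reverse.1 hj)
    rw [g.wl_neg hrev (g.simple_lt i i.2), g.neg_eq _ (g.wl_lt hrev (g.simple_lt i i.2))]
    have := g.hN
    omega
  obtain ⟨j, hj, he⟩ := g.exch_left l' i h2
  rw [hl', CfsgH9.Cox.wp_cons, ← mul_assoc, g.σW_sq, one_mul] at he
  have h3 := hred _ he.symm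
  rw [List.length_eraseIdx_of_lt hj] at h3
  rw [List.length_cons] at hlen
  omega

theorem σW_gen : Subgroup.closure (Set.range g.σW) = ⊤ := by
  rw [eq_top_iff]
  rintro ⟨_, L, hL, rfl⟩ _
  induction L with
  | nil =>
    have : (⟨g.wP [], [], hL, rfl⟩ : g.WJ D.rank) = 1 := Subtype.ext g.wP_nil
    rw [this]; exact Subgroup.one_mem _
  | cons i L ih =>
    have h1 : ∀ j ∈ L, j < D.rank ∧ j < D.rank := fun j hj => hL j (by simp [hj])
    have hi := (hL i (by simp)).1
    have : (⟨g.wP (i :: L), i :: L, hL, rfl⟩ : g.WJ D.rank) = g.σW ⟨i, hi⟩ * ⟨g.wP L, L, h1, rfl⟩ := Subtype.ext (g.wP_cons i L)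
    rw [this]
    exact Subgroup.mul_mem _ (Subgroup.subset_closure ⟨⟨i, hi⟩, rfl⟩) (ih h1 trivial)

/-! ### the orders of products of two reflections -/

/-- state: two coefficients and two Cartan integers -/
def stR (p q : ℤ) : Bool → ℤ × ℤ × ℤ × ℤ → ℤ × ℤ × ℤ × ℤ
  | true, (x, y, a, b) => (x - a, y, -a, b - p * a)
  | false, (x, y, a, b) => (x, y - b, a - q * b, -b)

def stL (p q : ℤ) : List Bool → ℤ × ℤ × ℤ × ℤ → ℤ × ℤ × ℤ × ℤ
  | [], s => s
  | c :: L, s => stR p q c (stL p q L s)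

/-- the state of a root -/
def stO (i j s : ℕ) : ℤ × ℤ × ℤ × ℤ := (g.coef s i, g.coef s j, D.cartan i s, D.cartan j s)

theorem stO_wl {i j : ℕ} (hi : i < D.rank) (hj : j < D.rank) (hij : i ≠ j) {s : ℕ} (hs : s < D.nroots) (L : List Bool) :
    g.stO i j (g.wl (L.map fun c => if c then i else j) s) = stL (D.cartan j (D.simple i)) (D.cartan i (D.simple j)) L (g.stO i j s) := by
  induction L with
  | nil => rfl
  | cons c L ih =>
    have hw : g.wl (L.map fun c => if c then i else j) s < D.nroots := by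
      apply g.wl_lt _ hs
      intro k hk
      obtain ⟨c, _, rfl⟩ := List.mem_map.1 hk
      split_ifs <;> assumption
    rw [List.map_cons, wl, stL, ← ih]
    cases c with
    | true =>
      simp only [if_true, stO, stR, g.coef_w i hi _ hw i hi, g.coef_w i hi _ hw j hj, g.cartan_w hi hi hw, g.cartan_w hi hj hw,
        g.cartan_self hi, if_pos, if_neg hij, sub_zero, Prod.mk.injEq, true_and]
      ring_nf
      simp
    | false =>
      simp only [Bool.false_eq_true, if_false, stO, stR, g.coef_w j hj _ hw i hi, g.coef_w j hj _ hw j hj, g.cartan_w hj hi hw, g.cartan_w hj hj hw,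
        g.cartan_self hj, if_pos, if_neg (Ne.symm hij), sub_zero, Prod.mk.injEq, true_and]
      ring_nf
      simp

theorem coef_wl_ij {i j : ℕ} (hi : i < D.rank) (hj : j < D.rank) {s : ℕ} (hs : s < D.nroots) {k : ℕ} (hk : k < D.rank)
    (hki : k ≠ i) (hkj : k ≠ j) (L : List Bool) :
    g.coef (g.wl (L.map fun c => if c then i else j) s) k = g.coef s k := by
  induction L with
  | nil => rfl
  | cons c L ih =>
    have hw : g.wl (L.map fun c => if c then i else j) s < D.nroots := by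
      apply g.wl_lt _ hs
      intro k hk
      obtain ⟨c, _, rfl⟩ := List.mem_map.1 hk
      split_ifs <;> assumption
    rw [List.map_cons, wl]
    cases c with
    | true => simp only [if_true]; rw [g.coef_w i hi _ hw k hk, if_neg (Ne.symm hki), sub_zero, ih]
    | false => simp only [Bool.false_eq_true, if_false]; rw [g.coef_w j hj _ hw k hk, if_neg (Ne.symm hkj), sub_zero, ih]

/-- alternating words -/
def alt : ℕ → List Bool
  | 0 => []
  | n + 1 => true :: false :: alt n

theorem wP_alt {i j : ℕ} (n : ℕ) : (g.sP i * g.sP j) ^ n = g.wP ((alt n).map fun c => if c then i else j) := by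
  induction n with
  | zero => rfl
  | succ n ih => rw [pow_succ', ih, alt, List.map_cons, List.map_cons, wP_cons, wP_cons, mul_assoc]; rfl

theorem alt_eq_one {i j : ℕ} (hi : i < D.rank) (hj : j < D.rank) (hij : i ≠ j) (n : ℕ)
    (h : ∀ x y a b, stL (D.cartan j (D.simple i)) (D.cartan i (D.simple j)) (alt n) (x, y, a, b) = (x, y, a, b)) :
    (g.sP i * g.sP j) ^ n = 1 := by
  rw [wP_alt]
  have hL : ∀ k ∈ (alt n).map (fun c => if c then i else j), k < D.rank := by
    intro k hk
    obtain ⟨c, _, rfl⟩ := List.mem_map.1 hk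
    split_ifs <;> assumption
  ext s
  rw [g.wP_val hL, Equiv.Perm.one_apply]
  apply g.coef_inj (g.wl_lt hL s.2) s.2
  intro k hk
  have h1 := g.stO_wl hi hj hij s.2 (alt n)
  unfold stO at h1
  rw [h] at h1
  simp only [Prod.mk.injEq] at h1
  by_cases hki : k = i
  · rw [hki]; exact h1.1
  · by_cases hkj : k = j
    · rw [hkj]; exact h1.2.1
    · exact g.coef_wl_ij hi hj s.2 hk hki hkj _

theorem alt_ne_one {i j : ℕ} (hi : i < D.rank) (hj : j < D.rank) (hij : i ≠ j) (n : ℕ)
    (h : stL (D.cartan j (D.simple i)) (D.cartan i (D.simple j)) (alt n) (1, 0, 2, D.cartan j (D.simple i)) ≠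
      (1, 0, 2, D.cartan j (D.simple i))) :
    (g.sP i * g.sP j) ^ n ≠ 1 := by
  intro hc
  apply h
  rw [wP_alt] at hc
  have hL : ∀ k ∈ (alt n).map (fun c => if c then i else j), k < D.rank := by
    intro k hk
    obtain ⟨c, _, rfl⟩ := List.mem_map.1 hk
    split_ifs <;> assumption
  have h1 := g.stO_wl hi hj hij (g.simple_lt i hi) (alt n)
  have h2 : g.stO i j (D.simple i) = (1, 0, 2, D.cartan j (D.simple i)) := by
    unfold stO
    rw [g.coef_simple i hi i hi, g.coef_simple i hi j hj, if_pos rfl, if_neg hij, g.cartan_self hi]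
  have h3 : g.wl ((alt n).map fun c => if c then i else j) (D.simple i) = D.simple i := by
    rw [← g.wP_val hL ⟨D.simple i, g.simple_lt i hi⟩, hc, Equiv.Perm.one_apply]
  rw [h3, h2] at h1
  exact h1.symm

theorem order_pair {i j : ℕ} (hi : i < D.rank) (hj : j < D.rank) (hij : i ≠ j)
    (hok : okC (D.cartan j (D.simple i)) (D.cartan i (D.simple j))) :
    orderOf (g.sP i * g.sP j) = mC (D.cartan j (D.simple i)) (D.cartan i (D.simple j)) := by
  have h1 := fun n => g.alt_eq_one hi hj hij n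
  have h2 := fun n => g.alt_ne_one hi hj hij n
  have key : ∀ m, 0 < m → (g.sP i * g.sP j) ^ m = 1 → (∀ n, 0 < n → n < m → (g.sP i * g.sP j) ^ n ≠ 1) → orderOf (g.sP i * g.sP j) = m := by
    intro m hm h3 h4
    exact (orderOf_eq_iff hm).2 ⟨h3, fun n hn hn' => h4 n hn' hn⟩
  rcases hok with ⟨hp, hq⟩ | ⟨hp, hq⟩ | ⟨hp, hq⟩ | ⟨hp, hq⟩ | ⟨hp, hq⟩ | ⟨hp, hq⟩ <;> rw [hp, hq] at h1 h2 ⊢
  · have e : mC 0 0 = 2 := by decide
    rw [e]
    refine key 2 (by norm_num) (h1 2 ?_) ?_
    · intro x y a b; simp only [alt, stL, stR, Prod.mk.injEq]; omega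
    · intro n hn hn'
      apply h2 n
      interval_cases n <;> decide
  · have e : mC (-1) (-1) = 3 := by decide
    rw [e]
    refine key 3 (by norm_num) (h1 3 ?_) ?_
    · intro x y a b; simp only [alt, stL, stR, Prod.mk.injEq]; omega
    · intro n hn hn'
      apply h2 n
      interval_cases n <;> decide
  · have e : mC (-1) (-2) = 4 := by decide
    rw [e]
    refine key 4 (by norm_num) (h1 4 ?_) ?_
    · intro x y a b; simp only [alt, stL, stR, Prod.mk.injEq]; omega
    · intro n hn hn'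
      apply h2 n
      interval_cases n <;> decide
  · have e : mC (-2) (-1) = 4 := by decide
    rw [e]
    refine key 4 (by norm_num) (h1 4 ?_) ?_
    · intro x y a b; simp only [alt, stL, stR, Prod.mk.injEq]; omega
    · intro n hn hn'
      apply h2 n
      interval_cases n <;> decide
  · have e : mC (-1) (-3) = 6 := by decide
    rw [e]
    refine key 6 (by norm_num) (h1 6 ?_) ?_
    · intro x y a b; simp only [alt, stL, stR, Prod.mk.injEq]; omega
    · intro n hn hn'
      apply h2 n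
      interval_cases n <;> decide
  · have e : mC (-3) (-1) = 6 := by decide
    rw [e]
    refine key 6 (by norm_num) (h1 6 ?_) ?_
    · intro x y a b; simp only [alt, stL, stR, Prod.mk.injEq]; omega
    · intro n hn hn'
      apply h2 n
      interval_cases n <;> decide

end Good

/-- entries of a Coxeter matrix -/
def cmE {B : Type*} (M : CoxeterMatrix B) (i j : B) : ℕ := M i j

/-- comparison of a Coxeter matrix with the Cartan matrix -/
def CoxOK (D : ChevalleyDatum) (n : ℕ) (M : CoxeterMatrix (Fin n)) : Prop :=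
  n = D.rank ∧ ∀ i j : Fin n, i ≠ j → okC (D.cartan j (D.simple i)) (D.cartan i (D.simple j)) ∧
    cmE M i j = mC (D.cartan j (D.simple i)) (D.cartan i (D.simple j))

instance (D : ChevalleyDatum) (n : ℕ) (M : CoxeterMatrix (Fin n)) : Decidable (CoxOK D n M) := by unfold CoxOK; infer_instance

theorem exists_cox (g : Good D) {M : CoxeterMatrix (Fin D.rank)} (hM : CoxOK D D.rank M) :
    ∃ cs : CoxeterSystem M (g.WJ D.rank), ∀ i, cs.simple i = g.σW i := by
  have h := CfsgH9.Cox.exists_coxSys g.σW g.σW_sq g.σW_inj g.σW_exch g.σW_gen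
  have e : CfsgH9.Cox.coxM g.σW g.σW_sq g.σW_inj = M := by
    apply CoxeterMatrix.ext
    ext i j
    show orderOf (g.σW i * g.σW j) = M i j
    by_cases hij : i = j
    · subst hij
      rw [g.σW_sq, orderOf_one, M.diagonal]
    · rw [show M i j = cmE M i j from rfl, (hM.2 i j hij).2, ← g.order_pair i.2 j.2 (fun h => hij (Fin.ext h)) (hM.2 i j hij).1]
      exact (Subgroup.orderOf_coe (g.σW i * g.σW j)).symm
  rw [e] at h
  exact h

theorem coxG2 : CoxOK chevG2 2 CoxeterMatrix.G₂ := by decide +kernel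
theorem coxB2 : CoxOK chevB2 2 (CoxeterMatrix.B 2) := by decide +kernel
theorem coxD4 : CoxOK chevD4 4 coxeterD4 := by decide +kernel
theorem coxF4 : CoxOK chevF4 4 CoxeterMatrix.F₄ := by decide +kernel
theorem coxE6 : CoxOK chevE6 6 CoxeterMatrix.E₆ := by decide +kernel
theorem coxE7 : CoxOK chevE7 7 CoxeterMatrix.E₇ := by decide +kernel
theorem coxE8 : CoxOK chevE8 8 CoxeterMatrix.E₈ := by decide +kernel

end Chv
end CfsgH6
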