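import Cfsg.Agent.H6.ChW1
import Cfsg.Agent.H6.ChO4

set_option autoImplicit false

/-! The monomial subgroup modulo the diagonal subgroup is the Coxeter group. -/

namespace CfsgH6
namespace Chv

open Cfsg.Lie

variable {D : ChevalleyDatum} (g : Good D) {F : Type*} [Field F]

namespace Good

include g

theorem wP_unique {L L' : List ℕ} (hL : ∀ i ∈ L, i < D.rank) (hL' : ∀ i ∈ L', i < D.rank) {h h' : GL D.Idx F} (hh : h ∈ g.HH F)
    (hh' : h' ∈ g.HH F) (he : h * g.nl F L = h' * g.nl F L') : g.wP L = g.wP L' := by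
  ext s
  rw [g.wP_val hL, g.wP_val hL']
  apply g.wl_eq_of_nl hL hL' (Subgroup.mul_mem _ (Subgroup.inv_mem _ hh) hh') _ s.2
  have : g.nl F L = h⁻¹ * (h * g.nl F L) := by group
  rw [this, he]; group

/-- the action of the monomial subgroup on the roots -/
noncomputable def rho (F : Type*) [Field F] : ↥(g.NN F) →* ↥(g.WJ D.rank) :=
  MonoidHom.mk' (fun x => ⟨g.wP x.2.choose, x.2.choose, fun i hi => ⟨x.2.choose_spec.1 i hi, x.2.choose_spec.1 i hi⟩, rfl⟩) (by
    intro x y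
    apply Subtype.ext
    show g.wP _ = g.wP _ * g.wP _
    obtain ⟨hx, k, hk, ex⟩ := x.2.choose_spec
    obtain ⟨hy, k', hk', ey⟩ := y.2.choose_spec
    obtain ⟨hxy, k'', hk'', exy⟩ := (x * y).2.choose_spec
    rw [← g.wP_append]
    have hap : ∀ i ∈ x.2.choose ++ y.2.choose, i < D.rank := by
      intro i hi
      rcases List.mem_append.1 hi with hi | hi
      · exact hx i hi
      · exact hy i hi
    refine g.wP_unique (F := F) hxy hap hk'' (Subgroup.mul_mem _ hk (g.nl_HH hx hk')) ?_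
    rw [← exy, Subgroup.coe_mul, g.nl_append]
    calc (x : GL D.Idx F) * (y : GL D.Idx F) = (k * g.nl F x.2.choose) * (k' * g.nl F y.2.choose) := by rw [← ex, ← ey]
      _ = _ := by group)

theorem rho_eq {x : ↥(g.NN F)} {L : List ℕ} (hL : ∀ i ∈ L, i < D.rank) {h : GL D.Idx F} (hh : h ∈ g.HH F)
    (he : (x : GL D.Idx F) = h * g.nl F L) : ((g.rho F x : g.WJ D.rank) : Equiv.Perm (Fin D.nroots)) = g.wP L := by
  show g.wP _ = g.wP _
  obtain ⟨hx, k, hk, ex⟩ := x.2.choose_spec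
  exact g.wP_unique (F := F) hx hL hk hh (by rw [← ex, he])

theorem rho_surj : Function.Surjective (g.rho F) := by
  rintro ⟨_, L, hL, rfl⟩
  have hL' : ∀ i ∈ L, i < D.rank := fun i hi => (hL i hi).1
  refine ⟨⟨g.nl F L, g.nl_mem hL'⟩, Subtype.ext ?_⟩
  exact g.rho_eq hL' (Subgroup.one_mem _) (by rw [one_mul])

theorem rho_ker : (g.rho F).ker = (g.HH F).subgroupOf (g.NN F) := by
  ext x
  rw [MonoidHom.mem_ker, Subgroup.mem_subgroupOf]
  obtain ⟨L, hL, h, hh, he⟩ := x.2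
  constructor
  · intro hx
    have h1 := g.rho_eq hL hh he
    rw [hx] at h1
    rw [he]
    apply Subgroup.mul_mem _ hh
    have h2 := g.nl_of_wl_eq (F := F) hL (L' := []) (by simp) (by
      intro s hs
      rw [← g.wP_val hL ⟨s, hs⟩, ← h1]; rfl)
    rwa [g.nl_nil, inv_one, mul_one] at h2
  · intro hx
    apply Subtype.ext
    rw [g.rho_eq (L := []) (by simp) hx (by rw [g.nl_nil, mul_one]), g.wP_nil]
    rfl

theorem rho_nn {i : ℕ} (hi : i < D.rank) {x : ↥(g.NN F)} (hx : (x : GL D.Idx F) = g.nn i) : g.rho F x = g.σW ⟨i, hi⟩ := by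
  apply Subtype.ext
  rw [g.rho_eq (L := [i]) (by simpa using hi) (Subgroup.one_mem _) (by rw [hx, g.nl_cons, g.nl_nil, one_mul, mul_one]),
    g.wP_cons, g.wP_nil, mul_one]
  rfl

end Good

/-- isomorphism of the presented group with the permutation group -/
theorem exists_coxEquiv (g : Good D) {n : ℕ} {M : CoxeterMatrix (Fin n)} (hM : CoxOK D n M) :
    ∃ Θ : M.Group ≃* ↥(g.WJ D.rank), ∀ (i : Fin n) (hi : i.1 < D.rank), Θ (M.simple i) = g.σW ⟨i.1, hi⟩ := by
  obtain ⟨hn, hM'⟩ := hM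
  subst hn
  obtain ⟨cs, hcs⟩ := exists_cox g (M := M) ⟨rfl, hM'⟩
  refine ⟨cs.mulEquiv.symm, fun i hi => ?_⟩
  rw [← hcs]
  rfl

theorem exists_NCox (g : Good D) {n : ℕ} {M : CoxeterMatrix (Fin n)} (hM : CoxOK D n M) (F : Type*) [Field F] :
    ∃ φ : ↥(g.NN F) →* M.Group, Function.Surjective φ ∧ φ.ker = (g.HH F).subgroupOf (g.NN F) ∧
      ∀ (i : Fin n) (x : ↥(g.NN F)), (x : GL D.Idx F) = g.nn i → φ x = M.simple i := by
  obtain ⟨Θ, hΘ⟩ := exists_coxEquiv g hM
  refine ⟨Θ.symm.toMonoidHom.comp (g.rho F), ?_, ?_, ?_⟩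
  · exact Θ.symm.surjective.comp g.rho_surj
  · rw [← g.rho_ker]
    ext x
    rw [MonoidHom.mem_ker, MonoidHom.mem_ker, MonoidHom.comp_apply]
    exact Θ.symm.map_eq_one_iff
  · intro i x hx
    have hi : i.1 < D.rank := by rw [← hM.1]; exact i.2
    rw [MonoidHom.comp_apply, g.rho_nn hi hx, ← hΘ i hi]
    exact Θ.symm_apply_apply _

end Chv
end CfsgH6
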