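import Cfsg.Agent.H6.ChW2
import Cfsg.Agent.H6.ChO5

set_option autoImplicit false

/-! Orders of the Weyl groups and of the Coxeter elements. -/

namespace CfsgH6
namespace Chv

open Cfsg.Lie

variable {D : ChevalleyDatum} (g : Good D)

theorem card_WJ (k : ℕ) : Nat.card (g.WJ k) = g.SW k 1 := by
  classical
  unfold Good.SW
  simp only [one_pow, Finset.sum_const, smul_eq_mul, mul_one]
  rw [← Fintype.card_subtype, Nat.card_eq_fintype_card]

theorem card_cox (g : Good D) {n : ℕ} {M : CoxeterMatrix (Fin n)} (hM : CoxOK D n M) {A : List (List ℤ)} {Os : List (ℕ × List OEt)} {dg : List ℕ}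
    (h : ordB D A Os dg = true) {c : ℕ} (hc : hev (polyOs Os) 1 = c) : Nat.card M.Group = c := by
  obtain ⟨Θ, _⟩ := exists_coxEquiv g hM
  rw [Nat.card_congr Θ.toEquiv, card_WJ]
  have h1 := (ordB_spec g h 1).1
  rw [Nat.cast_one, hc] at h1
  exact_mod_cast h1

/-- reflection of a coefficient vector -/
def rfV (A : List (List ℤ)) (l i : ℕ) (v : List ℤ) : List ℤ :=
  let c := ((List.range l).map fun m => v.getD m 0 * (A.getD i []).getD m 0).sum
  (List.range l).map fun j => v.getD j 0 - if i = j then c else 0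

def wlV (A : List (List ℤ)) (l : ℕ) : List ℕ → List ℤ → List ℤ
  | [], v => v
  | i :: L, v => rfV A l i (wlV A l L v)

theorem list_sum_range (f : ℕ → ℤ) (n : ℕ) : ((List.range n).map f).sum = ∑ m ∈ Finset.range n, f m := by
  induction n with
  | zero => simp
  | succ n ih => rw [List.range_succ, List.map_append, List.sum_append, ih, Finset.sum_range_succ]; simp

theorem getD_range_map (f : ℕ → ℤ) {n j : ℕ} (hj : j < n) : ((List.range n).map f).getD j 0 = f j := by
  rw [List.getD_eq_getElem _ _ (by simpa using hj)]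
  simp

theorem rfV_spec {A : List (List ℤ)} (hA : ∀ j < D.rank, ∀ i < D.rank, (A.getD j []).getD i 0 = D.cartan j (D.simple i))
    {i s : ℕ} (hi : i < D.rank) (hs : s < D.nroots) {v : List ℤ} (hv : ∀ j < D.rank, v.getD j 0 = g.coef s j) :
    ∀ j < D.rank, (rfV A D.rank i v).getD j 0 = g.coef (g.w i s) j := by
  intro j hj
  unfold rfV
  rw [getD_range_map _ hj, g.coef_w i hi s hs j hj, hv j hj, list_sum_range, g.cartan_lin i hi s hs]
  congr 1
  have e : ∑ m ∈ Finset.range D.rank, v.getD m 0 * (A.getD i []).getD m 0 = ∑ j ∈ Finset.range D.rank, g.coef s j * D.cartan i (D.simple j) := by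
    apply Finset.sum_congr rfl
    intro m hm
    rw [hv m (Finset.mem_range.1 hm), hA i hi m (Finset.mem_range.1 hm)]
  rw [e]

theorem wlV_spec {A : List (List ℤ)} (hA : ∀ j < D.rank, ∀ i < D.rank, (A.getD j []).getD i 0 = D.cartan j (D.simple i))
    {L : List ℕ} (hL : ∀ i ∈ L, i < D.rank) {s : ℕ} (hs : s < D.nroots) {v : List ℤ} (hv : ∀ j < D.rank, v.getD j 0 = g.coef s j) :
    ∀ j < D.rank, (wlV A D.rank L v).getD j 0 = g.coef (g.wl L s) j := by
  induction L with
  | nil => exact hv
  | cons i L ih =>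
    have h1 : ∀ j ∈ L, j < D.rank := fun j hj => hL j (by simp [hj])
    rw [wlV, Good.wl]
    exact rfV_spec g hA (hL i (by simp)) (g.wl_lt h1 hs) (ih h1)

def eV (l j : ℕ) : List ℤ := (List.range l).map fun m => if j = m then 1 else 0

theorem eV_spec {j : ℕ} (hj : j < D.rank) : ∀ m < D.rank, (eV D.rank j).getD m 0 = g.coef (D.simple j) m := by
  intro m hm
  unfold eV
  rw [getD_range_map _ hm, g.coef_simple j hj m hm]

def cxW (l m : ℕ) : List ℕ := (List.replicate m (List.range l)).flatten

theorem cxW_lt {l m : ℕ} : ∀ i ∈ cxW l m, i < l := by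
  intro i hi
  unfold cxW at hi
  rw [List.mem_flatten] at hi
  obtain ⟨L, hL, hi⟩ := hi
  rw [List.mem_replicate] at hL
  rw [hL.2] at hi
  exact List.mem_range.1 hi

theorem wP_cxW (l m : ℕ) : g.wP (cxW l m) = (g.wP (List.range l)) ^ m := by
  induction m with
  | zero => simp [cxW, g.wP_nil]
  | succ m ih =>
    have : cxW l (m + 1) = List.range l ++ cxW l m := by unfold cxW; rw [List.replicate_succ, List.flatten_cons]
    rw [this, g.wP_append, ih, pow_succ']

/-- certificate for the order `h` of the Coxeter element, `ps` the prime divisors of `h` -/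
def cxB (D : ChevalleyDatum) (A : List (List ℤ)) (h : ℕ) (ps : List ℕ) : Bool :=
  cartB D A && ((List.range D.rank).all fun j => decide (wlV A D.rank (cxW D.rank h) (eV D.rank j) = eV D.rank j)) &&
    decide (0 < D.rank) && decide (0 < h) &&
    (ps.all fun p => (List.range D.rank).any fun j => (List.range D.rank).any fun k =>
      decide ((wlV A D.rank (cxW D.rank (h / p)) (eV D.rank j)).getD k 0 ≠ (eV D.rank j).getD k 0)) &&
    ((List.range (h + 1)).all fun p => !(decide (p ∣ h)) || decide (p = 1) || ps.any fun r => decide (r ∣ p))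

theorem cxB_spec {A : List (List ℤ)} {h : ℕ} {ps : List ℕ} (hB : cxB D A h ps = true) :
    orderOf (g.wP (List.range D.rank)) = h := by
  unfold cxB at hB
  simp only [Bool.and_eq_true, decide_eq_true_eq, List.all_eq_true, List.mem_range, Bool.or_eq_true, Bool.not_eq_true',
    decide_eq_false_iff_not, List.any_eq_true] at hB
  obtain ⟨⟨⟨⟨⟨h1, h2⟩, h3⟩, h4⟩, h5⟩, h6⟩ := hB
  have hA := cartB_spec h1
  have hpow : (g.wP (List.range D.rank)) ^ h = 1 := by
    rw [← wP_cxW]
    apply g.wP_eq_one (k := D.rank) (fun i hi => ⟨cxW_lt i hi, cxW_lt i hi⟩)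
    intro j hj _
    have h7 : g.wl (cxW D.rank h) (D.simple j) = D.simple j := by
      apply g.coef_inj (g.wl_lt cxW_lt (g.simple_lt j hj)) (g.simple_lt j hj)
      intro m hm
      rw [← wlV_spec g hA cxW_lt (g.simple_lt j hj) (eV_spec g hj) m hm, h2 j hj, eV_spec g hj m hm]
    rw [h7]
    exact g.N_le_simple hj
  have hne : ∀ p ∈ ps, (g.wP (List.range D.rank)) ^ (h / p) ≠ 1 := by
    intro p hp hc
    obtain ⟨j, hj, k, hk, hne⟩ := h5 p hp
    apply hne
    rw [← wP_cxW] at hc
    have h7 : g.wl (cxW D.rank (h / p)) (D.simple j) = D.simple j := by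
      rw [← g.wP_val cxW_lt ⟨D.simple j, g.simple_lt j hj⟩, hc]; rfl
    rw [wlV_spec g hA cxW_lt (g.simple_lt j hj) (eV_spec g hj) k hk, h7, eV_spec g hj k hk]
  have hdvd : orderOf (g.wP (List.range D.rank)) ∣ h := orderOf_dvd_of_pow_eq_one hpow
  obtain ⟨k, hk⟩ := hdvd
  have hkh : k ∣ h := ⟨orderOf (g.wP (List.range D.rank)), by rw [mul_comm]; exact hk⟩
  have hkle := Nat.le_of_dvd h4 hkh
  rcases h6 k (by omega) with (h8 | h8) | h8
  · exact absurd hkh h8
  · rw [h8, mul_one] at hk; exact hk.symm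
  · obtain ⟨r, hr, hrk⟩ := h8
    exfalso
    apply hne r hr
    apply orderOf_dvd_iff_pow_eq_one.1
    obtain ⟨m, rfl⟩ := hrk
    have hr0 : 0 < r := by
      rcases Nat.eq_zero_or_pos r with h0 | h0
      · rw [h0, zero_mul, mul_zero] at hk; omega
      · exact h0
    rw [hk]
    refine ⟨m, ?_⟩
    have : orderOf (g.wP (List.range D.rank)) * (r * m) = (orderOf (g.wP (List.range D.rank)) * m) * r := by ring
    rw [this, Nat.mul_div_cancel _ hr0]

theorem order_cox (g : Good D) {n : ℕ} {M : CoxeterMatrix (Fin n)} (hM : CoxOK D n M) {A : List (List ℤ)} {h : ℕ} {ps : List ℕ}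
    (hB : cxB D A h ps = true) : orderOf ((List.finRange n).map M.simple).prod = h := by
  obtain ⟨Θ, hΘ⟩ := exists_coxEquiv g hM
  rw [← Θ.orderOf_eq, ← cxB_spec g hB, ← Subgroup.orderOf_coe]
  congr 1
  rw [map_list_prod, List.map_map]
  obtain ⟨hn, _⟩ := hM
  subst hn
  have e : (List.finRange D.rank).map (Θ ∘ M.simple) = (List.finRange D.rank).map g.σW := by
    apply List.map_congr_left
    intro i _
    exact hΘ i i.2
  rw [e]
  have h1 := g.wp_σW (List.finRange D.rank)
  unfold CfsgH9.Cox.wp at h1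
  rw [h1, List.map_coe_finRange_eq_range]

end Chv
end CfsgH6
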