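import Cfsg.Agent.H6.ChW3
import Cfsg.Agent.H6.ChOTG2
import Cfsg.Agent.H6.ChOTB2
import Cfsg.Agent.H6.ChOTD4
import Cfsg.Agent.H6.ChOTF4
import Cfsg.Agent.H6.ChOTE6
import Cfsg.Agent.H6.ChOTE7
import Cfsg.Agent.H6.ChOTE8

set_option autoImplicit false

/-! Orders of the Weyl groups and Coxeter elements, type by type. -/

namespace CfsgH6
namespace Chv

open Cfsg.Lie

theorem hvG2 : hev (polyOs [cOG2_0, cOG2_1]) 1 = ((12 : ℕ) : ℤ) := by decide +kernel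
theorem hvB2 : hev (polyOs [cOB2_0, cOB2_1]) 1 = ((8 : ℕ) : ℤ) := by decide +kernel
theorem hvD4 : hev (polyOs [cOD4_0, cOD4_1, cOD4_2, cOD4_3]) 1 = ((192 : ℕ) : ℤ) := by decide +kernel
theorem hvF4 : hev (polyOs [cOF4_0, cOF4_1, cOF4_2, cOF4_3]) 1 = ((1152 : ℕ) : ℤ) := by decide +kernel
theorem hvE6 : hev (polyOs [cOE6_0, cOE6_1, cOE6_2, cOE6_3, cOE6_4, cOE6_5]) 1 = ((51840 : ℕ) : ℤ) := by decide +kernel
theorem hvE7 : hev (polyOs [cOE7_0, cOE7_1, cOE7_2, cOE7_3, cOE7_4, cOE7_5, cOE7_6]) 1 = ((2903040 : ℕ) : ℤ) := by decide +kernel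
theorem hvE8 : hev (polyOs [cOE8_0, cOE8_1, cOE8_2, cOE8_3, cOE8_4, cOE8_5, cOE8_6, cOE8_7]) 1 = ((696729600 : ℕ) : ℤ) := by decide +kernel

theorem cxG2 : cxB chevG2 cAG2 6 [2, 3] = true := by decide +kernel
theorem cxB2 : cxB chevB2 cAB2 4 [2] = true := by decide +kernel
theorem cxD4 : cxB chevD4 cAD4 6 [2, 3] = true := by decide +kernel
theorem cxF4 : cxB chevF4 cAF4 12 [2, 3] = true := by decide +kernel
theorem cxE6 : cxB chevE6 cAE6 12 [2, 3] = true := by decide +kernel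
theorem cxE7 : cxB chevE7 cAE7 18 [2, 3] = true := by decide +kernel
theorem cxE8 : cxB chevE8 cAE8 30 [2, 3, 5] = true := by decide +kernel

end Chv
end CfsgH6
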