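import Cfsg.Agent.H6.ChX2
import Cfsg.Agent.H6.ChH

set_option autoImplicit false

/-! Graph automorphisms, type by type. -/

namespace CfsgH6
namespace Chv

open Cfsg.Lie

def grB2 : GrT := ⟨2, [1, 0, 3, 2, 5, 4, 7, 6], [1, 0], [], [1, 2, 2, 1, 1, 2, 2, 1]⟩
def grF4 : GrT := ⟨2, [3, 7, 8, 0, 9, 11, 18, 1, 2, 4, 15, 5, 16, 21, 23, 10, 12, 19, 6, 17, 22, 13, 20, 14, 33, 27, 34, 25, 30, 41, 28, 35, 37, 24, 26, 31, 42, 32, 43, 45, 46, 29, 36, 38, 47, 39, 40, 44], [3, 2, 1, 0], [], [1, 1, 1, 2, 1, 1, 1, 2, 2, 2, 2, 2, 2, 2, 2, 1, 1, 1, 2, 2, 2, 1, 1, 1, 1, 1, 1, 2, 2, 2, 1, 1, 1, 2, 2, 2, 2, 2, 2, 2, 2, 1, 1, 1, 2, 1, 1, 1]⟩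
def grG2 : GrT := ⟨3, [2, 3, 0, 1, 5, 4, 7, 6, 10, 11, 8, 9], [1, 0], [1, 1, 1, 1, 1, 1, 1, 1, 1, 1, 1, 1], [1, 1, 3, 3, 3, 1, 1, 3, 3, 3, 1, 1]⟩
def grE6 : GrT := ⟨0, [0, 1, 2, 5, 16, 3, 6, 17, 8, 19, 22, 11, 26, 30, 33, 35, 4, 7, 18, 9, 20, 23, 10, 21, 24, 25, 12, 27, 31, 34, 13, 28, 32, 14, 29, 15, 56, 42, 57, 39, 43, 58, 37, 40, 44, 59, 46, 47, 50, 61, 48, 51, 62, 53, 64, 67, 36, 38, 41, 45, 60, 49, 52, 63, 54, 65, 68, 55, 66, 69, 70, 71], [5, 1, 4, 3, 2, 0], [1, 1, 1, 1, -1, 1, 1, -1, 1, -1, -1, 1, -1, 1, -1, 1, -1, -1, 1, -1, 1, 1, -1, 1, 1, 1, -1, 1, -1, 1, 1, -1, 1, -1, 1, 1, 1, 1, -1, 1, -1, 1, 1, -1, 1, -1, 1, 1, 1, -1, 1, 1, -1, 1, -1, -1, 1, -1, 1, -1, 1, -1, -1, 1, -1, 1, 1, -1, 1, 1, 1, 1], []⟩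
def grD4 : GrT := ⟨0, [0, 1, 6, 2, 7, 10, 3, 8, 4, 9, 11, 5, 18, 12, 14, 19, 15, 20, 13, 16, 21, 17, 22, 23], [2, 1, 3, 0], [1, 1, -1, 1, -1, 1, -1, 1, -1, 1, 1, 1, 1, 1, 1, -1, 1, -1, 1, -1, 1, -1, 1, 1], []⟩
def grD4' : GrT := ⟨0, [0, 1, 3, 6, 8, 11, 2, 4, 7, 9, 5, 10, 13, 18, 14, 16, 19, 21, 12, 15, 17, 20, 22, 23], [3, 1, 0, 2], [1, 1, 1, -1, -1, 1, -1, -1, 1, 1, 1, 1, 1, 1, 1, 1, -1, -1, 1, -1, -1, 1, 1, 1], []⟩
def grD4s : GrT := ⟨0, [0, 1, 2, 6, 7, 10, 3, 4, 8, 9, 5, 11, 12, 18, 14, 15, 19, 20, 13, 16, 17, 21, 22, 23], [2, 1, 0, 3], [1, 1, 1, -1, -1, 1, -1, -1, 1, 1, 1, 1, 1, 1, 1, 1, -1, -1, 1, -1, -1, 1, 1, 1], []⟩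

theorem grB2_ok : grB2.chk chevB2 encB2.w encB2.eZ = true := by decide +kernel
theorem grF4_ok : grF4.chk chevF4 encF4.w encF4.eZ = true := by decide +kernel
theorem grG2_ok : grG2.chk chevG2 encG2.w encG2.eZ = true := by decide +kernel
theorem grE6_ok : grE6.chk chevE6 encE6.w encE6.eZ = true := by decide +kernel
theorem grD4_ok : grD4.chk chevD4 encD4.w encD4.eZ = true := by decide +kernel
theorem grD4'_ok : grD4'.chk chevD4 encD4.w encD4.eZ = true := by decide +kernel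
theorem grD4s_ok : grD4s.chk chevD4 encD4.w encD4.eZ = true := by decide +kernel

theorem grB2_P : GrP chevB2 goodB2.w goodB2.e grB2 := GrP_of grB2_ok
theorem grF4_P : GrP chevF4 goodF4.w goodF4.e grF4 := GrP_of grF4_ok
theorem grG2_P : GrP chevG2 goodG2.w goodG2.e grG2 := GrP_of grG2_ok
theorem grE6_P : GrP chevE6 goodE6.w goodE6.e grE6 := GrP_of grE6_ok
theorem grD4_P : GrP chevD4 goodD4.w goodD4.e grD4 := GrP_of grD4_ok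
theorem grD4'_P : GrP chevD4 goodD4.w goodD4.e grD4' := GrP_of grD4'_ok
theorem grD4s_P : GrP chevD4 goodD4.w goodD4.e grD4s := GrP_of grD4s_ok

/-- graph automorphisms -/
theorem graph_equiv {D : ChevalleyDatum} (g : Good D) {F : Type*} [Field F] {T : GrT} (hF : GrF F T.m) (hP : GrP D g.w g.e T) (hD : CmAll D)
    (hperf : T.m = 0 ∨ ∀ x : F, ∃ y : F, y ^ T.m = x) (hs : IsSimpleGroup ↥(g.GG F) ∨ Finite F) :
    ∃ α : ↥(g.GG F) ≃* ↥(g.GG F),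
      ∀ r < D.nroots, ∀ t : F, α ⟨g.xg r t, g.xg_mem_GG r t⟩ = ⟨g.xg (T.rho r) (((T.eps r : ℤ) : F) * t ^ T.ell r), g.xg_mem_GG _ _⟩ := by
  obtain ⟨α, h1, h2⟩ := exists_graph g hF hP hD hperf
  have hinj : Function.Injective α := by
    rcases hs with hs | hs
    · rcases hs.eq_bot_or_eq_top_of_normal α.ker inferInstance with h | h
      · exact (MonoidHom.ker_eq_bot_iff α).1 h
      · exfalso
        haveI := hs.toNontrivial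
        obtain ⟨x, hx⟩ := exists_ne (1 : ↥(g.GG F))
        obtain ⟨y, rfl⟩ := h1 x
        apply hx
        exact MonoidHom.mem_ker.1 (by rw [h]; exact Subgroup.mem_top y)
    · haveI : Finite ↥(g.GG F) := Subtype.finite
      exact Finite.injective_iff_surjective.2 h1
  exact ⟨MulEquiv.ofBijective α ⟨hinj, h1⟩, h2⟩

/-- the same on the official group -/
theorem graph_equiv' {D : ChevalleyDatum} (g : Good D) {F : Type*} [Field F] {T : GrT} (hF : GrF F T.m) (hP : GrP D g.w g.e T) (hD : CmAll D)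
    (hperf : T.m = 0 ∨ ∀ x : F, ∃ y : F, y ^ T.m = x) (hs : IsSimpleGroup ↥(g.GG F) ∨ Finite F) :
    ∃ α : ↥(D.group F) ≃* ↥(D.group F), ∀ (x : ↥(D.group F)) (r : ℕ) (t : F), r < D.nroots →
      ((x : GL D.Idx F) : Matrix D.Idx D.Idx F) = D.x F r t →
        ((α x : GL D.Idx F) : Matrix D.Idx D.Idx F) = D.x F (T.rho r) (((T.eps r : ℤ) : F) * t ^ T.ell r) := by
  obtain ⟨α, h2⟩ := graph_equiv g hF hP hD hperf hs
  have hGG : D.group F = g.GG F := g.group_eq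
  refine ⟨(MulEquiv.subgroupCongr hGG).trans (α.trans (MulEquiv.subgroupCongr hGG).symm), ?_⟩
  intro x r t hr hx
  rw [g.x_eq_xg] at hx ⊢
  have hx1 : (x : GL D.Idx F) = g.xg r t := Units.ext hx
  have hx2 : MulEquiv.subgroupCongr hGG x = ⟨g.xg r t, g.xg_mem_GG r t⟩ := Subtype.ext hx1
  show (((α (MulEquiv.subgroupCongr hGG x) : ↥(g.GG F)) : GL D.Idx F) : Matrix D.Idx D.Idx F) = _
  rw [hx2, h2 r hr]

end Chv
end CfsgH6
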