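import Cfsg.Agent.H6.ChZ1
import Cfsg.Agent.H6.ChS2

set_option autoImplicit false

/-! Centralizers and normalizers of subfield subgroups of Chevalley groups. -/

namespace CfsgH6
namespace Chv

open Cfsg.Lie

variable {D : ChevalleyDatum} (g : Good D) {F : Type*} [Field F]

namespace Good

theorem xg_simple_notin_UP {i : ℕ} (hi : i < D.rank) : g.xg (D.simple i) (1 : F) ∉ g.UP F i := by
  intro h
  have h1 := g.nn_conj_UP hi _ h
  rw [g.nn_x hi (g.simple_lt i hi), g.w_simple i hi] at h1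
  have h2 := g.UU_inf_VV (g.UP_le_UU i h1) (g.xg_mem_VV (g.neg_simple_lt hi) _)
  have h3 := g.xg_eq_one (g.neg_lt (g.simple_lt i hi)) h2
  rw [g.e_simple i hi] at h3
  simp at h3

/-- Bruhat trick: `n t' = t'' n` forces `t'` into the part of `U` kept positive -/
theorem move_U {L : List ℕ} (hL : ∀ i ∈ L, i < D.rank) {t' t'' : GL D.Idx F} (h1 : t' ∈ g.UU F) (h2 : t'' ∈ g.BB F)
    (h : g.nl F L * t' = t'' * g.nl F L) : t' ∈ g.XS F (fun r => g.N ≤ r ∧ g.N ≤ g.wl L r) := by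
  obtain ⟨a, ha, b, hb, rfl⟩ := g.UU_factor (fun r => g.N ≤ g.wl L r) (fun r => g.wl L r < g.N)
    (fun r _ _ => (lt_or_ge (g.wl L r) g.N).symm) h1
  have ha2 : g.nl F L * a * (g.nl F L)⁻¹ ∈ g.UU F := g.conj_map_XS hL (fun r _ hr => hr.2) a ha
  have h3 : (g.nl F L * a * (g.nl F L)⁻¹) * (1 * g.nl F L) * b = t'' * (1 * g.nl F L) * 1 := by
    rw [one_mul, mul_one, ← h]; group
  have h4 := g.bruhat_unique hL (Subgroup.one_mem _) (g.UU_le_BB ha2) h2 hb (Subgroup.one_mem _) h3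
  rw [h4.2, mul_one]
  exact ha

theorem mem_BB_of_comm {x : GL D.Idx F} (hx : x ∈ g.GG F)
    (h : ∀ i < D.rank, x * g.xg (D.simple i) 1 = g.xg (D.simple i) 1 * x) : x ∈ g.BB F := by
  obtain ⟨b, hb, L, hL, u, hu, rfl⟩ := g.bruhat hx
  have huU : u ∈ g.UU F := g.XS_mono (fun s _ hs => hs.1) hu
  have hall : ∀ i < D.rank, g.N ≤ g.wl L (D.simple i) := by
    intro i hi
    by_contra hlt
    push Not at hlt
    have h1 := h i hi
    have ht : g.xg (D.simple i) (1 : F) ∈ g.UU F := g.xg_mem_UU (g.simple_ge i hi) _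
    have h2 : g.nl F L * (u * g.xg (D.simple i) 1 * u⁻¹) = (b⁻¹ * g.xg (D.simple i) 1 * b) * g.nl F L := by
      calc g.nl F L * (u * g.xg (D.simple i) 1 * u⁻¹) = b⁻¹ * (b * g.nl F L * u * g.xg (D.simple i) 1) * u⁻¹ := by group
        _ = _ := by rw [h1]; group
    have h3 := g.move_U hL (Subgroup.mul_mem _ (Subgroup.mul_mem _ huU ht) (Subgroup.inv_mem _ huU)) (Subgroup.mul_mem _ (Subgroup.mul_mem _
      (Subgroup.inv_mem _ hb) (g.UU_le_BB ht)) hb) h2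
    have h4 : u * g.xg (D.simple i) 1 * u⁻¹ ∈ g.UP F i := g.XS_mono (fun r _ hr => ⟨hr.1, by rintro rfl; exact absurd hr.2 (not_le.2 hlt)⟩) h3
    obtain ⟨y, a, hy, rfl⟩ := g.UU_split hi huU
    apply g.xg_simple_notin_UP (F := F) hi
    have hsi := g.simple_lt i hi
    have h6 : g.xg (D.simple i) a * g.xg (D.simple i) 1 = g.xg (D.simple i) 1 * g.xg (D.simple i) a := by
      rw [g.xg_add hsi, g.xg_add hsi, add_comm]
    have h7 : y * g.xg (D.simple i) a * g.xg (D.simple i) 1 * (y * g.xg (D.simple i) a)⁻¹ = y * g.xg (D.simple i) 1 * y⁻¹ := by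
      rw [mul_assoc y, h6]; group
    have h8 : g.xg (D.simple i) 1 = y⁻¹ * (y * g.xg (D.simple i) a * g.xg (D.simple i) 1 * (y * g.xg (D.simple i) a)⁻¹) * y := by
      rw [h7]; group
    rw [h8]
    exact Subgroup.mul_mem _ (Subgroup.mul_mem _ (Subgroup.inv_mem _ hy) h4) hy
  refine Subgroup.mul_mem _ (Subgroup.mul_mem _ hb (g.HH_le_BB (g.nl_mem_HH hL (g.wl_all_pos hL hall)))) (g.UU_le_BB huU)

theorem cent_eq_one {x : GL D.Idx F} (hx : x ∈ g.GG F)
    (h : ∀ r < D.nroots, x * g.xg r 1 = g.xg r 1 * x) : x = 1 := by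
  have hB : x ∈ g.BB F := g.mem_BB_of_comm hx fun i hi => h _ (g.simple_lt i hi)
  obtain ⟨L, hL, hw⟩ := g.exists_w0
  have hnm : g.nl F L ∈ g.GG F := g.NN_le_GG (g.nl_mem hL)
  have h' : ∀ r < D.nroots, x * g.xg r (-1) = g.xg r (-1) * x := by
    intro r hr
    rw [← g.xg_inv hr]
    have := h r hr
    calc x * (g.xg r 1)⁻¹ = (g.xg r 1)⁻¹ * (g.xg r 1 * x) * (g.xg r 1)⁻¹ := by group
      _ = (g.xg r 1)⁻¹ * (x * g.xg r 1) * (g.xg r 1)⁻¹ := by rw [this]
      _ = (g.xg r 1)⁻¹ * x := by group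
  have hB' : (g.nl F L)⁻¹ * x * g.nl F L ∈ g.BB F := by
    apply g.mem_BB_of_comm (Subgroup.mul_mem _ (Subgroup.mul_mem _ (Subgroup.inv_mem _ hnm) hx) hnm)
    intro i hi
    have hs := g.simple_lt i hi
    have h1 := g.nl_x hL hs (1 : F)
    rw [mul_one] at h1
    have h2 : x * (g.nl F L * g.xg (D.simple i) 1 * (g.nl F L)⁻¹) = (g.nl F L * g.xg (D.simple i) 1 * (g.nl F L)⁻¹) * x := by
      rw [h1]
      rcases g.el_pm hL hs with he | he
      · rw [he]; simpa using h _ (g.wl_lt hL hs)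
      · rw [he]; simpa using h' _ (g.wl_lt hL hs)
    calc (g.nl F L)⁻¹ * x * g.nl F L * g.xg (D.simple i) 1
        = (g.nl F L)⁻¹ * (x * (g.nl F L * g.xg (D.simple i) 1 * (g.nl F L)⁻¹)) * g.nl F L := by group
      _ = _ := by rw [h2]; group
  have hH : x ∈ g.HH F := by
    obtain ⟨u, hu, k, hk, he⟩ := hB'
    apply g.BB_inf_VH hB
    refine ⟨g.nl F L * u * (g.nl F L)⁻¹, g.conj_map_XS hL hw u hu, g.nl F L * k * (g.nl F L)⁻¹, g.nl_HH hL hk, ?_⟩
    have h3 : x = g.nl F L * ((g.nl F L)⁻¹ * x * g.nl F L) * (g.nl F L)⁻¹ := by group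
    rw [h3, he]; group
  obtain ⟨c, rfl⟩ := hH
  rw [g.hc_eq_one_iff]
  intro j hj
  have hs := g.simple_lt j hj
  have h1 := g.hc_x c hs (1 : F)
  rw [h _ hs, mul_assoc, mul_inv_cancel, mul_one, mul_one] at h1
  have h2 := xg_inj' g hs h1
  apply Units.ext
  rw [Units.val_one, h2]
  rfl

/-- unipotent elements with entries fixed by `σ` -/
theorem U_fixL (σ : F →+* F) {L : Subgroup (GL D.Idx F)} (hL : ∀ r < D.nroots, ∀ t : F, σ t = t → g.xg r t ∈ L) {x : GL D.Idx F}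
    (hx : x ∈ g.UU F) (h : glm D.Idx σ x = x) : x ∈ L := by
  obtain ⟨t, rfl⟩ := g.U_exists hx
  rw [g.glm_ordP] at h
  have hN := g.hN
  unfold ordP
  apply Subgroup.list_prod_mem
  intro z hz
  obtain ⟨r, hr, rfl⟩ := List.mem_map.1 hz
  rw [List.mem_range'_1] at hr
  exact hL r (by omega) _ (g.U_inj h hr.1 (by omega))

/-- decomposition of the fixed points of `σ` -/
theorem fix_decomp (σ : F →+* F) {L : Subgroup (GL D.Idx F)} (hL : ∀ r < D.nroots, ∀ t : F, σ t = t → g.xg r t ∈ L)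
    (hLn : ∀ c : ℕ → Fˣ, glm D.Idx σ (g.hc c) = g.hc c → ∀ y ∈ L, g.hc c * y * (g.hc c)⁻¹ ∈ L)
    {x : GL D.Idx F} (hx : x ∈ g.GG F) (h : glm D.Idx σ x = x) : ∃ l ∈ L, ∃ c : ℕ → Fˣ, glm D.Idx σ (g.hc c) = g.hc c ∧ x = l * g.hc c := by
  obtain ⟨b, hb, M, hM, u, hu, rfl⟩ := g.bruhat hx
  have hUσ : ∀ y ∈ g.UU F, glm D.Idx σ y ∈ g.UU F := by
    intro y hy
    obtain ⟨t, rfl⟩ := g.U_exists hy
    rw [g.glm_ordP]
    exact g.U_mem _
  have hHσ : ∀ y ∈ g.HH F, glm D.Idx σ y ∈ g.HH F := by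
    intro y hy
    obtain ⟨c, rfl⟩ := g.mem_HH.1 hy
    rw [g.glm_hc]
    exact g.mem_HH.2 ⟨_, rfl⟩
  have hbσ : glm D.Idx σ b ∈ g.BB F := by
    obtain ⟨y, hy, k, hk, rfl⟩ := g.mem_BB.1 hb
    rw [map_mul]
    exact Subgroup.mul_mem _ (g.UU_le_BB (hUσ y hy)) (g.HH_le_BB (hHσ k hk))
  have huσ : glm D.Idx σ u ∈ g.XS F (g.Sneg M) := by
    unfold XS at hu ⊢
    refine Subgroup.closure_induction ?_ ?_ ?_ ?_ hu
    · rintro _ ⟨r, t, hr, hr2, rfl⟩
      rw [g.glm_xg]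
      exact Subgroup.subset_closure ⟨r, σ t, hr, hr2, rfl⟩
    · rw [map_one]; exact Subgroup.one_mem _
    · intro x y _ _ hx hy
      rw [map_mul]; exact Subgroup.mul_mem _ hx hy
    · intro x _ hx
      rw [map_inv]; exact Subgroup.inv_mem _ hx
  rw [map_mul, map_mul, g.glm_nl] at h
  have h1 := g.bruhat_unique hM (Subgroup.one_mem _) hbσ hb huσ hu (by rw [one_mul]; exact h)
  obtain ⟨y, hy, k, hk, rfl⟩ := g.mem_BB.1 hb
  have h2 := h1.1
  rw [map_mul] at h2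
  have h3 : y⁻¹ * glm D.Idx σ y ∈ g.UU F ⊓ g.HH F := by
    refine ⟨Subgroup.mul_mem _ (Subgroup.inv_mem _ hy) (hUσ y hy), ?_⟩
    have h4 : y⁻¹ * glm D.Idx σ y = k * (glm D.Idx σ k)⁻¹ := by
      rw [inv_mul_eq_iff_eq_mul, ← mul_assoc, ← h2]; group
    rw [h4]
    exact Subgroup.mul_mem _ hk (Subgroup.inv_mem _ (hHσ k hk))
  rw [g.UU_inf_HH, Subgroup.mem_bot, inv_mul_eq_one] at h3
  have h4 : glm D.Idx σ k = k := by
    rw [← h3] at h2
    exact mul_left_cancel h2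
  obtain ⟨c, rfl⟩ := g.mem_HH.1 hk
  have huL : u ∈ L := g.U_fixL σ hL (g.XS_mono (fun s _ hs => hs.1) hu) h1.2
  have hyL : y ∈ L := g.U_fixL σ hL hy h3.symm
  have hnL : g.nl F M ∈ L := by
    unfold nl
    apply Subgroup.list_prod_mem
    intro z hz
    obtain ⟨i, hi, rfl⟩ := List.mem_map.1 hz
    have hs := g.simple_lt i (hM i hi)
    unfold nn
    exact Subgroup.mul_mem _ (Subgroup.mul_mem _ (hL _ hs _ (map_one σ)) (hL _ (g.neg_lt hs) _ (by rw [map_neg, map_one]))) (hL _ hs _ (map_one σ))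
  refine ⟨y * (g.hc c * (g.nl F M * u) * (g.hc c)⁻¹), Subgroup.mul_mem _ hyL (hLn c h4 _ (Subgroup.mul_mem _ hnL huL)), c, h4, ?_⟩
  group

theorem hc_fix_entry (σ : F →+* F) {c : ℕ → Fˣ} (h : glm D.Idx σ (g.hc c) = g.hc c) {s : ℕ} (hs : s < D.nroots) :
    σ ((g.hcf c s : Fˣ) : F) = ((g.hcf c s : Fˣ) : F) := by
  rw [g.glm_hc] at h
  have h1 := g.dgl_inj h hs
  have h2 : Units.map (σ : F →* F) (g.hcf c s) = g.hcf (fun i => Units.map (σ : F →* F) (c i)) s := by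
    unfold hcf
    rw [map_prod]
    exact Finset.prod_congr rfl fun i _ => map_zpow _ _ _
  rw [h1] at h2
  exact congrArg Units.val h2

theorem stmt_2214 (σ : F →+* F) {K L : Subgroup (GL D.Idx F)} (hKG : K ≤ g.GG F)
    (hLdef : L = Subgroup.closure {x : GL D.Idx F | ∃ (s : ℕ) (t : F), σ t = t ∧ (x : Matrix D.Idx D.Idx F) = D.x F s t})
    (hLK : L ≤ K) (hK : ∀ x ∈ K, glm D.Idx σ x = x) :
    g.GG F ⊓ Subgroup.centralizer (K : Set (GL D.Idx F)) = ⊥ ∧
    ∀ x ∈ g.GG F, x ∈ Subgroup.normalizer (K : Set (GL D.Idx F)) ↔ glm D.Idx σ x = x := by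
  have hLX : ∀ r, ∀ t : F, σ t = t → g.xg r t ∈ L := by
    intro r t ht
    rw [hLdef]
    exact Subgroup.subset_closure ⟨r, t, ht, (g.x_eq_xg r t).symm⟩
  have hC : ∀ x ∈ g.GG F, (∀ y ∈ K, y * x = x * y) → x = 1 := by
    intro x hx hc
    apply g.cent_eq_one hx
    intro r _
    exact (hc _ (hLK (hLX r 1 (map_one σ)))).symm
  refine ⟨?_, ?_⟩
  · rw [eq_bot_iff]
    rintro x ⟨hx, hxc⟩
    rw [Subgroup.mem_bot]
    exact hC x hx fun y hy => Subgroup.mem_centralizer_iff.1 hxc y hy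
  · intro x hx
    constructor
    · intro hn
      have hσx : glm D.Idx σ x ∈ g.GG F := g.glm_GG_le σ ⟨x, hx, rfl⟩
      have h1 : x⁻¹ * glm D.Idx σ x = 1 := by
        apply hC _ (Subgroup.mul_mem _ (Subgroup.inv_mem _ hx) hσx)
        intro y hy
        have h2 := hK _ ((Subgroup.mem_normalizer_iff.1 hn y).1 hy)
        rw [map_mul, map_mul, map_inv, hK y hy] at h2
        calc y * (x⁻¹ * glm D.Idx σ x) = x⁻¹ * (x * y * x⁻¹) * glm D.Idx σ x := by group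
          _ = x⁻¹ * (glm D.Idx σ x * y * (glm D.Idx σ x)⁻¹) * glm D.Idx σ x := by rw [h2]
          _ = x⁻¹ * glm D.Idx σ x * y := by group
      exact (inv_mul_eq_one.1 h1).symm
    · intro hf
      have hLn : ∀ c : ℕ → Fˣ, glm D.Idx σ (g.hc c) = g.hc c → ∀ y ∈ L, g.hc c * y * (g.hc c)⁻¹ ∈ L := by
        intro c hc y hy
        rw [hLdef] at hy
        induction hy using Subgroup.closure_induction with
        | mem y hy =>
          obtain ⟨s, t, ht, hy⟩ := hy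
          rw [(g.eq_xg_iff s t y).1 hy]
          by_cases hs : s < D.nroots
          · rw [g.hc_x c hs]
            apply hLX
            rw [map_mul, ht, g.hc_fix_entry σ hc hs]
          · have h3 : g.xg s t = 1 := by unfold xg; rw [dif_neg hs]
            rw [h3, mul_one, mul_inv_cancel]
            exact Subgroup.one_mem _
        | one => rw [mul_one, mul_inv_cancel]; exact Subgroup.one_mem _
        | mul a b _ _ ha hb =>
          have h4 : g.hc c * (a * b) * (g.hc c)⁻¹ = (g.hc c * a * (g.hc c)⁻¹) * (g.hc c * b * (g.hc c)⁻¹) := by group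
          rw [h4]; exact Subgroup.mul_mem _ ha hb
        | inv a _ ha =>
          have h4 : g.hc c * a⁻¹ * (g.hc c)⁻¹ = (g.hc c * a * (g.hc c)⁻¹)⁻¹ := by group
          rw [h4]; exact Subgroup.inv_mem _ ha
      have key : ∀ x ∈ g.GG F, glm D.Idx σ x = x → ∀ y ∈ K, x * y * x⁻¹ ∈ K := by
        intro x hx hf y hy
        obtain ⟨l, hl, c, hc, rfl⟩ := g.fix_decomp σ (fun r _ t ht => hLX r t ht) hLn hx hf
        obtain ⟨l', hl', c', hc', rfl⟩ := g.fix_decomp σ (fun r _ t ht => hLX r t ht) hLn (hKG hy) (hK y hy)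
        have h5 : g.hc c' ∈ K := by
          have := Subgroup.mul_mem _ (Subgroup.inv_mem _ (hLK hl')) hy
          rwa [inv_mul_cancel_left] at this
        have h6 : l * g.hc c * (l' * g.hc c') * (l * g.hc c)⁻¹ = l * (g.hc c * l' * (g.hc c)⁻¹) * (g.hc c * g.hc c' * (g.hc c)⁻¹) * l⁻¹ := by group
        rw [h6, g.HH_comm ⟨c, rfl⟩ ⟨c', rfl⟩]
        have h7 : g.hc c' * g.hc c * (g.hc c)⁻¹ = g.hc c' := by group
        rw [h7]
        exact Subgroup.mul_mem _ (Subgroup.mul_mem _ (Subgroup.mul_mem _ (hLK hl) (hLK (hLn c hc l' hl'))) h5) (Subgroup.inv_mem _ (hLK hl))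
      rw [Subgroup.mem_normalizer_iff]
      intro y
      constructor
      · exact key x hx hf y
      · intro hy
        have h8 := key x⁻¹ (Subgroup.inv_mem _ hx) (by rw [map_inv, hf]) _ hy
        have h9 : x⁻¹ * (x * y * x⁻¹) * x⁻¹⁻¹ = y := by group
        rwa [h9] at h8

end Good

end Chv
end CfsgH6
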