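import Cfsg.Agent.H6.ChO6
import Cfsg.Agent.H6.ChX3

set_option autoImplicit false

/-! Twisted groups: combinatorics of the Weyl group with a symmetry. -/

namespace CfsgH6
namespace Chv

open Cfsg.Lie

variable {D : ChevalleyDatum}

/-- combinatorial twist data -/
structure TwC (g : Good D) where
  ρ : ℕ → ℕ
  π : ℕ → ℕ
  m : ℕ
  J : ℕ → List ℕ
  ww : ℕ → List ℕ
  ρ_lt : ∀ r < D.nroots, ρ r < D.nroots
  ρ_pos : ∀ r < D.nroots, (g.N ≤ ρ r ↔ g.N ≤ r)
  ρ_neg : ∀ r < D.nroots, ρ (D.neg r) = D.neg (ρ r)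
  ρ_surj : ∀ r < D.nroots, ∃ s < D.nroots, ρ s = r
  ρ_w : ∀ i < D.rank, ∀ r < D.nroots, ρ (g.w i r) = g.w (π i) (ρ r)
  ρ_s : ∀ i < D.rank, ρ (D.simple i) = D.simple (π i)
  π_lt : ∀ i < D.rank, π i < D.rank
  J_lt : ∀ a < m, ∀ i ∈ J a, i < D.rank
  J_cov : ∀ i < D.rank, ∃ a < m, i ∈ J a
  J_disj : ∀ a < m, ∀ b < m, ∀ i, i ∈ J a → i ∈ J b → a = b
  J_orb : ∀ a < m, ∀ i ∈ J a, ∀ j ∈ J a, j = i ∨ j = π i ∨ j = π (π i)
  J_ne : ∀ a < m, ∃ i, i ∈ J a
  ww_J : ∀ a < m, ∀ i ∈ ww a, i ∈ J a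
  ww_neg : ∀ a < m, ∀ i ∈ J a, ∃ i' ∈ J a, g.wl (ww a) (D.simple i) = D.neg (D.simple i')
  ww_ρ : ∀ a < m, ∀ r < D.nroots, g.wl (ww a) (ρ r) = ρ (g.wl (ww a) r)
  ww_inv : ∀ a < m, ∀ r < D.nroots, g.wl (ww a) (g.wl (ww a) r) = r

namespace Good

variable (g : Good D)
include g

theorem coef_wl_K {K : ℕ → Prop} {L : List ℕ} (hL : ∀ i ∈ L, i < D.rank ∧ K i) {s : ℕ} (hs : s < D.nroots) {j : ℕ} (hj : j < D.rank)
    (hk : ¬ K j) : g.coef (g.wl L s) j = g.coef s j := by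
  induction L with
  | nil => rfl
  | cons i L ih =>
    have h1 : ∀ j ∈ L, j < D.rank ∧ K j := fun j hj => hL j (by simp [hj])
    have hi := hL i (by simp)
    have hij : i ≠ j := by rintro rfl; exact hk hi.2
    rw [wl, g.coef_w i hi.1 _ (g.wl_lt (fun j hj => (h1 j hj).1) hs) j hj, if_neg hij, ih h1, sub_zero]

theorem wl_pos_of {L : List ℕ} (hL : ∀ i ∈ L, i < D.rank) {r : ℕ} (hr : r < D.nroots) (hp : g.N ≤ r)
    (h : ∀ j < D.rank, g.coef r j = 0 ∨ g.N ≤ g.wl L (D.simple j)) : g.N ≤ g.wl L r := by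
  by_contra hc
  push Not at hc
  have hE := g.Ev_neg_of_lt (g.wl_lt hL hr) hc
  obtain ⟨m', hm'⟩ := g.wl_lin hL (fun j => 128 ^ (D.rank - 1 - j))
  have e1 : Ev D.rank (g.coef (g.wl L r)) = ∑ j ∈ Finset.range D.rank, g.coef r j * m' j := hm' r hr
  rw [e1] at hE
  apply absurd hE
  rw [not_lt]
  apply Finset.sum_nonneg
  intro j hj
  have hj' := Finset.mem_range.1 hj
  rcases h j hj' with h | h
  · rw [h, zero_mul]
  · apply mul_nonneg (g.coef_nonneg r hr hp j hj')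
    have h2 := hm' _ (g.simple_lt j hj')
    rw [g.sum_simple m' hj'] at h2
    have h3 := (g.Ev_pos (g.wl_lt hL (g.simple_lt j hj'))).1 h
    have e2 : Ev D.rank (g.coef (g.wl L (D.simple j))) = m' j := h2
    omega

theorem wl_id_of_pos {L : List ℕ} (hL : ∀ i ∈ L, i < D.rank) (h : ∀ r < D.nroots, g.N ≤ r → g.N ≤ g.wl L r) {s : ℕ} (hs : s < D.nroots) :
    g.wl L s = s := by
  have h1 := g.nl_mem_HH (F := ℚ) hL h
  exact g.wl_eq_of_nl (L' := []) hL (by simp) h1 (by rw [nl_nil, mul_one]) hs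

theorem wl_id_K {K : ℕ → Prop} {L : List ℕ} (hL : ∀ i ∈ L, i < D.rank ∧ K i)
    (h : ∀ j < D.rank, K j → g.N ≤ g.wl L (D.simple j)) {s : ℕ} (hs : s < D.nroots) : g.wl L s = s := by
  have hL' : ∀ i ∈ L, i < D.rank := fun i hi => (hL i hi).1
  apply g.wl_id_of_pos hL' _ hs
  intro r hr hp
  by_contra hc
  push Not at hc
  have hc' := hc
  apply absurd hc'
  rw [not_lt]
  apply g.wl_pos_of hL' hr hp
  intro j hj
  by_cases hK : K j
  · right; exact h j hj hK
  · left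
    have h2 := g.coef_nonpos (g.wl_lt hL' hr) hc hj
    rw [g.coef_wl_K hL hr hj hK] at h2
    have h3 := g.coef_nonneg r hr hp j hj
    omega

theorem neg_pos_iff {r : ℕ} (hr : r < D.nroots) : g.N ≤ D.neg r ↔ r < g.N := by
  rw [g.neg_eq r hr]; have := g.hN; omega

theorem neg_lt_iff {r : ℕ} (hr : r < D.nroots) : D.neg r < g.N ↔ g.N ≤ r := by
  rw [g.neg_eq r hr]; have := g.hN; omega

end Good

namespace TwC

variable {g : Good D} (T : TwC g)
include T

/-- valid words commuting with the symmetry -/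
def Cm (L : List ℕ) : Prop := (∀ i ∈ L, i < D.rank) ∧ ∀ s < D.nroots, g.wl L (T.ρ s) = T.ρ (g.wl L s)

theorem ww_lt {a : ℕ} (ha : a < T.m) : ∀ i ∈ T.ww a, i < D.rank := fun i hi => T.J_lt a ha i (T.ww_J a ha i hi)

theorem ww_Cm {a : ℕ} (ha : a < T.m) : T.Cm (T.ww a) := ⟨T.ww_lt ha, T.ww_ρ a ha⟩

theorem Cm_nil : T.Cm [] := ⟨by simp, fun _ _ => rfl⟩

theorem Cm_append {L L' : List ℕ} (h : T.Cm L) (h' : T.Cm L') : T.Cm (L ++ L') := by
  refine ⟨fun i hi => ?_, fun s hs => ?_⟩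
  · rcases List.mem_append.1 hi with hi | hi
    · exact h.1 i hi
    · exact h'.1 i hi
  · rw [g.wl_append, g.wl_append, h'.2 s hs, h.2 _ (g.wl_lt h'.1 hs)]

/-- the sign is constant on an orbit -/
theorem orb_sign {L : List ℕ} (h : T.Cm L) {a : ℕ} (ha : a < T.m) {i j : ℕ} (hi : i ∈ T.J a) (hj : j ∈ T.J a) :
    g.N ≤ g.wl L (D.simple i) ↔ g.N ≤ g.wl L (D.simple j) := by
  have key : ∀ i < D.rank, (g.N ≤ g.wl L (D.simple (T.π i)) ↔ g.N ≤ g.wl L (D.simple i)) := by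
    intro i hi
    rw [← T.ρ_s i hi, h.2 _ (g.simple_lt i hi), T.ρ_pos _ (g.wl_lt h.1 (g.simple_lt i hi))]
  have hi' := T.J_lt a ha i hi
  rcases T.J_orb a ha i hi j hj with rfl | rfl | rfl
  · exact Iff.rfl
  · exact (key i hi').symm
  · rw [key _ (T.π_lt i hi'), key i hi']

theorem ww_neg_pos {a : ℕ} (ha : a < T.m) {i : ℕ} (hi : i ∈ T.J a) : g.wl (T.ww a) (D.simple i) < g.N := by
  obtain ⟨i', hi', h⟩ := T.ww_neg a ha i hi
  rw [h]
  exact (g.neg_lt_iff (g.simple_lt _ (T.J_lt a ha i' hi'))).2 (g.N_le_simple (T.J_lt a ha i' hi'))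

/-- support of the inversions of `w_a` -/
theorem ww_supp {a : ℕ} (ha : a < T.m) {r : ℕ} (hr : r < D.nroots) (hp : g.N ≤ r) (hn : g.wl (T.ww a) r < g.N) {j : ℕ} (hj : j < D.rank)
    (hJ : j ∉ T.J a) : g.coef r j = 0 := by
  have h2 := g.coef_nonpos (g.wl_lt (T.ww_lt ha) hr) hn hj
  rw [g.coef_wl_K (K := fun i => i ∈ T.J a) (fun i hi => ⟨T.ww_lt ha i hi, T.ww_J a ha i hi⟩) hr hj hJ] at h2
  have h3 := g.coef_nonneg r hr hp j hj
  omega

theorem pos_of_J {L : List ℕ} (hL : ∀ i ∈ L, i < D.rank) {a : ℕ} (ha : a < T.m) (hp : ∀ i ∈ T.J a, g.N ≤ g.wl L (D.simple i))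
    {r : ℕ} (hr : r < D.nroots) (hp' : g.N ≤ r) (hn : g.wl (T.ww a) r < g.N) : g.N ≤ g.wl L r := by
  apply g.wl_pos_of hL hr hp'
  intro j hj
  by_cases hJ : j ∈ T.J a
  · right; exact hp j hJ
  · left; exact T.ww_supp ha hr hp' hn hj hJ

/-- the inversions of `w w_a` -/
theorem inv_ww {L : List ℕ} (hL : ∀ i ∈ L, i < D.rank) {a : ℕ} (ha : a < T.m) (hp : ∀ i ∈ T.J a, g.N ≤ g.wl L (D.simple i))
    {r : ℕ} (hr : r < D.nroots) (hr' : g.N ≤ r) :
    g.wl (L ++ T.ww a) r < g.N ↔ (g.wl (T.ww a) r < g.N ∨ (g.N ≤ g.wl (T.ww a) r ∧ g.wl L (g.wl (T.ww a) r) < g.N)) := by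
  rw [g.wl_append]
  have hwr := g.wl_lt (T.ww_lt ha) hr
  by_cases h : g.wl (T.ww a) r < g.N
  · simp only [h, true_or, iff_true]
    have h1 := T.pos_of_J hL ha hp (g.neg_lt hwr) ((g.neg_pos_iff hwr).2 h) (by
      rw [g.wl_neg (T.ww_lt ha) hwr, T.ww_inv a ha r hr]
      exact (g.neg_lt_iff hr).2 hr')
    rw [g.wl_neg hL hwr] at h1
    exact (g.neg_pos_iff (g.wl_lt hL hwr)).1 h1
  · have h' : g.N ≤ g.wl (T.ww a) r := not_lt.1 h
    simp only [h, h', true_and, false_or]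

theorem cnt_ww {L : List ℕ} (hL : ∀ i ∈ L, i < D.rank) {a : ℕ} (ha : a < T.m) (hp : ∀ i ∈ T.J a, g.N ≤ g.wl L (D.simple i)) :
    g.cnt (L ++ T.ww a) = g.cnt L + g.cnt (T.ww a) := by
  classical
  unfold Good.cnt
  have h1 : ((Finset.Ico g.N D.nroots).filter fun r => g.wl (L ++ T.ww a) r < g.N) =
      (((Finset.Ico g.N D.nroots).filter fun r => g.wl L r < g.N).image (g.wl (T.ww a))) ∪
        ((Finset.Ico g.N D.nroots).filter fun r => g.wl (T.ww a) r < g.N) := by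
    ext r
    simp only [Finset.mem_filter, Finset.mem_Ico, Finset.mem_union, Finset.mem_image]
    constructor
    · rintro ⟨⟨h2, h3⟩, h4⟩
      rcases (T.inv_ww hL ha hp h3 h2).1 h4 with h | ⟨h, h'⟩
      · right; exact ⟨⟨h2, h3⟩, h⟩
      · left; exact ⟨g.wl (T.ww a) r, ⟨⟨h, g.wl_lt (T.ww_lt ha) h3⟩, h'⟩, T.ww_inv a ha r h3⟩
    · rintro (⟨s, ⟨⟨h2, h3⟩, h4⟩, rfl⟩ | ⟨⟨h2, h3⟩, h4⟩)
      · have h5 := g.wl_lt (T.ww_lt ha) h3
        have h6 : g.N ≤ g.wl (T.ww a) s := by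
          by_contra hc
          push Not at hc
          have := T.pos_of_J hL ha hp h3 h2 hc
          omega
        refine ⟨⟨h6, h5⟩, (T.inv_ww hL ha hp h5 h6).2 (Or.inr ?_)⟩
        rw [T.ww_inv a ha s h3]
        exact ⟨h2, h4⟩
      · exact ⟨⟨h2, h3⟩, (T.inv_ww hL ha hp h3 h2).2 (Or.inl h4)⟩
  rw [h1, Finset.card_union_of_disjoint, Finset.card_image_of_injOn]
  · intro x hx y hy hxy
    simp only [Finset.coe_filter, Finset.mem_Ico, Set.mem_ofPred_eq] at hx hy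
    exact g.wl_inj (T.ww_lt ha) hx.1.2 hy.1.2 hxy
  · rw [Finset.disjoint_left]
    intro r hr hr'
    simp only [Finset.mem_filter, Finset.mem_Ico, Finset.mem_image] at hr hr'
    obtain ⟨s, ⟨⟨h2, h3⟩, h4⟩, rfl⟩ := hr
    have h5 := hr'.2
    rw [T.ww_inv a ha s h3] at h5
    omega

theorem cnt_ww_pos {a : ℕ} (ha : a < T.m) : 0 < g.cnt (T.ww a) := by
  unfold Good.cnt
  rw [Finset.card_pos]
  obtain ⟨i, hi⟩ := T.J_ne a ha
  have hi' := T.J_lt a ha i hi
  exact ⟨D.simple i, by simp only [Finset.mem_filter, Finset.mem_Ico]; exact ⟨⟨g.N_le_simple hi', g.simple_lt i hi'⟩, T.ww_neg_pos ha hi⟩⟩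

theorem cnt_congr {L L' : List ℕ} (h : ∀ s < D.nroots, g.wl L s = g.wl L' s) : g.cnt L = g.cnt L' := by
  unfold Good.cnt
  congr 1
  apply Finset.filter_congr
  intro r hr
  rw [h r (Finset.mem_Ico.1 hr).2]

/-- the word of a list of orbits -/
def tl (A : List ℕ) : List ℕ := (A.map T.ww).flatten

theorem tl_nil : T.tl [] = [] := rfl
theorem tl_cons (a : ℕ) (A : List ℕ) : T.tl (a :: A) = T.ww a ++ T.tl A := by simp [tl]
theorem tl_append (A B : List ℕ) : T.tl (A ++ B) = T.tl A ++ T.tl B := by simp [tl]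
theorem tl_single (a : ℕ) : T.tl [a] = T.ww a := by simp [tl]

theorem tl_Cm {A : List ℕ} (hA : ∀ a ∈ A, a < T.m) : T.Cm (T.tl A) := by
  induction A with
  | nil => exact T.Cm_nil
  | cons a A ih =>
    rw [tl_cons]
    exact T.Cm_append (T.ww_Cm (hA a (by simp))) (ih fun b hb => hA b (by simp [hb]))

/-- every word commuting with the symmetry is a product of the `w_a` (over a symmetric set of nodes) -/
theorem exists_tl {k : ℕ} : ∀ n, ∀ L : List ℕ, (∀ i ∈ L, i < D.rank ∧ ∃ a < T.m, a < k ∧ i ∈ T.J a) → T.Cm L → g.cnt L = n →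
    ∃ A : List ℕ, (∀ a ∈ A, a < T.m ∧ a < k) ∧ ∀ s < D.nroots, g.wl L s = g.wl (T.tl A) s := by
  intro n
  induction n using Nat.strong_induction_on with
  | _ n ih =>
    intro L hK hL hn
    by_cases hall : ∀ j < D.rank, (∃ a < T.m, a < k ∧ j ∈ T.J a) → g.N ≤ g.wl L (D.simple j)
    · exact ⟨[], by simp, fun s hs => g.wl_id_K hK hall hs⟩
    · push Not at hall
      obtain ⟨j, hj, ⟨a, ha, hak, hja⟩, hneg⟩ := hall
      have hneg' : ∀ i ∈ T.J a, g.wl L (D.simple i) < g.N := by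
        intro i hi
        by_contra hc
        push Not at hc
        have := (T.orb_sign hL ha hi hja).1 hc
        omega
      have hL' : T.Cm (L ++ T.ww a) := T.Cm_append hL (T.ww_Cm ha)
      have hpos : ∀ i ∈ T.J a, g.N ≤ g.wl (L ++ T.ww a) (D.simple i) := by
        intro i hi
        obtain ⟨i', hi', h⟩ := T.ww_neg a ha i hi
        rw [g.wl_append, h, g.wl_neg hL.1 (g.simple_lt _ (T.J_lt a ha i' hi'))]
        exact (g.neg_pos_iff (g.wl_lt hL.1 (g.simple_lt _ (T.J_lt a ha i' hi')))).2 (hneg' i' hi')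
      have h1 := T.cnt_ww hL'.1 ha hpos
      have h2 : g.cnt (L ++ T.ww a ++ T.ww a) = g.cnt L := by
        apply T.cnt_congr
        intro s hs
        rw [g.wl_append, g.wl_append, T.ww_inv a ha s hs]
      have h3 := T.cnt_ww_pos ha
      obtain ⟨A, hA, he⟩ := ih (g.cnt (L ++ T.ww a)) (by omega) (L ++ T.ww a) (by
        intro i hi
        rcases List.mem_append.1 hi with hi | hi
        · exact hK i hi
        · exact ⟨T.ww_lt ha i hi, a, ha, hak, T.ww_J a ha i hi⟩) hL' rfl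
      refine ⟨A ++ [a], ?_, ?_⟩
      · intro b hb
        rcases List.mem_append.1 hb with hb | hb
        · exact hA b hb
        · rw [List.mem_singleton.1 hb]; exact ⟨ha, hak⟩
      · intro s hs
        rw [T.tl_append, T.tl_single, g.wl_append, ← he _ (g.wl_lt (T.ww_lt ha) hs), g.wl_append, T.ww_inv a ha s hs]

theorem exists_tl' {L : List ℕ} (hL : T.Cm L) : ∃ A : List ℕ, (∀ a ∈ A, a < T.m) ∧ ∀ s < D.nroots, g.wl L s = g.wl (T.tl A) s := by
  obtain ⟨A, hA, h⟩ := T.exists_tl (k := T.m) _ L (by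
    intro i hi
    obtain ⟨a, ha, h⟩ := T.J_cov i (hL.1 i hi)
    exact ⟨hL.1 i hi, a, ha, ha, h⟩) hL rfl
  exact ⟨A, fun a ha => (hA a ha).1, h⟩

/-- induction over the commuting words, adding reflections on the right with increasing length -/
theorem cm_induction {P : List ℕ → Prop} (hcongr : ∀ L L' : List ℕ, T.Cm L → T.Cm L' → (∀ s < D.nroots, g.wl L s = g.wl L' s) → P L → P L')
    (h0 : P []) (hs : ∀ L : List ℕ, T.Cm L → ∀ a < T.m, (∀ i ∈ T.J a, g.N ≤ g.wl L (D.simple i)) → P L → P (L ++ T.ww a)) :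
    ∀ L, T.Cm L → P L := by
  have key : ∀ n, ∀ L, T.Cm L → g.cnt L = n → P L := by
    intro n
    induction n using Nat.strong_induction_on with
    | _ n ih =>
      intro L hL hn
      by_cases hall : ∀ j < D.rank, g.N ≤ g.wl L (D.simple j)
      · apply hcongr [] L T.Cm_nil hL _ h0
        intro s hs
        exact (g.wl_id_K (K := fun _ => True) (fun i hi => ⟨hL.1 i hi, trivial⟩) (fun j hj _ => hall j hj) hs).symm
      · push Not at hall
        obtain ⟨j, hj, hneg⟩ := hall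
        obtain ⟨a, ha, hja⟩ := T.J_cov j hj
        have hneg' : ∀ i ∈ T.J a, g.wl L (D.simple i) < g.N := by
          intro i hi
          by_contra hc
          push Not at hc
          have := (T.orb_sign hL ha hi hja).1 hc
          omega
        have hL' : T.Cm (L ++ T.ww a) := T.Cm_append hL (T.ww_Cm ha)
        have hpos : ∀ i ∈ T.J a, g.N ≤ g.wl (L ++ T.ww a) (D.simple i) := by
          intro i hi
          obtain ⟨i', hi', h⟩ := T.ww_neg a ha i hi
          rw [g.wl_append, h, g.wl_neg hL.1 (g.simple_lt _ (T.J_lt a ha i' hi'))]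
          exact (g.neg_pos_iff (g.wl_lt hL.1 (g.simple_lt _ (T.J_lt a ha i' hi')))).2 (hneg' i' hi')
        have h1 := T.cnt_ww hL'.1 ha hpos
        have e2 : ∀ s < D.nroots, g.wl (L ++ T.ww a ++ T.ww a) s = g.wl L s := by
          intro s hs
          rw [g.wl_append, g.wl_append, T.ww_inv a ha s hs]
        have h2 : g.cnt (L ++ T.ww a ++ T.ww a) = g.cnt L := T.cnt_congr e2
        have h3 := T.cnt_ww_pos ha
        have h4 := ih (g.cnt (L ++ T.ww a)) (by omega) _ hL' rfl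
        have h5 := hs _ hL' a ha hpos h4
        exact hcongr _ _ (T.Cm_append hL' (T.ww_Cm ha)) hL e2 h5
  intro L hL
  exact key _ L hL rfl

/-- a word in the nodes of one orbit commuting with the symmetry -/
theorem one_orbit {L : List ℕ} (hL : T.Cm L) {a : ℕ} (ha : a < T.m) (hJ : ∀ i ∈ L, i ∈ T.J a) :
    (∀ s < D.nroots, g.wl L s = s) ∨ ∀ s < D.nroots, g.wl L s = g.wl (T.ww a) s := by
  obtain ⟨i, hi⟩ := T.J_ne a ha
  by_cases h : g.N ≤ g.wl L (D.simple i)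
  · left
    intro s hs
    apply g.wl_id_K (K := fun i => i ∈ T.J a) (fun i hi => ⟨hL.1 i hi, hJ i hi⟩) _ hs
    intro j _ hj
    exact (T.orb_sign hL ha hi hj).1 h
  · right
    intro s hs
    have hL' : T.Cm (L ++ T.ww a) := T.Cm_append hL (T.ww_Cm ha)
    have h1 : g.wl (L ++ T.ww a) (g.wl (T.ww a) s) = g.wl (T.ww a) s := by
      apply g.wl_id_K (K := fun i => i ∈ T.J a) (fun i hi => ⟨hL'.1 i hi, ?_⟩) _ (g.wl_lt (T.ww_lt ha) hs)
      · intro j _ hj
        obtain ⟨j', hj', he⟩ := T.ww_neg a ha j hj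
        rw [g.wl_append, he, g.wl_neg hL.1 (g.simple_lt _ (T.J_lt a ha j' hj'))]
        apply (g.neg_pos_iff (g.wl_lt hL.1 (g.simple_lt _ (T.J_lt a ha j' hj')))).2
        by_contra hc
        push Not at hc
        exact h ((T.orb_sign hL ha hi hj').2 hc)
      · rcases List.mem_append.1 hi with hi | hi
        · exact hJ i hi
        · exact T.ww_J a ha i hi
    rw [g.wl_append, T.ww_inv a ha s hs] at h1
    exact h1

/-- the longest element commutes -/
theorem exists_w0 : ∃ L : List ℕ, T.Cm L ∧ ∀ r < D.nroots, g.N ≤ r → g.wl L r < g.N := by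
  obtain ⟨L, hL, h⟩ := g.exists_w0
  refine ⟨L, ⟨hL, ?_⟩, h⟩
  have hπ : ∀ i ∈ L.map T.π, i < D.rank := by
    intro i hi
    obtain ⟨j, hj, rfl⟩ := List.mem_map.1 hi
    exact T.π_lt j (hL j hj)
  have hmap : ∀ L : List ℕ, (∀ i ∈ L, i < D.rank) → ∀ s < D.nroots, g.wl (L.map T.π) (T.ρ s) = T.ρ (g.wl L s) := by
    intro L
    induction L with
    | nil => intro _ s _; rfl
    | cons i L ih =>
      intro hL s hs
      have h1 : ∀ j ∈ L, j < D.rank := fun j hj => hL j (by simp [hj])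
      show g.w (T.π i) (g.wl (L.map T.π) (T.ρ s)) = T.ρ (g.w i (g.wl L s))
      rw [ih h1 s hs, T.ρ_w i (hL i (by simp)) _ (g.wl_lt h1 hs)]
  have hneg : ∀ r < D.nroots, g.N ≤ r → g.wl (L.map T.π) r < g.N := by
    intro r hr hp
    obtain ⟨s, hs, rfl⟩ := T.ρ_surj r hr
    rw [hmap L hL s hs]
    have h1 := h s hs ((T.ρ_pos s hs).1 hp)
    by_contra hc
    push Not at hc
    have := (T.ρ_pos _ (g.wl_lt hL hs)).1 hc
    omega
  -- `L` and `π L` agree
  have heq : ∀ s < D.nroots, g.wl L s = g.wl (L.map T.π) s := by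
    intro s hs
    have hrev : ∀ i ∈ (L.map T.π).reverse, i < D.rank := fun i hi => hπ i (List.mem_reverse.1 hi)
    have h1 : ∀ t < D.nroots, g.wl (L ++ (L.map T.π).reverse) t = t := by
      intro t ht
      apply g.wl_id_of_pos _ _ ht
      · intro i hi
        rcases List.mem_append.1 hi with hi | hi
        · exact hL i hi
        · exact hrev i hi
      · intro r hr hp
        rw [g.wl_append]
        -- `t := (πL)⁻¹ r` is negative
        have h2 : g.wl (L.map T.π).reverse r < g.N := by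
          by_contra hc
          push Not at hc
          have h3 := hneg _ (g.wl_lt hrev hr) hc
          rw [(g.wl_reverse hπ hr).2] at h3
          omega
        have h4 := g.wl_lt hrev hr
        have h5 := h _ (g.neg_lt h4) ((g.neg_pos_iff h4).2 h2)
        rw [g.wl_neg hL h4] at h5
        exact (g.neg_lt_iff (g.wl_lt hL h4)).1 h5
    have h6 := h1 (g.wl (L.map T.π) s) (g.wl_lt hπ hs)
    rw [g.wl_append, (g.wl_reverse hπ hs).1] at h6
    exact h6
  intro s hs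
  rw [heq _ (T.ρ_lt s hs), hmap L hL s hs]

end TwC

end Chv
end CfsgH6
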