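import Cfsg.Agent.H6.ChZ4
import Cfsg.Agent.H6.Tw1

set_option autoImplicit false

/-! Centralizers of products of commuting root elements. -/

namespace CfsgH6
namespace Chv

open Cfsg.Lie

variable {D : ChevalleyDatum} (g : Good D) {F : Type*} [Field F]

namespace Good

/-- products over filtered lists -/
theorem prod_filter_ne {G : Type*} [Monoid G] {α : Type*} (f : α → G) (p : α → Bool) : ∀ L : List α, (∀ a ∈ L, p a = false → f a = 1) →
    (L.map f).prod = ((L.filter p).map f).prod
  | [], _ => rfl
  | a :: L, h => by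
    have ih := prod_filter_ne f p L (fun b hb => h b (List.mem_cons_of_mem _ hb))
    rw [List.map_cons, List.prod_cons, List.filter_cons]
    by_cases hp : p a = true
    · rw [if_pos hp, List.map_cons, List.prod_cons, ih]
    · rw [if_neg hp, h a List.mem_cons_self (by simpa using hp), one_mul, ih]

theorem comm_prod_ord {L0 : List ℕ} (hnd : L0.Nodup) (hpos : ∀ a ∈ L0, g.N ≤ a ∧ a < D.nroots) (c : ℕ → F)
    (hc : ∀ a ∈ L0, ∀ b ∈ L0, g.xg a (c a) * g.xg b (c b) = g.xg b (c b) * g.xg a (c a)) :
    (L0.map fun a => g.xg a (c a)).prod = g.ordP (fun r => if r ∈ L0 then c r else 0) (List.range' g.N g.N) := by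
  have hN := g.hN
  have hperm : L0.Perm ((List.range' g.N g.N).filter (fun r => decide (r ∈ L0))) := by
    rw [List.perm_ext_iff_of_nodup hnd ((List.Nodup.filter _ (List.nodup_range' (s := g.N) (n := g.N))))]
    intro a
    rw [List.mem_filter, List.mem_range'_1, decide_eq_true_eq]
    constructor
    · intro h
      have := hpos a h
      exact ⟨by omega, h⟩
    · exact fun h => h.2
  unfold ordP
  rw [prod_filter_ne (fun r => g.xg r (if r ∈ L0 then c r else 0)) (fun r => decide (r ∈ L0)) _ (by
    intro a _ ha
    have : a ∉ L0 := by simpa using ha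
    rw [if_neg this, g.xg_zero])]
  have h1 : (((List.range' g.N g.N).filter (fun r => decide (r ∈ L0))).map fun r => g.xg r (if r ∈ L0 then c r else 0)) =
      (((List.range' g.N g.N).filter (fun r => decide (r ∈ L0))).map fun r => g.xg r (c r)) := by
    apply List.map_congr_left
    intro a ha
    have := (List.mem_filter.1 ha).2
    rw [decide_eq_true_eq] at this
    rw [if_pos this]
  rw [h1]
  apply (hperm.map _).prod_eq'
  rw [List.pairwise_map]
  exact List.Pairwise.imp_of_mem (fun {a b} ha hb _ => hc a ha b hb) (List.pairwise_of_forall (R := fun _ _ => True) (fun _ _ => trivial))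

/-- dominance: `w v ≤ v` -/
theorem dom_le {T : List ℕ} (hT : ∀ r ∈ T, r < D.nroots) (hdom : ∀ i < D.rank, 0 ≤ (T.map fun r => D.cartan i r).sum) :
    ∀ m, ∀ L : List ℕ, g.cnt L = m → (∀ i ∈ L, i < D.rank) → ∀ j < D.rank,
      (T.map fun r => g.coef (g.wl L r) j).sum ≤ (T.map fun r => g.coef r j).sum := by
  intro m
  induction m with
  | zero =>
    intro L hm hL j hj
    have h1 : ∀ r < D.nroots, g.wl L r = r := by
      intro r hr
      apply g.wl_id_of_pos hL _ hr
      intro s hs hp
      by_contra hlt
      push Not at hlt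
      unfold cnt at hm
      rw [Finset.card_eq_zero, Finset.filter_eq_empty_iff] at hm
      exact hm (Finset.mem_Ico.2 ⟨hp, hs⟩) hlt
    apply le_of_eq
    congr 1
    apply List.map_congr_left
    intro r hr
    rw [h1 r (hT r hr)]
  | succ m ih =>
    intro L hm hL j hj
    by_cases hall : ∀ i < D.rank, g.N ≤ g.wl L (D.simple i)
    · apply le_of_eq
      congr 1
      apply List.map_congr_left
      intro r hr
      rw [g.wl_id_of_pos hL (g.wl_all_pos hL hall) (hT r hr)]
    · push Not at hall
      obtain ⟨i, hi, hlt⟩ := hall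
      have hsj := g.simple_lt i hi
      have hL2 : ∀ k ∈ L ++ [i], k < D.rank := by
        intro k hk
        rcases List.mem_append.1 hk with h | h
        · exact hL k h
        · rw [List.mem_singleton.1 h]; exact hi
      have h5 : g.N ≤ g.wl (L ++ [i]) (D.simple i) := by
        rw [g.wl_append]
        show g.N ≤ g.wl L (g.w i (D.simple i))
        rw [g.w_simple i hi, g.wl_neg hL hsj]
        exact g.N_le_neg (g.wl_lt hL hsj) hlt
      have h6 := g.cnt_append hL2 hi h5
      have h7 : g.cnt (L ++ [i] ++ [i]) = g.cnt L := by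
        unfold cnt
        congr 1
        apply Finset.filter_congr
        intro s hs
        have hs' := (Finset.mem_Ico.1 hs).2
        rw [g.wl_append, g.wl_append]
        show g.wl L (g.w i (g.w i s)) < g.N ↔ _
        rw [g.w_w i hi s hs']
      have h8 := ih (L ++ [i]) (by omega) hL2 j hj
      -- compare `wl L r` with `wl (L ++ [i]) r`
      have h9 : ∀ r ∈ T, g.coef (g.wl L r) j = g.coef (g.wl (L ++ [i]) r) j + D.cartan i r * g.coef (g.wl L (D.simple i)) j := by
        intro r hr
        have hr' := hT r hr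
        rw [g.wl_append]
        show _ = g.coef (g.wl L (g.w i r)) j + _
        obtain ⟨m', hm'⟩ := g.wl_lin hL (fun k => if k = j then 1 else 0)
        have key : ∀ s < D.nroots, g.coef (g.wl L s) j = ∑ k ∈ Finset.range D.rank, g.coef s k * m' k := by
          intro s hs
          rw [← hm' s hs]
          simp [Finset.sum_ite_eq', hj]
        rw [key r hr', key _ (g.w_lt i hi r hr'), key _ hsj, Finset.mul_sum, ← Finset.sum_add_distrib]
        apply Finset.sum_congr rfl
        intro k hk
        have hk' := Finset.mem_range.1 hk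
        rw [g.coef_w i hi r hr' k hk', g.coef_simple i hi k hk']
        split_ifs <;> ring
      have h10 : (T.map fun r => g.coef (g.wl L r) j).sum = (T.map fun r => g.coef (g.wl (L ++ [i]) r) j).sum +
          (T.map fun r => D.cartan i r).sum * g.coef (g.wl L (D.simple i)) j := by
        have : ∀ T' : List ℕ, (∀ r ∈ T', r ∈ T) → (T'.map fun r => g.coef (g.wl L r) j).sum = (T'.map fun r => g.coef (g.wl (L ++ [i]) r) j).sum +
          (T'.map fun r => D.cartan i r).sum * g.coef (g.wl L (D.simple i)) j := by
          intro T'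
          induction T' with
          | nil => intro _; simp
          | cons a T' ihT =>
            intro h
            rw [List.map_cons, List.sum_cons, ihT (fun r hr => h r (List.mem_cons_of_mem _ hr)), h9 a (h a List.mem_cons_self),
              List.map_cons, List.sum_cons, List.map_cons, List.sum_cons]
            ring
        exact this T fun _ h => h
      have h11 : g.coef (g.wl L (D.simple i)) j ≤ 0 := g.coef_nonpos (g.wl_lt hL hsj) hlt hj
      have h12 := hdom i hi
      rw [h10]
      nlinarith

/-- stabilizer of a family of roots whose positive combination is dominant -/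
theorem stab_nl' {T : List (ℕ × ℤ)} (hT : ∀ r ∈ T, r.1 < D.nroots) (hdom : ∀ i < D.rank, 0 ≤ (T.map fun r => r.2 * D.cartan i r.1).sum)
    (hz : ∀ i < D.rank, (T.map fun r => r.2 * D.cartan i r.1).sum = 0 → ∀ r ∈ T, D.cartan i r.1 = 0)
    {K : Subgroup (GL D.Idx F)} (hK : ∀ j < D.rank, (T.map fun r => r.2 * D.cartan j r.1).sum = 0 → g.nn j ∈ K) :
    ∀ m, ∀ L : List ℕ, g.cnt L = m → (∀ i ∈ L, i < D.rank) → (∀ r ∈ T, g.wl L r.1 = r.1) →
      (∃ h ∈ g.HH F, ∃ n ∈ K, g.nl F L = h * n) ∧
      ∀ s < D.nroots, g.N ≤ s → g.wl L s < g.N → ∀ i < D.rank, (T.map fun r => r.2 * D.cartan i r.1).sum ≠ 0 → cor D s i = 0 := by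
  -- the pairing with a root
  have hpair : ∀ L : List ℕ, (∀ i ∈ L, i < D.rank) → (∀ r ∈ T, g.wl L r.1 = r.1) → ∀ s < D.nroots,
      (∑ i ∈ Finset.range D.rank, cor D (g.wl L s) i * (T.map fun r => r.2 * D.cartan i r.1).sum) =
        ∑ i ∈ Finset.range D.rank, cor D s i * (T.map fun r => r.2 * D.cartan i r.1).sum := by
    intro L hL hfix s hs
    have h1 : ∀ s : ℕ, (∑ i ∈ Finset.range D.rank, cor D s i * (T.map fun r => r.2 * D.cartan i r.1).sum) =
        (T.map fun r => r.2 * g.pr s r.1).sum := by
      intro s
      have : ∀ T' : List (ℕ × ℤ), (∑ i ∈ Finset.range D.rank, cor D s i * (T'.map fun r => r.2 * D.cartan i r.1).sum) =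
        (T'.map fun r => r.2 * g.pr s r.1).sum := by
        intro T'
        induction T' with
        | nil => simp
        | cons a T' ihT =>
          rw [List.map_cons, List.sum_cons, ← ihT]
          unfold pr
          rw [Finset.mul_sum, ← Finset.sum_add_distrib]
          apply Finset.sum_congr rfl
          intro i _
          rw [List.map_cons, List.sum_cons]
          ring
      exact this T
    rw [h1, h1]
    congr 1
    apply List.map_congr_left
    intro r hr
    have h2 : g.pr (g.wl L s) (g.wl L r.1) = g.pr s r.1 := by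
      have : ∀ L : List ℕ, (∀ i ∈ L, i < D.rank) → g.pr (g.wl L s) (g.wl L r.1) = g.pr s r.1 := by
        intro L
        induction L with
        | nil => intro _; rfl
        | cons i L ihL =>
          intro hL
          have hL' : ∀ i ∈ L, i < D.rank := fun x hx => hL x (List.mem_cons_of_mem _ hx)
          show g.pr (g.w i (g.wl L s)) (g.w i (g.wl L r.1)) = _
          rw [g.pr_w (hL i List.mem_cons_self) (g.wl_lt hL' hs) (g.wl_lt hL' (hT r hr)), ihL hL']
      exact this L hL
    rw [hfix r hr] at h2
    rw [h2]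
  have hneg : ∀ L : List ℕ, (∀ i ∈ L, i < D.rank) → (∀ r ∈ T, g.wl L r.1 = r.1) → ∀ s < D.nroots, g.N ≤ s → g.wl L s < g.N →
      ∀ i < D.rank, (T.map fun r => r.2 * D.cartan i r.1).sum ≠ 0 → cor D s i = 0 := by
    intro L hL hfix s hs hp hlt i hi hne
    have h1 := hpair L hL hfix s hs
    have h2 : (∑ i ∈ Finset.range D.rank, cor D (g.wl L s) i * (T.map fun r => r.2 * D.cartan i r.1).sum) ≤ 0 := by
      apply Finset.sum_nonpos
      intro k hk
      have hk' := Finset.mem_range.1 hk
      have h3 := g.cor_nonneg (D.neg (g.wl L s)) (g.neg_lt (g.wl_lt hL hs)) (g.N_le_neg (g.wl_lt hL hs) hlt) k hk'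
      rw [g.cor_neg _ (g.wl_lt hL hs) k hk'] at h3
      exact mul_nonpos_of_nonpos_of_nonneg (by linarith) (hdom k hk')
    rw [h1] at h2
    have h4 : ∀ k ∈ Finset.range D.rank, 0 ≤ cor D s k * (T.map fun r => r.2 * D.cartan k r.1).sum :=
      fun k hk => mul_nonneg (g.cor_nonneg s hs hp k (Finset.mem_range.1 hk)) (hdom k (Finset.mem_range.1 hk))
    have h5 := (Finset.sum_eq_zero_iff_of_nonneg h4).1 (le_antisymm h2 (Finset.sum_nonneg h4)) i (Finset.mem_range.2 hi)
    exact (mul_eq_zero.1 h5).resolve_right hne
  intro m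
  induction m with
  | zero =>
    intro L hm hL hfix
    refine ⟨⟨g.nl F L, g.nl_mem_HH hL ?_, 1, Subgroup.one_mem _, (mul_one _).symm⟩, hneg L hL hfix⟩
    intro s hs hp
    by_contra hlt
    push Not at hlt
    unfold cnt at hm
    rw [Finset.card_eq_zero, Finset.filter_eq_empty_iff] at hm
    exact hm (Finset.mem_Ico.2 ⟨hp, hs⟩) hlt
  | succ m ih =>
    intro L hm hL hfix
    refine ⟨?_, hneg L hL hfix⟩
    by_cases hall : ∀ i < D.rank, g.N ≤ g.wl L (D.simple i)
    · exact ⟨g.nl F L, g.nl_mem_HH hL (g.wl_all_pos hL hall), 1, Subgroup.one_mem _, (mul_one _).symm⟩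
    · push Not at hall
      obtain ⟨j, hj, hlt⟩ := hall
      have hsj := g.simple_lt j hj
      have hj0 : (T.map fun r => r.2 * D.cartan j r.1).sum = 0 := by
        by_contra hne
        have h1 := hneg L hL hfix (D.simple j) hsj (g.simple_ge j hj) hlt j hj hne
        rw [g.cor_simple j hj j hj, if_pos rfl] at h1
        exact one_ne_zero h1
      have hwr : ∀ r ∈ T, g.w j r.1 = r.1 := by
        intro r hr
        apply g.coef_inj (g.w_lt j hj r.1 (hT r hr)) (hT r hr)
        intro i hi
        rw [g.coef_w j hj r.1 (hT r hr) i hi, hz j hj hj0 r hr]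
        split_ifs <;> ring
      have hL2 : ∀ i ∈ L ++ [j], i < D.rank := by
        intro i hi
        rcases List.mem_append.1 hi with h | h
        · exact hL i h
        · rw [List.mem_singleton.1 h]; exact hj
      have h5 : g.N ≤ g.wl (L ++ [j]) (D.simple j) := by
        rw [g.wl_append]
        show g.N ≤ g.wl L (g.w j (D.simple j))
        rw [g.w_simple j hj, g.wl_neg hL hsj]
        exact g.N_le_neg (g.wl_lt hL hsj) hlt
      have h6 := g.cnt_append hL2 hj h5
      have h7 : g.cnt (L ++ [j] ++ [j]) = g.cnt L := by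
        unfold cnt
        congr 1
        apply Finset.filter_congr
        intro s hs
        have hs' := (Finset.mem_Ico.1 hs).2
        rw [g.wl_append, g.wl_append]
        show g.wl L (g.w j (g.w j s)) < g.N ↔ _
        rw [g.w_w j hj s hs']
      obtain ⟨⟨h, hh, n, hn, he⟩, _⟩ := ih (L ++ [j]) (by omega) hL2 (by
        intro r hr
        rw [g.wl_append]
        show g.wl L (g.w j r.1) = r.1
        rw [hwr r hr, hfix r hr])
      refine ⟨h, hh, n * (g.nn j)⁻¹, Subgroup.mul_mem _ hn (Subgroup.inv_mem _ (hK j hj hj0)), ?_⟩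
      rw [g.nl_append, g.nl_cons, g.nl_nil, mul_one] at he
      rw [← mul_assoc, ← he]
      group

end Good

end Chv
end CfsgH6
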