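import Cfsg.Agent.H6.ChZ5

set_option autoImplicit false

/-! Centralizers of products of commuting root elements: the main argument. -/

namespace CfsgH6
namespace Chv

open Cfsg.Lie

namespace Good

variable {D : ChevalleyDatum} (g : Good D) {F : Type*} [Field F]

theorem comm_nil'' {r s : ℕ} (hr : r < D.nroots) (hs : s < D.nroots) (h1 : s ≠ r) (h2 : s ≠ D.neg r)
    (h : D.commTerms r s = []) (t u : F) : g.xg s u * g.xg r t = g.xg r t * g.xg s u := by
  rw [g.xg_comm hr hs h1 h2, h, List.map_nil, List.prod_nil, mul_one]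

theorem exists_ord_of {S : ℕ → Prop} (hS : g.ClS S) {x : GL D.Idx F} (hx : x ∈ g.XS F S) :
    ∃ t : ℕ → F, (∀ r, ¬ S r → t r = 0) ∧ x = g.ordP t (List.range' g.N g.N) := ClS.exists g hS hx

theorem Spos_closed {L : List ℕ} (hL : ∀ i ∈ L, i < D.rank) : g.ClS (fun r => g.N ≤ r ∧ g.N ≤ g.wl L r) := by
  intro r hr h
  refine ⟨h.1, fun s hs h' c hc => ?_⟩
  obtain ⟨hc1, h2, h3, h4⟩ := g.commTerms_mem hr hs hc
  have hgt := g.comm_term_gt hr hs h.1 h'.1 hc
  refine ⟨by omega, ?_⟩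
  have h5 : 0 < Ev D.rank (g.coef (g.wl L c.1)) := by
    have h6 : ∀ j < D.rank, g.coef (g.wl L c.1) j = (c.2.2.1 : ℤ) * g.coef (g.wl L r) j + (c.2.2.2 : ℤ) * g.coef (g.wl L s) j := by
      intro j hj
      obtain ⟨m', hm'⟩ := g.wl_lin hL (fun k => if k = j then 1 else 0)
      have key : ∀ s < D.nroots, g.coef (g.wl L s) j = ∑ k ∈ Finset.range D.rank, g.coef s k * m' k := by
        intro s hs
        rw [← hm' s hs]
        simp [Finset.sum_ite_eq', hj]
      rw [key _ hc1, key r hr, key s hs, Finset.mul_sum, Finset.mul_sum, ← Finset.sum_add_distrib]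
      apply Finset.sum_congr rfl
      intro k hk
      rw [h4 k (Finset.mem_range.1 hk)]
      ring
    rw [g.Ev_lin _ _ h6]
    have h7 := (g.Ev_pos (g.wl_lt hL hr)).1 h.2
    have h8 := (g.Ev_pos (g.wl_lt hL hs)).1 h'.2
    have h9 : (1 : ℤ) ≤ (c.2.2.1 : ℤ) := by exact_mod_cast h2
    have h10 : (1 : ℤ) ≤ (c.2.2.2 : ℤ) := by exact_mod_cast h3
    nlinarith
  exact (g.Ev_pos (g.wl_lt hL hc1)).2 h5

end Good

/-- combinatorial conditions on the pair `T`, `A0` -/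
structure MixC {D : ChevalleyDatum} (g : Good D) (T : List (ℕ × ℤ)) (A0 : List ℕ) (lg : ℕ → Bool) : Prop where
  nd : (T.map Prod.fst ++ A0).Nodup
  pos : ∀ a ∈ T.map Prod.fst ++ A0, g.N ≤ a ∧ a < D.nroots
  comm : ∀ a ∈ T.map Prod.fst ++ A0, ∀ b ∈ T.map Prod.fst ++ A0, D.commTerms a b = []
  ideal : ∀ a ∈ T.map Prod.fst ++ A0, ∀ s, g.N ≤ s → s < g.N + g.N → ∀ c ∈ D.commTerms s a, c.1 ∈ A0 ∨ c.2.1 % 2 = 0
  lgw : ∀ i < D.rank, ∀ s < D.nroots, lg (g.w i s) = lg s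
  up : ∀ r ∈ T.map Prod.fst, ∀ a ∈ T.map Prod.fst ++ A0, lg a = lg r → ∀ j < D.rank, g.coef r j ≤ g.coef a j
  dom : ∀ i < D.rank, 0 ≤ ((T.map Prod.fst).map fun r => D.cartan i r).sum
  dom2 : ∀ i < D.rank, 0 ≤ (T.map fun r => r.2 * D.cartan i r.1).sum
  zero : ∀ i < D.rank, (T.map fun r => r.2 * D.cartan i r.1).sum = 0 → ∀ r ∈ T, D.cartan i r.1 = 0

variable {D : ChevalleyDatum} {g : Good D} {F : Type*} [Field F] {T : List (ℕ × ℤ)} {A0 : List ℕ} {lg : ℕ → Bool}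

namespace MixC

variable (M : MixC g T A0 lg)

include M

theorem conj_gen [CharP F 2] {a s : ℕ} (ha : a ∈ T.map Prod.fst ++ A0) (hs : g.N ≤ s) (hs' : s < D.nroots) (t u : F) :
    ∃ e ∈ g.XS F (fun r => r ∈ A0), (g.xg s u)⁻¹ * g.xg a t * g.xg s u = g.xg a t * e := by
  have ha' := M.pos a ha
  by_cases h1 : a = s
  · subst h1
    refine ⟨1, Subgroup.one_mem _, ?_⟩
    rw [mul_assoc, g.xg_add hs', g.xg_inv hs', g.xg_add hs', mul_one]
    congr 1; ring
  · have h2 : a ≠ D.neg s := by have := g.neg_lt_N hs' hs; omega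
    refine ⟨((D.commTerms s a).map fun c => g.xg c.1 (((c.2.1 : ℤ) : F) * (-u) ^ c.2.2.1 * t ^ c.2.2.2)).prod, ?_, by
      rw [mul_assoc, g.xg_comm hs' ha'.2 h1 h2 u t]; simp only [mul_assoc, inv_mul_cancel_left]⟩
    apply Subgroup.list_prod_mem
    intro z hz
    obtain ⟨c, hc, rfl⟩ := List.mem_map.1 hz
    rcases M.ideal a ha s hs (by have := g.hN; omega) c hc with h | h
    · exact g.xg_mem (S := fun r => r ∈ A0) h _
    · have h4 : ((c.2.1 : ℤ) : F) = 0 := by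
        rw [CharP.intCast_eq_zero_iff F 2]
        omega
      rw [h4, zero_mul, zero_mul, g.xg_zero]
      exact Subgroup.one_mem _

theorem norm_gen [CharP F 2] {s : ℕ} (hs : g.N ≤ s) (hs' : s < D.nroots) (u : F) {e : GL D.Idx F} (he : e ∈ g.XS F (fun r => r ∈ A0)) :
    (g.xg s u)⁻¹ * e * g.xg s u ∈ g.XS F (fun r => r ∈ A0) := by
  unfold Good.XS at he
  induction he using Subgroup.closure_induction with
  | mem e he =>
    obtain ⟨a, t, ha, ha', rfl⟩ := he
    obtain ⟨e, he, h⟩ := M.conj_gen (F := F) (List.mem_append_right _ ha) hs hs' t u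
    rw [h]
    exact Subgroup.mul_mem _ (g.xg_mem (S := fun r => r ∈ A0) ha _) he
  | one => rw [mul_one, inv_mul_cancel]; exact Subgroup.one_mem _
  | mul a b _ _ ha hb =>
    have h4 : (g.xg s u)⁻¹ * (a * b) * g.xg s u = ((g.xg s u)⁻¹ * a * g.xg s u) * ((g.xg s u)⁻¹ * b * g.xg s u) := by group
    rw [h4]; exact Subgroup.mul_mem _ ha hb
  | inv a _ ha =>
    have h4 : (g.xg s u)⁻¹ * a⁻¹ * g.xg s u = ((g.xg s u)⁻¹ * a * g.xg s u)⁻¹ := by group
    rw [h4]; exact Subgroup.inv_mem _ ha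

theorem norm_UU [CharP F 2] {z : GL D.Idx F} (hz : z ∈ g.UU F) : (∀ e ∈ g.XS F (fun r => r ∈ A0), z * e * z⁻¹ ∈ g.XS F (fun r => r ∈ A0)) ∧
    (∀ e ∈ g.XS F (fun r => r ∈ A0), z⁻¹ * e * z ∈ g.XS F (fun r => r ∈ A0)) := by
  unfold Good.UU Good.XS at hz
  induction hz using Subgroup.closure_induction with
  | mem z hz =>
    obtain ⟨s, u, hs, hs', rfl⟩ := hz
    refine ⟨fun e he => ?_, fun e he => M.norm_gen hs hs' u he⟩
    have h := M.norm_gen hs hs' (-u) he
    rw [← g.xg_inv hs', _root_.inv_inv] at h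
    exact h
  | one => exact ⟨fun e he => by simpa using he, fun e he => by simpa using he⟩
  | mul a b _ _ ha hb =>
    constructor
    · intro e he
      have h4 : a * b * e * (a * b)⁻¹ = a * (b * e * b⁻¹) * a⁻¹ := by group
      rw [h4]; exact ha.1 _ (hb.1 _ he)
    · intro e he
      have h4 : (a * b)⁻¹ * e * (a * b) = b⁻¹ * (a⁻¹ * e * a) * b := by group
      rw [h4]; exact hb.2 _ (ha.2 _ he)
  | inv a _ ha =>
    refine ⟨fun e he => ?_, fun e he => ?_⟩
    · rw [_root_.inv_inv]; exact ha.2 e he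
    · rw [_root_.inv_inv]; exact ha.1 e he

omit M in
/-- the product of the root elements listed in `T` -/
noncomputable def _root_.CfsgH6.Chv.tel (g : Good D) (T : List ℕ) (τ : ℕ → F) : GL D.Idx F := (T.map fun a => g.xg a (τ a)).prod

theorem tel_UU {T' : List ℕ} (hT' : ∀ a ∈ T', a ∈ T.map Prod.fst ++ A0) (τ : ℕ → F) : tel g T' τ ∈ g.UU F := by
  unfold tel
  apply Subgroup.list_prod_mem
  intro z hz
  obtain ⟨a, ha, rfl⟩ := List.mem_map.1 hz
  exact g.xg_mem_UU (M.pos a (hT' a ha)).1 _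

theorem conj_tel_gen [CharP F 2] {s : ℕ} (hs : g.N ≤ s) (hs' : s < D.nroots) (u : F) (τ : ℕ → F) (T' : List ℕ)
    (hT' : ∀ a ∈ T', a ∈ T.map Prod.fst ++ A0) :
    ∃ e ∈ g.XS F (fun r => r ∈ A0), (g.xg s u)⁻¹ * tel g T' τ * g.xg s u = tel g T' τ * e := by
  induction T' with
  | nil => exact ⟨1, Subgroup.one_mem _, by simp [tel]⟩
  | cons a T' ih =>
    obtain ⟨e, he, h1⟩ := ih (fun b hb => hT' b (List.mem_cons_of_mem _ hb))
    obtain ⟨e', he', h2⟩ := M.conj_gen (F := F) (hT' a List.mem_cons_self) hs hs' (τ a) u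
    have hU := M.tel_UU (F := F) (T' := T') (fun b hb => hT' b (List.mem_cons_of_mem _ hb)) τ
    refine ⟨(tel g T' τ)⁻¹ * e' * tel g T' τ * e, Subgroup.mul_mem _ ((M.norm_UU hU).2 _ he') he, ?_⟩
    have h3 : tel g (a :: T') τ = g.xg a (τ a) * tel g T' τ := by unfold tel; rw [List.map_cons, List.prod_cons]
    rw [h3]
    calc (g.xg s u)⁻¹ * (g.xg a (τ a) * tel g T' τ) * g.xg s u
        = ((g.xg s u)⁻¹ * g.xg a (τ a) * g.xg s u) * ((g.xg s u)⁻¹ * tel g T' τ * g.xg s u) := by group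
      _ = _ := by rw [h1, h2]; group

theorem conj_tel [CharP F 2] (τ : ℕ → F) {T' : List ℕ} (hT' : ∀ a ∈ T', a ∈ T.map Prod.fst ++ A0) {z : GL D.Idx F} (hz : z ∈ g.UU F) :
    (∃ e ∈ g.XS F (fun r => r ∈ A0), z * tel g T' τ * z⁻¹ = tel g T' τ * e) ∧ (∃ e ∈ g.XS F (fun r => r ∈ A0), z⁻¹ * tel g T' τ * z = tel g T' τ * e) := by
  have key : ∀ z ∈ g.UU F, (∃ e ∈ g.XS F (fun r => r ∈ A0), z * tel g T' τ * z⁻¹ = tel g T' τ * e) →
      (∃ e ∈ g.XS F (fun r => r ∈ A0), z⁻¹ * tel g T' τ * z = tel g T' τ * e) := by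
    rintro z hz ⟨e, he, h⟩
    refine ⟨z⁻¹ * e⁻¹ * z, (M.norm_UU hz).2 _ (Subgroup.inv_mem _ he), ?_⟩
    have h1 : tel g T' τ = z⁻¹ * (tel g T' τ * e) * z := by rw [← h]; group
    conv_rhs => rw [h1]
    group
  unfold Good.UU Good.XS at hz
  induction hz using Subgroup.closure_induction with
  | mem z hz =>
    obtain ⟨s, u, hs, hs', rfl⟩ := hz
    refine ⟨?_, M.conj_tel_gen hs hs' u τ T' hT'⟩
    obtain ⟨e, he, h⟩ := M.conj_tel_gen hs hs' (-u) τ T' hT'
    refine ⟨e, he, ?_⟩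
    rw [← h, ← g.xg_inv hs', _root_.inv_inv]
  | one => exact ⟨⟨1, Subgroup.one_mem _, by simp⟩, ⟨1, Subgroup.one_mem _, by simp⟩⟩
  | mul a b ha' hb' ha hb =>
    have haU : a ∈ g.UU F := ha'
    have hbU : b ∈ g.UU F := hb'
    have h1 : ∃ e ∈ g.XS F (fun r => r ∈ A0), a * b * tel g T' τ * (a * b)⁻¹ = tel g T' τ * e := by
      obtain ⟨e1, he1, h1⟩ := ha.1
      obtain ⟨e2, he2, h2⟩ := hb.1
      refine ⟨e1 * (a * e2 * a⁻¹), Subgroup.mul_mem _ he1 ((M.norm_UU haU).1 _ he2), ?_⟩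
      calc a * b * tel g T' τ * (a * b)⁻¹ = a * (b * tel g T' τ * b⁻¹) * a⁻¹ := by group
        _ = (a * tel g T' τ * a⁻¹) * (a * e2 * a⁻¹) := by rw [h2]; group
        _ = _ := by rw [h1]; group
    exact ⟨h1, key _ (Subgroup.mul_mem _ haU hbU) h1⟩
  | inv a ha' ha =>
    refine ⟨?_, ?_⟩
    · rw [_root_.inv_inv]; exact ha.2
    · rw [_root_.inv_inv]; exact ha.1

theorem pair_comm {a b : ℕ} (ha : a ∈ T.map Prod.fst ++ A0) (hb : b ∈ T.map Prod.fst ++ A0) (t u : F) :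
    g.xg a t * g.xg b u = g.xg b u * g.xg a t := by
  have ha' := M.pos a ha
  have hb' := M.pos b hb
  by_cases h : a = b
  · subst h
    rw [g.xg_add ha'.2, g.xg_add ha'.2, add_comm]
  · exact g.comm_nil'' hb'.2 ha'.2 h (by have := g.neg_lt_N hb'.2 hb'.1; omega) (M.comm b hb a ha) u t

theorem clA : g.ClS (fun r => r ∈ T.map Prod.fst ++ A0) := by
  intro r hr h
  refine ⟨(M.pos r h).1, fun s hs h' c hc => ?_⟩
  rw [M.comm r h s h'] at hc
  simp at hc

theorem clA0 : g.ClS (fun r => r ∈ A0) := by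
  intro r hr h
  refine ⟨(M.pos r (List.mem_append_right _ h)).1, fun s hs h' c hc => ?_⟩
  rw [M.comm r (List.mem_append_right _ h) s (List.mem_append_right _ h')] at hc
  simp at hc

theorem tel_ord (c : ℕ → F) : tel g (T.map Prod.fst ++ A0) c =
    g.ordP (fun r => if r ∈ T.map Prod.fst ++ A0 then c r else 0) (List.range' g.N g.N) :=
  g.comm_prod_ord M.nd M.pos c (fun a ha b hb => M.pair_comm ha hb _ _)

theorem tel_inj {c c' : ℕ → F} (h : tel g (T.map Prod.fst ++ A0) c = tel g (T.map Prod.fst ++ A0) c') {a : ℕ}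
    (ha : a ∈ T.map Prod.fst ++ A0) : c a = c' a := by
  rw [M.tel_ord, M.tel_ord] at h
  have h1 := g.U_inj h (M.pos a ha).1 (M.pos a ha).2
  rw [if_pos ha, if_pos ha] at h1
  exact h1

theorem exists_tel {τ : ℕ → F} {e : GL D.Idx F} (he : e ∈ g.XS F (fun r => r ∈ A0)) :
    ∃ c : ℕ → F, (∀ a ∈ T.map Prod.fst, c a = τ a) ∧ tel g (T.map Prod.fst) τ * e = tel g (T.map Prod.fst ++ A0) c := by
  obtain ⟨c, hc, rfl⟩ := g.exists_ord_of M.clA0 he
  have hnd := List.nodup_append.1 M.nd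
  refine ⟨fun r => if r ∈ T.map Prod.fst then τ r else c r, fun a ha => if_pos ha, ?_⟩
  have h1 : tel g A0 c = g.ordP c (List.range' g.N g.N) := by
    have h2 := g.comm_prod_ord (L0 := A0) hnd.2.1 (fun a ha => M.pos a (List.mem_append_right _ ha)) c
      (fun a ha b hb => M.pair_comm (List.mem_append_right _ ha) (List.mem_append_right _ hb) _ _)
    unfold tel
    rw [h2]
    apply g.ordP_congr
    intro r _
    by_cases hr : r ∈ A0
    · rw [if_pos hr]
    · rw [if_neg hr, hc r hr]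
  rw [← h1]
  unfold tel
  rw [List.map_append, List.prod_append]
  congr 1
  · congr 1
    apply List.map_congr_left
    intro a ha
    beta_reduce
    rw [if_pos ha]
  · congr 1
    apply List.map_congr_left
    intro a ha
    beta_reduce
    rw [if_neg]
    intro ha'
    exact hnd.2.2 a ha' a ha rfl

theorem mix_cent [CharP F 2] {K : Subgroup (GL D.Idx F)}
    (hK1 : ∀ j < D.rank, (T.map fun r => r.2 * D.cartan j r.1).sum = 0 → g.nn j ∈ K)
    (hK2 : ∀ r, g.N ≤ r → r < D.nroots → (∀ i < D.rank, (T.map fun r => r.2 * D.cartan i r.1).sum ≠ 0 → cor D r i = 0) → ∀ u, g.xg r u ∈ K)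
    (hK3 : ∀ z ∈ K, z * tel g (T.map Prod.fst) (fun _ => 1) = tel g (T.map Prod.fst) (fun _ => 1) * z)
    (hH : ∀ c : ℕ → Fˣ, (∀ r ∈ T.map Prod.fst, g.hcf c r = 1) → g.hc c ∈ K)
    (hU : ∀ y ∈ g.UU F, y * tel g (T.map Prod.fst) (fun _ => 1) = tel g (T.map Prod.fst) (fun _ => 1) * y → y ∈ K)
    {x : GL D.Idx F} (hx : x ∈ g.GG F) (hxc : x * tel g (T.map Prod.fst) (fun _ => 1) = tel g (T.map Prod.fst) (fun _ => 1) * x) :
    x ∈ K := by
  classical
  have hTA : ∀ a ∈ T.map Prod.fst, a ∈ T.map Prod.fst ++ A0 := fun a ha => List.mem_append_left _ ha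
  obtain ⟨t, ht⟩ : ∃ t : GL D.Idx F, t = tel g (T.map Prod.fst) (fun _ => 1) := ⟨_, rfl⟩
  rw [← ht] at hxc hK3
  obtain ⟨b, hb, L, hL, u, hu, rfl⟩ := g.bruhat hx
  obtain ⟨y, hy, h0, hh0, rfl⟩ := g.mem_BB.1 hb
  have huU : u ∈ g.UU F := g.XS_mono (fun s _ hs => hs.1) hu
  obtain ⟨d0, hd0⟩ := hh0
  -- the torus acts on `tel`
  have htor : ∀ (d : ℕ → Fˣ) (T' : List ℕ), (∀ a ∈ T', a < D.nroots) → ∀ τ : ℕ → F,
      g.hc d * tel g T' τ * (g.hc d)⁻¹ = tel g T' (fun a => (g.hcf d a : F) * τ a) := by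
    intro d T' hT' τ
    induction T' with
    | nil => simp [tel]
    | cons a T' ih =>
      have h3 : ∀ τ : ℕ → F, tel g (a :: T') τ = g.xg a (τ a) * tel g T' τ := by
        intro τ; unfold tel; rw [List.map_cons, List.prod_cons]
      rw [h3, h3, ← ih (fun b hb => hT' b (List.mem_cons_of_mem _ hb)), ← g.hc_x d (hT' a List.mem_cons_self)]
      group
  -- the two conjugates of `t`
  obtain ⟨e1, he1, h1⟩ := (M.conj_tel (F := F) (fun _ => 1) hTA huU).1
  rw [← ht] at h1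
  obtain ⟨e2, he2, h2⟩ := (M.conj_tel (F := F) (fun _ => 1) hTA hy).2
  rw [← ht] at h2
  obtain ⟨c1, hc1, hc1'⟩ := M.exists_tel (τ := fun _ => (1 : F)) he1
  rw [← ht] at hc1'
  have ht2 : (y * h0)⁻¹ * t * (y * h0) ∈ g.XS F (fun r => r ∈ T.map Prod.fst ++ A0) := by
    have h3 : (y * h0)⁻¹ * t * (y * h0) = (h0⁻¹ * t * h0) * (h0⁻¹ * e2 * h0) := by
      calc (y * h0)⁻¹ * t * (y * h0) = h0⁻¹ * (y⁻¹ * t * y) * h0 := by group
        _ = _ := by rw [h2]; group
    rw [h3]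
    refine Subgroup.mul_mem _ ?_ (g.XS_mono (fun r _ hr => List.mem_append_right _ hr) (g.HH_conj_XS' ⟨d0, hd0⟩ _ he2))
    apply g.HH_conj_XS' ⟨d0, hd0⟩
    rw [ht]
    unfold tel
    apply Subgroup.list_prod_mem
    intro z hz
    obtain ⟨a, ha, rfl⟩ := List.mem_map.1 hz
    exact g.xg_mem (S := fun r => r ∈ T.map Prod.fst ++ A0) (hTA a ha) _
  have hn : g.nl F L * (u * t * u⁻¹) = ((y * h0)⁻¹ * t * (y * h0)) * g.nl F L := by
    calc g.nl F L * (u * t * u⁻¹) = (y * h0)⁻¹ * (y * h0 * g.nl F L * u * t) * u⁻¹ := by group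
      _ = _ := by rw [hxc]; group
  have htU : t ∈ g.UU F := by rw [ht]; exact M.tel_UU hTA _
  have ht1 : u * t * u⁻¹ ∈ g.XS F (fun r => g.N ≤ r ∧ g.N ≤ g.wl L r) :=
    g.move_U hL (Subgroup.mul_mem _ (Subgroup.mul_mem _ huU htU) (Subgroup.inv_mem _ huU))
      (g.UU_le_BB (g.XS_mono (fun r _ hr => (M.pos r hr).1) ht2)) hn
  have hcl : g.ClS (fun r => g.N ≤ r ∧ g.N ≤ g.wl L r) := g.Spos_closed hL
  -- support
  have hsupp : ∀ a ∈ T.map Prod.fst ++ A0, c1 a ≠ 0 → g.N ≤ g.wl L a := by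
    intro a ha hne
    obtain ⟨c', hc', he⟩ := g.exists_ord_of hcl ht1
    rw [h1, hc1', M.tel_ord] at he
    have h4 := g.U_inj he (M.pos a ha).1 (M.pos a ha).2
    rw [if_pos ha] at h4
    by_contra hlt
    exact hne (h4.trans (hc' a (fun h => hlt h.2)))
  have hwA : ∀ a ∈ T.map Prod.fst ++ A0, c1 a ≠ 0 → g.wl L a ∈ T.map Prod.fst ++ A0 := by
    intro a ha hne
    obtain ⟨S', hS'⟩ : ∃ S' : List ℕ, S' = (T.map Prod.fst ++ A0).filter (fun a => decide (c1 a ≠ 0)) := ⟨_, rfl⟩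
    have hS'mem : ∀ a, a ∈ S' ↔ a ∈ T.map Prod.fst ++ A0 ∧ c1 a ≠ 0 := by
      intro a; rw [hS', List.mem_filter, decide_eq_true_eq]
    have h4 : u * t * u⁻¹ = (S'.map fun a => g.xg a (c1 a)).prod := by
      rw [h1, hc1', hS']
      unfold tel
      apply Good.prod_filter_ne
      intro a _ h
      have : c1 a = 0 := by simpa using h
      rw [this, g.xg_zero]
    obtain ⟨c'', hc''⟩ : ∃ c'' : ℕ → F, c'' = fun r => ((g.el L (g.wl L.reverse r) : ℤ) : F) * c1 (g.wl L.reverse r) := ⟨_, rfl⟩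
    have hrev : ∀ a ∈ S', g.wl L.reverse (g.wl L a) = a := fun a ha => (g.wl_reverse hL (M.pos a ((hS'mem a).1 ha).1).2).1
    have h5 : g.nl F L * (S'.map fun a => g.xg a (c1 a)).prod * (g.nl F L)⁻¹ = ((S'.map (g.wl L)).map fun r => g.xg r (c'' r)).prod := by
      have : ∀ S'' : List ℕ, (∀ a ∈ S'', a ∈ S') → g.nl F L * (S''.map fun a => g.xg a (c1 a)).prod * (g.nl F L)⁻¹ = ((S''.map (g.wl L)).map fun r => g.xg r (c'' r)).prod := by
        intro S''
        induction S'' with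
        | nil => intro _; simp
        | cons a S'' ih =>
          intro h
          rw [List.map_cons, List.prod_cons, List.map_cons, List.map_cons, List.prod_cons, ← ih (fun b hb => h b (List.mem_cons_of_mem _ hb))]
          have ha := h a List.mem_cons_self
          have h6 : g.xg (g.wl L a) (c'' (g.wl L a)) = g.nl F L * g.xg a (c1 a) * (g.nl F L)⁻¹ := by
            rw [g.nl_x hL (M.pos a ((hS'mem a).1 ha).1).2, hc'']
            beta_reduce
            rw [hrev a ha]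
          rw [h6]
          group
      exact this S' fun _ h => h
    have h6 : (y * h0)⁻¹ * t * (y * h0) = ((S'.map (g.wl L)).map fun r => g.xg r (c'' r)).prod := by
      rw [← h5, ← h4, hn]; group
    have hnd' : (S'.map (g.wl L)).Nodup := by
      rw [List.nodup_map_iff_inj_on]
      · intro a ha b hb hab
        exact g.wl_inj hL (M.pos a ((hS'mem a).1 ha).1).2 (M.pos b ((hS'mem b).1 hb).1).2 hab
      · rw [hS']; exact M.nd.filter _
    have hpos' : ∀ r ∈ S'.map (g.wl L), g.N ≤ r ∧ r < D.nroots := by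
      intro r hr
      obtain ⟨a, ha, rfl⟩ := List.mem_map.1 hr
      have ha' := (hS'mem a).1 ha
      exact ⟨hsupp a ha'.1 ha'.2, g.wl_lt hL (M.pos a ha'.1).2⟩
    have hcomm' : ∀ r ∈ S'.map (g.wl L), ∀ r' ∈ S'.map (g.wl L), g.xg r (c'' r) * g.xg r' (c'' r') = g.xg r' (c'' r') * g.xg r (c'' r) := by
      intro r hr r' hr'
      obtain ⟨a, ha, rfl⟩ := List.mem_map.1 hr
      obtain ⟨b, hb, rfl⟩ := List.mem_map.1 hr'
      have h7 : ∀ a ∈ S', g.xg (g.wl L a) (c'' (g.wl L a)) = g.nl F L * g.xg a (c1 a) * (g.nl F L)⁻¹ := by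
        intro a ha
        rw [g.nl_x hL (M.pos a ((hS'mem a).1 ha).1).2, hc'']
        beta_reduce
        rw [hrev a ha]
      rw [h7 a ha, h7 b hb]
      have h8 := M.pair_comm (F := F) ((hS'mem a).1 ha).1 ((hS'mem b).1 hb).1 (c1 a) (c1 b)
      calc g.nl F L * g.xg a (c1 a) * (g.nl F L)⁻¹ * (g.nl F L * g.xg b (c1 b) * (g.nl F L)⁻¹)
          = g.nl F L * (g.xg a (c1 a) * g.xg b (c1 b)) * (g.nl F L)⁻¹ := by group
        _ = _ := by rw [h8]; group
    have h7 := g.comm_prod_ord hnd' hpos' c'' hcomm'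
    obtain ⟨c3, hc3, he3⟩ := g.exists_ord_of M.clA ht2
    rw [h6, h7] at he3
    have haS : a ∈ S' := (hS'mem a).2 ⟨ha, hne⟩
    have hmem : g.wl L a ∈ S'.map (g.wl L) := List.mem_map.2 ⟨a, haS, rfl⟩
    have h8 := g.U_inj he3 (hpos' _ hmem).1 (hpos' _ hmem).2
    rw [if_pos hmem] at h8
    by_contra hnA
    rw [hc3 _ hnA, hc''] at h8
    beta_reduce at h8
    rw [hrev a haS] at h8
    rcases mul_eq_zero.1 h8 with h | h
    · rcases g.el_pm hL (M.pos a ha).2 with he | he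
      · rw [he] at h; simp at h
      · rw [he] at h; simp at h
    · exact hne h
  -- `w` fixes the roots in `T`
  have hlg : ∀ L : List ℕ, (∀ i ∈ L, i < D.rank) → ∀ s < D.nroots, lg (g.wl L s) = lg s := by
    intro L
    induction L with
    | nil => intro _ s _; rfl
    | cons i L ih =>
      intro hL s hs
      have hL' : ∀ i ∈ L, i < D.rank := fun x hx => hL x (List.mem_cons_of_mem _ hx)
      rw [← ih hL' s hs]
      exact M.lgw i (hL i List.mem_cons_self) _ (g.wl_lt hL' hs)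
  have hfixT : ∀ r ∈ T.map Prod.fst, g.wl L r = r := by
    have hup : ∀ r ∈ T.map Prod.fst, ∀ j < D.rank, g.coef r j ≤ g.coef (g.wl L r) j := by
      intro r hr j hj
      have hrA := hTA r hr
      refine M.up r hr _ (hwA r hrA ?_) (hlg L hL r (M.pos r hrA).2) j hj
      rw [hc1 r hr]; exact one_ne_zero
    have hsum : ∀ j < D.rank, ∀ r ∈ T.map Prod.fst, g.coef (g.wl L r) j = g.coef r j := by
      intro j hj
      have h4 := g.dom_le (T := T.map Prod.fst) (fun r hr => (M.pos r (hTA r hr)).2) M.dom _ L rfl hL j hj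
      have : ∀ T' : List ℕ, (∀ r ∈ T', r ∈ T.map Prod.fst) → (T'.map fun r => g.coef (g.wl L r) j).sum ≤ (T'.map fun r => g.coef r j).sum →
          ∀ r ∈ T', g.coef (g.wl L r) j = g.coef r j := by
        intro T'
        induction T' with
        | nil => intro _ _ r hr; simp at hr
        | cons a T' ih =>
          intro hsub hle r hr
          rw [List.map_cons, List.sum_cons, List.map_cons, List.sum_cons] at hle
          have h5 := hup a (hsub a List.mem_cons_self) j hj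
          have h6 : (T'.map fun r => g.coef r j).sum ≤ (T'.map fun r => g.coef (g.wl L r) j).sum := by
            apply List.sum_le_sum
            intro b hb
            exact hup b (hsub b (List.mem_cons_of_mem _ hb)) j hj
          rcases List.mem_cons.1 hr with rfl | hr
          · linarith
          · exact ih (fun b hb => hsub b (List.mem_cons_of_mem _ hb)) (by linarith) r hr
      exact this _ (fun _ h => h) h4
    intro r hr
    have hr' := (M.pos r (hTA r hr)).2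
    exact g.coef_inj (g.wl_lt hL hr') hr' fun j hj => hsum j hj r hr
  obtain ⟨⟨h', hh', n', hn', he⟩, hneg⟩ := g.stab_nl' (T := T) (F := F) (fun r hr => (M.pos r.1 (hTA _ (List.mem_map_of_mem hr))).2) M.dom2 M.zero
    (K := K) hK1 _ L rfl hL (fun r hr => hfixT r.1 (List.mem_map_of_mem hr))
  have huK : u ∈ K := by
    have h4 : g.XS F (g.Sneg L) ≤ K := by
      unfold Good.XS
      rw [Subgroup.closure_le]
      rintro _ ⟨r, v, hr, hr', rfl⟩
      exact hK2 r hr.1 hr' (hneg r hr' hr.1 hr.2) v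
    exact h4 hu
  obtain ⟨d, hd⟩ : ∃ d : ℕ → Fˣ, h0 * h' = g.hc d := g.mem_HH.1 (Subgroup.mul_mem _ (g.mem_HH.2 ⟨d0, hd0⟩) hh')
  have hz : y * g.hc d * t = t * (y * g.hc d) := by
    have hnc := hK3 _ hn'
    have huc := hK3 _ huK
    have h4 : y * g.hc d = (y * h0 * g.nl F L * u) * u⁻¹ * n'⁻¹ := by
      rw [he, ← hd]; group
    have h5 : u⁻¹ * t = t * u⁻¹ := by
      calc u⁻¹ * t = u⁻¹ * (t * u) * u⁻¹ := by group
        _ = u⁻¹ * (u * t) * u⁻¹ := by rw [huc]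
        _ = t * u⁻¹ := by group
    have h6 : n'⁻¹ * t = t * n'⁻¹ := by
      calc n'⁻¹ * t = n'⁻¹ * (t * n') * n'⁻¹ := by group
        _ = n'⁻¹ * (n' * t) * n'⁻¹ := by rw [hnc]
        _ = t * n'⁻¹ := by group
    rw [h4, mul_assoc _ n'⁻¹, h6, ← mul_assoc, mul_assoc _ u⁻¹ t, h5, ← mul_assoc, hxc]
    group
  -- the torus part
  have hdK : g.hc d ∈ K := by
    apply hH
    intro r hr
    obtain ⟨e3, he3, h3⟩ := (M.conj_tel (F := F) (fun a => (g.hcf d a : F) * 1) hTA hy).1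
    have h4 : tel g (T.map Prod.fst) (fun a => (g.hcf d a : F) * 1) * e3 = tel g (T.map Prod.fst) (fun _ => 1) * 1 := by
      rw [← h3, ← htor d _ (fun a ha => (M.pos a (hTA a ha)).2), ← ht, mul_one]
      calc y * (g.hc d * t * (g.hc d)⁻¹) * y⁻¹ = (y * g.hc d * t) * (y * g.hc d)⁻¹ := by group
        _ = t := by rw [hz]; group
    obtain ⟨c4, hc4, h5⟩ := M.exists_tel (τ := fun a => (g.hcf d a : F) * 1) he3
    obtain ⟨c5, hc5, h6⟩ := M.exists_tel (τ := fun _ => (1 : F)) (Subgroup.one_mem (g.XS F (fun r => r ∈ A0)))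
    rw [h5, h6] at h4
    have h7 := M.tel_inj h4 (hTA r hr)
    rw [hc4 r hr, hc5 r hr, mul_one] at h7
    apply Units.ext
    rw [h7, Units.val_one]
  have hyK : y ∈ K := by
    apply hU y hy
    rw [← ht]
    have h4 := hK3 _ hdK
    calc y * t = (y * (g.hc d * t)) * (g.hc d)⁻¹ * (t⁻¹ * (g.hc d * t * (g.hc d)⁻¹))⁻¹ := by group
      _ = (y * g.hc d * t) * (g.hc d)⁻¹ * (t⁻¹ * (g.hc d * t * (g.hc d)⁻¹))⁻¹ := by group
      _ = t * y := by rw [hz, h4]; group
  rw [he]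
  have h11 : y * h0 * (h' * n') * u = y * (h0 * h') * n' * u := by group
  rw [h11, hd]
  exact Subgroup.mul_mem _ (Subgroup.mul_mem _ (Subgroup.mul_mem _ hyK hdK) hn') huK

end MixC

end Chv
end CfsgH6
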