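import Mathlib
import Cfsg.Prelude.Def_Characters
import Cfsg.Prelude.Def_ParabolicCharacters
import Cfsg.Agent.H4.Main
import Cfsg.Agent.H4.Classes
import Cfsg.Agent.H4.Induce
set_option autoImplicit false

namespace CfsgH6
open Cfsg CfsgH4
open scoped ComplexConjugate

/-- a group of 2x2 matrices over `F` containing all matrices whose determinant is that of an element -/
structure MG (G : Type*) [Group G] (F : Type*) [Field F] where
  m : G →* Matrix (Fin 2) (Fin 2) F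
  inj : Function.Injective m
  ex : ∀ (g : G) (A : Matrix (Fin 2) (Fin 2) F), A.det = (m g).det → ∃ h, m h = A

namespace MG

variable {G : Type*} [Group G] {F : Type*} [Field F] (M : MG G F)

theorem ext {g h : G} (h00 : M.m g 0 0 = M.m h 0 0) (h01 : M.m g 0 1 = M.m h 0 1)
    (h10 : M.m g 1 0 = M.m h 1 0) (h11 : M.m g 1 1 = M.m h 1 1) : g = h := by
  apply M.inj
  ext i j
  fin_cases i <;> fin_cases j <;> assumption

theorem ex1 (A : Matrix (Fin 2) (Fin 2) F) (h : A.det = 1) : ∃ g, M.m g = A :=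
  M.ex 1 A (by rw [h, map_one, Matrix.det_one])

noncomputable def el (A : Matrix (Fin 2) (Fin 2) F) (h : A.det = 1) : G := Classical.choose (M.ex1 A h)

theorem m_el (A : Matrix (Fin 2) (Fin 2) F) (h : A.det = 1) : M.m (M.el A h) = A :=
  Classical.choose_spec (M.ex1 A h)

theorem mul00 (g h : G) : M.m (g * h) 0 0 = M.m g 0 0 * M.m h 0 0 + M.m g 0 1 * M.m h 1 0 := by
  rw [map_mul, Matrix.mul_apply, Fin.sum_univ_two]
theorem mul01 (g h : G) : M.m (g * h) 0 1 = M.m g 0 0 * M.m h 0 1 + M.m g 0 1 * M.m h 1 1 := by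
  rw [map_mul, Matrix.mul_apply, Fin.sum_univ_two]
theorem mul10 (g h : G) : M.m (g * h) 1 0 = M.m g 1 0 * M.m h 0 0 + M.m g 1 1 * M.m h 1 0 := by
  rw [map_mul, Matrix.mul_apply, Fin.sum_univ_two]
theorem mul11 (g h : G) : M.m (g * h) 1 1 = M.m g 1 0 * M.m h 0 1 + M.m g 1 1 * M.m h 1 1 := by
  rw [map_mul, Matrix.mul_apply, Fin.sum_univ_two]

/-- determinant -/
def dt (g : G) : F := M.m g 0 0 * M.m g 1 1 - M.m g 0 1 * M.m g 1 0

theorem dt_eq (g : G) : M.dt g = (M.m g).det := by rw [Matrix.det_fin_two]; rfl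

theorem dt_mul (g h : G) : M.dt (g * h) = M.dt g * M.dt h := by
  rw [dt_eq, dt_eq, dt_eq, map_mul, Matrix.det_mul]

theorem dt_one : M.dt 1 = 1 := by rw [dt_eq, map_one, Matrix.det_one]

theorem dt_ne (g : G) : M.dt g ≠ 0 := by
  intro h
  have := M.dt_mul g g⁻¹
  rw [mul_inv_cancel, dt_one, h, zero_mul] at this
  exact one_ne_zero this

theorem m_one00 : M.m 1 0 0 = 1 := by rw [map_one]; rfl
theorem m_one01 : M.m 1 0 1 = 0 := by rw [map_one]; rfl
theorem m_one10 : M.m 1 1 0 = 0 := by rw [map_one]; rfl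
theorem m_one11 : M.m 1 1 1 = 1 := by rw [map_one]; rfl

theorem dt_inv (g : G) : M.dt g⁻¹ = (M.dt g)⁻¹ := by
  have := M.dt_mul g g⁻¹
  rw [mul_inv_cancel, dt_one] at this
  exact eq_inv_of_mul_eq_one_right this.symm

theorem inv00 (g : G) : M.m g⁻¹ 0 0 = (M.dt g)⁻¹ * M.m g 1 1 := by
  have h1 := M.mul00 g⁻¹ g
  have h2 := M.mul01 g⁻¹ g
  rw [inv_mul_cancel, m_one00] at h1
  rw [inv_mul_cancel, m_one01] at h2
  have h3 := M.dt_ne g
  field_simp
  rw [dt]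
  linear_combination (-(M.m g 1 1)) * h1 + M.m g 1 0 * h2
theorem inv01 (g : G) : M.m g⁻¹ 0 1 = (M.dt g)⁻¹ * -M.m g 0 1 := by
  have h1 := M.mul00 g⁻¹ g
  have h2 := M.mul01 g⁻¹ g
  rw [inv_mul_cancel, m_one00] at h1
  rw [inv_mul_cancel, m_one01] at h2
  have h3 := M.dt_ne g
  field_simp
  rw [dt]
  linear_combination ((M.m g 0 1)) * h1 - M.m g 0 0 * h2
theorem inv10 (g : G) : M.m g⁻¹ 1 0 = (M.dt g)⁻¹ * -M.m g 1 0 := by
  have h1 := M.mul10 g⁻¹ g
  have h2 := M.mul11 g⁻¹ g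
  rw [inv_mul_cancel, m_one10] at h1
  rw [inv_mul_cancel, m_one11] at h2
  have h3 := M.dt_ne g
  field_simp
  rw [dt]
  linear_combination (-(M.m g 1 1)) * h1 + M.m g 1 0 * h2
theorem inv11 (g : G) : M.m g⁻¹ 1 1 = (M.dt g)⁻¹ * M.m g 0 0 := by
  have h1 := M.mul10 g⁻¹ g
  have h2 := M.mul11 g⁻¹ g
  rw [inv_mul_cancel, m_one10] at h1
  rw [inv_mul_cancel, m_one11] at h2
  have h3 := M.dt_ne g
  field_simp
  rw [dt]
  linear_combination ((M.m g 0 1)) * h1 - M.m g 0 0 * h2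

noncomputable def u (x : F) : G := M.el !![1, x; 0, 1] (by simp)
noncomputable def w : G := M.el !![0, -1; 1, 0] (by simp)

theorem u00 (x : F) : M.m (M.u x) 0 0 = 1 := by rw [u, m_el]; rfl
theorem u01 (x : F) : M.m (M.u x) 0 1 = x := by rw [u, m_el]; rfl
theorem u10 (x : F) : M.m (M.u x) 1 0 = 0 := by rw [u, m_el]; rfl
theorem u11 (x : F) : M.m (M.u x) 1 1 = 1 := by rw [u, m_el]; rfl
theorem w00 : M.m M.w 0 0 = 0 := by rw [w, m_el]; rfl
theorem w01 : M.m M.w 0 1 = -1 := by rw [w, m_el]; rfl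
theorem w10 : M.m M.w 1 0 = 1 := by rw [w, m_el]; rfl
theorem w11 : M.m M.w 1 1 = 0 := by rw [w, m_el]; rfl

/-- upper triangular subgroup -/
def B : Subgroup G where
  carrier := {g | M.m g 1 0 = 0}
  mul_mem' := by
    intro g h hg hh
    simp only [Set.mem_setOf_eq] at hg hh ⊢
    rw [mul10, hg, hh]; ring
  one_mem' := M.m_one10
  inv_mem' := by
    intro g hg
    simp only [Set.mem_setOf_eq] at hg ⊢
    rw [inv10, hg]; ring

theorem mem_B {g : G} : g ∈ M.B ↔ M.m g 1 0 = 0 := Iff.rfl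

/-- diagonal subgroup -/
def T : Subgroup G where
  carrier := {g | M.m g 0 1 = 0 ∧ M.m g 1 0 = 0}
  mul_mem' := by
    intro g h hg hh
    simp only [Set.mem_setOf_eq] at hg hh ⊢
    constructor
    · rw [mul01, hg.1, hh.1]; ring
    · rw [mul10, hg.2, hh.2]; ring
  one_mem' := ⟨M.m_one01, M.m_one10⟩
  inv_mem' := by
    intro g hg
    simp only [Set.mem_setOf_eq] at hg ⊢
    rw [inv10, inv01, hg.1, hg.2]; simp

theorem mem_T {g : G} : g ∈ M.T ↔ M.m g 0 1 = 0 ∧ M.m g 1 0 = 0 := Iff.rfl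

theorem dt_u (x : F) : M.dt (M.u x) = 1 := by rw [dt, u00, u01, u10, u11]; ring
theorem dt_w : M.dt M.w = 1 := by rw [dt, w00, w01, w10, w11]; ring

theorem conj_uw (g : G) (x : F) :
    M.m ((M.u x * M.w)⁻¹ * g * (M.u x * M.w)) 0 0 = M.m g 1 0 * x + M.m g 1 1 ∧
    M.m ((M.u x * M.w)⁻¹ * g * (M.u x * M.w)) 0 1 = - M.m g 1 0 ∧
    M.m ((M.u x * M.w)⁻¹ * g * (M.u x * M.w)) 1 0 =
      M.m g 1 0 * x ^ 2 + (M.m g 1 1 - M.m g 0 0) * x - M.m g 0 1 ∧
    M.m ((M.u x * M.w)⁻¹ * g * (M.u x * M.w)) 1 1 = M.m g 0 0 - M.m g 1 0 * x := by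
  simp only [mul00, mul01, mul10, mul11, inv00, inv01, inv10, inv11, u00, u01, u10, u11, w00, w01, w10,
    w11, dt_mul, dt_u, dt_w]
  refine ⟨?_, ?_, ?_, ?_⟩ <;> ring

theorem B_ne {g : G} (hg : g ∈ M.B) : M.m g 0 0 ≠ 0 ∧ M.m g 1 1 ≠ 0 := by
  have := M.dt_ne g
  rw [dt, M.mem_B.1 hg, mul_zero, sub_zero] at this
  exact mul_ne_zero_iff.1 this

theorem uwb00 (x : F) {b : G} (hb : b ∈ M.B) : M.m (M.u x * M.w * b) 0 0 = x * M.m b 0 0 := by
  simp only [mul00, mul01, mul10, mul11, u00, u01, u10, u11, w00, w01, w10, w11, M.mem_B.1 hb]; ring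
theorem uwb10 (x : F) {b : G} (hb : b ∈ M.B) : M.m (M.u x * M.w * b) 1 0 = M.m b 0 0 := by
  simp only [mul00, mul01, mul10, mul11, u00, u01, u10, u11, w00, w01, w10, w11, M.mem_B.1 hb]; ring

theorem uwinv10 (g : G) (hg : M.m g 1 0 ≠ 0) :
    (M.u (M.m g 0 0 / M.m g 1 0) * M.w)⁻¹ * g ∈ M.B := by
  rw [mem_B]
  simp only [mul00, mul01, mul10, mul11, inv00, inv01, inv10, inv11, u00, u01, u10, u11, w00, w01, w10,
    w11, dt_mul, dt_u, dt_w]
  field_simp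
  ring

/-- the big cell -/
noncomputable def bigEquiv : {g : G // M.m g 1 0 ≠ 0} ≃ F × M.B where
  toFun g := (M.m g.1 0 0 / M.m g.1 1 0, ⟨(M.u (M.m g.1 0 0 / M.m g.1 1 0) * M.w)⁻¹ * g.1, M.uwinv10 g.1 g.2⟩)
  invFun p := ⟨M.u p.1 * M.w * p.2, by rw [M.uwb10 _ p.2.2]; exact (M.B_ne p.2.2).1⟩
  left_inv g := by
    apply Subtype.ext
    show M.u _ * M.w * ((M.u _ * M.w)⁻¹ * g.1) = g.1
    group
  right_inv p := by
    have h1 : M.m (M.u p.1 * M.w * p.2) 0 0 / M.m (M.u p.1 * M.w * p.2) 1 0 = p.1 := by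
      rw [M.uwb00 _ p.2.2, M.uwb10 _ p.2.2]
      field_simp [(M.B_ne p.2.2).1]
    refine Prod.ext h1 (Subtype.ext ?_)
    show (M.u (M.m (M.u p.1 * M.w * p.2) 0 0 / M.m (M.u p.1 * M.w * p.2) 1 0) * M.w)⁻¹ *
      (M.u p.1 * M.w * p.2) = p.2
    rw [h1]; group

variable [Fintype F] [DecidableEq F] [Fintype G]

theorem sum_G [Fintype M.B] (f : G → ℂ) :
    ∑ g, f g = ∑ b : M.B, f b + ∑ x : F, ∑ b : M.B, f (M.u x * M.w * b) := by
  classical
  rw [← Finset.sum_filter_add_sum_filter_not Finset.univ (fun g : G => M.m g 1 0 = 0)]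
  congr 1
  · exact (Finset.sum_subtype (Finset.univ.filter (fun g : G => M.m g 1 0 = 0)) (p := fun g => g ∈ M.B)
      (fun g => by simp [mem_B]) f)
  · have e1 : ∑ g ∈ Finset.univ.filter (fun g : G => ¬ M.m g 1 0 = 0), f g =
        ∑ g : {g : G // M.m g 1 0 ≠ 0}, f g.1 :=
      Finset.sum_subtype (Finset.univ.filter (fun g : G => ¬ M.m g 1 0 = 0))
        (p := fun g => M.m g 1 0 ≠ 0) (fun g => by simp) f
    have e2 : ∑ g : {g : G // M.m g 1 0 ≠ 0}, f g.1 = ∑ p : F × M.B, f (M.u p.1 * M.w * p.2) := by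
      refine Fintype.sum_equiv M.bigEquiv _ _ fun g => ?_
      show f g = f (M.u (M.m g.1 0 0 / M.m g.1 1 0) * M.w *
        ((M.u (M.m g.1 0 0 / M.m g.1 1 0) * M.w)⁻¹ * g.1))
      rw [mul_inv_cancel_left]
    rw [e1, e2]
    exact Fintype.sum_prod_type _

/-- the diagonal part of an element of `B` -/
theorem ex_diag {g : G} (hg : g ∈ M.B) : ∃ t ∈ M.T, M.m t 0 0 = M.m g 0 0 ∧ M.m t 1 1 = M.m g 1 1 := by
  obtain ⟨t, ht⟩ := M.ex g !![M.m g 0 0, 0; 0, M.m g 1 1] (by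
    rw [Matrix.det_fin_two, Matrix.det_fin_two, M.mem_B.1 hg]; simp)
  exact ⟨t, ⟨by rw [ht]; rfl, by rw [ht]; rfl⟩, by rw [ht]; rfl, by rw [ht]; rfl⟩

noncomputable def BEquiv : M.B ≃ M.T × F where
  toFun b := (⟨Classical.choose (M.ex_diag b.2), (Classical.choose_spec (M.ex_diag b.2)).1⟩, M.m b.1 0 1)
  invFun p := ⟨M.u (p.2 / M.m p.1.1 1 1) * p.1.1, by
    rw [mem_B, mul10, u10, u11, p.1.2.2]; ring⟩
  left_inv b := by
    obtain ⟨h1, h2, h3⟩ := Classical.choose_spec (M.ex_diag b.2)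
    apply Subtype.ext
    have h5 := (M.B_ne b.2).2
    refine M.ext ?_ ?_ ?_ ?_
    · show M.m (M.u (M.m b.1 0 1 / M.m (Classical.choose (M.ex_diag b.2)) 1 1) *
        Classical.choose (M.ex_diag b.2)) 0 0 = _
      rw [mul00, u00, u01, h2, h1.2]; ring
    · show M.m (M.u (M.m b.1 0 1 / M.m (Classical.choose (M.ex_diag b.2)) 1 1) *
        Classical.choose (M.ex_diag b.2)) 0 1 = _
      rw [mul01, u00, u01, h1.1, h3]; field_simp; ring
    · show M.m (M.u (M.m b.1 0 1 / M.m (Classical.choose (M.ex_diag b.2)) 1 1) *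
        Classical.choose (M.ex_diag b.2)) 1 0 = _
      rw [mul10, u10, u11, h1.2, M.mem_B.1 b.2]; ring
    · show M.m (M.u (M.m b.1 0 1 / M.m (Classical.choose (M.ex_diag b.2)) 1 1) *
        Classical.choose (M.ex_diag b.2)) 1 1 = _
      rw [mul11, u10, u11, h3]; ring
  right_inv p := by
    have hT : p.1.1 ∈ M.B := p.1.2.2
    have hb : M.u (p.2 / M.m p.1.1 1 1) * p.1.1 ∈ M.B := by
      rw [mem_B, mul10, u10, u11, p.1.2.2]; ring
    obtain ⟨h1, h2, h3⟩ := Classical.choose_spec (M.ex_diag hb)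
    refine Prod.ext (Subtype.ext ?_) ?_
    · show Classical.choose (M.ex_diag hb) = p.1.1
      refine M.ext ?_ ?_ ?_ ?_
      · rw [h2, mul00, u00, u01, p.1.2.2]; ring
      · rw [h1.1, p.1.2.1]
      · rw [h1.2, p.1.2.2]
      · rw [h3, mul11, u10, u11]; ring
    · show M.m (M.u (p.2 / M.m p.1.1 1 1) * p.1.1) 0 1 = p.2
      have h5 := (M.B_ne hT).2
      rw [mul01, u00, u01, p.1.2.1]; field_simp; ring

theorem BEquiv_symm00 (p : M.T × F) : M.m (M.BEquiv.symm p).1 0 0 = M.m p.1.1 0 0 := by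
  show M.m (M.u (p.2 / M.m p.1.1 1 1) * p.1.1) 0 0 = _
  rw [mul00, u00, u01, p.1.2.2]; ring
theorem BEquiv_symm01 (p : M.T × F) : M.m (M.BEquiv.symm p).1 0 1 = p.2 := by
  show M.m (M.u (p.2 / M.m p.1.1 1 1) * p.1.1) 0 1 = p.2
  have h5 := (M.B_ne (show p.1.1 ∈ M.B from p.1.2.2)).2
  rw [mul01, u00, u01, p.1.2.1]; field_simp; ring
theorem BEquiv_symm11 (p : M.T × F) : M.m (M.BEquiv.symm p).1 1 1 = M.m p.1.1 1 1 := by
  show M.m (M.u (p.2 / M.m p.1.1 1 1) * p.1.1) 1 1 = _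
  rw [mul11, u10, u11]; ring

theorem sum_B [Fintype M.B] [Fintype M.T] (h : F → F → F → ℂ) :
    ∑ b : M.B, h (M.m b.1 0 0) (M.m b.1 0 1) (M.m b.1 1 1) =
      ∑ t : M.T, ∑ y : F, h (M.m t.1 0 0) y (M.m t.1 1 1) := by
  rw [← Fintype.sum_prod_type' (f := fun (t : M.T) (y : F) => h (M.m t.1 0 0) y (M.m t.1 1 1))]
  refine (Fintype.sum_equiv M.BEquiv.symm _ _ fun p => ?_).symm
  rw [BEquiv_symm00, BEquiv_symm01, BEquiv_symm11]

theorem card_B : Nat.card M.B = Nat.card M.T * Fintype.card F := by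
  rw [Nat.card_congr M.BEquiv, Nat.card_prod, Nat.card_eq_fintype_card (α := F)]

theorem card_G : Nat.card G = Nat.card M.B * (Fintype.card F + 1) := by
  classical
  have h1 : G ≃ {g : G // M.m g 1 0 = 0} ⊕ {g : G // ¬ M.m g 1 0 = 0} :=
    (Equiv.sumCompl _).symm
  rw [Nat.card_congr h1, Nat.card_sum, Nat.card_congr M.bigEquiv, Nat.card_prod,
    Nat.card_eq_fintype_card (α := F)]
  show Nat.card M.B + _ = _
  ring

/-- the function on `B` -/
noncomputable def bf (α β : MulChar F ℂ) : M.B → ℂ := fun b => α (M.m b.1 0 0) * β (M.m b.1 1 1)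

/-- explicit value of the principal series characters -/
noncomputable def ps (α β : MulChar F ℂ) (g : G) : ℂ :=
  (if M.m g 1 0 = 0 then α (M.m g 0 0) * β (M.m g 1 1) else 0) +
    ∑ x : F, if M.m g 1 0 * x ^ 2 + (M.m g 1 1 - M.m g 0 0) * x - M.m g 0 1 = 0 then
      α (M.m g 1 0 * x + M.m g 1 1) * β (M.m g 0 0 - M.m g 1 0 * x) else 0

theorem indFun_bf (α β : MulChar F ℂ) : indFun M.B (M.bf α β) = M.ps α β := by
  classical
  haveI : Fintype M.B := Fintype.ofFinite _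
  funext g
  set e : G → ℂ := fun g => if M.m g 1 0 = 0 then α (M.m g 0 0) * β (M.m g 1 1) else 0 with he
  have h1 : ∀ g, extendByZero M.B (M.bf α β) g = e g := by
    intro g
    by_cases hg : g ∈ M.B
    · rw [extendByZero_of_mem _ _ hg, he]; simp only; rw [if_pos (M.mem_B.1 hg)]; rfl
    · rw [extendByZero_of_not_mem _ _ hg, he]; simp only; rw [if_neg (fun h => hg (M.mem_B.2 h))]
  have h2 : ∀ (g : G) (b : M.B), e (b.1⁻¹ * g * b.1) = e g := by
    intro g b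
    have hb := M.mem_B.1 b.2
    have hb2 := M.B_ne b.2
    have hd : M.dt b.1 = M.m b.1 0 0 * M.m b.1 1 1 := by rw [dt, hb]; ring
    rw [he]; simp only
    have e10 : M.m (b.1⁻¹ * g * b.1) 1 0 = (M.m b.1 1 1)⁻¹ * M.m g 1 0 * M.m b.1 0 0 := by
      rw [mul10, mul10, mul11, inv10, inv11, hb, hd]; field_simp [hb2.1, hb2.2]; ring
    by_cases hg : M.m g 1 0 = 0
    · rw [if_pos (by rw [e10, hg]; ring), if_pos hg]
      have e00 : M.m (b.1⁻¹ * g * b.1) 0 0 = M.m g 0 0 := by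
        rw [mul00, mul00, mul01, inv00, inv01, hb, hd, hg]; field_simp [hb2.1, hb2.2]; ring
      have e11 : M.m (b.1⁻¹ * g * b.1) 1 1 = M.m g 1 1 := by
        rw [mul11, mul10, mul11, inv10, inv11, hb, hd, hg]; field_simp [hb2.1, hb2.2]; ring
      rw [e00, e11]
    · rw [if_neg (by rw [e10]; exact mul_ne_zero (mul_ne_zero (inv_ne_zero hb2.2) hg) hb2.1), if_neg hg]
  rw [indFun_apply, M.sum_G]
  simp only [h1]
  have h3 : ∀ (x : F) (b : M.B), e ((M.u x * M.w * b.1)⁻¹ * g * (M.u x * M.w * b.1)) =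
      e ((M.u x * M.w)⁻¹ * g * (M.u x * M.w)) := by
    intro x b
    rw [← h2 ((M.u x * M.w)⁻¹ * g * (M.u x * M.w)) b]
    congr 1; group
  simp only [h2, h3, Finset.sum_const, Finset.card_univ, nsmul_eq_mul]
  rw [← Finset.mul_sum, ← mul_add, ← mul_assoc, Nat.card_eq_fintype_card, inv_mul_cancel₀
    (by exact_mod_cast Fintype.card_ne_zero), one_mul, ps]
  congr 1
  refine Finset.sum_congr rfl fun x _ => ?_
  obtain ⟨c00, c01, c10, c11⟩ := M.conj_uw g x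
  rw [he]; simp only
  rw [c00, c10, c11]

end MG

end CfsgH6
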