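import Cfsg.Agent.H6.Sl9
set_option autoImplicit false

namespace CfsgH6
open Cfsg CfsgH4
open scoped ComplexConjugate

theorem natCard_filter' {α : Type*} [Fintype α] (p : α → Prop) [DecidablePred p] :
    Nat.card {x // p x} = (Finset.univ.filter p).card := by
  rw [Nat.card_eq_fintype_card, Fintype.card_subtype]

namespace MG
variable {G : Type*} [Group G] {F : Type*} [Field F] (M : MG G F)
variable [Fintype F] [DecidableEq F] [Fintype G]

/-- in SL type the character only depends on the quotient -/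
theorem ps_SL (hM : M.IsSL) (α β : MulChar F ℂ) : M.ps α β = M.ps (α * β⁻¹) 1 := by
  funext g
  rw [ps, ps]
  congr 1
  · by_cases h : M.m g 1 0 = 0
    · have hb := M.B_ne (g := g) h
      have hd := hM g
      rw [dt, h] at hd
      have h1 : M.m g 1 1 = (M.m g 0 0)⁻¹ := eq_inv_of_mul_eq_one_right (by linear_combination hd)
      rw [if_pos h, if_pos h, MulChar.one_apply hb.2.isUnit, mul_one, h1, mc_inv, MulChar.mul_apply]
    · rw [if_neg h, if_neg h]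
  · refine Finset.sum_congr rfl fun x _ => ?_
    by_cases h : M.m g 1 0 * x ^ 2 + (M.m g 1 1 - M.m g 0 0) * x - M.m g 0 1 = 0
    · rw [if_pos h, if_pos h]
      have hd := hM g
      have e1 : (M.m g 1 0 * x + M.m g 1 1) * (M.m g 0 0 - M.m g 1 0 * x) = 1 := by
        rw [← hd, dt]; linear_combination -(M.m g 1 0) * h
      have h1 := eq_inv_of_mul_eq_one_right e1
      have h2 := right_ne_zero_of_mul_eq_one e1
      rw [MulChar.one_apply h2.isUnit, mul_one, h1, mc_inv, MulChar.mul_apply]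
    · rw [if_neg h, if_neg h]

theorem lin_SL (hM : M.IsSL) (α : MulChar F ℂ) (g : G) : M.lin α g = 1 := by rw [lin, hM g, map_one]

theorem norm_ps_SL (hM : M.IsSL) (γ : MulChar F ℂ) [Decidable (γ ^ 2 = 1)] :
    classInner (M.ps γ 1) (M.ps γ 1) = 1 + if γ ^ 2 = 1 then 1 else 0 := by
  classical
  have h5 : (γ * 1⁻¹ = 1 * γ⁻¹) ↔ γ ^ 2 = 1 := by
    rw [inv_one, mul_one, one_mul, sq, mul_eq_one_iff_eq_inv]
  rw [M.inner_ps_SL hM, if_pos rfl]
  congr 1
  by_cases h : γ ^ 2 = 1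
  · rw [if_pos (h5.2 h), if_pos h]
  · rw [if_neg (fun h' => h (h5.1 h')), if_neg h]

theorem inner_ps_SL' (hM : M.IsSL) (γ γ' : MulChar F ℂ) [Decidable (γ = γ')] [Decidable (γ = γ'⁻¹)] :
    classInner (M.ps γ 1) (M.ps γ' 1) = (if γ = γ' then 1 else 0) + if γ = γ'⁻¹ then 1 else 0 := by
  classical
  rw [M.inner_ps_SL hM]
  simp only [inv_one, mul_one, one_mul]

theorem isIrr_ps_SL (hM : M.IsSL) {γ : MulChar F ℂ} (h : γ ^ 2 ≠ 1) : IsIrrCharacter G (M.ps γ 1) := by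
  classical
  refine isIrr_of_norm_one (M.isCharacter_ps γ 1) ?_
  rw [M.norm_ps_SL hM, if_neg h, add_zero]

theorem norm11_SL (hM : M.IsSL) : classInner (M.ps (1 : MulChar F ℂ) 1) (M.ps 1 1) = 2 := by
  classical
  rw [M.norm_ps_SL hM, if_pos (one_pow 2)]; norm_num

theorem isIrr_sta_SL (hM : M.IsSL) : IsIrrCharacter G (M.sta 1) := M.isIrr_sta (M.norm11_SL hM)

theorem noncusp_SL (hM : M.IsSL) {χ : G → ℂ} (hχ : IsIrrCharacter G χ) (h : ¬ M.Cusp χ) :
    χ = M.lin 1 ∨ χ = M.sta 1 ∨ (∃ γ : MulChar F ℂ, γ ^ 2 ≠ 1 ∧ χ = M.ps γ 1) ∨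
    (∃ γ : MulChar F ℂ, γ ^ 2 = 1 ∧ γ ≠ 1 ∧ classInner χ (M.ps γ 1) ≠ 0) := by
  classical
  obtain ⟨α, β, h1⟩ := M.noncusp (IsIrr.isCharacter hχ) h
  rw [M.ps_SL hM] at h1
  set γ := α * β⁻¹ with hγ
  by_cases h2 : γ = 1
  · rw [h2] at h1
    rcases M.of_inner_same hχ (M.norm11_SL hM) h1 with h3 | h3
    · exact Or.inl h3
    · exact Or.inr (Or.inl h3)
  · by_cases h3 : γ ^ 2 = 1
    · exact Or.inr (Or.inr (Or.inr ⟨γ, h3, h2, h1⟩))
    · refine Or.inr (Or.inr (Or.inl ⟨γ, h3, ?_⟩))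
      by_contra hc
      exact h1 (classInner_irr_ne hχ (M.isIrr_ps_SL hM h3) hc)

theorem ps_inv_SL (hM : M.IsSL) (γ : MulChar F ℂ) : M.ps γ⁻¹ 1 = M.ps γ 1 := by
  have h1 := M.ps_SL hM 1 γ
  rw [one_mul] at h1
  rw [← h1]
  funext g
  exact M.ps_swap γ 1 g

theorem ps_inj_SL (hM : M.IsSL) {γ γ' : MulChar F ℂ} (h : M.ps γ 1 = M.ps γ' 1) : γ = γ' ∨ γ = γ'⁻¹ := by
  classical
  have h1 := M.inner_ps_SL' hM γ γ'
  have h2 := M.norm_ps_SL hM γ
  rw [← h, h2] at h1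
  by_contra hc
  push Not at hc
  rw [if_neg hc.1, if_neg hc.2] at h1
  split_ifs at h1 <;> norm_num at h1

section CountSL
open scoped Classical

/-- twice the number of irreducible principal series characters -/
theorem card_A3_SL (hM : M.IsSL) : 2 * Nat.card {χ : IrrCharacter G // ∃ γ : MulChar F ℂ, γ ^ 2 ≠ 1 ∧ (χ : G → ℂ) = M.ps γ 1} =
    Nat.card {γ : MulChar F ℂ // γ ^ 2 ≠ 1} := by
  haveI : Fintype (MulChar F ℂ) := Fintype.ofFinite _
  set S : Finset (MulChar F ℂ) := Finset.univ.filter (fun γ => γ ^ 2 ≠ 1) with hS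
  set A : Finset (IrrCharacter G) := Finset.univ.filter (fun χ => ∃ γ : MulChar F ℂ, γ ^ 2 ≠ 1 ∧ (χ : G → ℂ) = M.ps γ 1) with hA
  have e1 : Nat.card {χ : IrrCharacter G // ∃ γ : MulChar F ℂ, γ ^ 2 ≠ 1 ∧ (χ : G → ℂ) = M.ps γ 1} = A.card :=
    natCard_filter' _
  have e2 : Nat.card {γ : MulChar F ℂ // γ ^ 2 ≠ 1} = S.card := natCard_filter' _
  rw [e1, e2]
  let f : MulChar F ℂ → IrrCharacter G := fun γ => if h : γ ^ 2 ≠ 1 then ⟨M.ps γ 1, M.isIrr_ps_SL hM h⟩ else ⟨M.lin 1, M.isIrr_lin 1⟩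
  have hf : ∀ γ, γ ^ 2 ≠ 1 → (f γ : G → ℂ) = M.ps γ 1 := fun γ h => by simp only [f, dif_pos h]
  have hmap : ∀ γ ∈ S, f γ ∈ A := by
    intro γ h
    have h1 := (Finset.mem_filter.1 h).2
    exact Finset.mem_filter.2 ⟨Finset.mem_univ _, γ, h1, hf γ h1⟩
  rw [Finset.card_eq_sum_card_fiberwise (f := f) (t := A) hmap]
  have hfib : ∀ χ ∈ A, (S.filter (fun γ => f γ = χ)).card = 2 := by
    intro χ hχ
    obtain ⟨γ, hγ, h⟩ := (Finset.mem_filter.1 hχ).2
    have hne : γ ≠ γ⁻¹ := by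
      intro h'
      exact hγ (by rw [sq, mul_eq_one_iff_eq_inv]; exact h')
    have hγ' : γ⁻¹ ^ 2 ≠ 1 := by
      rw [inv_pow]; intro h'; exact hγ (inv_eq_one.1 h')
    have : S.filter (fun γ => f γ = χ) = {γ, γ⁻¹} := by
      ext γ'
      simp only [Finset.mem_filter, hS, Finset.mem_univ, true_and, Finset.mem_insert, Finset.mem_singleton]
      constructor
      · rintro ⟨h1, h2⟩
        have h3 : M.ps γ' 1 = M.ps γ 1 := by rw [← hf γ' h1, h2, h]
        exact M.ps_inj_SL hM h3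
      · rintro (rfl | rfl)
        · exact ⟨hγ, Subtype.ext ((hf _ hγ).trans h.symm)⟩
        · exact ⟨hγ', Subtype.ext ((hf _ hγ').trans ((M.ps_inv_SL hM γ).trans h.symm))⟩
    rw [this, Finset.card_pair hne]
  rw [Finset.sum_congr rfl hfib, Finset.sum_const, smul_eq_mul, mul_comm]

omit [DecidableEq F] in
theorem sq_eq_one_even [CharP F 2] {γ : MulChar F ℂ} (h : γ ^ 2 = 1) : γ = 1 := by
  refine MulChar.ext fun a => ?_
  obtain ⟨s, hs⟩ := FiniteField.isSquare_of_char_two (F := F) (ringChar.eq F 2) (a : F)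
  have hs0 : s ≠ 0 := by rintro rfl; exact a.ne_zero (by rw [hs, mul_zero])
  rw [hs, map_mul, ← MulChar.mul_apply, ← sq, h, MulChar.one_apply hs0.isUnit,
    MulChar.one_apply (mul_ne_zero hs0 hs0).isUnit]

theorem card_SL_even_ne [CharP F 2] : Nat.card {γ : MulChar F ℂ // γ ^ 2 ≠ 1} = Fintype.card F - 2 := by
  haveI : Fintype (MulChar F ℂ) := Fintype.ofFinite _
  have h1 : (Finset.univ.filter (fun γ : MulChar F ℂ => γ ^ 2 ≠ 1)) = Finset.univ.erase 1 := by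
    ext γ
    simp only [Finset.mem_filter, Finset.mem_univ, true_and, Finset.mem_erase, and_true]
    exact ⟨fun h h' => h (by rw [h', one_pow]), fun h h' => h (sq_eq_one_even h')⟩
  have e2 : Nat.card {γ : MulChar F ℂ // γ ^ 2 ≠ 1} = (Finset.univ.filter (fun γ : MulChar F ℂ => γ ^ 2 ≠ 1)).card :=
    natCard_filter' _
  rw [e2, h1, Finset.card_erase_of_mem (Finset.mem_univ _), Finset.card_univ, ← Nat.card_eq_fintype_card, card_mc]
  omega

omit [DecidableEq F] [Fintype G] in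
theorem u_conj_even (hM : M.IsSL) [CharP F 2] {x : F} (hx : x ≠ 0) : IsConj (M.u 1) (M.u x) :=
  M.conj_unip_even hM (M.tr_u _) (M.u_not_Sc one_ne_zero) (M.tr_u _) (M.u_not_Sc hx)

theorem sum_u_H (H : ∀ x : F, x ≠ 0 → IsConj (M.u 1) (M.u x)) {χ : G → ℂ} (hχ : IsClassFunction G χ) :
    ∑ x : F, χ (M.u x) = χ 1 + ((Fintype.card F : ℂ) - 1) * χ (M.u 1) := by
  classical
  rw [← Finset.add_sum_erase Finset.univ _ (Finset.mem_univ (0 : F)), u_zero]
  congr 1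
  have h1 : ∀ x ∈ Finset.univ.erase (0 : F), χ (M.u x) = χ (M.u 1) := by
    intro x hx
    exact (IsClassFunction.eq_of_isConj hχ (H x (Finset.ne_of_mem_erase hx))).symm
  rw [Finset.sum_congr rfl h1, Finset.sum_const, Finset.card_erase_of_mem (Finset.mem_univ _), Finset.card_univ,
    nsmul_eq_mul, Nat.cast_sub Fintype.card_pos, Nat.cast_one]

theorem cusp_deg_H (H : ∀ x : F, x ≠ 0 → IsConj (M.u 1) (M.u x)) {χ : G → ℂ} (hχ : IsIrrCharacter G χ) (hc : M.Cusp χ) :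
    ∃ n : ℕ, 1 ≤ n ∧ χ 1 = n * ((Fintype.card F : ℂ) - 1) ∧ χ (M.u 1) = -n := by
  have h1 := M.sum_u_H H (IsIrr.isClassFunction hχ)
  rw [show ∑ x : F, χ (M.u x) = 0 from hc] at h1
  obtain ⟨d, hd⟩ := IsCharacter.one_nat (IsIrr.isCharacter hχ)
  have hq := q_sub_ne (F := F)
  have h2 : χ (M.u 1) = ((-(d : ℚ) / ((Fintype.card F : ℚ) - 1) : ℚ) : ℂ) := by
    push_cast
    field_simp
    linear_combination -h1 - hd
  obtain ⟨n, hn⟩ := int_of_isIntegral_rat (IsCharacter.isIntegral (IsIrr.isCharacter hχ) (M.u 1)) h2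
  have h3 : (d : ℂ) = -n * ((Fintype.card F : ℂ) - 1) := by
    rw [← hd]; rw [hn] at h1; linear_combination -h1
  have hq1 : 1 < Fintype.card F := Fintype.one_lt_card
  have h4 : (d : ℤ) = -n * ((Fintype.card F : ℤ) - 1) := by exact_mod_cast h3
  have hd0 : 0 < d := by
    rcases Nat.eq_zero_or_pos d with h | h
    · exfalso; rw [h, Nat.cast_zero] at hd; exact IsIrr.one_ne_zero hχ hd
    · exact h
  have h5 : n < 0 := by
    have h6 : (0 : ℤ) < -n * ((Fintype.card F : ℤ) - 1) := by rw [← h4]; exact_mod_cast hd0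
    have h7 : (0 : ℤ) < (Fintype.card F : ℤ) - 1 := by omega
    by_contra hn0
    have h8 := mul_nonneg (not_lt.1 hn0) h7.le
    linarith
  obtain ⟨k, rfl⟩ : ∃ k : ℕ, n = -(k : ℤ) := ⟨n.natAbs, by omega⟩
  refine ⟨k, by omega, ?_, ?_⟩
  · rw [hd, h3]; push_cast; ring
  · rw [hn]; push_cast; ring

theorem count_SL_even (hM : M.IsSL) [CharP F 2] :
    (∀ χ : G → ℂ, IsIrrCharacter G χ → M.Cusp χ → χ 1 = (Fintype.card F : ℂ) - 1 ∧ χ (M.u 1) = -1) ∧
    2 * Nat.card {χ : IrrCharacter G // M.Cusp (χ : G → ℂ)} = Fintype.card F := by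
  set q := Fintype.card F with hq
  obtain ⟨n, hn⟩ : ∃ n, q = n + 2 := ⟨q - 2, by have := Fintype.one_lt_card (α := F); omega⟩
  set A3 : Finset (IrrCharacter G) := Finset.univ.filter (fun χ => ∃ γ : MulChar F ℂ, γ ^ 2 ≠ 1 ∧ (χ : G → ℂ) = M.ps γ 1) with hA3
  set C : Finset (IrrCharacter G) := Finset.univ.filter (fun χ => M.Cusp (χ : G → ℂ)) with hC
  let l : IrrCharacter G := ⟨M.lin 1, M.isIrr_lin 1⟩
  let s : IrrCharacter G := ⟨M.sta 1, M.isIrr_sta_SL hM⟩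
  have c3 : 2 * A3.card = n := by
    rw [hA3, ← natCard_filter', M.card_A3_SL hM, card_SL_even_ne, ← hq, hn]; rfl
  have dl : (l : G → ℂ) 1 = 1 := M.lin_one 1
  have ds : (s : G → ℂ) 1 = q := M.sta_one 1
  have d3 : ∀ χ ∈ A3, (χ : G → ℂ) 1 = q + 1 := by
    intro χ h; obtain ⟨γ, _, h⟩ := (Finset.mem_filter.1 h).2; rw [h, ps_one]
  have n3 : ∀ χ ∈ A3, ¬ M.Cusp (χ : G → ℂ) := by
    intro χ h; obtain ⟨γ, _, h⟩ := (Finset.mem_filter.1 h).2; rw [h]; exact M.not_cusp_ps γ 1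
  have hls : l ≠ s := fun h => q_ne1 (F := F) (by rw [← hq, ← ds, ← h, dl])
  have hU : (Finset.univ : Finset (IrrCharacter G)) = (({l, s} : Finset (IrrCharacter G)) ∪ A3) ∪ C := by
    symm
    rw [Finset.eq_univ_iff_forall]
    intro χ
    simp only [Finset.mem_union, hA3, hC, Finset.mem_filter, Finset.mem_univ, true_and, Finset.mem_insert,
      Finset.mem_singleton]
    by_cases h : M.Cusp (χ : G → ℂ)
    · exact Or.inr h
    · rcases M.noncusp_SL hM χ.2 h with h | h | h | ⟨γ, h, h', _⟩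
      · exact Or.inl (Or.inl (Or.inl (Subtype.ext h)))
      · exact Or.inl (Or.inl (Or.inr (Subtype.ext h)))
      · exact Or.inl (Or.inr h)
      · exact absurd (sq_eq_one_even h) h'
  have e12 : Disjoint ({l, s} : Finset (IrrCharacter G)) A3 := by
    rw [Finset.disjoint_left]; intro χ h h'
    rcases Finset.mem_insert.1 h with h | h
    · exact q1_ne1 (F := F) ((d3 χ h').symm.trans (by rw [h, dl]))
    · rw [Finset.mem_singleton] at h
      exact q1_ne_q (F := F) ((d3 χ h').symm.trans (by rw [h, ds]))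
  have e123 : Disjoint (({l, s} : Finset (IrrCharacter G)) ∪ A3) C := by
    rw [Finset.disjoint_left]; intro χ h h'
    have hc : M.Cusp (χ : G → ℂ) := (Finset.mem_filter.1 h').2
    rcases Finset.mem_union.1 h with h | h
    · rcases Finset.mem_insert.1 h with h | h
      · rw [h] at hc; exact M.not_cusp_lin 1 hc
      · rw [Finset.mem_singleton] at h
        rw [h] at hc; exact M.not_cusp_sta 1 hc
    · exact n3 χ h hc
  have hcard : 2 + A3.card + C.card = (n + 2) + 1 := by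
    have f1 := Finset.card_pair hls
    have f2 := Finset.card_union_of_disjoint e12
    have f3 := Finset.card_union_of_disjoint e123
    have f4 : (Finset.univ : Finset (IrrCharacter G)).card = q + 1 := by
      rw [Finset.card_univ, ← Nat.card_eq_fintype_card, card_irr, M.card_classes_SL_even hM]
    rw [← hU] at f3
    omega
  have hCc : 2 * C.card = n + 2 := by omega
  have hdeg : ∀ χ : IrrCharacter G, M.Cusp (χ : G → ℂ) → ∃ k : ℕ, 1 ≤ k ∧ (χ : G → ℂ) 1 = k * ((q : ℂ) - 1) ∧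
      (χ : G → ℂ) (M.u 1) = - (k : ℂ) := fun χ h => M.cusp_deg_H (fun x hx => M.u_conj_even hM hx) χ.2 h
  choose! k hk1 hk2 hk3 using hdeg
  have hsum : (1 : ℂ) + q ^ 2 + (A3.card : ℂ) * ((q : ℂ) + 1) ^ 2 +
      ∑ χ ∈ C, ((k χ : ℂ)) ^ 2 * ((q : ℂ) - 1) ^ 2 = ((q ^ 2 - 1) * q : ℕ) := by
    rw [hq, ← M.card_SL hM, ← sum_sq (G := G), hU, Finset.sum_union e123, Finset.sum_union e12]
    congr 1
    · congr 1
      · rw [Finset.sum_pair hls, dl, ds, one_pow]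
      · rw [Finset.sum_congr rfl (fun χ h => by rw [d3 χ h]), Finset.sum_const, nsmul_eq_mul]
    · exact Finset.sum_congr rfl fun χ h => by
        rw [hk2 χ (Finset.mem_filter.1 h).2]; ring
  rw [← Finset.sum_mul] at hsum
  have hsum2 : 1 + (n + 2) ^ 2 + A3.card * (n + 3) ^ 2 + (∑ χ ∈ C, k χ ^ 2) * (n + 1) ^ 2 =
      (n + 1) * (n + 3) * (n + 2) := by
    have e1 : ((q : ℂ) - 1) = n + 1 := by rw [hn]; push_cast; ring
    have e2 : q ^ 2 - 1 = (n + 1) * (n + 3) := by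
      rw [hn, show (n + 2) ^ 2 = (n + 1) * (n + 3) + 1 by ring, Nat.add_sub_cancel]
    rw [e1, e2, hn] at hsum
    push_cast at hsum
    have : (((1 + (n + 2) ^ 2 + A3.card * (n + 3) ^ 2 + (∑ χ ∈ C, k χ ^ 2) * (n + 1) ^ 2 : ℕ) : ℂ)) =
        (((n + 1) * (n + 3) * (n + 2) : ℕ) : ℂ) := by
      push_cast
      linear_combination hsum
    exact_mod_cast this
  have hks : ∑ χ ∈ C, k χ ^ 2 = C.card := by
    have h1 : (∑ χ ∈ C, k χ ^ 2) * (2 * (n + 1) ^ 2) = C.card * (2 * (n + 1) ^ 2) := by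
      have h3 : C.card * (2 * (n + 1) ^ 2) = (n + 2) * (n + 1) ^ 2 := by rw [← hCc]; ring
      rw [h3]
      zify at hsum2 c3 ⊢
      linear_combination 2 * hsum2 - (n + 3) ^ 2 * c3
    exact Nat.eq_of_mul_eq_mul_right (by positivity) h1
  have hk : ∀ χ ∈ C, k χ = 1 := by
    have h1 : ∑ χ ∈ C, (k χ ^ 2 - 1) = 0 := by
      have h2 : ∑ χ ∈ C, (k χ ^ 2 - 1) + ∑ χ ∈ C, 1 = ∑ χ ∈ C, k χ ^ 2 := by
        rw [← Finset.sum_add_distrib]
        refine Finset.sum_congr rfl fun χ h => ?_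
        have := hk1 χ (Finset.mem_filter.1 h).2
        have : 1 ≤ k χ ^ 2 := Nat.one_le_pow _ _ this
        omega
      rw [hks, Finset.sum_const, smul_eq_mul, mul_one] at h2
      omega
    intro χ h
    have h2 := Finset.sum_eq_zero_iff.1 h1 χ h
    have h3 := hk1 χ (Finset.mem_filter.1 h).2
    nlinarith [Nat.sub_eq_zero_iff_le.1 h2]
  constructor
  · intro χ hχ hc
    have h1 : (⟨χ, hχ⟩ : IrrCharacter G) ∈ C := Finset.mem_filter.2 ⟨Finset.mem_univ _, hc⟩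
    have h2 := hk2 ⟨χ, hχ⟩ hc
    have h3 := hk3 ⟨χ, hχ⟩ hc
    rw [hk _ h1] at h2 h3
    simp only [Nat.cast_one, one_mul] at h2 h3
    exact ⟨h2, h3⟩
  · rw [natCard_filter', ← hC, hCc, hn]

end CountSL

/-- classification of irreducible characters, SL type, even q -/
theorem irr_SL_even (hM : M.IsSL) [CharP F 2] {χ : G → ℂ} (hχ : IsIrrCharacter G χ) :
    χ = M.lin 1 ∨ χ = M.sta 1 ∨ (∃ γ : MulChar F ℂ, γ ^ 2 ≠ 1 ∧ χ = M.ps γ 1) ∨
    (M.Cusp χ ∧ χ 1 = (Fintype.card F : ℂ) - 1 ∧ χ (M.u 1) = -1) := by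
  by_cases h : M.Cusp χ
  · exact Or.inr (Or.inr (Or.inr ⟨h, (M.count_SL_even hM).1 χ hχ h⟩))
  · rcases M.noncusp_SL hM hχ h with h | h | h | ⟨γ, h, h', _⟩
    · exact Or.inl h
    · exact Or.inr (Or.inl h)
    · exact Or.inr (Or.inr (Or.inl h))
    · exact absurd (sq_eq_one_even h) h'

end MG

end CfsgH6
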