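import Cfsg.Agent.H6.Sl10
set_option autoImplicit false

namespace CfsgH6
open Cfsg CfsgH4
open scoped ComplexConjugate

section Four
variable {F : Type*} [Field F] [Fintype F]

/-- the quadratic character with complex values -/
noncomputable def qc (F : Type*) [Field F] [Fintype F] : MulChar F ℂ := by
  classical
  exact (quadraticChar F).ringHomComp (Int.castRingHom ℂ)

open scoped Classical in
theorem qc_apply (a : F) : qc F a = ((quadraticChar F a : ℤ) : ℂ) := rfl

theorem qc_sq {a : F} (ha : a ≠ 0) : qc F (a ^ 2) = 1 := by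
  classical
  rw [qc_apply]
  rw [(quadraticChar_one_iff_isSquare (pow_ne_zero 2 ha)).2 ⟨a, sq a⟩, Int.cast_one]

theorem qc_square {a : F} (ha : a ≠ 0) (h : IsSquare a) : qc F a = 1 := by
  obtain ⟨s, rfl⟩ := h
  have hs : s ≠ 0 := left_ne_zero_of_mul ha
  rw [← sq]; exact qc_sq hs

theorem qc_nonsq {a : F} (h : ¬ IsSquare a) : qc F a = -1 := by
  classical
  rw [qc_apply, quadraticChar_neg_one_iff_not_isSquare.2 h]; simp

theorem ringChar_ne_two (hodd : Odd (Fintype.card F)) : ringChar F ≠ 2 := by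
  intro h
  have := FiniteField.even_card_of_char_two h
  rw [Nat.odd_iff] at hodd
  omega

theorem qc_ne_one (hodd : Odd (Fintype.card F)) : qc F ≠ 1 := by
  obtain ⟨e, he⟩ := exists_nonsq hodd
  have he0 : e ≠ 0 := fun h => he (by rw [h]; exact IsSquare.zero)
  intro h
  have h1 := qc_nonsq he
  rw [h, MulChar.one_apply he0.isUnit] at h1
  norm_num at h1

theorem qc_pow_two : qc F ^ 2 = 1 := by
  refine MulChar.ext fun a => ?_
  rw [MulChar.one_apply a.isUnit, sq, MulChar.mul_apply, ← map_mul, ← sq, qc_sq a.ne_zero]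

theorem qc_inv : (qc F)⁻¹ = qc F := by
  have h := qc_pow_two (F := F)
  rw [sq] at h
  exact inv_eq_of_mul_eq_one_right h

theorem eq_qc (hodd : Odd (Fintype.card F)) {γ : MulChar F ℂ} (h : γ ^ 2 = 1) (h1 : γ ≠ 1) : γ = qc F := by
  have hs : ∀ s : F, s ≠ 0 → γ (s ^ 2) = 1 := by
    intro s hs
    rw [map_pow, ← MulChar.pow_apply' γ two_ne_zero, h, MulChar.one_apply hs.isUnit]
  obtain ⟨e, he⟩ := exists_nonsq hodd
  have he0 : e ≠ 0 := fun h => he (by rw [h]; exact IsSquare.zero)
  have hns : ∀ x : F, ¬ IsSquare x → γ x = γ e := by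
    intro x hx
    obtain ⟨a, ha, rfl⟩ := nonsq_ratio he hx
    rw [map_mul, hs a ha, one_mul]
  have he1 : γ e = -1 := by
    have h2 : γ e * γ e = 1 := by rw [← map_mul, ← sq, hs e he0]
    rcases mul_self_eq_one_iff.1 h2 with h3 | h3
    · exfalso
      apply h1
      refine MulChar.ext fun a => ?_
      rw [MulChar.one_apply a.isUnit]
      by_cases ha : IsSquare (a : F)
      · obtain ⟨s, hs'⟩ := ha
        have hs0 : s ≠ 0 := by rintro rfl; exact a.ne_zero (by rw [hs', mul_zero])
        rw [hs', ← sq, hs s hs0]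
      · rw [hns _ ha, h3]
    · exact h3
  refine MulChar.ext fun a => ?_
  by_cases ha : IsSquare (a : F)
  · rw [qc_square a.ne_zero ha]
    obtain ⟨s, hs'⟩ := ha
    have hs0 : s ≠ 0 := by rintro rfl; exact a.ne_zero (by rw [hs', mul_zero])
    rw [hs', ← sq, hs s hs0]
  · rw [hns _ ha, he1, qc_nonsq ha]

/-- sums of functions which are constant on square classes -/
theorem sum_sqclass (hodd : Odd (Fintype.card F)) {e : F} (he : ¬ IsSquare e) {h : F → ℂ}
    (hh : ∀ a x : F, a ≠ 0 → h (a ^ 2 * x) = h x) :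
    ∑ x, h x = h 0 + ((Fintype.card F : ℂ) - 1) / 2 * (h 1 + h e) := by
  classical
  have he0 : e ≠ 0 := fun h => he (by rw [h]; exact IsSquare.zero)
  have h1 : ∀ x : F, h x = (if x = 0 then h 0 - (h 1 + h e) / 2 else 0) + ((h 1 + h e) / 2 +
      qc F x * ((h 1 - h e) / 2)) := by
    intro x
    by_cases hx : x = 0
    · rw [hx, if_pos rfl, MulChar.map_zero]; ring
    rw [if_neg hx]
    by_cases hs : IsSquare x
    · rw [qc_square hx hs]
      obtain ⟨s, rfl⟩ := hs
      have hs0 := left_ne_zero_of_mul hx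
      have := hh s 1 hs0
      rw [mul_one, sq] at this
      rw [this]; ring
    · rw [qc_nonsq hs]
      obtain ⟨a, ha, hae⟩ := nonsq_ratio he hs
      rw [← hae, hh a e ha]; ring
  rw [Finset.sum_congr rfl (fun x _ => h1 x), Finset.sum_add_distrib, Finset.sum_add_distrib,
    Finset.sum_ite_eq' Finset.univ (0 : F) (fun _ => h 0 - (h 1 + h e) / 2), ← Finset.sum_mul,
    MulChar.sum_eq_zero_of_ne_one (qc_ne_one hodd), Finset.sum_const, Finset.card_univ, nsmul_eq_mul,
    if_pos (Finset.mem_univ _)]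
  ring

theorem sum_qc_sqclass (hodd : Odd (Fintype.card F)) {e : F} (he : ¬ IsSquare e) {h : F → ℂ}
    (hh : ∀ a x : F, a ≠ 0 → h (a ^ 2 * x) = h x) :
    ∑ x, qc F x * h x = ((Fintype.card F : ℂ) - 1) / 2 * (h 1 - h e) := by
  rw [sum_sqclass hodd he (h := fun x => qc F x * h x)]
  · rw [MulChar.map_zero, map_one, qc_nonsq he]; ring
  · intro a x ha
    rw [map_mul, qc_sq ha, hh a x ha, one_mul]

/-- a primitive additive character -/
noncomputable def ach (F : Type*) [Field F] [Fintype F] : AddChar F ℂ := AddChar.FiniteField.primitiveChar_to_Complex F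

theorem ach_prim : (ach F).IsPrimitive := AddChar.FiniteField.primitiveChar_to_Complex_isPrimitive F

theorem ach_conj (x : F) : conj (ach F x) = ach F (-x) := by
  rw [AddChar.map_neg_eq_conj]

open scoped Classical in
theorem sum_ach (y : F) : ∑ x : F, ach F (x * y) = if y = 0 then (Fintype.card F : ℂ) else 0 := by
  have := AddChar.sum_mulShift y (ach_prim (F := F))
  rw [this]
  split_ifs <;> simp

/-- the Gauss sum -/
noncomputable def gs (F : Type*) [Field F] [Fintype F] : ℂ := gaussSum (qc F) (ach F)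

theorem gs_norm (hodd : Odd (Fintype.card F)) : gs F * conj (gs F) = Fintype.card F := by
  have h1 := star_gaussSum_eq (qc F) (ach F)
  rw [gs]
  have h2 : conj (gaussSum (qc F) (ach F)) = gaussSum (qc F)⁻¹ (ach F)⁻¹ := h1
  rw [h2]
  exact gaussSum_mul_gaussSum_eq_card (qc_ne_one hodd) ach_prim

theorem gs_ne (hodd : Odd (Fintype.card F)) : gs F ≠ 0 := by
  classical
  intro h
  have := gs_norm hodd
  rw [h, zero_mul] at this
  exact MG.card_F_ne this.symm

theorem gs_sq (hodd : Odd (Fintype.card F)) : gs F ^ 2 = qc F (-1) * Fintype.card F := by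
  have hq : (qc F).IsQuadratic := by
    classical
    exact (quadraticChar_isQuadratic F).comp _
  classical
  exact gaussSum_sq (qc_ne_one hodd) hq ach_prim

theorem gs_mul (y : F) (hodd : Odd (Fintype.card F)) : ∑ x : F, qc F x * ach F (x * y) = qc F y * gs F := by
  by_cases hy : y = 0
  · rw [hy, MulChar.map_zero, zero_mul]
    simp only [mul_zero, AddChar.map_zero_eq_one, mul_one]
    exact MulChar.sum_eq_zero_of_ne_one (qc_ne_one hodd)
  · have h1 := gaussSum_mulShift_eq (qc F) (ach F) (Units.mk0 y hy)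
    rw [qc_inv] at h1
    have h2 : gaussSum (qc F) ((ach F).mulShift y) = ∑ x : F, qc F x * ach F (x * y) := by
      rw [gaussSum]
      refine Finset.sum_congr rfl fun x _ => ?_
      rw [AddChar.mulShift_apply, mul_comm y x]
    rw [← h2]
    exact h1

end Four

namespace MG
variable {G : Type*} [Group G] {F : Type*} [Field F] (M : MG G F)
variable [Fintype F] [DecidableEq F] [Fintype G]

omit [Fintype F] [DecidableEq F] [Fintype G] in
theorem conj_u_sq (a x : F) (ha : a ≠ 0) : IsConj (M.u x) (M.u (a ^ 2 * x)) := M.conj_u_of ha rfl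

/-- Fourier coefficients of a class function on the unipotent subgroup -/
noncomputable def hat (χ : G → ℂ) (y : F) : ℂ := (Fintype.card F : ℂ)⁻¹ * ∑ x : F, χ (M.u x) * conj (ach F (x * y))

/-- homomorphism from the additive group -/
noncomputable def uHom : Multiplicative F →* G where
  toFun x := M.u x.toAdd
  map_one' := M.u_zero
  map_mul' x y := M.u_add _ _

theorem hat_nat {χ : G → ℂ} (hχ : IsCharacter G χ) (y : F) : ∃ n : ℕ, M.hat χ y = n := by
  have h1 : IsCharacter (Multiplicative F) (fun x => χ (M.uHom x)) := isCharacter_comp M.uHom hχ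
  let f : Multiplicative F →* ℂˣ :=
    { toFun := fun x => Units.mk0 (ach F (x.toAdd * y)) (by
        intro h
        have := AddChar.map_add_eq_mul (ach F) (x.toAdd * y) (-(x.toAdd * y))
        rw [add_neg_cancel, AddChar.map_zero_eq_one, h, zero_mul] at this
        exact one_ne_zero this)
      map_one' := by
        apply Units.ext
        show ach F (0 * y) = 1
        rw [zero_mul, AddChar.map_zero_eq_one]
      map_mul' := by
        intro a b
        apply Units.ext
        show ach F ((a.toAdd + b.toAdd) * y) = ach F (a.toAdd * y) * ach F (b.toAdd * y)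
        rw [add_mul, AddChar.map_add_eq_mul] }
  have h2 := IsIrr.isCharacter (isCharacter_one_dim f)
  obtain ⟨n, hn⟩ := IsCharacter.inner_nat h1 h2
  refine ⟨n, ?_⟩
  rw [← hn, classInner_def, hat, Nat.card_congr (Multiplicative.toAdd (α := F)), Nat.card_eq_fintype_card]
  congr 1
  exact Fintype.sum_equiv Multiplicative.ofAdd _ _ (fun x => rfl)

theorem hat_sq {χ : G → ℂ} (hχ : IsClassFunction G χ) (a y : F) (ha : a ≠ 0) : M.hat χ (a ^ 2 * y) = M.hat χ y := by
  rw [hat, hat]
  congr 1
  refine Fintype.sum_bijective (fun x : F => x * a ^ 2) (mulRight_bijective₀ _ (pow_ne_zero 2 ha)) _ _ fun x => ?_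
  rw [mul_comm x (a ^ 2), ← IsClassFunction.eq_of_isConj hχ (M.conj_u_sq a x ha)]
  congr 3; ring

/-- Fourier inversion -/
theorem hat_inv (χ : G → ℂ) (x : F) : χ (M.u x) = ∑ y : F, M.hat χ y * ach F (x * y) := by
  classical
  simp only [hat, Finset.mul_sum, Finset.sum_mul]
  rw [Finset.sum_comm]
  have h1 : ∀ z : F, ∑ y : F, (Fintype.card F : ℂ)⁻¹ * (χ (M.u z) * conj (ach F (z * y))) * ach F (x * y) =
      if z = x then χ (M.u x) else 0 := by
    intro z
    have h2 : ∀ y : F, (Fintype.card F : ℂ)⁻¹ * (χ (M.u z) * conj (ach F (z * y))) * ach F (x * y) =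
        (Fintype.card F : ℂ)⁻¹ * χ (M.u z) * ach F (y * (x - z)) := by
      intro y
      rw [ach_conj, mul_assoc, mul_assoc, ← AddChar.map_add_eq_mul, ← mul_assoc]
      congr 2; ring
    rw [Finset.sum_congr rfl (fun y _ => h2 y), ← Finset.mul_sum, sum_ach]
    have h3 := card_F_ne (F := F)
    by_cases hz : z = x
    · rw [if_pos hz, if_pos (by rw [hz, sub_self]), hz]; field_simp
    · rw [if_neg hz, if_neg (fun h => hz (sub_eq_zero.1 h).symm), mul_zero]
  rw [Finset.sum_congr rfl (fun z _ => h1 z), Finset.sum_ite_eq' Finset.univ x]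
  rw [if_pos (Finset.mem_univ _)]

variable {e : F} (he : ¬ IsSquare e) (hodd : Odd (Fintype.card F))
include he hodd

theorem hat_F1 {χ : G → ℂ} (hχ : IsClassFunction G χ) :
    χ 1 + ((Fintype.card F : ℂ) - 1) / 2 * (χ (M.u 1) + χ (M.u e)) = Fintype.card F * M.hat χ 0 := by
  have h1 := sum_sqclass hodd he (h := fun x => χ (M.u x)) (fun a x ha =>
    (IsClassFunction.eq_of_isConj hχ (M.conj_u_sq a x ha)).symm)
  simp only [u_zero] at h1
  rw [← h1, hat]
  simp only [mul_zero, AddChar.map_zero_eq_one, map_one, mul_one]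
  rw [mul_inv_cancel_left₀ card_F_ne]

theorem hat_F2 {χ : G → ℂ} (hχ : IsClassFunction G χ) :
    χ 1 = M.hat χ 0 + ((Fintype.card F : ℂ) - 1) / 2 * (M.hat χ 1 + M.hat χ e) := by
  have h1 := sum_sqclass hodd he (h := fun x => M.hat χ x) (fun a x ha => M.hat_sq hχ a x ha)
  rw [← h1]
  have h2 := M.hat_inv χ 0
  rw [u_zero] at h2
  simpa [AddChar.map_zero_eq_one] using h2

theorem hat_F3 {χ : G → ℂ} (hχ : IsClassFunction G χ) :
    χ (M.u 1) - χ (M.u e) = (M.hat χ 1 - M.hat χ e) * gs F := by
  have h1 := sum_qc_sqclass hodd he (h := fun x => χ (M.u x)) (fun a x ha =>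
    (IsClassFunction.eq_of_isConj hχ (M.conj_u_sq a x ha)).symm)
  have h2 := sum_qc_sqclass hodd he (h := fun x => M.hat χ x) (fun a x ha => M.hat_sq hχ a x ha)
  have h3 : ∑ x : F, qc F x * χ (M.u x) = (∑ y : F, qc F y * M.hat χ y) * gs F := by
    have h4 : ∀ x : F, qc F x * χ (M.u x) = ∑ y : F, M.hat χ y * (qc F x * ach F (x * y)) := by
      intro x
      rw [M.hat_inv χ x, Finset.mul_sum]
      exact Finset.sum_congr rfl fun y _ => by ring
    rw [Finset.sum_congr rfl (fun x _ => h4 x), Finset.sum_comm, Finset.sum_mul]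
    refine Finset.sum_congr rfl fun y _ => ?_
    rw [← Finset.mul_sum, gs_mul y hodd]; ring
  rw [h1, h2] at h3
  have h5 : ((Fintype.card F : ℂ) - 1) / 2 ≠ 0 := div_ne_zero q_sub_ne two_ne_zero
  apply mul_left_cancel₀ h5
  rw [h3]; ring

theorem hat_F4 {χ : G → ℂ} (hχ : IsClassFunction G χ) :
    χ (M.u 1) + χ (M.u e) = 2 * M.hat χ 0 - (M.hat χ 1 + M.hat χ e) := by
  have h1 := M.hat_F1 he hodd hχ
  have h2 := M.hat_F2 he hodd hχ
  have h5 : ((Fintype.card F : ℂ) - 1) ≠ 0 := q_sub_ne
  apply mul_left_cancel₀ h5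
  linear_combination 2 * h1 - 2 * h2

end MG

end CfsgH6
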