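import Cfsg.Agent.H6.St20

set_option autoImplicit false

/-! Uniqueness of the character of defect zero for an abstract gate system. -/

namespace CfsgH6
namespace Stb

open scoped Classical ComplexConjugate
open Cfsg CfsgH4

section
variable {G : Type*} [Group G]

theorem fpc_mul_eq (P : Subgroup G) (x u : G) (h : ∀ g, g⁻¹ * u * g ∈ P) : fixedPointCharacter P (x * u) = fixedPointCharacter P x := by
  unfold fixedPointCharacter
  congr 1
  apply Nat.card_congr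
  apply Equiv.subtypeEquivRight
  intro c
  induction c using QuotientGroup.induction_on with
  | H y =>
    show (x * u) • (QuotientGroup.mk y : G ⧸ P) = QuotientGroup.mk y ↔ x • (QuotientGroup.mk y : G ⧸ P) = QuotientGroup.mk y
    rw [CfsgH6.Stb.stab_iff, CfsgH6.Stb.stab_iff]
    have h1 : y⁻¹ * (x * u) * y = (y⁻¹ * x * y) * (y⁻¹ * u * y) := by group
    rw [h1, Subgroup.mul_mem_cancel_right _ (h y)]

/-- an irreducible character constant on a subgroup that generates the group normally is trivial -/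
theorem irr_trivial [Fintype G] {ψ : G → ℂ} (hψ : IsIrrCharacter G ψ) (U : Subgroup G) (hU : ∀ N : Subgroup G, N.Normal → U ≤ N → N = ⊤)
    (h : ∀ u ∈ U, ψ u = ψ 1) : ψ = fun _ => 1 := by
  obtain ⟨n, ρ, hρ, rfl⟩ := id hψ
  have h1 : ∀ x : G, ρ x = LinearMap.id ↔ ρ.character x = ρ.character 1 := by
    intro x
    rw [← char_eq_finrank_iff, Representation.char_one]
  let N : Subgroup G := MonoidHom.ker ρ.asGroupHom
  have hN : N = ⊤ := by
    apply hU N inferInstance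
    intro u hu
    have h2 := (h1 u).2 (h u hu)
    rw [MonoidHom.mem_ker]
    apply Units.ext
    exact h2
  have h3 : ∀ x, ρ.character x = ρ.character 1 := by
    intro x
    rw [← h1]
    have h4 : x ∈ N := by rw [hN]; trivial
    rw [MonoidHom.mem_ker] at h4
    exact congrArg Units.val h4
  have h5 : classInner ρ.character ρ.character = 1 := by rw [classInner_irr hψ hψ, if_pos rfl]
  obtain ⟨m, hm⟩ := IsCharacter.one_nat (IsIrr.isCharacter hψ)
  rw [classInner_def] at h5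
  rw [Finset.sum_congr rfl (fun x _ => by rw [h3 x, hm]), Finset.sum_const, Finset.card_univ, ← Nat.card_eq_fintype_card, nsmul_eq_mul,
    ← mul_assoc, inv_mul_cancel₀ (card_ne_zero G), one_mul, Complex.conj_natCast] at h5
  have h6 : m * m = 1 := by exact_mod_cast h5
  have h7 : m = 1 := Nat.eq_one_of_mul_eq_one_left h6
  funext x
  rw [h3 x, hm, h7]; simp
end

variable {G : Type*} [Group G] {I : Finset ℕ}

/-- the standing hypotheses on a gate system -/
structure GH (T : Gate G I) : Prop where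
  mono : ∀ J ⊆ I, ∀ K ⊆ J, T.P K ≤ T.P J
  top : T.P I = ⊤
  ex : ∀ J ⊆ I, ∀ K ⊆ I, ∀ x, ∃ q ∈ T.P J, ∃ p ∈ T.P K, J ⊆ T.A (q * x * p)⁻¹ ∧ K ⊆ T.A (q * x * p)
  un : ∀ J ⊆ I, ∀ K ⊆ I, ∀ x, ∀ q ∈ T.P J, ∀ p ∈ T.P K, J ⊆ T.A x⁻¹ → K ⊆ T.A x → J ⊆ T.A (q * x * p)⁻¹ → K ⊆ T.A (q * x * p) →
      ∃ b ∈ T.B, ∃ b' ∈ T.B, q * x * p = b * x * b'
  w : ∀ J ⊆ I, ∀ x ∈ T.P J, ∀ y ∈ T.P J, T.A x ∩ J = ∅ → T.A y ∩ J = ∅ → ∃ b ∈ T.B, ∃ b' ∈ T.B, y = b * x * b'
  w0 : ∀ J ⊆ I, ∃ x ∈ T.P J, T.A x ∩ J = ∅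
  w1 : ∀ J ⊆ I, ∀ x ∈ T.P J, T.A x ∩ J = ∅ → T.A x⁻¹ ∩ J = ∅

namespace GH

variable {T : Gate G I} (H : GH T)
include H

theorem inner_st_fpc [Fintype G] {K : Finset ℕ} (hK : K ⊆ I) : classInner T.st (fixedPointCharacter (T.P K)) = if K = ∅ then 1 else 0 := by
  have : Finite T.DC := Quotient.finite _
  have : Fintype T.DC := Fintype.ofFinite _
  have hAI : ∀ x, T.A x ∩ I = T.A x := fun x => Finset.inter_eq_left.2 (T.A_sub x)
  have hmem : ∀ x, x ∈ T.P I := fun x => by rw [H.top]; trivial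
  have h1 : classInner T.st (fixedPointCharacter (T.P K)) = ∑ J ∈ I.powerset, (-1 : ℂ) ^ J.card *
      ∑ δ : T.DC, (if J ⊆ T.A (δ.out)⁻¹ then (1 : ℂ) else 0) * (if K ⊆ T.A δ.out then 1 else 0) := by
    rw [Gate.st_eq_sum, classInner_sum_left]
    apply Finset.sum_congr rfl
    intro J hJ
    rw [Finset.mem_powerset] at hJ
    rw [classInner_smul_left, inner_fpc, T.orbits_card hJ hK (H.ex J hJ K hK) (H.un J hJ K hK)]
    congr 1
    rw [Nat.card_eq_fintype_card, Fintype.card_subtype, Finset.card_filter]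
    push_cast
    apply Finset.sum_congr rfl
    intro δ _
    by_cases h2 : J ⊆ T.A (δ.out)⁻¹ <;> by_cases h3 : K ⊆ T.A δ.out <;> simp [h2, h3]
  rw [h1]
  have h2 : ∑ J ∈ I.powerset, (-1 : ℂ) ^ J.card *
      ∑ δ : T.DC, (if J ⊆ T.A (δ.out)⁻¹ then (1 : ℂ) else 0) * (if K ⊆ T.A δ.out then 1 else 0) =
      ∑ δ : T.DC, (∑ J ∈ I.powerset, (-1 : ℂ) ^ J.card * (if J ⊆ T.A (δ.out)⁻¹ then (1 : ℂ) else 0)) *
        (if K ⊆ T.A δ.out then (1 : ℂ) else 0) := by
    simp_rw [Finset.sum_mul]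
    rw [Finset.sum_comm (s := (Finset.univ : Finset T.DC))]
    apply Finset.sum_congr rfl
    intro J _
    rw [Finset.mul_sum]
    apply Finset.sum_congr rfl
    intro δ _
    ring
  rw [h2]
  have h3 : ∀ δ : T.DC, (∑ J ∈ I.powerset, (-1 : ℂ) ^ J.card * (if J ⊆ T.A (δ.out)⁻¹ then (1 : ℂ) else 0)) *
        (if K ⊆ T.A δ.out then (1 : ℂ) else 0) = if (T.A δ.out = ∅ ∧ K = ∅) then 1 else 0 := by
    intro δ
    have e1 : (∑ J ∈ I.powerset, (-1 : ℂ) ^ J.card * (if J ⊆ T.A (δ.out)⁻¹ then (1 : ℂ) else 0)) = if T.A (δ.out)⁻¹ = ∅ then 1 else 0 := by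
      have h := alt_powerset _ (T.A_sub (δ.out)⁻¹)
      convert h
    have e2 : T.A (δ.out)⁻¹ = ∅ ↔ T.A δ.out = ∅ := by
      constructor
      · intro h
        have := H.w1 I (le_refl _) (δ.out)⁻¹ (hmem _) (by rw [hAI]; exact h)
        rwa [hAI, inv_inv] at this
      · intro h
        have := H.w1 I (le_refl _) δ.out (hmem _) (by rw [hAI]; exact h)
        rwa [hAI] at this
    rw [e1]
    by_cases h : T.A δ.out = ∅
    · rw [if_pos (e2.2 h), one_mul]
      by_cases h' : K = ∅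
      · rw [if_pos (by rw [h']; exact Finset.empty_subset _), if_pos ⟨h, h'⟩]
      · rw [if_neg (fun h'' => h' (by rw [h] at h''; exact Finset.subset_empty.1 h'')), if_neg (fun h'' => h' h''.2)]
    · rw [if_neg (fun h' => h (e2.1 h')), zero_mul, if_neg (fun h' => h h'.1)]
  rw [Finset.sum_congr rfl (fun δ _ => h3 δ)]
  by_cases hK0 : K = ∅
  · rw [if_pos hK0]
    obtain ⟨x0, _, hx0⟩ := H.w0 I (le_refl _)
    rw [hAI] at hx0
    obtain ⟨b, b', hb, hb', h4⟩ := DoubleCoset.mk_out_eq_mul T.B T.B x0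
    rw [Finset.sum_eq_single (DoubleCoset.mk T.B T.B x0)]
    · rw [if_pos]
      rw [h4, T.A_inv _ hb _ hb', hx0]
      exact ⟨rfl, hK0⟩
    · intro δ _ hne
      rw [if_neg]
      rintro ⟨h5, _⟩
      apply hne
      obtain ⟨c, hc, c', hc', h6⟩ := H.w I (le_refl _) δ.out (hmem _) x0 (hmem _) (by rw [hAI]; exact h5) (by rw [hAI]; exact hx0)
      have h7 : DoubleCoset.mk T.B T.B δ.out = DoubleCoset.mk T.B T.B x0 := (DoubleCoset.eq _ _ _ _).2 ⟨c, hc, c', hc', h6⟩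
      rwa [DoubleCoset.out_eq'] at h7
    · intro h; exact absurd (Finset.mem_univ _) h
  · rw [if_neg hK0]
    apply Finset.sum_eq_zero
    intro δ _
    rw [if_neg (fun h => hK0 h.2)]

theorem res_norm [Fintype G] (J : Finset ℕ) (hJ : J ⊆ I) [Fintype (T.P J)] :
    classInner (T.res H.mono J hJ).st (T.res H.mono J hJ).st = 1 := by
  apply (T.res H.mono J hJ).norm
  · intro K hK L hL x
    obtain ⟨q, hq, p, hp, h1, h2⟩ := H.ex K (hK.trans hJ) L (hL.trans hJ) x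
    exact ⟨⟨q, H.mono J hJ K hK hq⟩, hq, ⟨p, H.mono J hJ L hL hp⟩, hp, Finset.subset_inter h1 hK, Finset.subset_inter h2 hL⟩
  · intro K hK L hL x q hq p hp h1 h2 h3 h4
    obtain ⟨b, hb, b', hb', he⟩ := H.un K (hK.trans hJ) L (hL.trans hJ) x q hq p hp (h1.trans Finset.inter_subset_left)
      (h2.trans Finset.inter_subset_left) (h3.trans Finset.inter_subset_left) (h4.trans Finset.inter_subset_left)
    exact ⟨⟨b, T.B_le J hJ hb⟩, hb, ⟨b', T.B_le J hJ hb'⟩, hb', Subtype.ext he⟩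
  · intro x y hx hy
    obtain ⟨b, hb, b', hb', he⟩ := H.w J hJ x x.2 y y.2 hx hy
    exact ⟨⟨b, T.B_le J hJ hb⟩, hb, ⟨b', T.B_le J hJ hb'⟩, hb', Subtype.ext he⟩
  · obtain ⟨x, hx, h⟩ := H.w0 J hJ
    exact ⟨⟨x, hx⟩, h⟩
  · intro x hx
    exact H.w1 J hJ x x.2 hx

theorem res_irr [Fintype G] (J : Finset ℕ) (hJ : J ⊆ I) : IsIrrCharacter (T.P J) (T.res H.mono J hJ).st := by
  have : Fintype (T.P J) := Fintype.ofFinite _
  apply (T.res H.mono J hJ).irr_of_norm (H.res_norm J hJ)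
  rw [(T.res H.mono J hJ).st_B (Subgroup.one_mem _)]
  exact ⟨_, rfl⟩

theorem st_irr [Fintype G] : IsIrrCharacter G T.st := by
  have hAI : ∀ x, T.A x ∩ I = T.A x := fun x => Finset.inter_eq_left.2 (T.A_sub x)
  have hmem : ∀ x, x ∈ T.P I := fun x => by rw [H.top]; trivial
  apply T.irr_of_norm
  · apply T.norm H.ex H.un
    · intro x y hx hy
      exact H.w I (le_refl _) x (hmem _) y (hmem _) (by rw [hAI]; exact hx) (by rw [hAI]; exact hy)
    · obtain ⟨x, _, h⟩ := H.w0 I (le_refl _)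
      rw [hAI] at h
      exact ⟨x, h⟩
    · intro x hx
      have := H.w1 I (le_refl _) x (hmem _) (by rw [hAI]; exact hx)
      rwa [hAI] at this
  · rw [T.st_B (Subgroup.one_mem _)]
    exact ⟨_, rfl⟩

theorem inner_res [Fintype G] (J : Finset ℕ) (hJ : J ⊆ I) [Fintype (T.P J)] :
    classInner (fun x : T.P J => T.st x) (T.res H.mono J hJ).st = 1 := by
  rw [← frobenius_right (T.P J) _ (IsCharacter.isClassFunction (IsIrr.isCharacter H.st_irr)), Gate.ind_res, classInner_sum_right,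
    Finset.sum_eq_single ∅]
  · rw [classInner_smul_right, H.inner_st_fpc (Finset.empty_subset _), if_pos rfl]
    simp
  · intro K hK hne
    rw [classInner_smul_right, H.inner_st_fpc ((Finset.mem_powerset.1 hK).trans hJ), if_neg hne, mul_zero]
  · intro h
    exact absurd (Finset.empty_mem_powerset J) h

theorem trunc_st [Fintype G] (J : Finset ℕ) (hJ : J ⊆ I) (U : Subgroup G) (hU : ∀ x ∈ T.P J, ∀ u ∈ U, x⁻¹ * u * x ∈ U) (hUB : U ≤ T.B)
    (hdeg : trunc (T.P J) U T.st 1 = (T.res H.mono J hJ).st 1) : trunc (T.P J) U T.st = (T.res H.mono J hJ).st := by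
  have : Fintype (T.P J) := Fintype.ofFinite _
  apply trunc_eq_of_inner (T.P J) U hU (hUB.trans (T.B_le J hJ)) (IsIrr.isCharacter H.st_irr) (H.res_irr J hJ) _ (H.inner_res J hJ) hdeg
  intro x u hu
  unfold Gate.st
  apply Finset.sum_congr rfl
  intro K hK
  rw [fpc_mul_eq]
  intro y
  rw [Gate.res_P, Subgroup.mem_subgroupOf]
  exact T.B_le K ((Finset.mem_powerset.1 hK).trans hJ) (hUB (hU y y.2 u hu))

theorem unique_dz [Fintype G] {p : ℕ} [Fact p.Prime] (U : Finset ℕ → Subgroup G)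
    (hUB : ∀ J ⊆ I, U J ≤ T.B) (hUn : ∀ J ⊆ I, ∀ x ∈ T.P J, ∀ u ∈ U J, x⁻¹ * u * x ∈ U J) (hUp : ∀ J ⊆ I, IsPGroup p (U J))
    (hdeg : ∀ (J : Finset ℕ) (hJ : J ⊆ I), trunc (T.P J) (U J) T.st 1 = (T.res H.mono J hJ).st 1)
    (hst0 : ∀ x, p ∣ orderOf x → T.st x = 0) (hst1 : ∀ x, ¬ p ∣ orderOf x → T.st x ≠ 0)
    (hN : ∀ N : Subgroup G, N.Normal → U ∅ ≤ N → N = ⊤)
    {χ : G → ℂ} (hχ : IsIrrCharacter G χ) (hχ0 : ∀ x, p ∣ orderOf x → χ x = 0) : χ = T.st := by
  obtain ⟨f, hf, hχf, hu⟩ := Gate.dual H.mono H.top U (fun J hJ => (hUB J hJ).trans (T.B_le J hJ)) hUn hUp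
    (fun J hJ => H.trunc_st J hJ (U J) (hUn J hJ) (hUB J hJ) (hdeg J hJ)) hst0 hst1 hχ hχ0
  rcases hf with hf | hf
  · have h1 := irr_trivial hf (U ∅) hN hu
    rw [hχf, h1]
    funext x
    simp
  · exfalso
    have h1 := irr_trivial hf (U ∅) hN (fun u hu' => by rw [Pi.neg_apply, Pi.neg_apply, hu u hu'])
    have h2 : χ 1 = - T.st 1 := by
      have h3 : f 1 = -1 := by
        have := congrFun h1 1
        rw [Pi.neg_apply] at this
        rw [← this]; simp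
      rw [hχf, Pi.mul_apply, h3]; ring
    obtain ⟨a, ha⟩ := IsCharacter.one_nat (IsIrr.isCharacter hχ)
    obtain ⟨b, hb⟩ := IsCharacter.one_nat (IsIrr.isCharacter H.st_irr)
    rw [ha, hb] at h2
    have h3 : ((a + b : ℕ) : ℂ) = 0 := by push_cast; rw [h2]; ring
    have h4 : a + b = 0 := by exact_mod_cast h3
    apply IsIrr.one_ne_zero hχ
    rw [ha]
    have : a = 0 := by omega
    rw [this]; simp

end GH

end Stb
end CfsgH6
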