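import Cfsg.Agent.H6.Sl11
import Cfsg.Agent.H6.St21
set_option autoImplicit false

namespace CfsgH6
open Cfsg CfsgH4
open scoped ComplexConjugate

namespace MG
variable {G : Type*} [Group G] {F : Type*} [Field F] (M : MG G F)

/-- in SL type, a normal subgroup containing the transvections is everything -/
theorem gen_SL (hM : M.IsSL) (N : Subgroup G) [hN : N.Normal] (h : ∀ x, M.u x ∈ N) : N = ⊤ := by
  have hl : ∀ y : F, M.w * M.u (-y) * M.w⁻¹ ∈ N := fun y => hN.conj_mem _ (h _) _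
  have l00 : ∀ y : F, M.m (M.w * M.u (-y) * M.w⁻¹) 0 0 = 1 := fun y => by
    simp only [mul00, mul01, mul10, mul11, inv00, inv01, inv10, inv11, u00, u01, u10, u11, w00, w01, w10,
      w11, dt_w]; ring
  have l01 : ∀ y : F, M.m (M.w * M.u (-y) * M.w⁻¹) 0 1 = 0 := fun y => by
    simp only [mul00, mul01, mul10, mul11, inv00, inv01, inv10, inv11, u00, u01, u10, u11, w00, w01, w10,
      w11, dt_w]; ring
  have l10 : ∀ y : F, M.m (M.w * M.u (-y) * M.w⁻¹) 1 0 = y := fun y => by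
    simp only [mul00, mul01, mul10, mul11, inv00, inv01, inv10, inv11, u00, u01, u10, u11, w00, w01, w10,
      w11, dt_w]; ring
  have l11 : ∀ y : F, M.m (M.w * M.u (-y) * M.w⁻¹) 1 1 = 1 := fun y => by
    simp only [mul00, mul01, mul10, mul11, inv00, inv01, inv10, inv11, u00, u01, u10, u11, w00, w01, w10,
      w11, dt_w]; ring
  have key : ∀ g : G, M.m g 1 0 ≠ 0 → g ∈ N := by
    intro g hg
    have hd := hM g
    rw [dt] at hd
    have : g = M.u ((M.m g 0 0 - 1) / M.m g 1 0) * (M.w * M.u (-(M.m g 1 0)) * M.w⁻¹) *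
        M.u ((M.m g 1 1 - 1) / M.m g 1 0) := by
      refine M.ext ?_ ?_ ?_ ?_ <;>
        simp only [mul00 M (M.u _ * _), mul01 M (M.u _ * _), mul10 M (M.u _ * _), mul11 M (M.u _ * _),
          mul00 M (M.u _), mul01 M (M.u _), mul10 M (M.u _), mul11 M (M.u _), l00, l01, l10, l11, u00, u01, u10, u11]
      · field_simp; ring
      · field_simp; linear_combination -hd
      · ring
      · field_simp; ring
    rw [this]
    exact N.mul_mem (N.mul_mem (h _) (hl _)) (h _)
  rw [Subgroup.eq_top_iff']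
  intro g
  by_cases hg : M.m g 1 0 = 0
  · have hb := M.B_ne (g := g) hg
    have h1 : g * (M.w * M.u (-1) * M.w⁻¹) ∈ N := by
      apply key
      rw [mul10, l00, l10, hg]
      simpa using hb.2
    have h2 := N.mul_mem h1 (N.inv_mem (hl 1))
    rwa [mul_inv_cancel_right] at h2
  · exact key g hg

theorem ex_phf {e : F} (he : e ≠ 0) (g : G) : ∃ h, M.m h = !![M.m g 0 0, e * M.m g 0 1; e⁻¹ * M.m g 1 0, M.m g 1 1] := by
  apply M.ex g
  rw [Matrix.det_fin_two, Matrix.det_fin_two]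
  simp
  field_simp

noncomputable def phf {e : F} (he : e ≠ 0) (g : G) : G := Classical.choose (M.ex_phf he g)

theorem m_phf {e : F} (he : e ≠ 0) (g : G) :
    M.m (M.phf he g) = !![M.m g 0 0, e * M.m g 0 1; e⁻¹ * M.m g 1 0, M.m g 1 1] :=
  Classical.choose_spec (M.ex_phf he g)

theorem phf00 {e : F} (he : e ≠ 0) (g : G) : M.m (M.phf he g) 0 0 = M.m g 0 0 := by rw [m_phf]; rfl
theorem phf01 {e : F} (he : e ≠ 0) (g : G) : M.m (M.phf he g) 0 1 = e * M.m g 0 1 := by rw [m_phf]; rfl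
theorem phf10 {e : F} (he : e ≠ 0) (g : G) : M.m (M.phf he g) 1 0 = e⁻¹ * M.m g 1 0 := by rw [m_phf]; rfl
theorem phf11 {e : F} (he : e ≠ 0) (g : G) : M.m (M.phf he g) 1 1 = M.m g 1 1 := by rw [m_phf]; rfl

/-- the automorphism induced by `diag(e,1)` -/
noncomputable def phi {e : F} (he : e ≠ 0) : G ≃* G where
  toFun g := M.phf he g
  invFun g := M.phf (inv_ne_zero he) g
  left_inv g := by
    refine M.ext ?_ ?_ ?_ ?_ <;> simp only [phf00, phf01, phf10, phf11] <;> field_simp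
  right_inv g := by
    refine M.ext ?_ ?_ ?_ ?_ <;> simp only [phf00, phf01, phf10, phf11] <;> field_simp
  map_mul' g h := by
    refine M.ext ?_ ?_ ?_ ?_ <;> simp only [phf00, phf01, phf10, phf11, mul00, mul01, mul10, mul11] <;>
      field_simp

theorem phi00 {e : F} (he : e ≠ 0) (g : G) : M.m (M.phi he g) 0 0 = M.m g 0 0 := M.phf00 he g
theorem phi01 {e : F} (he : e ≠ 0) (g : G) : M.m (M.phi he g) 0 1 = e * M.m g 0 1 := M.phf01 he g
theorem phi10 {e : F} (he : e ≠ 0) (g : G) : M.m (M.phi he g) 1 0 = e⁻¹ * M.m g 1 0 := M.phf10 he g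
theorem phi11 {e : F} (he : e ≠ 0) (g : G) : M.m (M.phi he g) 1 1 = M.m g 1 1 := M.phf11 he g

theorem phi_u {e : F} (he : e ≠ 0) (x : F) : M.phi he (M.u x) = M.u (e * x) := by
  refine M.ext ?_ ?_ ?_ ?_
  · rw [phi00, u00, u00]
  · rw [phi01, u01, u01]
  · rw [phi10, u10, u10, mul_zero]
  · rw [phi11, u11, u11]

variable [Fintype F] [DecidableEq F] [Fintype G]

theorem ps_phi {e : F} (he : e ≠ 0) (α β : MulChar F ℂ) (g : G) : M.ps α β (M.phi he g) = M.ps α β g := by
  rw [ps, ps, phi00, phi01, phi10, phi11]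
  congr 1
  · by_cases h : M.m g 1 0 = 0
    · rw [if_pos h, if_pos (by rw [h, mul_zero])]
    · rw [if_neg h, if_neg (mul_ne_zero (inv_ne_zero he) h)]
  · refine (Fintype.sum_bijective (fun x : F => e * x) (mulLeft_bijective₀ _ he) _ _ fun x => ?_).symm
    have e1 : e⁻¹ * M.m g 1 0 * (e * x) ^ 2 + (M.m g 1 1 - M.m g 0 0) * (e * x) - e * M.m g 0 1 =
        e * (M.m g 1 0 * x ^ 2 + (M.m g 1 1 - M.m g 0 0) * x - M.m g 0 1) := by field_simp
    have e2 : e⁻¹ * M.m g 1 0 * (e * x) = M.m g 1 0 * x := by field_simp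
    rw [e1, e2]
    by_cases h : M.m g 1 0 * x ^ 2 + (M.m g 1 1 - M.m g 0 0) * x - M.m g 0 1 = 0
    · rw [if_pos h, if_pos (by rw [h, mul_zero])]
    · rw [if_neg h, if_neg (mul_ne_zero he h)]

theorem cusp_inner {χ : G → ℂ} (hχ : IsCharacter G χ) (hc : M.Cusp χ) (α β : MulChar F ℂ) :
    classInner χ (M.ps α β) = 0 := by
  classical
  haveI : Fintype M.B := Fintype.ofFinite _
  rw [← M.indFun_bf, CfsgH4.frobenius_right M.B _ (IsCharacter.isClassFunction hχ), classInner_def]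
  have h1 : ∀ x : F, ∑ b : M.B, χ b * conj (M.bf α β b) = ∑ b : M.B, χ (b * M.u x) * conj (M.bf α β b) := by
    intro x
    refine (Fintype.sum_equiv (Equiv.mulRight (⟨M.u x, M.u10 x⟩ : M.B)) _ _ fun b => ?_).symm
    show χ (b.1 * M.u x) * _ = χ (b.1 * M.u x) * conj (M.bf α β (b * ⟨M.u x, M.u10 x⟩))
    congr 2
    show α (M.m b.1 0 0) * β (M.m b.1 1 1) = α (M.m (b.1 * M.u x) 0 0) * β (M.m (b.1 * M.u x) 1 1)
    rw [mul00, mul11, u00, u11, u10, M.mem_B.1 b.2]
    simp
  have h2 : (Fintype.card F : ℂ) * ∑ b : M.B, χ b * conj (M.bf α β b) = 0 := by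
    have h3 : ∑ x : F, ∑ b : M.B, χ b * conj (M.bf α β b) = (Fintype.card F : ℂ) * ∑ b : M.B, χ b * conj (M.bf α β b) := by
      rw [Finset.sum_const, Finset.card_univ, nsmul_eq_mul]
    rw [← h3, Finset.sum_congr rfl (fun x _ => h1 x), Finset.sum_comm]
    refine Finset.sum_eq_zero fun b _ => ?_
    rw [← Finset.sum_mul, M.cusp_vanish hχ hc b.2, zero_mul]
  rw [(mul_eq_zero.1 h2).resolve_left card_F_ne, mul_zero]

theorem hat_zero (χ : G → ℂ) : M.hat χ 0 = (Fintype.card F : ℂ)⁻¹ * ∑ x : F, χ (M.u x) := by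
  rw [hat]
  simp only [mul_zero, AddChar.map_zero_eq_one, map_one, mul_one]

theorem cusp_iff (χ : G → ℂ) : M.Cusp χ ↔ M.hat χ 0 = 0 := by
  rw [hat_zero, mul_eq_zero, Cusp]
  simp [card_F_ne]

theorem hat_add (χ ψ : G → ℂ) (y : F) : M.hat (χ + ψ) y = M.hat χ y + M.hat ψ y := by
  simp only [hat, Pi.add_apply, add_mul, Finset.sum_add_distrib, mul_add]

theorem inner_lin_ps (hM : M.IsSL) {γ : MulChar F ℂ} (h : γ ≠ 1) : classInner (M.lin 1) (M.ps γ 1) = 0 := by
  classical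
  have h1 := M.inner_ps_SL' hM 1 γ
  rw [if_neg (Ne.symm h), if_neg (fun h' => h (by rw [← inv_inv γ, ← h', inv_one]))] at h1
  have e : M.ps (1 : MulChar F ℂ) 1 = M.lin 1 + M.sta 1 := by
    funext g; show _ = M.lin 1 g + M.sta 1 g; rw [sta]; ring
  rw [e, classInner_add_left] at h1
  obtain ⟨a, ha⟩ := IsCharacter.inner_nat (IsIrr.isCharacter (M.isIrr_lin 1)) (M.isCharacter_ps γ 1)
  obtain ⟨b, hb⟩ := IsCharacter.inner_nat (IsIrr.isCharacter (M.isIrr_sta_SL hM)) (M.isCharacter_ps γ 1)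
  rw [ha, hb] at h1
  have h2 : a + b = 0 := by exact_mod_cast (by rw [h1]; norm_num : (a : ℂ) + b = 0)
  rw [ha, (by omega : a = 0), Nat.cast_zero]

theorem trivial_of_u (hM : M.IsSL) {χ : G → ℂ} (hχ : IsIrrCharacter G χ) (h : ∀ x, χ (M.u x) = χ 1) :
    χ = M.lin 1 := by
  have h1 := Stb.irr_trivial hχ M.U (fun N hN hU => M.gen_SL hM N fun x => hU ⟨x, rfl⟩)
    (by rintro _ ⟨x, rfl⟩; exact h x)
  rw [h1]
  funext g
  rw [M.lin_SL hM]

section Odd
variable {e : F} (he : ¬ IsSquare e) (hodd : Odd (Fintype.card F))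

include he hodd in
/-- the splitting of the principal series character of the quadratic character -/
theorem split_qc (hM : M.IsSL) : ∃ φ ψ : G → ℂ, IsIrrCharacter G φ ∧ IsIrrCharacter G ψ ∧ φ ≠ ψ ∧
    M.ps (qc F) 1 = φ + ψ ∧ M.hat φ 0 = 1 ∧ M.hat ψ 0 = 1 ∧
    ((M.hat φ 1 = 1 ∧ M.hat φ e = 0 ∧ M.hat ψ 1 = 0 ∧ M.hat ψ e = 1) ∨
     (M.hat φ 1 = 0 ∧ M.hat φ e = 1 ∧ M.hat ψ 1 = 1 ∧ M.hat ψ e = 0)) := by
  classical
  have hq1 := qc_ne_one hodd
  have hn : classInner (M.ps (qc F) 1) (M.ps (qc F) 1) = 2 := by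
    rw [M.norm_ps_SL hM, if_pos qc_pow_two]; norm_num
  obtain ⟨φ, ψ, ε, δ, hφ, hψ, hne, hε, hδ, heq⟩ := gen_norm_two (IsCharacter.isGen (M.isCharacter_ps (qc F) 1)) hn
  have iφ : classInner (M.ps (qc F) 1) φ = ε := by
    rw [heq, classInner_add_left, classInner_smul_left, classInner_smul_left, classInner_irr_self hφ,
      classInner_irr_ne hψ hφ (Ne.symm hne)]; ring
  have iψ : classInner (M.ps (qc F) 1) ψ = δ := by
    rw [heq, classInner_add_left, classInner_smul_left, classInner_smul_left, classInner_irr_self hψ,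
      classInner_irr_ne hφ hψ hne]; ring
  have hε1 : ε = 1 := by
    obtain ⟨n, hn⟩ := IsCharacter.inner_nat (M.isCharacter_ps (qc F) 1) (IsIrr.isCharacter hφ)
    rcases hε with h | h
    · exact h
    · exfalso
      rw [iφ, h] at hn
      have : ((n + 1 : ℕ) : ℂ) = 0 := by push_cast; rw [← hn]; ring
      exact absurd (by exact_mod_cast this) (Nat.succ_ne_zero n)
  have hδ1 : δ = 1 := by
    obtain ⟨n, hn⟩ := IsCharacter.inner_nat (M.isCharacter_ps (qc F) 1) (IsIrr.isCharacter hψ)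
    rcases hδ with h | h
    · exact h
    · exfalso
      rw [iψ, h] at hn
      have : ((n + 1 : ℕ) : ℂ) = 0 := by push_cast; rw [← hn]; ring
      exact absurd (by exact_mod_cast this) (Nat.succ_ne_zero n)
  have hsum : M.ps (qc F) 1 = φ + ψ := by rw [heq, hε1, hδ1, one_smul, one_smul]
  rw [hε1] at iφ
  rw [hδ1] at iψ
  have he0 : e ≠ 0 := fun h => he (by rw [h]; exact IsSquare.zero)
  have hcl := M.isClass_ps (qc F) 1
  have p0 : M.hat (M.ps (qc F) 1) 0 = 2 := by
    rw [hat_zero, sum_ps_u]; field_simp [card_F_ne]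
  have p3 := M.hat_F3 he hodd hcl
  have p4 := M.hat_F4 he hodd hcl
  rw [M.ps_u _ _ one_ne_zero, M.ps_u _ _ he0] at p3 p4
  rw [p0] at p4
  have p5 : M.hat (M.ps (qc F) 1) 1 - M.hat (M.ps (qc F) 1) e = 0 := by
    rw [sub_self] at p3
    exact (mul_eq_zero.1 p3.symm).resolve_right (gs_ne hodd)
  have p1 : M.hat (M.ps (qc F) 1) 1 = 1 := by linear_combination (p5 + p4) / 2
  have pe : M.hat (M.ps (qc F) 1) e = 1 := by linear_combination (-p5 + p4) / 2
  rw [hsum, hat_add] at p0 p1 pe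
  have key : ∀ {χ : G → ℂ} (hχ : IsIrrCharacter G χ) (hi : classInner (M.ps (qc F) 1) χ = 1)
      {a b c : ℕ} (ha : M.hat χ 0 = a) (hb : M.hat χ 1 = b) (hc : M.hat χ e = c), 1 ≤ a ∧ (a = 1 → 1 ≤ b + c) := by
    intro χ hχ hi a b c ha hb hc
    have hi' : classInner χ (M.ps (qc F) 1) = 1 := by rw [← classInner_conj_symm, hi, map_one]
    constructor
    · by_contra h
      have h0 : a = 0 := by omega
      rw [h0, Nat.cast_zero] at ha
      have := M.cusp_inner (IsIrr.isCharacter hχ) ((M.cusp_iff χ).2 ha) (qc F) 1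
      rw [hi'] at this
      exact one_ne_zero this
    · intro ha1
      by_contra h
      have hb0 : b = 0 := by omega
      have hc0 : c = 0 := by omega
      rw [hb0, Nat.cast_zero] at hb
      rw [hc0, Nat.cast_zero] at hc
      rw [ha1, Nat.cast_one] at ha
      have hcl := IsIrr.isClassFunction hχ
      have f2 := M.hat_F2 he hodd hcl
      have f3 := M.hat_F3 he hodd hcl
      have f4 := M.hat_F4 he hodd hcl
      rw [ha, hb, hc] at f2 f4
      rw [hb, hc] at f3
      have v1 : χ (M.u 1) = 1 := by linear_combination (f3 + f4) / 2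
      have ve : χ (M.u e) = 1 := by linear_combination (f4 - f3) / 2
      have v0 : χ 1 = 1 := by linear_combination f2
      have htr : χ = M.lin 1 := by
        refine M.trivial_of_u hM hχ fun x => ?_
        by_cases hx : x = 0
        · rw [hx, u_zero]
        · by_cases hs : IsSquare x
          · obtain ⟨s, rfl⟩ := hs
            have hs0 := left_ne_zero_of_mul hx
            rw [v0, ← v1]
            exact (IsClassFunction.eq_of_isConj hcl (M.conj_u_of (x := 1) hs0 (by ring))).symm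
          · obtain ⟨a, ha, rfl⟩ := nonsq_ratio he hs
            rw [v0, ← ve]
            exact (IsClassFunction.eq_of_isConj hcl (M.conj_u_of (x := e) ha rfl)).symm
      rw [htr, M.inner_lin_ps hM hq1] at hi'
      exact zero_ne_one hi'
  obtain ⟨a, ha⟩ := M.hat_nat (IsIrr.isCharacter hφ) 0
  obtain ⟨b, hb⟩ := M.hat_nat (IsIrr.isCharacter hφ) 1
  obtain ⟨c, hc⟩ := M.hat_nat (IsIrr.isCharacter hφ) e
  obtain ⟨a', ha'⟩ := M.hat_nat (IsIrr.isCharacter hψ) 0
  obtain ⟨b', hb'⟩ := M.hat_nat (IsIrr.isCharacter hψ) 1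
  obtain ⟨c', hc'⟩ := M.hat_nat (IsIrr.isCharacter hψ) e
  obtain ⟨k1, k2⟩ := key hφ iφ ha hb hc
  obtain ⟨k1', k2'⟩ := key hψ iψ ha' hb' hc'
  rw [ha, ha'] at p0
  rw [hb, hb'] at p1
  rw [hc, hc'] at pe
  have q0 : a + a' = 2 := by exact_mod_cast p0
  have q1 : b + b' = 1 := by exact_mod_cast p1
  have qe : c + c' = 1 := by exact_mod_cast pe
  have a1 : a = 1 := by omega
  have a1' : a' = 1 := by omega
  have k3 := k2 a1
  have k3' := k2' a1'
  refine ⟨φ, ψ, hφ, hψ, hne, hsum, by rw [ha, a1, Nat.cast_one], by rw [ha', a1', Nat.cast_one], ?_⟩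
  rcases Nat.eq_zero_or_pos b with h0 | h0
  · right
    have : c = 1 := by omega
    have h1 : b' = 1 := by omega
    have h2 : c' = 0 := by omega
    rw [hb, hc, hb', hc', h0, this, h1, h2]; simp
  · left
    have : b = 1 := by omega
    have h1 : b' = 0 := by omega
    have h2 : c' = 1 := by omega
    have h3 : c = 0 := by omega
    rw [hb, hc, hb', hc', this, h1, h2, h3]; simp

include he hodd in
theorem ne_of_hat {χ : G → ℂ} (hχ : IsIrrCharacter G χ) (h : M.hat χ 1 ≠ M.hat χ e) (he0 : e ≠ 0) :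
    (fun g => χ (M.phi he0 g)) ≠ χ := by
  intro h1
  have h2 := congrFun h1 (M.u 1)
  simp only [phi_u, mul_one] at h2
  have h3 := M.hat_F3 he hodd (IsIrr.isClassFunction hχ)
  rw [h2, sub_self] at h3
  rcases mul_eq_zero.1 h3.symm with h4 | h4
  · exact h (sub_eq_zero.1 h4)
  · exact gs_ne hodd h4

omit [Fintype F] [DecidableEq F] [Fintype G] in
theorem isIrr_phi {χ : G → ℂ} (hχ : IsIrrCharacter G χ) (he0 : e ≠ 0) :
    IsIrrCharacter G (fun g => χ (M.phi he0 g)) :=
  isIrrCharacter_comp_surj (M.phi he0).toMonoidHom (M.phi he0).surjective hχ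

omit [DecidableEq F] [Fintype F] in
theorem classInner_phi (χ ψ : G → ℂ) (he0 : e ≠ 0) :
    classInner (fun g => χ (M.phi he0 g)) (fun g => ψ (M.phi he0 g)) = classInner χ ψ := by
  rw [classInner_def, classInner_def]
  congr 1
  exact Fintype.sum_equiv (M.phi he0).toEquiv _ _ fun g => rfl

include he hodd in
theorem split_conj {φ ψ : G → ℂ} (hφ : IsIrrCharacter G φ) (hψ : IsIrrCharacter G ψ)
    (hne : φ ≠ ψ) (hsum : M.ps (qc F) 1 = φ + ψ) (h : M.hat φ 1 ≠ M.hat φ e) (he0 : e ≠ 0) :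
    (fun g => φ (M.phi he0 g)) = ψ := by
  classical
  have h1 := M.isIrr_phi hφ he0
  have h2 := M.ne_of_hat he hodd hφ h he0
  by_contra h3
  have h4 : classInner (fun g => φ (M.phi he0 g)) (M.ps (qc F) 1) = 0 := by
    rw [hsum, classInner_add_right, classInner_irr_ne h1 hφ h2, classInner_irr_ne h1 hψ h3, add_zero]
  have h5 : M.ps (qc F) 1 = fun g => M.ps (qc F) 1 (M.phi he0 g) := funext fun g => (M.ps_phi he0 _ _ g).symm
  rw [h5, M.classInner_phi, hsum, classInner_add_right, classInner_irr_self hφ, classInner_irr_ne hφ hψ hne] at h4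
  norm_num at h4

end Odd

end MG

end CfsgH6
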