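import Cfsg.Agent.H6.Sl12
set_option autoImplicit false

namespace CfsgH6
open Cfsg CfsgH4
open scoped ComplexConjugate

namespace MG
variable {G : Type*} [Group G] {F : Type*} [Field F] (M : MG G F)
variable [Fintype F] [DecidableEq F] [Fintype G]

section Odd
variable {e : F} (he : ¬ IsSquare e) (hodd : Odd (Fintype.card F))

omit [DecidableEq F] in
theorem card_mc_sq_ne (hodd : Odd (Fintype.card F)) : Nat.card {γ : MulChar F ℂ // γ ^ 2 ≠ 1} = Fintype.card F - 3 := by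
  classical
  haveI : Fintype (MulChar F ℂ) := Fintype.ofFinite _
  have h1 : (Finset.univ.filter (fun γ : MulChar F ℂ => γ ^ 2 ≠ 1)) = Finset.univ \ {1, qc F} := by
    ext γ
    simp only [Finset.mem_filter, Finset.mem_univ, true_and, Finset.mem_sdiff, Finset.mem_insert,
      Finset.mem_singleton, not_or]
    constructor
    · intro h
      exact ⟨fun h' => h (by rw [h', one_pow]), fun h' => h (by rw [h', qc_pow_two])⟩
    · rintro ⟨h1, h2⟩ h3
      exact h2 (eq_qc hodd h3 h1)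
  rw [natCard_filter' (fun γ : MulChar F ℂ => γ ^ 2 ≠ 1), h1,
    Finset.card_sdiff_of_subset (Finset.subset_univ _), Finset.card_univ,
    ← Nat.card_eq_fintype_card, card_mc, Finset.card_pair (qc_ne_one hodd).symm]
  omega

include he hodd in
theorem card_cent_u_odd (hM : M.IsSL) {x : F} (hx : x ≠ 0) :
    (Nat.card (Subgroup.centralizer ({M.u x} : Set G)) : ℂ) = 2 * Fintype.card F := by
  rw [M.card_cent_u_SL hM hx, card_sq_one_odd hodd, Nat.card_eq_fintype_card]; push_cast; ring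

include he hodd in
theorem not_conj_u (hM : M.IsSL) : ¬ IsConj (M.u 1) (M.u e) := by
  have he0 : e ≠ 0 := fun h => he (by rw [h]; exact IsSquare.zero)
  rw [M.conj_u_iff_sq hM one_ne_zero he0, one_mul]; exact he

include he hodd in
theorem sum_norm_sub (hM : M.IsSL) : ∑ χ : IrrCharacter G, (χ.1 (M.u 1) - χ.1 (M.u e)) * conj (χ.1 (M.u 1) - χ.1 (M.u e)) =
    4 * Fintype.card F := by
  have he0 : e ≠ 0 := fun h => he (by rw [h]; exact IsSquare.zero)
  have h1 := col_orth_isConj (IsConj.refl (M.u (1 : F)))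
  have h2 := col_orth_isConj (IsConj.refl (M.u e))
  have h3 := col_orth_not (M.not_conj_u he hodd hM)
  have h4 := col_orth_not (fun h => M.not_conj_u he hodd hM (IsConj.symm h))
  rw [M.card_cent_u_odd he hodd hM one_ne_zero] at h1
  rw [M.card_cent_u_odd he hodd hM he0] at h2
  have : ∀ χ : IrrCharacter G, (χ.1 (M.u 1) - χ.1 (M.u e)) * conj (χ.1 (M.u 1) - χ.1 (M.u e)) =
      χ.1 (M.u 1) * conj (χ.1 (M.u 1)) - χ.1 (M.u 1) * conj (χ.1 (M.u e)) - χ.1 (M.u e) * conj (χ.1 (M.u 1)) +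
        χ.1 (M.u e) * conj (χ.1 (M.u e)) := fun χ => by rw [map_sub]; ring
  rw [Finset.sum_congr rfl (fun χ _ => this χ), Finset.sum_add_distrib, Finset.sum_sub_distrib,
    Finset.sum_sub_distrib, h1, h2, h3, h4]
  ring

include he hodd in
theorem sum_norm_add (hM : M.IsSL) : ∑ χ : IrrCharacter G, (χ.1 (M.u 1) + χ.1 (M.u e)) * conj (χ.1 (M.u 1) + χ.1 (M.u e)) =
    4 * Fintype.card F := by
  have he0 : e ≠ 0 := fun h => he (by rw [h]; exact IsSquare.zero)
  have h1 := col_orth_isConj (IsConj.refl (M.u (1 : F)))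
  have h2 := col_orth_isConj (IsConj.refl (M.u e))
  have h3 := col_orth_not (M.not_conj_u he hodd hM)
  have h4 := col_orth_not (fun h => M.not_conj_u he hodd hM (IsConj.symm h))
  rw [M.card_cent_u_odd he hodd hM one_ne_zero] at h1
  rw [M.card_cent_u_odd he hodd hM he0] at h2
  have : ∀ χ : IrrCharacter G, (χ.1 (M.u 1) + χ.1 (M.u e)) * conj (χ.1 (M.u 1) + χ.1 (M.u e)) =
      χ.1 (M.u 1) * conj (χ.1 (M.u 1)) + χ.1 (M.u 1) * conj (χ.1 (M.u e)) + χ.1 (M.u e) * conj (χ.1 (M.u 1)) +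
        χ.1 (M.u e) * conj (χ.1 (M.u e)) := fun χ => by rw [map_add]; ring
  rw [Finset.sum_congr rfl (fun χ _ => this χ), Finset.sum_add_distrib, Finset.sum_add_distrib,
    Finset.sum_add_distrib, h1, h2, h3, h4]
  ring

theorem sta_u {x : F} (hx : x ≠ 0) (α : MulChar F ℂ) : M.sta α (M.u x) = 0 := by
  rw [sta, M.ps_u α α hx, M.lin_u, sub_self]

include he hodd in
theorem count_SL_odd (hM : M.IsSL) :
    (∀ χ : G → ℂ, IsIrrCharacter G χ → M.Cusp χ →
      (M.hat χ 1 = 1 ∧ M.hat χ e = 1) ∨ (M.hat χ 1 = 1 ∧ M.hat χ e = 0) ∨ (M.hat χ 1 = 0 ∧ M.hat χ e = 1)) ∧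
    2 * Nat.card {χ : IrrCharacter G // M.Cusp (χ : G → ℂ) ∧ M.hat (χ : G → ℂ) 1 = M.hat (χ : G → ℂ) e} = Fintype.card F - 1 ∧
    Nat.card {χ : IrrCharacter G // M.Cusp (χ : G → ℂ) ∧ M.hat (χ : G → ℂ) 1 ≠ M.hat (χ : G → ℂ) e} = 2 := by
  classical
  have he0 : e ≠ 0 := fun h => he (by rw [h]; exact IsSquare.zero)
  set q := Fintype.card F with hq
  have hq2 : 2 < q := by
    have h1 := Fintype.one_lt_card (α := F)
    obtain ⟨k, hk⟩ := hodd
    omega
  set A3 : Finset (IrrCharacter G) := Finset.univ.filter (fun χ => ∃ γ : MulChar F ℂ, γ ^ 2 ≠ 1 ∧ (χ : G → ℂ) = M.ps γ 1) with hA3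
  set C : Finset (IrrCharacter G) := Finset.univ.filter (fun χ => M.Cusp (χ : G → ℂ)) with hC
  obtain ⟨φ, ψ, hφ, hψ, hne, hsum, a1, a2, hh⟩ := M.split_qc he hodd hM
  let l : IrrCharacter G := ⟨M.lin 1, M.isIrr_lin 1⟩
  let s : IrrCharacter G := ⟨M.sta 1, M.isIrr_sta_SL hM⟩
  let f : IrrCharacter G := ⟨φ, hφ⟩
  let p : IrrCharacter G := ⟨ψ, hψ⟩
  have hfp : f ≠ p := fun h => hne (congrArg Subtype.val h)
  have c3 : 2 * A3.card = q - 3 := by
    rw [hA3, ← natCard_filter', M.card_A3_SL hM, card_mc_sq_ne hodd]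
  have dl : (l : G → ℂ) 1 = 1 := M.lin_one 1
  have ds : (s : G → ℂ) 1 = q := M.sta_one 1
  have d3 : ∀ χ ∈ A3, (χ : G → ℂ) 1 = q + 1 := by
    intro χ h; obtain ⟨γ, _, h⟩ := (Finset.mem_filter.1 h).2; rw [h, ps_one]
  have n3 : ∀ χ ∈ A3, ¬ M.Cusp (χ : G → ℂ) := by
    intro χ h; obtain ⟨γ, _, h⟩ := (Finset.mem_filter.1 h).2; rw [h]; exact M.not_cusp_ps γ 1
  -- inner products with the quadratic principal series
  have iφ : classInner φ (M.ps (qc F) 1) = 1 := by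
    rw [hsum, classInner_add_right, classInner_irr_self hφ, classInner_irr_ne hφ hψ hne, add_zero]
  have iψ : classInner ψ (M.ps (qc F) 1) = 1 := by
    rw [hsum, classInner_add_right, classInner_irr_self hψ, classInner_irr_ne hψ hφ hne.symm, zero_add]
  have il := M.inner_lin_ps hM (qc_ne_one hodd)
  have i3 : ∀ χ ∈ A3, classInner (χ : G → ℂ) (M.ps (qc F) 1) = 0 := by
    intro χ h; obtain ⟨γ, h0, h⟩ := (Finset.mem_filter.1 h).2
    rw [h, M.inner_ps_SL' hM, if_neg, if_neg, add_zero]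
    · intro h'; rw [qc_inv] at h'; exact h0 (by rw [h', qc_pow_two])
    · intro h'; exact h0 (by rw [h', qc_pow_two])
  have is : classInner (M.sta 1) (M.ps (qc F) 1) = 0 := by
    have e1 : M.sta 1 = M.ps (1 : MulChar F ℂ) 1 - M.lin 1 := rfl
    rw [e1, classInner_sub_left, il, M.inner_ps_SL' hM, if_neg (Ne.symm (qc_ne_one hodd)), if_neg]
    · ring
    · intro h'; rw [qc_inv] at h'; exact qc_ne_one hodd h'.symm
  have hls : l ≠ s := fun h => q_ne1 (F := F) (by rw [← hq, ← ds, ← h, dl])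
  have hU : (Finset.univ : Finset (IrrCharacter G)) = ((({l, s} : Finset (IrrCharacter G)) ∪ A3) ∪ {f, p}) ∪ C := by
    symm
    rw [Finset.eq_univ_iff_forall]
    intro χ
    simp only [Finset.mem_union, hA3, hC, Finset.mem_filter, Finset.mem_univ, true_and, Finset.mem_insert,
      Finset.mem_singleton]
    by_cases h : M.Cusp (χ : G → ℂ)
    · exact Or.inr h
    · rcases M.noncusp_SL hM χ.2 h with h | h | h | ⟨γ, h, h', h''⟩
      · exact Or.inl (Or.inl (Or.inl (Or.inl (Subtype.ext h))))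
      · exact Or.inl (Or.inl (Or.inl (Or.inr (Subtype.ext h))))
      · exact Or.inl (Or.inl (Or.inr h))
      · rw [eq_qc hodd h h'] at h''
        left; right
        by_contra hcc
        push Not at hcc
        apply h''
        rw [hsum, classInner_add_right, classInner_irr_ne χ.2 hφ (fun h => hcc.1 (Subtype.ext h)),
          classInner_irr_ne χ.2 hψ (fun h => hcc.2 (Subtype.ext h)), add_zero]
  have e12 : Disjoint ({l, s} : Finset (IrrCharacter G)) A3 := by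
    rw [Finset.disjoint_left]; intro χ h h'
    rcases Finset.mem_insert.1 h with h | h
    · exact q1_ne1 (F := F) ((d3 χ h').symm.trans (by rw [h, dl]))
    · rw [Finset.mem_singleton] at h
      exact q1_ne_q (F := F) ((d3 χ h').symm.trans (by rw [h, ds]))
  have e123 : Disjoint (({l, s} : Finset (IrrCharacter G)) ∪ A3) {f, p} := by
    rw [Finset.disjoint_left]; intro χ h h'
    have h1 : classInner (χ : G → ℂ) (M.ps (qc F) 1) = 1 := by
      rcases Finset.mem_insert.1 h' with h | h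
      · rw [h]; exact iφ
      · rw [Finset.mem_singleton.1 h]; exact iψ
    have h2 : classInner (χ : G → ℂ) (M.ps (qc F) 1) = 0 := by
      rcases Finset.mem_union.1 h with h | h
      · rcases Finset.mem_insert.1 h with h | h
        · rw [h]; exact il
        · rw [Finset.mem_singleton.1 h]; exact is
      · exact i3 χ h
    rw [h1] at h2
    exact one_ne_zero h2
  have e1234 : Disjoint ((({l, s} : Finset (IrrCharacter G)) ∪ A3) ∪ {f, p}) C := by
    rw [Finset.disjoint_left]; intro χ h h'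
    have hc : M.Cusp (χ : G → ℂ) := (Finset.mem_filter.1 h').2
    rcases Finset.mem_union.1 h with h | h
    · rcases Finset.mem_union.1 h with h | h
      · rcases Finset.mem_insert.1 h with h | h
        · rw [h] at hc; exact M.not_cusp_lin 1 hc
        · rw [Finset.mem_singleton] at h
          rw [h] at hc; exact M.not_cusp_sta 1 hc
      · exact n3 χ h hc
    · rw [cusp_iff] at hc
      rcases Finset.mem_insert.1 h with h | h
      · rw [h, show M.hat (f : G → ℂ) 0 = 1 from a1] at hc; exact one_ne_zero hc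
      · rw [Finset.mem_singleton.1 h, show M.hat (p : G → ℂ) 0 = 1 from a2] at hc; exact one_ne_zero hc
  have hcard : 2 + A3.card + 2 + C.card = q + 4 := by
    have f1 := Finset.card_pair hls
    have f1' := Finset.card_pair hfp
    have f2 := Finset.card_union_of_disjoint e12
    have f3 := Finset.card_union_of_disjoint e123
    have f3' := Finset.card_union_of_disjoint e1234
    have f4 : (Finset.univ : Finset (IrrCharacter G)).card = q + 4 := by
      rw [Finset.card_univ, ← Nat.card_eq_fintype_card, card_irr, M.card_classes_SL_odd hM hodd]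
    rw [← hU] at f3'
    omega
  have hCc : 2 * C.card = q + 3 := by omega
  -- Fourier coefficients
  have hn1 : ∀ χ : IrrCharacter G, ∃ n : ℕ, M.hat (χ : G → ℂ) 1 = n := fun χ => M.hat_nat (IsIrr.isCharacter χ.2) 1
  have hn2 : ∀ χ : IrrCharacter G, ∃ n : ℕ, M.hat (χ : G → ℂ) e = n := fun χ => M.hat_nat (IsIrr.isCharacter χ.2) e
  choose c1 hc1 using hn1
  choose c2 hc2 using hn2
  have hD : ∀ χ : IrrCharacter G, (χ.1 (M.u 1) - χ.1 (M.u e)) * conj (χ.1 (M.u 1) - χ.1 (M.u e)) =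
      ((c1 χ : ℂ) - c2 χ) ^ 2 * q := by
    intro χ
    rw [M.hat_F3 he hodd (IsIrr.isClassFunction χ.2), hc1, hc2, map_mul, map_sub, Complex.conj_natCast,
      Complex.conj_natCast, hq, ← gs_norm hodd]
    ring
  have hE : ∀ χ ∈ C, (χ.1 (M.u 1) + χ.1 (M.u e)) * conj (χ.1 (M.u 1) + χ.1 (M.u e)) =
      ((c1 χ : ℂ) + c2 χ) ^ 2 := by
    intro χ h
    have h0 := (M.cusp_iff _).1 (Finset.mem_filter.1 h).2
    rw [M.hat_F4 he hodd (IsIrr.isClassFunction χ.2), h0, hc1, hc2, mul_zero, zero_sub, map_neg, map_add,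
      Complex.conj_natCast, Complex.conj_natCast]
    ring
  have hval : ∀ χ ∈ (({l, s} : Finset (IrrCharacter G)) ∪ A3), χ.1 (M.u 1) - χ.1 (M.u e) = 0 := by
    intro χ h
    rcases Finset.mem_union.1 h with h | h
    · rcases Finset.mem_insert.1 h with h | h
      · rw [h]; show M.lin 1 (M.u 1) - M.lin 1 (M.u e) = 0; rw [lin_u, lin_u, sub_self]
      · rw [Finset.mem_singleton.1 h]; show M.sta 1 (M.u 1) - M.sta 1 (M.u e) = 0
        rw [M.sta_u one_ne_zero, M.sta_u he0, sub_self]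
    · obtain ⟨γ, _, h⟩ := (Finset.mem_filter.1 h).2
      rw [h, M.ps_u _ _ one_ne_zero, M.ps_u _ _ he0, sub_self]
  have F1 := M.sum_norm_sub he hodd hM
  have F2 := M.sum_norm_add he hodd hM
  rw [hU, Finset.sum_union e1234, Finset.sum_union e123] at F1
  rw [hU, Finset.sum_union e1234, Finset.sum_union e123, Finset.sum_union e12] at F2
  rw [Finset.sum_congr rfl (fun χ h => by rw [hval χ h, zero_mul]), Finset.sum_const_zero, zero_add,
    Finset.sum_pair hfp] at F1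
  rw [Finset.sum_pair hls, Finset.sum_pair hfp] at F2
  have g1 : (f.1 (M.u 1) - f.1 (M.u e)) * conj (f.1 (M.u 1) - f.1 (M.u e)) = q := by
    rw [show f.1 = φ from rfl, M.hat_F3 he hodd (IsIrr.isClassFunction hφ), hq, ← gs_norm hodd, map_mul, map_sub]
    rcases hh with ⟨h1, h2, _, _⟩ | ⟨h1, h2, _, _⟩ <;> rw [h1, h2] <;> simp
  have g2 : (p.1 (M.u 1) - p.1 (M.u e)) * conj (p.1 (M.u 1) - p.1 (M.u e)) = q := by
    rw [show p.1 = ψ from rfl, M.hat_F3 he hodd (IsIrr.isClassFunction hψ), hq, ← gs_norm hodd, map_mul, map_sub]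
    rcases hh with ⟨_, _, h1, h2⟩ | ⟨_, _, h1, h2⟩ <;> rw [h1, h2] <;> simp
  have g3 : (f.1 (M.u 1) + f.1 (M.u e)) * conj (f.1 (M.u 1) + f.1 (M.u e)) = 1 := by
    rw [show f.1 = φ from rfl, M.hat_F4 he hodd (IsIrr.isClassFunction hφ), a1]
    rcases hh with ⟨h1, h2, _, _⟩ | ⟨h1, h2, _, _⟩ <;> rw [h1, h2] <;> norm_num
  have g4 : (p.1 (M.u 1) + p.1 (M.u e)) * conj (p.1 (M.u 1) + p.1 (M.u e)) = 1 := by
    rw [show p.1 = ψ from rfl, M.hat_F4 he hodd (IsIrr.isClassFunction hψ), a2]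
    rcases hh with ⟨_, _, h1, h2⟩ | ⟨_, _, h1, h2⟩ <;> rw [h1, h2] <;> norm_num
  have g5 : (l.1 (M.u 1) + l.1 (M.u e)) * conj (l.1 (M.u 1) + l.1 (M.u e)) = 4 := by
    rw [show l.1 = M.lin 1 from rfl, lin_u, lin_u, map_add, map_one]; norm_num
  have g6 : (s.1 (M.u 1) + s.1 (M.u e)) * conj (s.1 (M.u 1) + s.1 (M.u e)) = 0 := by
    rw [show s.1 = M.sta 1 from rfl, M.sta_u one_ne_zero, M.sta_u he0]; norm_num
  have g7 : ∑ χ ∈ A3, (χ.1 (M.u 1) + χ.1 (M.u e)) * conj (χ.1 (M.u 1) + χ.1 (M.u e)) = A3.card * 4 := by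
    rw [Finset.sum_congr rfl (fun χ h => ?_), Finset.sum_const, nsmul_eq_mul]
    obtain ⟨γ, _, h⟩ := (Finset.mem_filter.1 h).2
    rw [h, M.ps_u _ _ one_ne_zero, M.ps_u _ _ he0, map_add, map_one]; norm_num
  rw [g1, g2, Finset.sum_congr rfl (fun χ _ => hD χ), ← Finset.sum_mul] at F1
  rw [g3, g4, g5, g6, g7, Finset.sum_congr rfl (fun χ h => hE χ h)] at F2
  have hq0 : (q : ℂ) ≠ 0 := card_F_ne
  have F1' : ∑ χ ∈ C, ((c1 χ : ℂ) - c2 χ) ^ 2 = 2 := by
    apply mul_right_cancel₀ hq0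
    linear_combination F1
  have F2' : ∑ χ ∈ C, ((c1 χ : ℂ) + c2 χ) ^ 2 = 2 * q := by
    have h1 : ((2 * A3.card : ℕ) : ℂ) = ((q - 3 : ℕ) : ℂ) := by rw [c3]
    rw [Nat.cast_sub (by omega)] at h1
    push_cast at h1
    linear_combination F2 - 2 * h1
  have F1z : ∑ χ ∈ C, ((c1 χ : ℤ) - c2 χ) ^ 2 = 2 := by exact_mod_cast F1'
  have F2z : ∑ χ ∈ C, ((c1 χ : ℤ) + c2 χ) ^ 2 = 2 * q := by exact_mod_cast F2'
  -- each cuspidal character has a nonzero coefficient
  have hpos : ∀ χ ∈ C, 1 ≤ c1 χ + c2 χ := by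
    intro χ h
    by_contra hc
    have h1 : c1 χ = 0 := by omega
    have h2 : c2 χ = 0 := by omega
    have h0 := (M.cusp_iff _).1 (Finset.mem_filter.1 h).2
    have h3 := M.hat_F2 he hodd (IsIrr.isClassFunction χ.2)
    rw [h0, hc1, hc2, h1, h2] at h3
    exact IsIrr.one_ne_zero χ.2 (by rw [h3]; simp)
  have hnn : ∀ χ ∈ C, 0 ≤ (c1 χ : ℤ) ^ 2 - c1 χ * c2 χ + (c2 χ : ℤ) ^ 2 - 1 := by
    intro χ h
    have h1 := hpos χ h
    have h2 : (1 : ℤ) ≤ c1 χ + c2 χ := by exact_mod_cast h1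
    nlinarith [sq_nonneg ((c1 χ : ℤ) - c2 χ), sq_nonneg ((c1 χ : ℤ) + c2 χ - 1)]
  have hCz : (2 * C.card : ℤ) = q + 3 := by exact_mod_cast hCc
  have hzero : ∑ χ ∈ C, ((c1 χ : ℤ) ^ 2 - c1 χ * c2 χ + (c2 χ : ℤ) ^ 2 - 1) = 0 := by
    have h1 : (4 : ℤ) * ∑ χ ∈ C, ((c1 χ : ℤ) ^ 2 - c1 χ * c2 χ + (c2 χ : ℤ) ^ 2 - 1) =
        3 * ∑ χ ∈ C, ((c1 χ : ℤ) - c2 χ) ^ 2 + ∑ χ ∈ C, ((c1 χ : ℤ) + c2 χ) ^ 2 - 4 * C.card := by
      rw [Finset.mul_sum, Finset.mul_sum, ← Finset.sum_add_distrib]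
      have : (4 * C.card : ℤ) = ∑ χ ∈ C, 4 := by rw [Finset.sum_const, nsmul_eq_mul]; ring
      rw [this, ← Finset.sum_sub_distrib]
      exact Finset.sum_congr rfl fun χ _ => by ring
    rw [F1z, F2z] at h1
    linarith
  rw [Finset.sum_eq_zero_iff_of_nonneg hnn] at hzero
  have htri : ∀ χ ∈ C, (c1 χ = 1 ∧ c2 χ = 1) ∨ (c1 χ = 1 ∧ c2 χ = 0) ∨ (c1 χ = 0 ∧ c2 χ = 1) := by
    intro χ h
    have h1 := hzero χ h
    have h2 := hpos χ h
    have h3 : (c1 χ : ℤ) ≤ 1 := by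
      nlinarith [sq_nonneg ((c1 χ : ℤ) - 2 * c2 χ), sq_nonneg ((c1 χ : ℤ) - 1)]
    have h4 : (c2 χ : ℤ) ≤ 1 := by
      nlinarith [sq_nonneg ((c2 χ : ℤ) - 2 * c1 χ), sq_nonneg ((c2 χ : ℤ) - 1)]
    omega
  set C1 : Finset (IrrCharacter G) := C.filter (fun χ => c1 χ ≠ c2 χ) with hC1
  have hC1c : C1.card = 2 := by
    have h1 : ∑ χ ∈ C, ((c1 χ : ℤ) - c2 χ) ^ 2 = ∑ χ ∈ C, if c1 χ ≠ c2 χ then (1 : ℤ) else 0 := by
      refine Finset.sum_congr rfl fun χ h => ?_
      rcases htri χ h with ⟨h1, h2⟩ | ⟨h1, h2⟩ | ⟨h1, h2⟩ <;> rw [h1, h2] <;> simp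
    rw [F1z, ← Finset.sum_filter, Finset.sum_const, nsmul_eq_mul, mul_one] at h1
    exact_mod_cast h1.symm
  have hC0 : (C.filter (fun χ => ¬ (c1 χ ≠ c2 χ))).card + 2 = C.card := by
    have := Finset.card_filter_add_card_filter_not (s := C) (fun χ => c1 χ ≠ c2 χ)
    rw [← hC1, hC1c] at this
    omega
  have heqc : ∀ χ : IrrCharacter G, M.hat (χ : G → ℂ) 1 = M.hat (χ : G → ℂ) e ↔ c1 χ = c2 χ := by
    intro χ; rw [hc1, hc2]; exact Nat.cast_inj
  refine ⟨?_, ?_, ?_⟩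
  · intro χ hχ hc
    have h1 : (⟨χ, hχ⟩ : IrrCharacter G) ∈ C := Finset.mem_filter.2 ⟨Finset.mem_univ _, hc⟩
    have h2 := hc1 ⟨χ, hχ⟩
    have h3 := hc2 ⟨χ, hχ⟩
    simp only at h2 h3
    rw [h2, h3]
    rcases htri _ h1 with ⟨h1, h2⟩ | ⟨h1, h2⟩ | ⟨h1, h2⟩ <;> rw [h1, h2] <;> simp
  · rw [natCard_filter']
    have : (Finset.univ.filter (fun χ : IrrCharacter G => M.Cusp (χ : G → ℂ) ∧ M.hat (χ : G → ℂ) 1 = M.hat (χ : G → ℂ) e)) =
        C.filter (fun χ => ¬ (c1 χ ≠ c2 χ)) := by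
      ext χ
      simp only [hC, Finset.mem_filter, Finset.mem_univ, true_and, not_not, heqc]
    rw [this]; omega
  · rw [natCard_filter']
    have : (Finset.univ.filter (fun χ : IrrCharacter G => M.Cusp (χ : G → ℂ) ∧ M.hat (χ : G → ℂ) 1 ≠ M.hat (χ : G → ℂ) e)) = C1 := by
      ext χ
      simp only [hC1, hC, Finset.mem_filter, Finset.mem_univ, true_and, ne_eq, heqc]
    rw [this, hC1c]

end Odd

end MG

end CfsgH6
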