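import Cfsg.Agent.H6.Sl13
set_option autoImplicit false

namespace CfsgH6
open Cfsg CfsgH4
open scoped ComplexConjugate

namespace MG
variable {G : Type*} [Group G] {F : Type*} [Field F] (M : MG G F)
variable [Fintype F] [DecidableEq F] [Fintype G]

section Odd
variable {e : F} (he : ¬ IsSquare e) (hodd : Odd (Fintype.card F))

omit [DecidableEq F] in
theorem half_add (hodd : Odd (Fintype.card F)) : (((Fintype.card F + 1) / 2 : ℕ) : ℂ) = ((Fintype.card F : ℂ) + 1) / 2 := by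
  obtain ⟨k, hk⟩ := hodd
  rw [hk, show (2 * k + 1 + 1) / 2 = k + 1 by omega]
  push_cast; ring

omit [DecidableEq F] in
theorem half_sub (hodd : Odd (Fintype.card F)) : (((Fintype.card F - 1) / 2 : ℕ) : ℂ) = ((Fintype.card F : ℂ) - 1) / 2 := by
  obtain ⟨k, hk⟩ := hodd
  rw [hk, show (2 * k + 1 - 1) / 2 = k by omega]
  push_cast; ring

/-- a constituent of the quadratic principal series -/
def Half (χ : G → ℂ) : Prop := classInner χ (M.ps (qc F) 1) ≠ 0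

include he hodd in
theorem half_props (hM : M.IsSL) {χ : G → ℂ} (hχ : IsIrrCharacter G χ) (hh : M.Half χ) :
    χ 1 = (((Fintype.card F + 1) / 2 : ℕ) : ℂ) ∧ M.hat χ 0 = 1 ∧ M.hat χ 1 + M.hat χ e = 1 ∧
    (M.hat χ 1 - M.hat χ e) ^ 2 = 1 ∧ ∃ he0 : e ≠ 0, IsIrrCharacter G (fun g => χ (M.phi he0 g)) ∧
      (fun g => χ (M.phi he0 g)) ≠ χ ∧ (M.ps (qc F) 1 = χ + fun g => χ (M.phi he0 g)) ∧
      ∀ ψ : G → ℂ, IsIrrCharacter G ψ → M.Half ψ → ψ ≠ χ → ψ = fun g => χ (M.phi he0 g) := by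
  classical
  have he0 : e ≠ 0 := fun h => he (by rw [h]; exact IsSquare.zero)
  obtain ⟨φ, ψ, hφ, hψ, hne, hsum, a1, a2, hs⟩ := M.split_qc he hodd hM
  have hor : ∀ {χ : G → ℂ}, IsIrrCharacter G χ → M.Half χ → χ = φ ∨ χ = ψ := by
    intro χ hχ hh
    by_contra hc
    push Not at hc
    apply hh
    rw [hsum, classInner_add_right, classInner_irr_ne hχ hφ hc.1, classInner_irr_ne hχ hψ hc.2, add_zero]
  have hF : ∀ {χ : G → ℂ}, IsIrrCharacter G χ → M.hat χ 0 = 1 → M.hat χ 1 + M.hat χ e = 1 →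
      χ 1 = (((Fintype.card F + 1) / 2 : ℕ) : ℂ) := by
    intro χ hχ h0 h1
    rw [M.hat_F2 he hodd (IsIrr.isClassFunction hχ), h0, h1, half_add hodd]; ring
  have hφ1 : M.hat φ 1 + M.hat φ e = 1 := by rcases hs with ⟨h1, h2, _, _⟩ | ⟨h1, h2, _, _⟩ <;> rw [h1, h2] <;> norm_num
  have hψ1 : M.hat ψ 1 + M.hat ψ e = 1 := by rcases hs with ⟨_, _, h1, h2⟩ | ⟨_, _, h1, h2⟩ <;> rw [h1, h2] <;> norm_num
  have hφ2 : (M.hat φ 1 - M.hat φ e) ^ 2 = 1 := by rcases hs with ⟨h1, h2, _, _⟩ | ⟨h1, h2, _, _⟩ <;> rw [h1, h2] <;> norm_num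
  have hψ2 : (M.hat ψ 1 - M.hat ψ e) ^ 2 = 1 := by rcases hs with ⟨_, _, h1, h2⟩ | ⟨_, _, h1, h2⟩ <;> rw [h1, h2] <;> norm_num
  have hφ3 : M.hat φ 1 ≠ M.hat φ e := by rcases hs with ⟨h1, h2, _, _⟩ | ⟨h1, h2, _, _⟩ <;> rw [h1, h2] <;> norm_num
  have hψ3 : M.hat ψ 1 ≠ M.hat ψ e := by rcases hs with ⟨_, _, h1, h2⟩ | ⟨_, _, h1, h2⟩ <;> rw [h1, h2] <;> norm_num
  have cφ := M.split_conj he hodd hφ hψ hne hsum hφ3 he0
  have cψ := M.split_conj he hodd hψ hφ hne.symm (by rw [hsum, add_comm]) hψ3 he0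
  rcases hor hχ hh with rfl | rfl
  · refine ⟨hF hφ a1 hφ1, a1, hφ1, hφ2, he0, ?_, ?_, ?_, ?_⟩
    · rw [cφ]; exact hψ
    · rw [cφ]; exact hne.symm
    · rw [cφ]; exact hsum
    · intro θ hθ hH hn
      rw [cφ]
      exact (hor hθ hH).resolve_left hn
  · refine ⟨hF hψ a2 hψ1, a2, hψ1, hψ2, he0, ?_, ?_, ?_, ?_⟩
    · rw [cψ]; exact hφ
    · rw [cψ]; exact hne
    · rw [cψ, hsum, add_comm]
    · intro θ hθ hH hn
      rw [cψ]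
      exact (hor hθ hH).resolve_right hn

include he hodd in
theorem exists_half (hM : M.IsSL) : ∃ χ : G → ℂ, IsIrrCharacter G χ ∧ M.Half χ := by
  obtain ⟨φ, ψ, hφ, hψ, hne, hsum, a1, a2, hs⟩ := M.split_qc he hodd hM
  refine ⟨φ, hφ, ?_⟩
  rw [Half, hsum, classInner_add_right, classInner_irr_self hφ, classInner_irr_ne hφ hψ hne, add_zero]
  exact one_ne_zero

include he hodd in
theorem irr_SL_odd (hM : M.IsSL) {χ : G → ℂ} (hχ : IsIrrCharacter G χ) :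
    (χ = M.lin 1 ∧ χ 1 = ((1 : ℕ) : ℂ)) ∨
    (χ = M.sta 1 ∧ χ 1 = ((Fintype.card F : ℕ) : ℂ)) ∨
    ((∃ γ : MulChar F ℂ, γ ^ 2 ≠ 1 ∧ χ = M.ps γ 1) ∧ χ 1 = ((Fintype.card F + 1 : ℕ) : ℂ)) ∨
    (M.Half χ ∧ χ 1 = (((Fintype.card F + 1) / 2 : ℕ) : ℂ)) ∨
    ((M.Cusp χ ∧ M.hat χ 1 = 1 ∧ M.hat χ e = 1) ∧ χ 1 = ((Fintype.card F - 1 : ℕ) : ℂ)) ∨
    ((M.Cusp χ ∧ ((M.hat χ 1 = 1 ∧ M.hat χ e = 0) ∨ (M.hat χ 1 = 0 ∧ M.hat χ e = 1))) ∧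
      χ 1 = (((Fintype.card F - 1) / 2 : ℕ) : ℂ)) := by
  by_cases h : M.Cusp χ
  · have h0 := (M.cusp_iff χ).1 h
    have h1 := M.hat_F2 he hodd (IsIrr.isClassFunction hχ)
    rw [h0, zero_add] at h1
    rcases (M.count_SL_odd he hodd hM).1 χ hχ h with h2 | h2 | h2
    · refine Or.inr (Or.inr (Or.inr (Or.inr (Or.inl ⟨⟨h, h2⟩, ?_⟩))))
      rw [h1, h2.1, h2.2, sub_cast]; ring
    · refine Or.inr (Or.inr (Or.inr (Or.inr (Or.inr ⟨⟨h, Or.inl h2⟩, ?_⟩))))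
      rw [h1, h2.1, h2.2, half_sub hodd]; ring
    · refine Or.inr (Or.inr (Or.inr (Or.inr (Or.inr ⟨⟨h, Or.inr h2⟩, ?_⟩))))
      rw [h1, h2.1, h2.2, half_sub hodd]; ring
  · rcases M.noncusp_SL hM hχ h with h | h | ⟨γ, h0, h⟩ | ⟨γ, h, h', h''⟩
    · exact Or.inl ⟨h, by rw [h, lin_one]; simp⟩
    · exact Or.inr (Or.inl ⟨h, by rw [h, sta_one]⟩)
    · exact Or.inr (Or.inr (Or.inl ⟨⟨γ, h0, h⟩, by rw [h, ps_one]; push_cast; ring⟩))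
    · rw [eq_qc hodd h h'] at h''
      exact Or.inr (Or.inr (Or.inr (Or.inl ⟨h'', (M.half_props he hodd hM hχ h'').1⟩)))

/-! consequences by degree, `q ≥ 5` -/

include he hodd in
theorem deg_SL_odd (hM : M.IsSL) (hq : 5 ≤ Fintype.card F) {χ : G → ℂ} (hχ : IsIrrCharacter G χ) {d : ℕ}
    (h : χ 1 = (d : ℂ)) :
    (d = 1 → χ = M.lin 1) ∧
    (d = Fintype.card F → χ = M.sta 1) ∧
    (d = Fintype.card F + 1 → ∃ γ : MulChar F ℂ, γ ^ 2 ≠ 1 ∧ χ = M.ps γ 1) ∧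
    (d = (Fintype.card F + 1) / 2 → M.Half χ) ∧
    (d = Fintype.card F - 1 → M.Cusp χ ∧ M.hat χ 1 = 1 ∧ M.hat χ e = 1) ∧
    (d = (Fintype.card F - 1) / 2 → M.Cusp χ ∧ ((M.hat χ 1 = 1 ∧ M.hat χ e = 0) ∨ (M.hat χ 1 = 0 ∧ M.hat χ e = 1))) := by
  have hh := hodd
  obtain ⟨k, hk⟩ := hh
  rcases M.irr_SL_odd he hodd hM hχ with ⟨a, b⟩ | ⟨a, b⟩ | ⟨a, b⟩ | ⟨a, b⟩ | ⟨a, b⟩ | ⟨a, b⟩
  all_goals
    have hd := Nat.cast_injective (h.symm.trans b)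
    refine ⟨fun h' => ?_, fun h' => ?_, fun h' => ?_, fun h' => ?_, fun h' => ?_, fun h' => ?_⟩
  all_goals first
    | exact a
    | (exfalso; omega)

end Odd

end MG

end CfsgH6
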