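import Cfsg.Agent.H6.Sl14
set_option autoImplicit false

namespace CfsgH6
open Cfsg CfsgH4
open scoped ComplexConjugate

theorem charP_two_of_even {F : Type*} [Field F] [Fintype F] (h : Even (Fintype.card F)) : CharP F 2 :=
  ringChar.of_eq ((FiniteField.even_card_iff_char_two (F := F)).2 (Nat.even_iff.1 h))

namespace MG
variable {G : Type*} [Group G] {F : Type*} [Field F] (M : MG G F)
variable [Fintype F] [DecidableEq F] [Fintype G]

theorem qc_neg_one (hodd : Odd (Fintype.card F)) : qc F (-1) = (-1 : ℂ) ^ ((Fintype.card F - 1) / 2) := by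
  classical
  rw [qc_apply]
  have h1 := quadraticChar_neg_one (F := F) (ringChar_ne_two hodd)
  have h2 : (Fintype.card F - 1) / 2 = Fintype.card F / 2 := by
    obtain ⟨k, hk⟩ := hodd
    omega
  have h3 : quadraticChar F (-1) = (-1 : ℤ) ^ (Fintype.card F / 2) := by
    rw [← ZMod.χ₄_eq_neg_one_pow (Nat.odd_iff.1 hodd), ← h1]
  rw [h2]
  have h4 : ((quadraticChar F (-1) : ℤ) : ℂ) = (((-1 : ℤ) ^ (Fintype.card F / 2) : ℤ) : ℂ) := by rw [← h3]
  push_cast at h4
  convert h4

theorem deg_q_SL (hM : M.IsSL) {χ : G → ℂ} (hχ : IsIrrCharacter G χ) (h : χ 1 = (Fintype.card F : ℂ)) :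
    χ = M.sta 1 := by
  rcases Nat.even_or_odd (Fintype.card F) with hev | hodd
  · haveI := charP_two_of_even hev
    have hq := Fintype.one_lt_card (α := F)
    rcases M.irr_SL_even hM hχ with h1 | h1 | ⟨γ, _, h1⟩ | ⟨_, h2, _⟩
    · rw [h1, lin_one] at h
      exact absurd (by exact_mod_cast h) (show 1 ≠ Fintype.card F by omega)
    · exact h1
    · rw [h1, ps_one] at h
      exact absurd (by exact_mod_cast h) (show Fintype.card F + 1 ≠ Fintype.card F by omega)
    · rw [h, ← sub_cast] at h2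
      exact absurd (by exact_mod_cast h2) (show Fintype.card F ≠ Fintype.card F - 1 by omega)
  · obtain ⟨e, he⟩ := exists_nonsq hodd
    have hh := hodd
    obtain ⟨k, hk⟩ := hh
    have hq := Fintype.one_lt_card (α := F)
    rcases M.irr_SL_odd he hodd hM hχ with ⟨a, b⟩ | ⟨a, b⟩ | ⟨a, b⟩ | ⟨a, b⟩ | ⟨a, b⟩ | ⟨a, b⟩
    all_goals have hd := Nat.cast_injective (h.symm.trans b)
    all_goals first
      | exact a
      | (exfalso; omega)

theorem deg_q1_SL (hM : M.IsSL) {χ : G → ℂ} (hχ : IsIrrCharacter G χ) (h : χ 1 = (Fintype.card F : ℂ) + 1) :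
    ∃ γ : MulChar F ℂ, γ ^ 2 ≠ 1 ∧ χ = M.ps γ 1 := by
  have h' : χ 1 = ((Fintype.card F + 1 : ℕ) : ℂ) := by rw [h]; push_cast; ring
  rcases Nat.even_or_odd (Fintype.card F) with hev | hodd
  · haveI := charP_two_of_even hev
    have hq := Fintype.one_lt_card (α := F)
    rcases M.irr_SL_even hM hχ with h1 | h1 | h1 | ⟨_, h2, _⟩
    · rw [h1, lin_one] at h'
      exact absurd (by exact_mod_cast h') (show 1 ≠ Fintype.card F + 1 by omega)
    · rw [h1, sta_one] at h'
      exact absurd (by exact_mod_cast h') (show Fintype.card F ≠ Fintype.card F + 1 by omega)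
    · exact h1
    · rw [h', ← sub_cast] at h2
      exact absurd (by exact_mod_cast h2) (show Fintype.card F + 1 ≠ Fintype.card F - 1 by omega)
  · obtain ⟨e, he⟩ := exists_nonsq hodd
    have hh := hodd
    obtain ⟨k, hk⟩ := hh
    have hq := Fintype.one_lt_card (α := F)
    rcases M.irr_SL_odd he hodd hM hχ with ⟨a, b⟩ | ⟨a, b⟩ | ⟨a, b⟩ | ⟨a, b⟩ | ⟨a, b⟩ | ⟨a, b⟩
    all_goals have hd := Nat.cast_injective (h'.symm.trans b)
    all_goals first
      | exact a
      | (exfalso; omega)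

theorem deg_c_SL_u (hM : M.IsSL) (hq : 4 ≤ Fintype.card F) {χ : G → ℂ} (hχ : IsIrrCharacter G χ)
    (h : χ 1 = (Fintype.card F : ℂ) - 1) : χ (M.u 1) = -1 := by
  rw [← sub_cast] at h
  rcases Nat.even_or_odd (Fintype.card F) with hev | hodd
  · haveI := charP_two_of_even hev
    rcases M.irr_SL_even hM hχ with h1 | h1 | ⟨γ, _, h1⟩ | h1
    · rw [h1, lin_one] at h
      exact absurd (by exact_mod_cast h) (show 1 ≠ Fintype.card F - 1 by omega)
    · rw [h1, sta_one] at h
      exact absurd (by exact_mod_cast h) (show Fintype.card F ≠ Fintype.card F - 1 by omega)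
    · rw [h1, ps_one] at h
      exact absurd (by exact_mod_cast h) (show Fintype.card F + 1 ≠ Fintype.card F - 1 by omega)
    · exact h1.2.2
  · obtain ⟨e, he⟩ := exists_nonsq hodd
    have hh := hodd
    obtain ⟨k, hk⟩ := hh
    have h1 := (M.deg_SL_odd he hodd hM (by omega) hχ h).2.2.2.2.1 rfl
    have h2 := M.hat_F3 he hodd (IsIrr.isClassFunction hχ)
    have h3 := M.hat_F4 he hodd (IsIrr.isClassFunction hχ)
    rw [h1.2.1, h1.2.2] at h2 h3
    rw [(M.cusp_iff χ).1 h1.1] at h3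
    linear_combination (h2 + h3) / 2

/-- at elements whose centralizer class is invariant, a constituent of the quadratic series takes half the value -/
theorem half_val {e : F} (he : ¬ IsSquare e) (hodd : Odd (Fintype.card F)) (hM : M.IsSL) {χ : G → ℂ}
    (hχ : IsIrrCharacter G χ) (hh : M.Half χ) {g : G} (hg : ∀ he0 : e ≠ 0, IsConj g (M.phi he0 g)) :
    2 * χ g = M.ps (qc F) 1 g := by
  obtain ⟨_, _, _, _, he0, _, _, h1, _⟩ := M.half_props he hodd hM hχ hh
  rw [h1]
  show _ = χ g + χ (M.phi he0 g)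
  rw [← IsClassFunction.eq_of_isConj (IsIrr.isClassFunction hχ) (hg he0)]; ring

omit [Fintype G] [DecidableEq F] in
theorem ell_tr {M : MG G F} [DecidableEq F] [Fintype G] (hodd : Odd (Fintype.card F)) (hM : M.IsSL) {g : G} (h : M.Ell g) : M.tr g ^ 2 ≠ 4 := by
  intro h4
  have h2 := two_ne_of_odd hodd
  have h0 := h.norm_ne (x := - M.tr g / 2) (y := 1) (fun h => one_ne_zero h.2)
  apply h0
  rw [hM g]
  field_simp
  linear_combination -h4

theorem half_ell {e : F} (he : ¬ IsSquare e) (hodd : Odd (Fintype.card F)) (hM : M.IsSL) {χ : G → ℂ}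
    (hχ : IsIrrCharacter G χ) (hh : M.Half χ) {g : G} (hg : M.Ell g) : χ g = 0 := by
  have h1 := M.half_val he hodd hM hχ hh (g := g) (fun he0 => M.conj_SL_tr hM hodd (ell_tr hodd hM hg) (by
    rw [tr, tr, phi00, phi11]))
  rw [M.ps_ell _ _ hg] at h1
  exact (mul_eq_zero.1 h1).resolve_left two_ne_zero

theorem half_split {e : F} (he : ¬ IsSquare e) (hodd : Odd (Fintype.card F)) (hM : M.IsSL) {χ : G → ℂ}
    (hχ : IsIrrCharacter G χ) (hh : M.Half χ) {g : G} (h01 : M.m g 0 1 = 0) (h10 : M.m g 1 0 = 0)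
    (hne : M.m g 0 0 ≠ M.m g 1 1) : χ g = qc F (M.m g 0 0) := by
  have hb := M.B_ne (g := g) h10
  have h1 := M.half_val he hodd hM hχ hh (g := g) (fun he0 => by
    have : M.phi he0 g = g := M.ext (by rw [phi00]) (by rw [phi01, h01, mul_zero]) (by rw [phi10, h10, mul_zero])
      (by rw [phi11])
    rw [this])
  have hd := hM g
  rw [dt, h01, h10] at hd
  have h2 : M.m g 1 1 = (M.m g 0 0)⁻¹ := eq_inv_of_mul_eq_one_right (by linear_combination hd)
  rw [M.ps_split _ _ h01 h10 hne, MulChar.one_apply hb.1.isUnit, MulChar.one_apply hb.2.isUnit, h2, mc_inv,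
    qc_inv] at h1
  linear_combination h1 / 2

/-- the two small cuspidal characters -/
theorem small_conj {e : F} (he : ¬ IsSquare e) (hodd : Odd (Fintype.card F)) (hM : M.IsSL) {χ ψ : G → ℂ}
    (hχ : IsIrrCharacter G χ) (hψ : IsIrrCharacter G ψ) (hne : χ ≠ ψ) (c1 : M.Cusp χ) (c2 : M.Cusp ψ)
    (h1 : M.hat χ 1 ≠ M.hat χ e) (h2 : M.hat ψ 1 ≠ M.hat ψ e) (he0 : e ≠ 0) : ψ = fun g => χ (M.phi he0 g) := by
  classical
  have hcard := (M.count_SL_odd he hodd hM).2.2
  have h3 := M.isIrr_phi hχ he0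
  have h4 := M.ne_of_hat he hodd hχ h1 he0
  have h5 : M.Cusp (fun g => χ (M.phi he0 g)) := by
    show ∑ x : F, χ (M.phi he0 (M.u x)) = 0
    have : ∑ x : F, χ (M.phi he0 (M.u x)) = ∑ x : F, χ (M.u x) :=
      Fintype.sum_bijective (fun x : F => e * x) (mulLeft_bijective₀ _ he0) _ _ fun x => by rw [phi_u]
    rw [this]; exact c1
  have h6 : M.hat (fun g => χ (M.phi he0 g)) 1 ≠ M.hat (fun g => χ (M.phi he0 g)) e := by
    intro h7
    have f3 := M.hat_F3 he hodd (IsIrr.isClassFunction h3)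
    rw [h7, sub_self, zero_mul] at f3
    simp only [phi_u, mul_one] at f3
    have f4 := M.hat_F3 he hodd (IsIrr.isClassFunction hχ)
    have e2 : χ (M.u (e * e)) = χ (M.u 1) :=
      (IsClassFunction.eq_of_isConj (IsIrr.isClassFunction hχ) (M.conj_u_of (x := 1) he0 (by ring))).symm
    rw [e2] at f3
    rw [show χ (M.u 1) - χ (M.u e) = 0 by linear_combination -f3] at f4
    rcases mul_eq_zero.1 f4.symm with h8 | h8
    · exact h1 (sub_eq_zero.1 h8)
    · exact gs_ne hodd h8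
  by_contra hc
  have h7 : Nat.card (Fin 3) ≤ Nat.card {χ : IrrCharacter G // M.Cusp (χ : G → ℂ) ∧ M.hat (χ : G → ℂ) 1 ≠ M.hat (χ : G → ℂ) e} := by
    let f : Fin 3 → {χ : IrrCharacter G // M.Cusp (χ : G → ℂ) ∧ M.hat (χ : G → ℂ) 1 ≠ M.hat (χ : G → ℂ) e} :=
      ![⟨⟨χ, hχ⟩, c1, h1⟩, ⟨⟨ψ, hψ⟩, c2, h2⟩, ⟨⟨_, h3⟩, h5, h6⟩]
    refine Nat.card_le_card_of_injective f ?_
    have n1 : f 0 ≠ f 1 := fun h => hne (congrArg (fun z => z.1.1) h)
    have n2 : f 0 ≠ f 2 := fun h => h4 (congrArg (fun z => z.1.1) h).symm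
    have n3 : f 1 ≠ f 2 := fun h => hc (congrArg (fun z => z.1.1) h)
    intro i j hij
    fin_cases i <;> fin_cases j <;> first | rfl | skip
    · exact absurd hij n1
    · exact absurd hij n2
    · exact absurd hij.symm n1
    · exact absurd hij n3
    · exact absurd hij.symm n2
    · exact absurd hij.symm n3
  rw [hcard] at h7
  simp at h7

end MG

end CfsgH6
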