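import Cfsg.Agent.H6.Sl15
set_option autoImplicit false

namespace CfsgH6
open Cfsg CfsgH4
open scoped ComplexConjugate

namespace MG
variable {G : Type*} [Group G] {F : Type*} [Field F] (M : MG G F)
variable [Fintype F] [DecidableEq F] [Fintype G]

theorem Ell.pol_ne {M : MG G F} (hM : M.IsSL) {g : G} (h : M.Ell g) (a : F) : a * (M.tr g - a) ≠ 1 := by
  intro h1
  have h0 := h.norm_ne (x := -a) (y := 1) (fun h => one_ne_zero h.2)
  apply h0
  rw [hM g]
  linear_combination -h1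

theorem tr_b_ne {M : MG G F} (hM : M.IsSL) {g h : G} (hg : M.Ell g) (ht : M.tr g = M.tr h) : M.m h 0 1 ≠ 0 := by
  intro hb
  have hd := hM h
  rw [dt, hb] at hd
  apply hg.pol_ne hM (M.m h 0 0)
  rw [ht, tr]
  linear_combination hd

theorem tr_c_ne {M : MG G F} (hM : M.IsSL) {g h : G} (hg : M.Ell g) (ht : M.tr g = M.tr h) : M.m h 1 0 ≠ 0 := by
  intro hb
  have hd := hM h
  rw [dt, hb] at hd
  apply hg.pol_ne hM (M.m h 0 0)
  rw [ht, tr]
  linear_combination hd

theorem card_class_ell (hM : M.IsSL) (hodd : Odd (Fintype.card F)) {g : G} (hg : M.Ell g) :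
    Nat.card (ConjClasses.mk g).carrier = Fintype.card F * (Fintype.card F - 1) := by
  have h1 : ∀ h : G, h ∈ (ConjClasses.mk g).carrier ↔ M.tr g = M.tr h := by
    intro h
    rw [ConjClasses.mem_carrier_iff_mk_eq, ConjClasses.mk_eq_mk_iff_isConj]
    exact ⟨fun hc => (M.tr_conj hc).symm, fun ht => (M.conj_SL_tr hM hodd (ell_tr hodd hM hg) ht).symm⟩
  have h2 : Nat.card (ConjClasses.mk g).carrier = Nat.card (F × {b : F // b ≠ 0}) := by
    refine Nat.card_eq_of_bijective (fun h => (M.m h.1 0 0, ⟨M.m h.1 0 1, tr_b_ne hM hg ((h1 _).1 h.2)⟩)) ⟨?_, ?_⟩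
    · intro h h' he
      simp only [Prod.mk.injEq, Subtype.mk.injEq] at he
      obtain ⟨e00, e01⟩ := he
      have t := (h1 _).1 h.2
      have t' := (h1 _).1 h'.2
      have d := hM h.1
      have d' := hM h'.1
      have e11 : M.m h.1 1 1 = M.m h'.1 1 1 := by
        rw [tr, tr] at t t'
        linear_combination t' - t - e00
      have hb := tr_b_ne hM hg t
      have e10 : M.m h.1 1 0 = M.m h'.1 1 0 := by
        apply mul_left_cancel₀ hb
        rw [dt] at d d'
        rw [← e00, ← e01, ← e11] at d'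
        linear_combination d' - d
      exact Subtype.ext (M.ext e00 e01 e10 e11)
    · rintro ⟨a, b, hb⟩
      obtain ⟨h, hh⟩ := M.ex1 !![a, b; (a * (M.tr g - a) - 1) / b, M.tr g - a] (by
        rw [Matrix.det_fin_two]; simp; field_simp; ring)
      have h00 : M.m h 0 0 = a := by rw [hh]; rfl
      have h01 : M.m h 0 1 = b := by rw [hh]; rfl
      have h11 : M.m h 1 1 = M.tr g - a := by rw [hh]; rfl
      have ht : M.tr g = M.tr h := by show M.tr g = M.m h 0 0 + M.m h 1 1; rw [h00, h11]; ring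
      exact ⟨⟨h, (h1 h).2 ht⟩, Prod.ext h00 (Subtype.ext h01)⟩
  rw [h2, Nat.card_prod, Nat.card_eq_fintype_card (α := F), Nat.card_eq_fintype_card, Fintype.card_subtype_compl]
  simp

theorem card_cent_ell_SL (hM : M.IsSL) (hodd : Odd (Fintype.card F)) {g : G} (hg : M.Ell g) :
    Nat.card (Subgroup.centralizer ({g} : Set G)) = Fintype.card F + 1 := by
  have h1 := card_carrier_mul g
  rw [M.card_class_ell hM hodd hg, M.card_SL hM] at h1
  have hq := Fintype.one_lt_card (α := F)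
  obtain ⟨n, hn⟩ := Nat.exists_eq_add_of_lt hq
  rw [hn] at h1 ⊢
  have e1 : (1 + n + 1) ^ 2 - 1 = (n + 1) * (n + 3) := by
    rw [show (1 + n + 1) ^ 2 = (n + 1) * (n + 3) + 1 by ring, Nat.add_sub_cancel]
  have e2 : 1 + n + 1 - 1 = n + 1 := by omega
  rw [e1, e2] at h1
  have h2 : 0 < (n + 1) * (n + 2) := by positivity
  apply Nat.eq_of_mul_eq_mul_left h2
  linarith

/-- special case of three elements -/
theorem ell_three (hM : M.IsSL) (h3 : Fintype.card F = 3) {χ : G → ℂ} (hχ : IsIrrCharacter G χ)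
    (hd : χ 1 = 2) {g : G} (hg : M.Ell g) : χ g = 0 := by
  classical
  have hodd : Odd (Fintype.card F) := by rw [h3]; decide
  obtain ⟨e, he⟩ := exists_nonsq hodd
  have hc := (M.count_SL_odd he hodd hM).2.2
  have hcol := col_orth_isConj (IsConj.refl g)
  rw [M.card_cent_ell_SL hM hodd hg, h3] at hcol
  -- the two small cuspidal characters
  rw [Nat.card_eq_two_iff] at hc
  obtain ⟨a, b, hab, -⟩ := hc
  have hdeg : ∀ a : {χ : IrrCharacter G // M.Cusp (χ : G → ℂ) ∧ M.hat (χ : G → ℂ) 1 ≠ M.hat (χ : G → ℂ) e}, a.1.1 1 = 1 := by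
    intro a
    rw [M.hat_F2 he hodd (IsIrr.isClassFunction a.1.2), (M.cusp_iff _).1 a.2.1, h3]
    rcases (M.count_SL_odd he hodd hM).1 a.1.1 a.1.2 a.2.1 with ⟨h1, h2⟩ | ⟨h1, h2⟩ | ⟨h1, h2⟩
    · exfalso; apply a.2.2; rw [h1, h2]
    · rw [h1, h2]; norm_num
    · rw [h1, h2]; norm_num
  have hnorm : ∀ ψ : IrrCharacter G, ψ.1 1 = 1 → ψ.1 g * conj (ψ.1 g) = 1 := by
    intro ψ h1
    obtain ⟨n, ρ, hρ, hψ⟩ := ψ.2
    have hn : n = 1 := by
      have := congrFun hψ 1
      rw [h1, Representation.char_one] at this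
      have h2 : ((n : ℕ) : ℂ) = 1 := by simpa using this
      exact_mod_cast h2
    subst hn
    have hm : ∀ x y : G, ψ.1 (x * y) = ψ.1 x * ψ.1 y := by
      intro x y
      rw [← hψ]
      have key : ∀ f : (Fin 1 → ℂ) →ₗ[ℂ] (Fin 1 → ℂ), ∃ c : ℂ, f = c • LinearMap.id := by
        intro f
        refine ⟨f (fun _ => 1) 0, ?_⟩
        refine LinearMap.ext fun v => ?_
        funext i
        have hv : v = v 0 • (fun _ => (1 : ℂ)) := by
          funext j; fin_cases j; simp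
        have hi : i = 0 := Subsingleton.elim _ _
        subst hi
        conv_lhs => rw [hv, map_smul]
        simp [mul_comm]
      obtain ⟨c, hc⟩ := key (ρ x)
      obtain ⟨d, hd⟩ := key (ρ y)
      simp only [Representation.character, map_mul, hc, hd]
      have e1 : (c • (LinearMap.id : (Fin 1 → ℂ) →ₗ[ℂ] (Fin 1 → ℂ))) * (d • LinearMap.id) = (c * d) • LinearMap.id := by
        refine LinearMap.ext fun v => ?_
        simp [Module.End.mul_apply, smul_smul, mul_comm]
      rw [e1]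
      simp
    have h4 : ψ.1 g * ψ.1 g⁻¹ = 1 := by rw [← hm, mul_inv_cancel, h1]
    rw [← IsCharacter.inv_eq (IsIrr.isCharacter ψ.2)]
    exact h4
  let l : IrrCharacter G := ⟨M.lin 1, M.isIrr_lin 1⟩
  let s : IrrCharacter G := ⟨M.sta 1, M.isIrr_sta_SL hM⟩
  let x : IrrCharacter G := ⟨χ, hχ⟩
  have vl : l.1 g * conj (l.1 g) = 1 := by
    show M.lin 1 g * conj (M.lin 1 g) = 1
    rw [M.lin_SL hM]; simp
  have vs : s.1 g * conj (s.1 g) = 1 := by
    show M.sta 1 g * conj (M.sta 1 g) = 1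
    rw [sta, M.ps_ell _ _ hg, M.lin_SL hM]; simp
  have va := hnorm a.1 (hdeg a)
  have vb := hnorm b.1 (hdeg b)
  have dl : l.1 1 = 1 := M.lin_one 1
  have ds : s.1 1 = 3 := by show M.sta 1 1 = 3; rw [M.sta_one, h3]; norm_num
  have n1 : l ≠ s := by intro h; rw [h, ds] at dl; norm_num at dl
  have n2 : l ≠ a.1 := by
    intro h; have := a.2.1; rw [← h] at this; exact M.not_cusp_lin 1 this
  have n3 : l ≠ b.1 := by
    intro h; have := b.2.1; rw [← h] at this; exact M.not_cusp_lin 1 this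
  have n4 : s ≠ a.1 := by
    intro h; have := a.2.1; rw [← h] at this; exact M.not_cusp_sta 1 this
  have n5 : s ≠ b.1 := by
    intro h; have := b.2.1; rw [← h] at this; exact M.not_cusp_sta 1 this
  have n6 : a.1 ≠ b.1 := fun h => hab (Subtype.ext h)
  have dx : x.1 1 = 2 := hd
  have m1 : x ≠ l := by intro h; rw [h, dl] at dx; norm_num at dx
  have m2 : x ≠ s := by intro h; rw [h, ds] at dx; norm_num at dx
  have m3 : x ≠ a.1 := by intro h; rw [h, hdeg a] at dx; norm_num at dx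
  have m4 : x ≠ b.1 := by intro h; rw [h, hdeg b] at dx; norm_num at dx
  -- convert to reals
  have hre : ∑ ψ : IrrCharacter G, ‖ψ.1 g‖ ^ 2 = 4 := by
    have h1 : ∀ ψ : IrrCharacter G, ψ.1 g * conj (ψ.1 g) = ((‖ψ.1 g‖ ^ 2 : ℝ) : ℂ) := fun ψ => by
      rw [Complex.mul_conj, Complex.normSq_eq_norm_sq]
    rw [Finset.sum_congr rfl (fun ψ _ => h1 ψ), ← Complex.ofReal_sum] at hcol
    have : ((∑ ψ : IrrCharacter G, ‖ψ.1 g‖ ^ 2 : ℝ) : ℂ) = ((4 : ℝ) : ℂ) := by rw [hcol]; norm_num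
    exact_mod_cast this
  have hn1 : ∀ ψ : IrrCharacter G, ψ.1 g * conj (ψ.1 g) = 1 → ‖ψ.1 g‖ ^ 2 = 1 := by
    intro ψ h
    rw [Complex.mul_conj, Complex.normSq_eq_norm_sq] at h
    exact_mod_cast h
  have hsub : ∑ ψ ∈ ({l, s, a.1, b.1, x} : Finset (IrrCharacter G)), ‖ψ.1 g‖ ^ 2 ≤ 4 := by
    rw [← hre]
    exact Finset.sum_le_sum_of_subset_of_nonneg (Finset.subset_univ _) fun _ _ _ => sq_nonneg _
  rw [Finset.sum_insert (by simp [n1, n2, n3, m1.symm]), Finset.sum_insert (by simp [n4, n5, m2.symm]),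
    Finset.sum_insert (by simp [n6, m3.symm]), Finset.sum_insert (by simp [m4.symm]), Finset.sum_singleton,
    hn1 l vl, hn1 s vs, hn1 _ va, hn1 _ vb] at hsub
  have h5 : ‖x.1 g‖ ^ 2 = 0 := le_antisymm (by linarith) (sq_nonneg _)
  have h6 : ‖x.1 g‖ = 0 := by simpa using h5
  exact norm_eq_zero.1 h6

end MG

end CfsgH6
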