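import Cfsg.Agent.H6.Sl16
set_option autoImplicit false

namespace CfsgH6
open Cfsg CfsgH4
open scoped ComplexConjugate

namespace MG
variable {G : Type*} [Group G] {F : Type*} [Field F] (M : MG G F)
variable [Fintype F] [DecidableEq F] [Fintype G]

theorem ell_of_tr {M : MG G F} (hM : M.IsSL) {g : G} (h : ∀ a, a * (M.tr g - a) ≠ 1) : M.Ell g := by
  intro c v hv he
  have h1 : (M.m g - c • (1 : Matrix (Fin 2) (Fin 2) F)).det = 0 := by
    apply Matrix.exists_mulVec_eq_zero_iff.1
    refine ⟨v, hv, ?_⟩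
    rw [Matrix.sub_mulVec, he, Matrix.smul_mulVec, Matrix.one_mulVec, sub_self]
  rw [Matrix.det_fin_two] at h1
  simp at h1
  apply h c
  have hd := hM g
  rw [dt] at hd
  rw [tr]
  linear_combination hd - h1

theorem ell_iff_tr {M : MG G F} (hM : M.IsSL) {g : G} : M.Ell g ↔ ∀ a, a * (M.tr g - a) ≠ 1 :=
  ⟨fun h a => h.pol_ne hM a, ell_of_tr hM⟩

theorem ell_conj {M : MG G F} (hM : M.IsSL) {g h : G} (ht : M.tr g = M.tr h) (hg : M.Ell g) : M.Ell h := by
  rw [ell_iff_tr hM] at hg ⊢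
  rwa [← ht]

theorem Ell.not_Sc {M : MG G F} {g : G} (h : M.Ell g) : ¬ M.Sc g := fun hs => h.h10 hs.2.1

omit [Fintype F] [DecidableEq F] [Fintype G] in
theorem cent_ng (c : G) : Subgroup.centralizer ({M.ng * c} : Set G) = Subgroup.centralizer ({c} : Set G) := by
  ext h
  rw [mem_cent_single, mem_cent_single]
  constructor
  · intro h1
    have : M.ng * (c * h) = M.ng * (h * c) := by
      rw [← mul_assoc, h1, ← mul_assoc, ← mul_assoc, M.ng_comm h]
    exact mul_left_cancel this
  · intro h1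
    rw [mul_assoc, h1, ← mul_assoc, ← mul_assoc, M.ng_comm h]

theorem cent_not_ell (hM : M.IsSL) (hodd : Odd (Fintype.card F)) {c : G} (hs : ¬ M.Sc c) (hc : ¬ M.Ell c) :
    ¬ (Fintype.card F + 1 ∣ Nat.card (Subgroup.centralizer ({c} : Set G))) := by
  have hh := hodd
  obtain ⟨k, hk⟩ := hh
  have hq1 := Fintype.one_lt_card (α := F)
  rw [ell_iff_tr hM] at hc
  push Not at hc
  obtain ⟨a, ha⟩ := hc
  by_cases ht : M.tr c ^ 2 = 4
  · have h2 : Nat.card (Subgroup.centralizer ({c} : Set G)) = 2 * Fintype.card F := by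
      have h3 : (M.tr c - 2) * (M.tr c + 2) = 0 := by linear_combination ht
      rcases mul_eq_zero.1 h3 with h4 | h4
      · obtain ⟨x, hx, hx2⟩ := M.unip_conj_ne (hM c) (sub_eq_zero.1 h4) hs
        rw [← card_cent_conj hx2, M.card_cent_u_SL hM hx, card_sq_one_odd hodd, Nat.card_eq_fintype_card]
      · have hs' : ¬ M.Sc (M.ng * c) := by
          rintro ⟨e1, e2, e3⟩
          apply hs
          simp only [mul00, mul01, mul10, mul11, ng00, ng01, ng10, ng11] at e1 e2 e3
          refine ⟨by linear_combination -e1, by linear_combination -e2, by linear_combination -e3⟩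
        obtain ⟨x, hx, hx2⟩ := M.unip_conj_ne (hM (M.ng * c)) (by rw [tr_ng]; linear_combination -h4) hs'
        rw [← M.cent_ng, ← card_cent_conj hx2, M.card_cent_u_SL hM hx, card_sq_one_odd hodd, Nat.card_eq_fintype_card]
    rw [h2]
    intro hdvd
    have h3 : Fintype.card F + 1 ∣ 2 := by
      have h4 : Fintype.card F + 1 ∣ 2 * (Fintype.card F + 1) := Dvd.intro_left 2 rfl
      have h5 := (Nat.dvd_sub h4 hdvd)
      have h6 : 2 * (Fintype.card F + 1) - 2 * Fintype.card F = 2 := by omega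
      rwa [h6] at h5
    have := Nat.le_of_dvd (by norm_num) h3
    omega
  · obtain ⟨d, hd⟩ := M.ex1 !![a, 0; 0, M.tr c - a] (by rw [Matrix.det_fin_two]; simpa using ha)
    have d00 : M.m d 0 0 = a := by rw [hd]; rfl
    have d01 : M.m d 0 1 = 0 := by rw [hd]; rfl
    have d10 : M.m d 1 0 = 0 := by rw [hd]; rfl
    have d11 : M.m d 1 1 = M.tr c - a := by rw [hd]; rfl
    have hcd : IsConj c d := M.conj_SL_tr hM hodd ht (by show M.tr c = M.m d 0 0 + M.m d 1 1; rw [d00, d11]; ring)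
    rw [card_cent_conj hcd, M.cent_diag d01 d10 (by
      rw [d00, d11]
      intro h4
      apply ht
      have h5 : M.tr c = 2 * a := by linear_combination -h4
      rw [← h4] at ha
      rw [h5]; linear_combination 4 * ha), M.card_T_SL hM]
    intro hdvd
    have := Nat.le_of_dvd (by omega) hdvd
    omega

/-- elements of an abelian subgroup of order `q+1` are scalar or elliptic -/
theorem mem_ell (hM : M.IsSL) (hodd : Odd (Fintype.card F)) {C : Subgroup G} (hC : ∀ x ∈ C, ∀ y ∈ C, x * y = y * x)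
    (hcard : Nat.card C = Fintype.card F + 1) {c : G} (hc : c ∈ C) (hs : ¬ M.Sc c) : M.Ell c := by
  by_contra h
  apply M.cent_not_ell hM hodd hs h
  rw [← hcard]
  apply Subgroup.card_dvd_of_le
  intro x hx
  rw [mem_cent_single]
  exact hC c hc x hx

theorem cent_eq (hM : M.IsSL) (hodd : Odd (Fintype.card F)) {C : Subgroup G} (hC : ∀ x ∈ C, ∀ y ∈ C, x * y = y * x)
    (hcard : Nat.card C = Fintype.card F + 1) {c : G} (hc : c ∈ C) (hs : ¬ M.Sc c) :
    Subgroup.centralizer ({c} : Set G) = C := by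
  symm
  apply Subgroup.eq_of_le_of_card_ge
  · intro x hx
    rw [mem_cent_single]
    exact hC c hc x hx
  · rw [M.card_cent_ell_SL hM hodd (M.mem_ell hM hodd hC hcard hc hs), hcard]

theorem cent_tr (hM : M.IsSL) (hodd : Odd (Fintype.card F)) {c h : G} (hc : M.Ell c)
    (hh : h ∈ Subgroup.centralizer ({c} : Set G)) (ht : M.tr h = M.tr c) : h = c ∨ h = c⁻¹ := by
  rw [mem_cent_single] at hh
  have h2 := two_ne_of_odd hodd
  have h10 := hc.h10
  have ht2 := ell_tr hodd hM hc
  have e00 := congrArg (fun g => M.m g 0 0) hh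
  have e10 := congrArg (fun g => M.m g 1 0) hh
  simp only [mul00, mul10] at e00 e10
  have dc := hM c
  have dh := hM h
  -- y and x
  obtain ⟨y, hy⟩ : ∃ y, M.m h 1 0 = y * M.m c 1 0 := ⟨M.m h 1 0 / M.m c 1 0, by field_simp⟩
  have hy01 : M.m h 0 1 = y * M.m c 0 1 := by
    apply mul_right_cancel₀ h10
    rw [hy] at e00
    linear_combination -e00
  have hdiff : M.m h 1 1 - M.m h 0 0 = y * (M.m c 1 1 - M.m c 0 0) := by
    apply mul_right_cancel₀ h10
    rw [hy] at e10
    linear_combination -e10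
  rw [tr, tr] at ht
  have h00 : 2 * M.m h 0 0 = M.m c 0 0 + M.m c 1 1 - y * (M.m c 1 1 - M.m c 0 0) := by
    linear_combination ht - hdiff
  have h11 : 2 * M.m h 1 1 = M.m c 0 0 + M.m c 1 1 + y * (M.m c 1 1 - M.m c 0 0) := by
    linear_combination ht + hdiff
  rw [dt] at dc dh
  have key : (1 - y ^ 2) * ((M.m c 0 0 + M.m c 1 1) ^ 2 - 4) = 0 := by
    rw [hy, hy01] at dh
    linear_combination 4 * dh - 4 * y ^ 2 * dc - (2 * M.m h 1 1) * h00 - (M.m c 0 0 + M.m c 1 1 - y * (M.m c 1 1 - M.m c 0 0)) * h11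
  have h3 : (M.m c 0 0 + M.m c 1 1) ^ 2 - 4 ≠ 0 := fun h4 => ht2 (by rw [tr]; linear_combination h4)
  have h4 : (1 - y) * (1 + y) = 0 := by
    have := (mul_eq_zero.1 key).resolve_right h3
    linear_combination this
  rcases mul_eq_zero.1 h4 with h5 | h5
  · left
    have hy1 : y = 1 := by linear_combination -h5
    rw [hy1] at hy hy01 h00 h11
    refine M.ext ?_ (by rw [hy01, one_mul]) (by rw [hy, one_mul]) ?_
    · apply mul_left_cancel₀ h2; linear_combination h00
    · apply mul_left_cancel₀ h2; linear_combination h11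
  · right
    have hy1 : y = -1 := by linear_combination h5
    rw [hy1] at hy hy01 h00 h11
    have hdi : (M.dt c)⁻¹ = 1 := by rw [hM c, inv_one]
    refine M.ext ?_ ?_ ?_ ?_
    · rw [inv00, hdi, one_mul]; apply mul_left_cancel₀ h2; linear_combination h00
    · rw [inv01, hdi, hy01]; ring
    · rw [inv10, hdi, hy]; ring
    · rw [inv11, hdi, one_mul]; apply mul_left_cancel₀ h2; linear_combination h11

theorem inv_ne_self (hM : M.IsSL) (hodd : Odd (Fintype.card F)) {c : G} (hs : ¬ M.Sc c) : c⁻¹ ≠ c := by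
  intro h
  apply hs
  have h2 := two_ne_of_odd hodd
  have hdi : (M.dt c)⁻¹ = 1 := by rw [hM c, inv_one]
  have e00 : M.m c⁻¹ 0 0 = M.m c 0 0 := by rw [h]
  have e01 : M.m c⁻¹ 0 1 = M.m c 0 1 := by rw [h]
  have e10 : M.m c⁻¹ 1 0 = M.m c 1 0 := by rw [h]
  rw [inv00, hdi] at e00
  rw [inv01, hdi] at e01
  rw [inv10, hdi] at e10
  refine ⟨?_, ?_, by linear_combination -e00⟩
  · have : 2 * M.m c 0 1 = 0 := by linear_combination -e01
    exact (mul_eq_zero.1 this).resolve_left h2
  · have : 2 * M.m c 1 0 = 0 := by linear_combination -e10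
    exact (mul_eq_zero.1 this).resolve_left h2

theorem tr_inv (hM : M.IsSL) (c : G) : M.tr c⁻¹ = M.tr c := by
  have hdi : (M.dt c)⁻¹ = 1 := by rw [hM c, inv_one]
  rw [tr, tr, inv00, inv11, hdi]; ring

theorem Sc_one : M.Sc (1 : G) := ⟨M.m_one01, M.m_one10, by rw [m_one00, m_one11]⟩
theorem Sc_ng : M.Sc M.ng := ⟨M.ng01, M.ng10, by rw [ng00, ng11]⟩

theorem one_ne_ng (hodd : Odd (Fintype.card F)) : (1 : G) ≠ M.ng := by
  intro h
  have h1 : M.m (1 : G) 0 0 = M.m M.ng 0 0 := by rw [← h]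
  rw [m_one00, ng00] at h1
  exact two_ne_of_odd hodd (by linear_combination h1)

/-- `-1` belongs to `C` -/
theorem ng_mem (hM : M.IsSL) (hodd : Odd (Fintype.card F)) {C : Subgroup G}
    (hcard : Nat.card C = Fintype.card F + 1) : M.ng ∈ C := by
  classical
  haveI : Fact (Nat.Prime 2) := ⟨Nat.prime_two⟩
  have h2 : 2 ∣ Nat.card C := by
    rw [hcard]
    obtain ⟨k, hk⟩ := hodd
    exact ⟨k + 1, by omega⟩
  obtain ⟨x, hx⟩ := exists_prime_orderOf_dvd_card' 2 h2
  have h3 : (x : G) ^ 2 = 1 := by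
    have := pow_orderOf_eq_one x
    rw [hx] at this
    exact_mod_cast congrArg Subtype.val this
  have h4 : (x : G)⁻¹ = x := by
    rw [sq] at h3
    exact inv_eq_of_mul_eq_one_right h3
  have h5 : M.Sc (x : G) := by
    by_contra hs
    exact M.inv_ne_self hM hodd hs h4
  rcases M.Sc_SL hM h5 with h6 | h6
  · exfalso
    have : x = 1 := Subtype.ext h6
    rw [this, orderOf_one] at hx
    norm_num at hx
  · rw [← h6]; exact x.2

end MG

end CfsgH6
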