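import Cfsg.Agent.H6.Sl17
import Cfsg.Agent.H4.Extend
set_option autoImplicit false

namespace CfsgH6
open Cfsg CfsgH4
open scoped ComplexConjugate

namespace MG
variable {G : Type*} [Group G] {F : Type*} [Field F] (M : MG G F)
variable [Fintype F] [DecidableEq F] [Fintype G]

/-- principal series values on the Borel subgroup -/
theorem ps_B_ne (α β : MulChar F ℂ) {g : G} (h10 : M.m g 1 0 = 0) (h : M.m g 0 0 ≠ M.m g 1 1) :
    M.ps α β g = α (M.m g 0 0) * β (M.m g 1 1) + α (M.m g 1 1) * β (M.m g 0 0) := by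
  have h' := sub_ne_zero.2 (Ne.symm h)
  rw [ps, if_pos h10, h10]
  congr 1
  rw [Finset.sum_eq_single (M.m g 0 1 / (M.m g 1 1 - M.m g 0 0))]
  · rw [if_pos (by field_simp; ring), zero_mul, zero_add, sub_zero]
  · intro x _ hx
    rw [if_neg]
    intro h1
    apply hx
    field_simp
    linear_combination h1
  · intro h; exact absurd (Finset.mem_univ _) h

section Tor
variable (hM : M.IsSL) (hodd : Odd (Fintype.card F)) {C : Subgroup G} (hC : ∀ x ∈ C, ∀ y ∈ C, x * y = y * x)
    (hcard : Nat.card C = Fintype.card F + 1) (θ : C →* ℂˣ)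

/-- induced character from the torus -/
noncomputable def fC (θ : C →* ℂˣ) : G → ℂ := indFun C (fun c => (θ c : ℂ))

theorem isCharacter_fC : IsCharacter G (fC (G := G) θ) := isCharacter_indFun C (IsIrr.isCharacter (isCharacter_one_dim θ))

theorem isClass_fC : IsClassFunction G (fC (G := G) θ) := IsCharacter.isClassFunction (isCharacter_fC θ)

include hM hodd hcard in
theorem fC_Sc {z : G} (hz : z ∈ C) (hs : M.Sc z) :
    fC θ z = (Fintype.card F : ℂ) * ((Fintype.card F : ℂ) - 1) * (θ ⟨z, hz⟩ : ℂ) := by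
  rw [fC, indFun_apply]
  have h1 : ∀ x : G, extendByZero C (fun c => (θ c : ℂ)) (x⁻¹ * z * x) = (θ ⟨z, hz⟩ : ℂ) := by
    intro x
    have : x⁻¹ * z * x = z := by rw [mul_assoc, hs.comm x, inv_mul_cancel_left]
    rw [this, extendByZero_of_mem _ _ hz]
  rw [Finset.sum_congr rfl (fun x _ => h1 x), Finset.sum_const, Finset.card_univ, nsmul_eq_mul, ← Nat.card_eq_fintype_card,
    M.card_SL hM, hcard]
  have hq : 1 ≤ Fintype.card F ^ 2 := Nat.one_le_pow _ _ Fintype.card_pos
  have h2 : ((Fintype.card F : ℂ) + 1) ≠ 0 := by exact_mod_cast Nat.succ_ne_zero (Fintype.card F)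
  push_cast [Nat.cast_sub hq]
  field_simp
  ring

include hM hodd hC hcard in
theorem fC_not {g : G} (hs : ¬ M.Sc g) (he : ¬ M.Ell g) : fC (C := C) θ g = 0 := by
  rw [fC]
  apply indFun_eq_zero
  intro x hx
  have hcj : IsConj g (x * g * x⁻¹) := isConj_iff.2 ⟨x, rfl⟩
  have h1 : ¬ M.Sc (x * g * x⁻¹) := fun h => hs (by rw [h.conj' hcj]; exact h)
  exact he (ell_conj hM (M.tr_conj hcj).symm (M.mem_ell hM hodd hC hcard hx h1))

include hM hodd hC hcard in
theorem fC_ell {c : G} (hc : c ∈ C) (hs : ¬ M.Sc c) :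
    fC θ c = (θ ⟨c, hc⟩ : ℂ) + ((θ ⟨c, hc⟩)⁻¹ : ℂˣ) := by
  classical
  have hell := M.mem_ell hM hodd hC hcard hc hs
  have hcent := M.cent_eq hM hodd hC hcard hc hs
  have hinv := M.inv_ne_self hM hodd hs
  obtain ⟨x₀, hx₀⟩ := isConj_iff.1 (M.conj_SL_tr hM hodd (ell_tr hodd hM hell) (M.tr_inv hM c).symm)
  rw [fC, indFun_apply']
  have h1 : ∀ x : G, extendByZero C (fun c => (θ c : ℂ)) (x * c * x⁻¹) =
      (if x ∈ C then (θ ⟨c, hc⟩ : ℂ) else 0) + (if x₀⁻¹ * x ∈ C then ((θ ⟨c, hc⟩)⁻¹ : ℂˣ).val else 0) := by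
    intro x
    have a1 : x ∈ C ↔ x * c * x⁻¹ = c := by
      rw [← hcent, mem_cent_single]
      constructor
      · intro h; rw [← h, mul_inv_cancel_right]
      · intro h
        have := congrArg (fun z => z * x) h
        simp only [inv_mul_cancel_right] at this
        exact this.symm
    have a2 : x₀⁻¹ * x ∈ C ↔ x * c * x⁻¹ = c⁻¹ := by
      rw [← hcent, mem_cent_single, ← hx₀]
      constructor
      · intro h
        have h3 : x * c * x⁻¹ = x₀ * (x₀⁻¹ * x * c) * x⁻¹ := by group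
        rw [h3, ← h]; group
      · intro h
        have h3 : x₀⁻¹ * x * c = x₀⁻¹ * (x * c * x⁻¹) * x := by group
        rw [h3, h]; group
    by_cases hx : x * c * x⁻¹ ∈ C
    · have h2 : x * c * x⁻¹ ∈ Subgroup.centralizer ({c} : Set G) := by rw [hcent]; exact hx
      rcases M.cent_tr hM hodd hell h2 (M.tr_conj (isConj_iff.2 ⟨x, rfl⟩)).symm with h3 | h3
      · rw [if_pos (a1.2 h3), if_neg (fun h => hinv ((a2.1 h).symm.trans h3)), add_zero, h3,
          extendByZero_of_mem _ _ hc]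
      · rw [if_neg (fun h => hinv (h3.symm.trans (a1.1 h))), if_pos (a2.2 h3), zero_add, h3,
          extendByZero_of_mem _ _ (C.inv_mem hc)]
        rw [← map_inv]; rfl
    · rw [extendByZero_of_not_mem _ _ hx, if_neg, if_neg, add_zero]
      · intro h; exact hx (by rw [a2.1 h]; exact C.inv_mem hc)
      · intro h; exact hx (by rw [a1.1 h]; exact hc)
  rw [Finset.sum_congr rfl (fun x _ => h1 x), Finset.sum_add_distrib]
  have h2 : ∀ (k : ℂ), ∑ x : G, (if x ∈ C then k else 0) = Nat.card C * k := by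
    intro k
    rw [← Finset.sum_filter, Finset.sum_const, nsmul_eq_mul]
    congr 2
    rw [Nat.card_eq_fintype_card, Fintype.card_subtype]
  have h3 : ∀ (k : ℂ), ∑ x : G, (if x₀⁻¹ * x ∈ C then k else 0) = Nat.card C * k := by
    intro k
    rw [← h2 k]
    exact Fintype.sum_equiv (Equiv.mulLeft x₀⁻¹) _ _ fun x => rfl
  rw [h2, h3, ← mul_add, inv_mul_cancel_left₀]
  exact_mod_cast Nat.card_pos.ne'

/-- degenerate Gelfand–Graev type character -/
noncomputable def Gam (γ : MulChar F ℂ) (g : G) : ℂ := M.ps γ 1 g * (M.sta 1 g - 1)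

include hM in
theorem Gam_Sc (γ : MulChar F ℂ) {z : G} (hs : M.Sc z) :
    M.Gam γ z = ((Fintype.card F : ℂ) ^ 2 - 1) * γ (M.m z 0 0) := by
  have hb := M.B_ne (g := z) hs.2.1
  rw [Gam, sta, M.ps_scalar γ 1 hs.1 hs.2.1 hs.2.2, M.ps_scalar 1 1 hs.1 hs.2.1 hs.2.2, M.lin_SL hM,
    MulChar.one_apply hb.1.isUnit]
  ring

include hM in
theorem Gam_unip (γ : MulChar F ℂ) {g : G} (h01 : M.m g 0 1 ≠ 0) (h10 : M.m g 1 0 = 0)
    (h : M.m g 0 0 = M.m g 1 1) : M.Gam γ g = - γ (M.m g 0 0) := by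
  have hb := M.B_ne (g := g) h10
  rw [Gam, sta, M.ps_unip γ 1 h01 h10 h, M.ps_unip 1 1 h01 h10 h, M.lin_SL hM,
    MulChar.one_apply hb.1.isUnit]
  ring

include hM in
theorem Gam_B_ne (γ : MulChar F ℂ) {g : G} (h10 : M.m g 1 0 = 0) (h : M.m g 0 0 ≠ M.m g 1 1) :
    M.Gam γ g = 0 := by
  have hb := M.B_ne (g := g) h10
  rw [Gam, sta, M.ps_B_ne 1 1 h10 h, M.lin_SL hM, MulChar.one_apply hb.1.isUnit, MulChar.one_apply hb.2.isUnit]
  ring

theorem Gam_ell (γ : MulChar F ℂ) {g : G} (h : M.Ell g) : M.Gam γ g = 0 := by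
  rw [Gam, M.ps_ell γ 1 h, zero_mul]

include hM hodd in
theorem norm_Gam (γ : MulChar F ℂ) : classInner (M.Gam γ) (M.Gam γ) = 2 * Fintype.card F := by
  classical
  haveI : Fintype M.B := Fintype.ofFinite _
  haveI : Fintype M.T := Fintype.ofFinite _
  have hcs : IsClassFunction G (M.sta 1) := IsIrr.isClassFunction (M.isIrr_sta_SL hM)
  have hcl : IsClassFunction G (fun g => M.sta 1 g - 1) := fun g h => by simp only [hcs g h]
  have hG : M.Gam γ = indFun M.B (M.bf γ 1 * fun b : M.B => (fun g => M.sta 1 g - 1) (b : G)) := by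
    rw [indFun_mul_restrict M.B _ hcl, M.indFun_bf]; rfl
  have hGc : IsClassFunction G (M.Gam γ) := by rw [hG]; exact indFun_isClassFunction _ _
  have e1 : classInner (M.Gam γ) (M.Gam γ) = classInner (M.bf γ 1 * fun b : M.B => (fun g => M.sta 1 g - 1) (b : G))
      (fun b : M.B => M.Gam γ b) := by
    conv_lhs => rw [hG]
    rw [CfsgH4.frobenius M.B _ (by rw [← hG]; exact hGc), ← hG]
  rw [e1, classInner_def]
  set q : ℂ := (Fintype.card F : ℂ) with hq
  set h : F → F → F → ℂ := fun a y d => if a = d then (if y = 0 then (q - 1) ^ 2 * (q + 1) else 1) else 0 with hh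
  have h1 : ∀ b : M.B, (M.bf γ 1 * fun b : M.B => (fun g => M.sta 1 g - 1) (b : G)) b * conj (M.Gam γ b) =
      h (M.m b.1 0 0) (M.m b.1 0 1) (M.m b.1 1 1) := by
    intro b
    have hb := M.B_ne b.2
    have h10 := M.mem_B.1 b.2
    have hbf : M.bf γ 1 b = γ (M.m b.1 0 0) := by
      rw [bf, MulChar.one_apply hb.2.isUnit, mul_one]
    have hn := mc_norm γ hb.1
    show M.bf γ 1 b * (M.sta 1 b.1 - 1) * conj (M.Gam γ b.1) = _
    rw [hbf, hh]
    simp only
    by_cases had : M.m b.1 0 0 = M.m b.1 1 1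
    · rw [if_pos had]
      by_cases hy : M.m b.1 0 1 = 0
      · rw [if_pos hy, M.Gam_Sc hM γ ⟨hy, h10, had⟩, sta, M.ps_scalar 1 1 hy h10 had, M.lin_SL hM,
          MulChar.one_apply hb.1.isUnit, map_mul, map_sub, map_pow, ← hq]
        simp only [map_one]
        rw [hq, Complex.conj_natCast, ← hq]
        linear_combination ((q + 1) * (1 * 1) - 1 - 1) * (q ^ 2 - 1) * hn
      · rw [if_neg hy, M.Gam_unip hM γ hy h10 had, sta, M.ps_unip 1 1 hy h10 had, M.lin_SL hM,
          MulChar.one_apply hb.1.isUnit, map_neg]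
        linear_combination hn
    · rw [if_neg had, M.Gam_B_ne hM γ h10 had, map_zero, mul_zero]
  rw [Finset.sum_congr rfl (fun b _ => h1 b), M.sum_B h]
  have h2 : ∀ a d : F, ∑ y : F, h a y d = if a = d then (q - 1) ^ 2 * (q + 1) + (q - 1) else 0 := by
    intro a d
    rw [hh]
    simp only
    by_cases had : a = d
    · simp only [if_pos had]
      rw [← Finset.add_sum_erase Finset.univ _ (Finset.mem_univ (0 : F)), if_pos rfl,
        Finset.sum_congr rfl (fun y hy => if_neg (Finset.ne_of_mem_erase hy)), Finset.sum_const,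
        Finset.card_erase_of_mem (Finset.mem_univ _), Finset.card_univ, nsmul_eq_mul, mul_one, sub_cast]
    · simp only [if_neg had, Finset.sum_const_zero]
  rw [Finset.sum_congr rfl (fun (t : M.T) _ => h2 (M.m t.1 0 0) (M.m t.1 1 1))]
  have h3 : ∑ t : M.T, (if M.m t.1 0 0 = M.m t.1 1 1 then (q - 1) ^ 2 * (q + 1) + (q - 1) else 0) =
      ∑ t : M.T, (fun a d : F => if a = d ∧ a ≠ 0 then (q - 1) ^ 2 * (q + 1) + (q - 1) else 0) (M.m t.1 0 0) (M.m t.1 1 1) := by
    refine Finset.sum_congr rfl fun t _ => ?_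
    simp only
    by_cases h4 : M.m t.1 0 0 = M.m t.1 1 1
    · rw [if_pos h4, if_pos ⟨h4, (M.T_ne t.2).1⟩]
    · rw [if_neg h4, if_neg (fun h => h4 h.1)]
  rw [h3, M.sum_T_SL hM (fun a d : F => if a = d ∧ a ≠ 0 then (q - 1) ^ 2 * (q + 1) + (q - 1) else 0)
    (if_neg (fun h => h.2 rfl))]
  have h4 : ∑ a : F, (if a = a⁻¹ ∧ a ≠ 0 then (q - 1) ^ 2 * (q + 1) + (q - 1) else 0) =
      2 * ((q - 1) ^ 2 * (q + 1) + (q - 1)) := by
    have h11 : (1 : F) ≠ -1 := fun h => two_ne_of_odd hodd (by linear_combination h)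
    have : (Finset.univ.filter (fun a : F => a = a⁻¹ ∧ a ≠ 0)) = {1, -1} := by
      ext a
      simp only [Finset.mem_filter, Finset.mem_univ, true_and, Finset.mem_insert, Finset.mem_singleton]
      constructor
      · rintro ⟨h1, h2⟩
        have : a * a = 1 := by
          nth_rewrite 2 [h1]; exact mul_inv_cancel₀ h2
        exact mul_self_eq_one_iff.1 this
      · rintro (rfl | rfl)
        · simp
        · simp [inv_neg]
    rw [← Finset.sum_filter, this, Finset.sum_pair h11]; ring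
  rw [h4, M.card_B, M.card_T_SL hM]
  push_cast
  rw [sub_cast, ← hq]
  have hq0 : q ≠ 0 := card_F_ne
  have hq1 : q - 1 ≠ 0 := q_sub_ne
  field_simp
  ring

include hM hodd hcard in
theorem sum_Sc [Fintype C] [DecidablePred fun c : C => M.Sc (c : G)] (f : C → ℂ) :
    ∑ c : C, (if M.Sc (c : G) then f c else 0) = f 1 + f ⟨M.ng, M.ng_mem hM hodd hcard⟩ := by
  classical
  have hne : (1 : C) ≠ ⟨M.ng, M.ng_mem hM hodd hcard⟩ := fun h => M.one_ne_ng hodd (congrArg Subtype.val h)
  have : (Finset.univ.filter (fun c : C => M.Sc (c : G))) = {1, ⟨M.ng, M.ng_mem hM hodd hcard⟩} := by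
    ext c
    simp only [Finset.mem_filter, Finset.mem_univ, true_and, Finset.mem_insert, Finset.mem_singleton]
    constructor
    · intro h
      rcases M.Sc_SL hM h with h | h
      · exact Or.inl (Subtype.ext h)
      · exact Or.inr (Subtype.ext h)
    · rintro (rfl | rfl)
      · exact M.Sc_one
      · exact M.Sc_ng
  rw [← Finset.sum_filter, this, Finset.sum_pair hne]

theorem th_norm (c : C) : (θ c : ℂ) * conj (θ c : ℂ) = 1 := by
  rw [Complex.mul_conj, Complex.normSq_eq_norm_sq, norm_unit_of_finite]; norm_num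

theorem th_conj (c : C) : conj (θ c : ℂ) = ((θ c)⁻¹ : ℂˣ) := by
  have h := th_norm θ c
  rw [Units.val_inv_eq_inv_val]
  exact eq_inv_of_mul_eq_one_right h

variable {γ : MulChar F ℂ} (hγ : γ (-1) = (θ ⟨M.ng, M.ng_mem hM hodd hcard⟩ : ℂ))

include hM hodd hC hcard hγ in
theorem inner_fC_Gam : classInner (fC θ) (M.Gam γ) = 2 * ((Fintype.card F : ℂ) - 1) := by
  classical
  haveI : Fintype C := Fintype.ofFinite _
  have hcs : IsClassFunction G (M.sta 1) := IsIrr.isClassFunction (M.isIrr_sta_SL hM)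
  have hps := M.isClass_ps γ 1
  have hGc : IsClassFunction G (M.Gam γ) := fun g h => by rw [Gam, Gam, hcs g h, hps g h]
  rw [fC, CfsgH4.frobenius C _ hGc, classInner_def]
  set q : ℂ := (Fintype.card F : ℂ) with hq
  have h1 : ∀ c : C, (θ c : ℂ) * conj (M.Gam γ c) = if M.Sc (c : G) then (q ^ 2 - 1) else 0 := by
    intro c
    by_cases hs : M.Sc (c : G)
    · rw [if_pos hs, M.Gam_Sc hM γ hs]
      have h2 : γ (M.m c.1 0 0) = θ c := by
        rcases M.Sc_SL hM hs with h | h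
        · have hc1 : c = 1 := Subtype.ext h
          rw [hc1, map_one]
          show γ (M.m 1 0 0) = _
          rw [m_one00, map_one]; rfl
        · have hc1 : c = ⟨M.ng, M.ng_mem hM hodd hcard⟩ := Subtype.ext h
          rw [hc1, ← hγ]
          show γ (M.m M.ng 0 0) = _
          rw [ng00]
      rw [h2, map_mul, map_sub, map_pow, map_one, Complex.conj_natCast]
      have := th_norm θ c
      linear_combination ((Fintype.card F : ℂ) ^ 2 - 1) * this
    · rw [if_neg hs, M.Gam_ell γ (M.mem_ell hM hodd hC hcard c.2 hs), map_zero, mul_zero]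
  rw [Finset.sum_congr rfl (fun c _ => h1 c), M.sum_Sc hM hodd hcard (fun _ => q ^ 2 - 1), hcard]
  have h2 : (q + 1) ≠ 0 := by rw [hq]; exact_mod_cast Nat.succ_ne_zero (Fintype.card F)
  push_cast
  rw [← hq]
  field_simp
  ring

include hM hodd hC hcard in
theorem norm_fC : classInner (fC (G := G) θ) (fC θ) = 2 * (Fintype.card F : ℂ) - 3 +
    ((Fintype.card F : ℂ) + 1)⁻¹ * ∑' c : C, (θ c : ℂ) ^ 2 := by
  classical
  haveI : Fintype C := Fintype.ofFinite _
  have e1 : classInner (fC (G := G) θ) (fC θ) = classInner (fun c : C => (θ c : ℂ)) (fun c : C => fC θ c) :=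
    CfsgH4.frobenius C _ (isClass_fC θ)
  rw [tsum_fintype, e1, classInner_def]
  set q : ℂ := (Fintype.card F : ℂ) with hq
  have h1 : ∀ c : C, (θ c : ℂ) * conj (fC θ c) = (1 + (θ c : ℂ) ^ 2) +
      if M.Sc (c : G) then (q * (q - 1) - 2) else 0 := by
    intro c
    have hn := th_norm θ c
    by_cases hs : M.Sc (c : G)
    · rw [if_pos hs, M.fC_Sc hM hodd hcard θ c.2 hs]
      have h2 : (θ c : ℂ) ^ 2 = 1 := by
        have h3 : c ^ 2 = 1 := by
          rcases M.Sc_SL hM hs with h | h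
          · rw [show c = 1 from Subtype.ext h, one_pow]
          · rw [show c = ⟨M.ng, M.ng_mem hM hodd hcard⟩ from Subtype.ext h]
            exact Subtype.ext (by show M.ng ^ 2 = 1; rw [sq, ng_mul_ng])
        rw [← Units.val_pow_eq_pow_val, ← map_pow, h3, map_one]; rfl
      rw [h2, map_mul, map_mul, map_sub, map_one, Complex.conj_natCast]
      show _ * (_ * conj (θ c : ℂ)) = _
      linear_combination ((Fintype.card F : ℂ) * ((Fintype.card F : ℂ) - 1)) * hn
    · rw [if_neg hs, add_zero, M.fC_ell hM hodd hC hcard θ c.2 hs, map_add]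
      show (θ c : ℂ) * (conj (θ c : ℂ) + conj ((θ c)⁻¹ : ℂˣ).val) = _
      rw [← th_conj θ c, Complex.conj_conj]
      linear_combination hn
  rw [Finset.sum_congr rfl (fun c _ => h1 c), Finset.sum_add_distrib, Finset.sum_add_distrib,
    M.sum_Sc hM hodd hcard (fun _ => q * (q - 1) - 2), Finset.sum_const, Finset.card_univ, nsmul_eq_mul,
    ← Nat.card_eq_fintype_card, hcard]
  have h2 : (q + 1) ≠ 0 := by rw [hq]; exact_mod_cast Nat.succ_ne_zero (Fintype.card F)
  push_cast
  rw [← hq]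
  field_simp
  ring

/-- the cuspidal virtual character attached to a character of the non-split torus -/
noncomputable def X (θ : C →* ℂˣ) (γ : MulChar F ℂ) : G → ℂ := M.Gam γ - fC θ

include hM in
theorem isGen_Gam (γ : MulChar F ℂ) : IsGeneralizedCharacter G (M.Gam γ) := by
  have e : M.Gam γ = M.ps γ 1 * (M.sta 1 - M.lin 1) := by
    funext g
    show _ = M.ps γ 1 g * (M.sta 1 g - M.lin 1 g)
    rw [M.lin_SL hM]; rfl
  rw [e]
  exact isGen_mul (IsCharacter.isGen (M.isCharacter_ps γ 1))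
    (isGen_sub (IsCharacter.isGen (IsIrr.isCharacter (M.isIrr_sta_SL hM)))
      (IsCharacter.isGen (IsIrr.isCharacter (M.isIrr_lin 1))))

include hM in
theorem isGen_X : IsGeneralizedCharacter G (M.X θ γ) :=
  isGen_sub (M.isGen_Gam hM γ) (IsCharacter.isGen (isCharacter_fC θ))

include hM hodd hC hcard hγ in
theorem norm_X : classInner (M.X θ γ) (M.X θ γ) = 1 + ((Fintype.card F : ℂ) + 1)⁻¹ * ∑' c : C, (θ c : ℂ) ^ 2 := by
  have h1 := M.norm_Gam hM hodd γ
  have h2 := M.inner_fC_Gam hM hodd hC hcard θ hγ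
  have h3 := M.norm_fC hM hodd hC hcard θ
  have h4 : classInner (M.Gam γ) (fC θ) = 2 * ((Fintype.card F : ℂ) - 1) := by
    rw [← classInner_conj_symm, h2, map_mul, map_sub, map_one, Complex.conj_natCast, map_ofNat]
  rw [X, classInner_sub_left, classInner_sub_right, classInner_sub_right, h1, h2, h3, h4]
  ring

include hM hodd hcard in
theorem X_one : M.X θ γ 1 = (Fintype.card F : ℂ) - 1 := by
  show M.Gam γ 1 - fC θ 1 = _
  rw [M.Gam_Sc hM γ M.Sc_one, M.fC_Sc hM hodd hcard θ C.one_mem M.Sc_one, m_one00, map_one]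
  have : (θ ⟨1, C.one_mem⟩ : ℂ) = 1 := by
    have h : θ ⟨1, C.one_mem⟩ = 1 := map_one θ
    rw [h]; rfl
  rw [this]; ring

include hM hodd hC hcard hγ in
theorem isIrr_X (hθ : ∃ c : C, θ c ^ 2 ≠ 1) : IsIrrCharacter G (M.X θ γ) := by
  classical
  haveI : Fintype C := Fintype.ofFinite _
  have hsum : ∑' c : C, (θ c : ℂ) ^ 2 = 0 := by
    rw [tsum_fintype]
    obtain ⟨c₀, hc₀⟩ := hθ
    have h1 : ∑ c : C, (θ c : ℂ) ^ 2 = (θ c₀ : ℂ) ^ 2 * ∑ c : C, (θ c : ℂ) ^ 2 := by
      rw [Finset.mul_sum, ← Fintype.sum_equiv (Equiv.mulLeft c₀) (fun c => (θ (c₀ * c) : ℂ) ^ 2)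
        (fun c => (θ c : ℂ) ^ 2) (fun c => rfl)]
      exact Finset.sum_congr rfl fun c _ => by rw [map_mul, Units.val_mul, mul_pow]
    have h2 : (1 - (θ c₀ : ℂ) ^ 2) * ∑ c : C, (θ c : ℂ) ^ 2 = 0 := by linear_combination h1
    refine (mul_eq_zero.1 h2).resolve_left ?_
    intro h3
    apply hc₀
    apply Units.ext
    rw [Units.val_pow_eq_pow_val, Units.val_one]
    linear_combination -h3
  have h1 := M.norm_X hM hodd hC hcard θ hγ
  rw [hsum, mul_zero, add_zero] at h1
  rcases IsGen.norm_one (M.isGen_X hM θ) h1 with h | h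
  · exact h
  · exfalso
    obtain ⟨n, hn⟩ := IsCharacter.one_nat (IsIrr.isCharacter h)
    rw [Pi.neg_apply, M.X_one hM hodd hcard θ, ← sub_cast] at hn
    have : ((Fintype.card F - 1 + n : ℕ) : ℂ) = 0 := by push_cast; rw [← hn]; ring
    have h2 : Fintype.card F - 1 + n = 0 := by exact_mod_cast this
    have := Fintype.one_lt_card (α := F)
    omega

include hM hodd hC hcard in
theorem X_ell {c : G} (hc : c ∈ C) (hs : ¬ M.Sc c) :
    M.X θ γ c = - ((θ ⟨c, hc⟩ : ℂ) + ((θ ⟨c, hc⟩)⁻¹ : ℂˣ)) := by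
  show M.Gam γ c - fC θ c = _
  rw [M.Gam_ell γ (M.mem_ell hM hodd hC hcard hc hs), M.fC_ell hM hodd hC hcard θ hc hs]; ring

end Tor

end MG

end CfsgH6
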