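import Cfsg.Agent.H6.Sl18
set_option autoImplicit false

namespace CfsgH6
open Cfsg CfsgH4
open scoped ComplexConjugate

namespace MG
variable {G : Type*} [Group G] {F : Type*} [Field F] (M : MG G F)
variable [Fintype F] [DecidableEq F] [Fintype G]

omit [Fintype F] [DecidableEq F] [Fintype G] in
theorem sq_one_cases {x : ℂ} (h : x ^ 2 = 1) : x = 1 ∨ x = -1 := by
  rw [sq] at h; exact mul_self_eq_one_iff.1 h

omit [Fintype F] [DecidableEq F] [Fintype G] in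
theorem Sc_of_center {z : G} (hz : z ∈ Subgroup.center G) : M.Sc z := by
  rw [Subgroup.mem_center_iff] at hz
  have h1 := hz (M.u 1)
  have h2 := hz M.w
  have a00 := congrArg (fun g => M.m g 0 0) h1
  have a01 := congrArg (fun g => M.m g 0 1) h1
  have b11 := congrArg (fun g => M.m g 1 1) h2
  simp only [mul00, mul01, u00, u01, u10, u11] at a00 a01
  simp only [mul11, w01, w10, w11] at b11
  refine ⟨?_, ?_, ?_⟩
  · linear_combination b11 - a00
  · linear_combination a00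
  · linear_combination -a01

omit [Fintype F] [DecidableEq F] [Fintype G] in
theorem center_of_Sc {z : G} (hz : M.Sc z) : z ∈ Subgroup.center G := by
  rw [Subgroup.mem_center_iff]
  intro g
  exact (hz.comm g).symm

section Tor
variable (hM : M.IsSL) (hodd : Odd (Fintype.card F)) {C : Subgroup G} (hC : ∀ x ∈ C, ∀ y ∈ C, x * y = y * x)
    (hcard : Nat.card C = Fintype.card F + 1) (θ : C →* ℂˣ)

theorem exists_gam : ∃ γ : MulChar F ℂ, γ (-1) = (θ ⟨M.ng, M.ng_mem hM hodd hcard⟩ : ℂ) := by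
  set z : C := ⟨M.ng, M.ng_mem hM hodd hcard⟩ with hz
  have h2 : (θ z : ℂ) ^ 2 = 1 := by
    have h3 : z ^ 2 = 1 := Subtype.ext (by show M.ng ^ 2 = 1; rw [sq, ng_mul_ng])
    rw [← Units.val_pow_eq_pow_val, ← map_pow, h3, map_one]; rfl
  have h11 : (-1 : F) ≠ 1 := fun h => two_ne_of_odd hodd (by linear_combination -h)
  rcases sq_one_cases h2 with h | h
  · exact ⟨1, by rw [h, MulChar.one_apply (by simp)]⟩
  · obtain ⟨γ, hγ⟩ := MulChar.exists_apply_ne_one_of_hasEnoughRootsOfUnity F ℂ h11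
    refine ⟨γ, ?_⟩
    have h4 : γ (-1) ^ 2 = 1 := by rw [← map_pow, neg_one_sq, map_one]
    rw [h]
    exact (sq_one_cases h4).resolve_left hγ

variable {γ : MulChar F ℂ} (hγ : γ (-1) = (θ ⟨M.ng, M.ng_mem hM hodd hcard⟩ : ℂ))

include hM hodd hcard hγ in
theorem X_Sc {z : G} (hz : z ∈ C) (hs : M.Sc z) : M.X θ γ z = ((Fintype.card F : ℂ) - 1) * (θ ⟨z, hz⟩ : ℂ) := by
  show M.Gam γ z - fC θ z = _
  rw [M.Gam_Sc hM γ hs, M.fC_Sc hM hodd hcard θ hz hs]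
  have h2 : γ (M.m z 0 0) = θ ⟨z, hz⟩ := by
    rcases M.Sc_SL hM hs with h | h
    · subst h
      rw [m_one00, map_one]
      have h : θ ⟨1, hz⟩ = 1 := map_one θ
      rw [h]; rfl
    · subst h
      rw [ng00, hγ]
  rw [h2]; ring

include hM hodd hC hcard in
theorem X_B_ne {g : G} (h10 : M.m g 1 0 = 0) (h : M.m g 0 0 ≠ M.m g 1 1) : M.X θ γ g = 0 := by
  show M.Gam γ g - fC θ g = _
  rw [M.Gam_B_ne hM γ h10 h, M.fC_not hM hodd hC hcard θ (fun hs => h hs.2.2) (fun he => he.h10 h10), sub_zero]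

include hM hodd hC hcard in
theorem X_unip {g : G} (h01 : M.m g 0 1 ≠ 0) (h10 : M.m g 1 0 = 0) (h : M.m g 0 0 = M.m g 1 1) :
    M.X θ γ g = - γ (M.m g 0 0) := by
  show M.Gam γ g - fC θ g = _
  rw [M.Gam_unip hM γ h01 h10 h, M.fC_not hM hodd hC hcard θ (fun hs => h01 hs.1) (fun he => he.h10 h10), sub_zero]

include hM hodd hC hcard hγ in
theorem X_central (hθ : ∃ c : C, θ c ^ 2 ≠ 1) {z : G} (hz : z ∈ C) (hs : M.Sc z) (g : G) :
    M.X θ γ (z * g) = (θ ⟨z, hz⟩ : ℂ) * M.X θ γ g := by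
  have hirr := M.isIrr_X hM hodd hC hcard θ hγ hθ
  obtain ⟨lam, hlam⟩ := exists_central_char hirr (Subgroup.center G) le_rfl
  have h1 := hlam ⟨z, M.center_of_Sc hs⟩ 1
  rw [one_mul, M.X_one hM hodd hcard θ] at h1
  have h2 : M.X θ γ z = _ := h1
  rw [M.X_Sc hM hodd hcard θ hγ hz hs] at h2
  have hq : (Fintype.card F : ℂ) - 1 ≠ 0 := q_sub_ne
  have h3 : (lam ⟨z, M.center_of_Sc hs⟩ : ℂ) = (θ ⟨z, hz⟩ : ℂ) := by
    apply mul_left_cancel₀ hq
    linear_combination -h2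
  rw [← h3, hs.comm g]
  exact hlam ⟨z, M.center_of_Sc hs⟩ g

end Tor

section Cyc
variable (hM : M.IsSL) (hodd : Odd (Fintype.card F)) {C : Subgroup G} (hcy : IsCyclic C)
    (hcard : Nat.card C = Fintype.card F + 1)

omit [Fintype G] in
include hcy in
theorem comm_of_cyclic : ∀ x ∈ C, ∀ y ∈ C, x * y = y * x := by
  intro x hx y hy
  letI := IsCyclic.commGroup (α := C)
  have := mul_comm (⟨x, hx⟩ : C) ⟨y, hy⟩
  exact congrArg Subtype.val this

omit [DecidableEq F] in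
include hcy hcard in
theorem card_Theta : Fintype.card F - 1 ≤ Nat.card {θ : C →* ℂˣ // ∃ c : C, θ c ^ 2 ≠ 1} := by
  classical
  have h1 : Nat.card (C →* ℂˣ) = Fintype.card F + 1 := by
    rw [← hcard]
    letI := IsCyclic.commGroup (α := C)
    exact CommGroup.card_monoidHom_of_hasEnoughRootsOfUnity C ℂ
  haveI : Finite (C →* ℂˣ) := Nat.finite_of_card_ne_zero (by rw [h1]; omega)
  haveI : Fintype (C →* ℂˣ) := Fintype.ofFinite _
  obtain ⟨c₀, hc₀⟩ := hcy.exists_generator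
  have h2 : Nat.card {θ : C →* ℂˣ // ¬ ∃ c : C, θ c ^ 2 ≠ 1} ≤ 2 := by
    let f : {θ : C →* ℂˣ // ¬ ∃ c : C, θ c ^ 2 ≠ 1} → Bool := fun θ => decide (θ.1 c₀ = 1)
    have hf : Function.Injective f := by
      intro θ θ' h
      have hv : ∀ θ : {θ : C →* ℂˣ // ¬ ∃ c : C, θ c ^ 2 ≠ 1}, θ.1 c₀ = 1 ∨ θ.1 c₀ = -1 := by
        intro θ
        have h3 := θ.2
        push Not at h3
        have h4 : ((θ.1 c₀ : ℂˣ) : ℂ) ^ 2 = 1 := by rw [← Units.val_pow_eq_pow_val, h3 c₀]; rfl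
        rcases sq_one_cases h4 with h5 | h5
        · left; exact Units.ext h5
        · right; exact Units.ext (by rw [h5]; simp)
      have hne : (-1 : ℂˣ) ≠ 1 := by
        intro h
        have := congrArg Units.val h
        norm_num at this
      have hval : θ.1 c₀ = θ'.1 c₀ := by
        have h5 : (θ.1 c₀ = 1) ↔ (θ'.1 c₀ = 1) := by
          have : decide (θ.1 c₀ = 1) = decide (θ'.1 c₀ = 1) := h
          exact decide_eq_decide.1 this
        rcases hv θ with h6 | h6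
        · rw [h6, h5.1 h6]
        · rcases hv θ' with h7 | h7
          · exact absurd ((h5.2 h7).symm.trans h6).symm hne
          · rw [h6, h7]
      apply Subtype.ext
      apply MonoidHom.ext
      intro c
      obtain ⟨n, hn⟩ := Subgroup.mem_zpowers_iff.1 (hc₀ c)
      rw [← hn, map_zpow, map_zpow, hval]
    have := Nat.card_le_card_of_injective f hf
    rwa [Nat.card_eq_fintype_card (α := Bool), Fintype.card_bool] at this
  have h3 : Nat.card {θ : C →* ℂˣ // ∃ c : C, θ c ^ 2 ≠ 1} + Nat.card {θ : C →* ℂˣ // ¬ ∃ c : C, θ c ^ 2 ≠ 1} = Fintype.card F + 1 := by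
    rw [← h1, ← Nat.card_sum]
    exact Nat.card_congr (Equiv.sumCompl (fun θ : C →* ℂˣ => ∃ c : C, θ c ^ 2 ≠ 1))
  omega

omit [DecidableEq F] in
theorem hom_ext_gen {C : Subgroup G} {c₀ : C} (hc₀ : ∀ x : C, x ∈ Subgroup.zpowers c₀) {θ θ' : C →* ℂˣ}
    (h : θ c₀ = θ' c₀) : θ = θ' := by
  apply MonoidHom.ext
  intro c
  obtain ⟨n, hn⟩ := Subgroup.mem_zpowers_iff.1 (hc₀ c)
  rw [← hn, map_zpow, map_zpow, h]

include hM hodd hcard in
theorem gen_not_Sc {c₀ : C} (hc₀ : ∀ x : C, x ∈ Subgroup.zpowers c₀) : ¬ M.Sc (c₀ : G) := by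
  intro hs
  have h1 : c₀ ^ 2 = 1 := by
    rcases M.Sc_SL hM hs with h | h
    · rw [show c₀ = 1 from Subtype.ext h, one_pow]
    · exact Subtype.ext (by show (c₀ : G) ^ 2 = 1; rw [h, sq, ng_mul_ng])
  have h2 := Nat.le_of_dvd (by norm_num) (orderOf_dvd_of_pow_eq_one h1)
  rw [orderOf_eq_card_of_forall_mem_zpowers hc₀, hcard] at h2
  have := Fintype.one_lt_card (α := F)
  omega

include hM hodd hcy hcard in
theorem exists_X (hq : 5 ≤ Fintype.card F) {χ : G → ℂ} (hχ : IsIrrCharacter G χ) (hd : χ 1 = (Fintype.card F : ℂ) - 1) :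
    ∃ (θ : C →* ℂˣ) (γ : MulChar F ℂ), (∃ c : C, θ c ^ 2 ≠ 1) ∧ γ (-1) = (θ ⟨M.ng, M.ng_mem hM hodd hcard⟩ : ℂ) ∧
      χ = M.X θ γ := by
  classical
  obtain ⟨e, he⟩ := exists_nonsq hodd
  have hC := comm_of_cyclic hcy
  choose gm hgm using fun θ : C →* ℂˣ => M.exists_gam hM hodd hcard θ
  have hmem : ∀ χ : G → ℂ, IsIrrCharacter G χ → χ 1 = (Fintype.card F : ℂ) - 1 →
      M.Cusp χ ∧ M.hat χ 1 = M.hat χ e := by
    intro χ hχ h
    rw [← sub_cast] at h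
    obtain ⟨a, b, c⟩ := (M.deg_SL_odd he hodd hM hq hχ h).2.2.2.2.1 rfl
    exact ⟨a, by rw [b, c]⟩
  let f : {θ : C →* ℂˣ // ∃ c : C, θ c ^ 2 ≠ 1} →
      {χ : IrrCharacter G // M.Cusp (χ : G → ℂ) ∧ M.hat (χ : G → ℂ) 1 = M.hat (χ : G → ℂ) e} :=
    fun θ => ⟨⟨M.X θ.1 (gm θ.1), M.isIrr_X hM hodd hC hcard θ.1 (hgm θ.1) θ.2⟩,
      hmem _ (M.isIrr_X hM hodd hC hcard θ.1 (hgm θ.1) θ.2) (M.X_one hM hodd hcard θ.1)⟩
  have hT := card_Theta hcy hcard
  haveI : Finite {θ : C →* ℂˣ // ∃ c : C, θ c ^ 2 ≠ 1} := Nat.finite_of_card_ne_zero (by omega)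
  haveI : Fintype {θ : C →* ℂˣ // ∃ c : C, θ c ^ 2 ≠ 1} := Fintype.ofFinite _
  obtain ⟨c₀, hc₀⟩ := hcy.exists_generator
  have hns := M.gen_not_Sc hM hodd hcard hc₀
  have hfib : ∀ b ∈ Finset.image f Finset.univ, (Finset.univ.filter (fun a => f a = b)).card ≤ 2 := by
    intro b hb
    obtain ⟨θ₁, -, rfl⟩ := Finset.mem_image.1 hb
    let θ₂ : {θ : C →* ℂˣ // ∃ c : C, θ c ^ 2 ≠ 1} := ⟨θ₁.1⁻¹, by
      obtain ⟨c, hc⟩ := θ₁.2
      refine ⟨c, fun h => hc ?_⟩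
      have h' : ((θ₁.1 c)⁻¹) ^ 2 = 1 := h
      rw [inv_pow, inv_eq_one] at h'
      exact h'⟩
    refine le_trans (Finset.card_le_card (t := {θ₁, θ₂}) ?_) Finset.card_le_two
    intro θ hθ
    have h1 := (Finset.mem_filter.1 hθ).2
    have h2 : M.X θ.1 (gm θ.1) = M.X θ₁.1 (gm θ₁.1) := congrArg (fun z => z.1.1) h1
    have h3 := congrFun h2 (c₀ : G)
    rw [M.X_ell hM hodd hC hcard θ.1 c₀.2 hns, M.X_ell hM hodd hC hcard θ₁.1 c₀.2 hns] at h3
    have h4 : (θ.1 c₀ : ℂ) + ((θ.1 c₀ : ℂ))⁻¹ = (θ₁.1 c₀ : ℂ) + ((θ₁.1 c₀ : ℂ))⁻¹ := by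
      have h5 := neg_injective h3
      rw [Units.val_inv_eq_inv_val, Units.val_inv_eq_inv_val] at h5
      exact h5
    have na := (θ.1 c₀).ne_zero
    have nb := (θ₁.1 c₀).ne_zero
    have h5 : ((θ.1 c₀ : ℂ) - θ₁.1 c₀) * ((θ.1 c₀ : ℂ) * θ₁.1 c₀ - 1) = 0 := by
      field_simp at h4
      linear_combination h4
    rw [Finset.mem_insert, Finset.mem_singleton]
    rcases mul_eq_zero.1 h5 with h6 | h6
    · left
      exact Subtype.ext (hom_ext_gen hc₀ (Units.ext (sub_eq_zero.1 h6)))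
    · right
      refine Subtype.ext (hom_ext_gen hc₀ ?_)
      show θ.1 c₀ = (θ₁.1 c₀)⁻¹
      apply Units.ext
      rw [Units.val_inv_eq_inv_val]
      exact eq_inv_of_mul_eq_one_left (sub_eq_zero.1 h6)
  have h1 := Finset.card_le_mul_card_image (f := f) Finset.univ 2 hfib
  rw [Finset.card_univ, ← Nat.card_eq_fintype_card] at h1
  have h2 := (M.count_SL_odd he hodd hM).2.1
  have h3 : Finset.image f Finset.univ = Finset.univ := by
    apply Finset.eq_of_subset_of_card_le (Finset.subset_univ _)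
    rw [Finset.card_univ, ← Nat.card_eq_fintype_card]
    omega
  have hχS := hmem χ hχ hd
  obtain ⟨θ, -, hθ⟩ := Finset.mem_image.1 (h3 ▸ Finset.mem_univ
    (⟨⟨χ, hχ⟩, hχS⟩ : {χ : IrrCharacter G // M.Cusp (χ : G → ℂ) ∧ M.hat (χ : G → ℂ) 1 = M.hat (χ : G → ℂ) e}))
  exact ⟨θ.1, gm θ.1, θ.2, hgm θ.1, (congrArg (fun z => z.1.1) hθ).symm⟩

include hM hodd hcy hcard in
theorem deg_sub_ell {χ : G → ℂ} (hχ : IsIrrCharacter G χ) (hd : χ 1 = (Fintype.card F : ℂ) - 1) :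
    ∃ θ : C →* ℂˣ, (∃ c : C, θ c ^ 2 ≠ 1) ∧ ∀ c : C, ¬ M.Sc (c : G) → χ c = -((θ c).val + (θ c)⁻¹.val) := by
  have hC := comm_of_cyclic hcy
  by_cases hq : 5 ≤ Fintype.card F
  · obtain ⟨θ, γ, h1, h2, h3⟩ := M.exists_X hM hodd hcy hcard hq hχ hd
    refine ⟨θ, h1, fun c hs => ?_⟩
    rw [h3]
    exact M.X_ell hM hodd hC hcard θ c.2 hs
  · have h3 : Fintype.card F = 3 := by
      have h1 := Fintype.one_lt_card (α := F)
      obtain ⟨k, hk⟩ := hodd
      omega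
    have hT := card_Theta hcy hcard
    rw [h3] at hT
    haveI : Nonempty {θ : C →* ℂˣ // ∃ c : C, θ c ^ 2 ≠ 1} := by
      by_contra hne
      rw [not_nonempty_iff] at hne
      rw [Nat.card_of_isEmpty] at hT
      omega
    obtain ⟨θ, hθ⟩ := Classical.arbitrary {θ : C →* ℂˣ // ∃ c : C, θ c ^ 2 ≠ 1}
    obtain ⟨γ, hγ⟩ := M.exists_gam hM hodd hcard θ
    refine ⟨θ, hθ, fun c hs => ?_⟩
    have hell := M.mem_ell hM hodd hC hcard c.2 hs
    have hd2 : χ 1 = 2 := by rw [hd, h3]; norm_num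
    rw [M.ell_three hM h3 hχ hd2 hell, ← M.ell_three hM h3 (M.isIrr_X hM hodd hC hcard θ hγ hθ)
      (by rw [M.X_one hM hodd hcard θ, h3]; norm_num) hell]
    exact M.X_ell hM hodd hC hcard θ c.2 hs

end Cyc

end MG

end CfsgH6
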