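import Cfsg.Agent.H6.Sl1
set_option autoImplicit false

namespace CfsgH6
open Cfsg CfsgH4
open scoped ComplexConjugate

section MC
variable {F : Type*} [Field F] [Fintype F]

theorem mc_conj (α : MulChar F ℂ) (a : F) : conj (α a) = α⁻¹ a := MulChar.star_apply' α a

theorem mc_inv (α : MulChar F ℂ) (a : F) : α a⁻¹ = α⁻¹ a := by rw [MulChar.inv_apply']

theorem mc_inv_zero (α : MulChar F ℂ) : α 0 = 0 := MulChar.map_zero α

theorem mc_sum (α : MulChar F ℂ) [Decidable (α = 1)] :
    ∑ a, α a = if α = 1 then (Fintype.card F : ℂ) - 1 else 0 := by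
  classical
  split_ifs with h
  · rw [h, MulChar.sum_one_eq_card_units, Fintype.card_units, Nat.cast_sub Fintype.card_pos, Nat.cast_one]
  · exact MulChar.sum_eq_zero_of_ne_one h

theorem mc_norm (α : MulChar F ℂ) {a : F} (ha : a ≠ 0) : α a * conj (α a) = 1 := by
  rw [mc_conj, ← MulChar.mul_apply, mul_inv_cancel, MulChar.one_apply ha.isUnit]

theorem mc_ne (α : MulChar F ℂ) {a : F} (ha : a ≠ 0) : α a ≠ 0 := by
  intro h
  have := mc_norm α ha
  rw [h, zero_mul] at this
  exact zero_ne_one this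

end MC

namespace MG
variable {G : Type*} [Group G] {F : Type*} [Field F] (M : MG G F)
variable [Fintype F] [DecidableEq F] [Fintype G]

theorem isIrr_bf (α β : MulChar F ℂ) : IsIrrCharacter M.B (M.bf α β) := by
  let f : M.B →* ℂˣ :=
    { toFun := fun b => Units.mk0 (α (M.m b.1 0 0) * β (M.m b.1 1 1))
        (mul_ne_zero (mc_ne α (M.B_ne b.2).1) (mc_ne β (M.B_ne b.2).2))
      map_one' := by
        apply Units.ext
        show α (M.m 1 0 0) * β (M.m 1 1 1) = 1
        rw [m_one00, m_one11, map_one, map_one, one_mul]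
      map_mul' := by
        intro b c
        apply Units.ext
        show α (M.m (b.1 * c.1) 0 0) * β (M.m (b.1 * c.1) 1 1) = (α (M.m b.1 0 0) * β (M.m b.1 1 1)) *
          (α (M.m c.1 0 0) * β (M.m c.1 1 1))
        rw [mul00, mul11, M.mem_B.1 b.2, M.mem_B.1 c.2, mul_zero, zero_mul, add_zero, zero_add, map_mul,
          map_mul]
        ring }
  exact isCharacter_one_dim f

theorem isCharacter_ps (α β : MulChar F ℂ) : IsCharacter G (M.ps α β) := by
  rw [← M.indFun_bf]
  exact isCharacter_indFun M.B (IsIrr.isCharacter (M.isIrr_bf α β))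

theorem isClass_ps (α β : MulChar F ℂ) : IsClassFunction G (M.ps α β) := by
  rw [← M.indFun_bf]
  exact indFun_isClassFunction M.B _

theorem card_T_ne : (Nat.card M.T : ℂ) ≠ 0 := by
  exact_mod_cast Nat.card_pos.ne'

theorem inner_ps (α β α' β' : MulChar F ℂ) [Fintype M.T] :
    classInner (M.ps α β) (M.ps α' β') =
      (Nat.card M.T : ℂ)⁻¹ * ∑ t : M.T, (α (M.m t.1 0 0) * β (M.m t.1 1 1)) *
        conj (α' (M.m t.1 0 0) * β' (M.m t.1 1 1)) +
      (Nat.card M.T : ℂ)⁻¹ * ∑ t : M.T, (α (M.m t.1 0 0) * β (M.m t.1 1 1)) *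
        conj (α' (M.m t.1 1 1) * β' (M.m t.1 0 0)) := by
  classical
  haveI : Fintype M.B := Fintype.ofFinite _
  rw [← M.indFun_bf α β, CfsgH4.frobenius M.B _ (M.isClass_ps α' β'), classInner_def]
  have h1 : ∀ b : M.B, M.bf α β b * conj (M.ps α' β' b) =
      (fun a y d => (α a * β d) * conj (α' a * β' d +
        ∑ x : F, if (d - a) * x - y = 0 then α' d * β' a else 0))
        (M.m b.1 0 0) (M.m b.1 0 1) (M.m b.1 1 1) := by
    intro b
    simp only [bf, ps, M.mem_B.1 b.2, if_true, zero_mul, zero_add, sub_zero]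
  rw [Finset.sum_congr rfl (fun b _ => h1 b), M.sum_B (fun a y d => (α a * β d) * conj (α' a * β' d +
        ∑ x : F, if (d - a) * x - y = 0 then α' d * β' a else 0))]
  have h2 : ∀ a d : F, ∑ y : F, (α a * β d) * conj (α' a * β' d +
        ∑ x : F, if (d - a) * x - y = 0 then α' d * β' a else 0) =
      (Fintype.card F : ℂ) * ((α a * β d) * conj (α' a * β' d) + (α a * β d) * conj (α' d * β' a)) := by
    intro a d
    have h3 : ∑ y : F, ∑ x : F, (if (d - a) * x - y = 0 then conj (α' d * β' a) else 0) =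
        (Fintype.card F : ℂ) * conj (α' d * β' a) := by
      rw [Finset.sum_comm]
      have : ∀ x : F, ∑ y : F, (if (d - a) * x - y = 0 then conj (α' d * β' a) else 0) =
          conj (α' d * β' a) := by
        intro x
        rw [Finset.sum_eq_single ((d - a) * x)]
        · rw [if_pos (sub_self _)]
        · intro y _ hy
          rw [if_neg]
          intro h
          exact hy (sub_eq_zero.1 h).symm
        · intro h; exact absurd (Finset.mem_univ _) h
      rw [Finset.sum_congr rfl (fun x _ => this x), Finset.sum_const, Finset.card_univ, nsmul_eq_mul]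
    have h4 : ∀ y : F, (α a * β d) * conj (α' a * β' d +
        ∑ x : F, if (d - a) * x - y = 0 then α' d * β' a else 0) =
        (α a * β d) * conj (α' a * β' d) + (α a * β d) *
          ∑ x : F, (if (d - a) * x - y = 0 then conj (α' d * β' a) else 0) := by
      intro y
      rw [map_add, map_sum, mul_add]
      congr 2
      refine Finset.sum_congr rfl fun x _ => ?_
      split_ifs <;> simp
    rw [Finset.sum_congr rfl (fun y _ => h4 y), Finset.sum_add_distrib, Finset.sum_const, Finset.card_univ,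
      nsmul_eq_mul, ← Finset.mul_sum, h3]
    ring
  rw [Finset.sum_congr rfl (fun (t : M.T) _ => h2 (M.m t.1 0 0) (M.m t.1 1 1)), ← Finset.mul_sum,
    Finset.sum_add_distrib, M.card_B]
  have h5 := M.card_T_ne
  have h6 : (Fintype.card F : ℂ) ≠ 0 := by exact_mod_cast Fintype.card_ne_zero
  push_cast
  field_simp

/-- GL type -/
def IsGL : Prop := ∀ A : Matrix (Fin 2) (Fin 2) F, A.det ≠ 0 → ∃ g, M.m g = A

/-- SL type -/
def IsSL : Prop := ∀ g, M.dt g = 1

theorem T_ne {t : G} (ht : t ∈ M.T) : M.m t 0 0 ≠ 0 ∧ M.m t 1 1 ≠ 0 := M.B_ne ht.2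

theorem sum_T_SL (hM : M.IsSL) [Fintype M.T] (h : F → F → ℂ) (h0 : h 0 0 = 0) :
    ∑ t : M.T, h (M.m t.1 0 0) (M.m t.1 1 1) = ∑ a : F, h a a⁻¹ := by
  have hd : ∀ t : M.T, M.m t.1 0 0 * M.m t.1 1 1 = 1 := by
    intro t
    have := hM t.1
    rw [dt, t.2.1, t.2.2] at this
    linear_combination this
  have hd2 : ∀ t : M.T, M.m t.1 1 1 = (M.m t.1 0 0)⁻¹ := fun t => eq_inv_of_mul_eq_one_right (hd t)
  refine Fintype.sum_of_injective (fun t : M.T => M.m t.1 0 0) ?_ _ _ ?_ ?_
  · intro t t' h1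
    simp only at h1
    refine Subtype.ext (M.ext h1 (by rw [t.2.1, t'.2.1]) (by rw [t.2.2, t'.2.2]) ?_)
    rw [hd2, hd2, h1]
  · intro a ha
    by_cases h1 : a = 0
    · rw [h1, inv_zero, h0]
    · exfalso
      apply ha
      obtain ⟨g, hg⟩ := M.ex1 !![a, 0; 0, a⁻¹] (by rw [Matrix.det_fin_two]; simp [h1])
      exact ⟨⟨g, by rw [mem_T, hg]; exact ⟨rfl, rfl⟩⟩, by show M.m g 0 0 = a; rw [hg]; rfl⟩
  · intro t
    show h _ _ = h _ _
    rw [hd2]

theorem sum_T_GL (hM : M.IsGL) [Fintype M.T] (h : F → F → ℂ) (h0 : ∀ d, h 0 d = 0) (h0' : ∀ a, h a 0 = 0) :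
    ∑ t : M.T, h (M.m t.1 0 0) (M.m t.1 1 1) = ∑ a : F, ∑ d : F, h a d := by
  rw [← Fintype.sum_prod_type' (f := h)]
  refine Fintype.sum_of_injective (fun t : M.T => (M.m t.1 0 0, M.m t.1 1 1)) ?_ _ _ ?_ ?_
  · intro t t' h1
    simp only [Prod.mk.injEq] at h1
    exact Subtype.ext (M.ext h1.1 (by rw [t.2.1, t'.2.1]) (by rw [t.2.2, t'.2.2]) h1.2)
  · rintro ⟨a, d⟩ ha
    by_cases h1 : a = 0
    · rw [h1]; exact h0 d
    by_cases h2 : d = 0
    · rw [h2]; exact h0' a
    exfalso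
    apply ha
    obtain ⟨g, hg⟩ := hM !![a, 0; 0, d] (by rw [Matrix.det_fin_two]; simp [h1, h2])
    exact ⟨⟨g, by rw [mem_T, hg]; exact ⟨rfl, rfl⟩⟩, by
      show (M.m g 0 0, M.m g 1 1) = (a, d); rw [hg]; rfl⟩
  · intro t; rfl

theorem card_T_SL (hM : M.IsSL) : Nat.card M.T = Fintype.card F - 1 := by
  classical
  haveI : Fintype M.T := Fintype.ofFinite _
  have h1 := M.sum_T_SL hM (fun a d => (1 : MulChar F ℂ) a) (MulChar.map_zero _)
  have h2 := mc_sum (1 : MulChar F ℂ)
  rw [if_pos rfl] at h2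
  rw [h2] at h1
  have h3 : ∑ t : M.T, (1 : MulChar F ℂ) (M.m t.1 0 0) = (Nat.card M.T : ℂ) := by
    rw [Finset.sum_congr rfl (fun (t : M.T) _ => MulChar.one_apply (M.T_ne t.2).1.isUnit), Finset.sum_const,
      Finset.card_univ, nsmul_eq_mul, mul_one, Nat.card_eq_fintype_card]
  rw [h3] at h1
  have h4 : (1 : ℕ) ≤ Fintype.card F := Fintype.card_pos
  have : ((Nat.card M.T : ℕ) : ℂ) = ((Fintype.card F - 1 : ℕ) : ℂ) := by
    rw [h1]; push_cast [Nat.cast_sub h4]; rfl
  exact_mod_cast this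

theorem card_T_GL (hM : M.IsGL) : Nat.card M.T = (Fintype.card F - 1) ^ 2 := by
  classical
  haveI : Fintype M.T := Fintype.ofFinite _
  have h1 := M.sum_T_GL hM (fun a d => (1 : MulChar F ℂ) a * (1 : MulChar F ℂ) d)
    (fun d => by simp only [MulChar.map_zero, zero_mul]) (fun d => by simp only [MulChar.map_zero, mul_zero])
  have h2 := mc_sum (1 : MulChar F ℂ)
  rw [if_pos rfl] at h2
  have h5 : ∑ a : F, ∑ d : F, (1 : MulChar F ℂ) a * (1 : MulChar F ℂ) d = ((Fintype.card F : ℂ) - 1) ^ 2 := by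
    simp only [← Finset.mul_sum, ← Finset.sum_mul, h2]; ring
  rw [h5] at h1
  have h3 : ∑ t : M.T, (1 : MulChar F ℂ) (M.m t.1 0 0) * (1 : MulChar F ℂ) (M.m t.1 1 1) = (Nat.card M.T : ℂ) := by
    rw [Finset.sum_congr rfl (fun (t : M.T) _ => show _ = (1 : ℂ) by
      rw [MulChar.one_apply (M.T_ne t.2).1.isUnit, MulChar.one_apply (M.T_ne t.2).2.isUnit, mul_one]), Finset.sum_const,
      Finset.card_univ, nsmul_eq_mul, mul_one, Nat.card_eq_fintype_card]
  rw [h3] at h1
  have h4 : (1 : ℕ) ≤ Fintype.card F := Fintype.card_pos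
  have : ((Nat.card M.T : ℕ) : ℂ) = (((Fintype.card F - 1) ^ 2 : ℕ) : ℂ) := by
    rw [h1]; push_cast [Nat.cast_sub h4]; rfl
  exact_mod_cast this

theorem q_sub_ne : (Fintype.card F : ℂ) - 1 ≠ 0 := by
  have : 1 < Fintype.card F := Fintype.one_lt_card
  rw [sub_ne_zero]
  exact_mod_cast this.ne'

theorem inner_ps_SL (hM : M.IsSL) (α β α' β' : MulChar F ℂ) [Decidable (α * β⁻¹ = α' * β'⁻¹)]
    [Decidable (α * β⁻¹ = β' * α'⁻¹)] :
    classInner (M.ps α β) (M.ps α' β') =
      (if α * β⁻¹ = α' * β'⁻¹ then 1 else 0) + (if α * β⁻¹ = β' * α'⁻¹ then 1 else 0) := by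
  classical
  haveI : Fintype M.T := Fintype.ofFinite _
  have hq := q_sub_ne (F := F)
  have h4 : (1 : ℕ) ≤ Fintype.card F := Fintype.card_pos
  rw [inner_ps, M.card_T_SL hM,
    M.sum_T_SL hM (fun a d => (α a * β d) * conj (α' a * β' d)) (by simp only [MulChar.map_zero, zero_mul]),
    M.sum_T_SL hM (fun a d => (α a * β d) * conj (α' d * β' a)) (by simp only [MulChar.map_zero, zero_mul])]
  have h1 : ∀ a : F, (α a * β a⁻¹) * conj (α' a * β' a⁻¹) = (α * β⁻¹ * (α' * β'⁻¹)⁻¹) a := by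
    intro a
    simp only [map_mul, mc_conj, mc_inv, MulChar.mul_apply, mul_inv, inv_inv]
    try ring
  have h2 : ∀ a : F, (α a * β a⁻¹) * conj (α' a⁻¹ * β' a) = (α * β⁻¹ * (β' * α'⁻¹)⁻¹) a := by
    intro a
    simp only [map_mul, mc_conj, mc_inv, MulChar.mul_apply, mul_inv, inv_inv]
    try ring
  rw [Finset.sum_congr rfl (fun a _ => h1 a), Finset.sum_congr rfl (fun a _ => h2 a), mc_sum, mc_sum,
    Nat.cast_sub h4, Nat.cast_one]
  simp only [mul_inv_eq_one]
  congr 1 <;> split_ifs <;> field_simp <;> simp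

theorem inner_ps_GL (hM : M.IsGL) (α β α' β' : MulChar F ℂ) [Decidable (α = α')] [Decidable (β = β')]
    [Decidable (α = β')] [Decidable (β = α')] :
    classInner (M.ps α β) (M.ps α' β') =
      (if α = α' then 1 else 0) * (if β = β' then 1 else 0) +
      (if α = β' then 1 else 0) * (if β = α' then 1 else 0) := by
  classical
  haveI : Fintype M.T := Fintype.ofFinite _
  have hq := q_sub_ne (F := F)
  have h4 : (1 : ℕ) ≤ Fintype.card F := Fintype.card_pos
  rw [inner_ps, M.card_T_GL hM,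
    M.sum_T_GL hM (fun a d => (α a * β d) * conj (α' a * β' d)) (fun d => by simp only [MulChar.map_zero, zero_mul])
      (fun d => by simp only [MulChar.map_zero, zero_mul, mul_zero]),
    M.sum_T_GL hM (fun a d => (α a * β d) * conj (α' d * β' a)) (fun d => by simp only [MulChar.map_zero, zero_mul])
      (fun d => by simp only [MulChar.map_zero, zero_mul, mul_zero])]
  have h1 : ∀ a d : F, (α a * β d) * conj (α' a * β' d) = (α * α'⁻¹) a * (β * β'⁻¹) d := by
    intro a d
    simp only [map_mul, mc_conj, MulChar.mul_apply]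
    ring
  have h2 : ∀ a d : F, (α a * β d) * conj (α' d * β' a) = (α * β'⁻¹) a * (β * α'⁻¹) d := by
    intro a d
    simp only [map_mul, mc_conj, MulChar.mul_apply]
    ring
  simp only [h1, h2, ← Finset.mul_sum, ← Finset.sum_mul]
  rw [mc_sum, mc_sum, mc_sum, mc_sum]
  push_cast [Nat.cast_sub h4]
  simp only [mul_inv_eq_one]
  congr 1 <;> split_ifs <;> field_simp <;> simp

end MG

end CfsgH6
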