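import Cfsg.Agent.H6.Sl17
set_option autoImplicit false

namespace CfsgH6
open Cfsg CfsgH4
open scoped ComplexConjugate

namespace MG
variable {G : Type*} [Group G] {F : Type*} [Field F] (M : MG G F)

/-- a matrix commuting with a non-scalar one is a linear polynomial in it -/
theorem comm_lin {c h : G} (hs : ¬ M.Sc c) (hc : c * h = h * c) :
    ∃ x y : F, M.m h 0 0 = x + y * M.m c 0 0 ∧ M.m h 0 1 = y * M.m c 0 1 ∧ M.m h 1 0 = y * M.m c 1 0 ∧
      M.m h 1 1 = x + y * M.m c 1 1 := by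
  have e00 := congrArg (fun g => M.m g 0 0) hc
  have e01 := congrArg (fun g => M.m g 0 1) hc
  have e10 := congrArg (fun g => M.m g 1 0) hc
  simp only [mul00, mul01, mul10] at e00 e01 e10
  by_cases h10 : M.m c 1 0 = 0
  · by_cases h01 : M.m c 0 1 = 0
    · have hd : M.m c 1 1 - M.m c 0 0 ≠ 0 := fun h => hs ⟨h01, h10, by linear_combination -h⟩
      rw [h01] at e01
      rw [h10] at e10
      have g01 : M.m h 0 1 = 0 := by
        apply mul_right_cancel₀ hd; linear_combination -e01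
      have g10 : M.m h 1 0 = 0 := by
        apply mul_right_cancel₀ hd; linear_combination e10
      obtain ⟨y, hy⟩ : ∃ y, M.m h 1 1 - M.m h 0 0 = y * (M.m c 1 1 - M.m c 0 0) :=
        ⟨(M.m h 1 1 - M.m h 0 0) / (M.m c 1 1 - M.m c 0 0), by field_simp⟩
      refine ⟨M.m h 0 0 - y * M.m c 0 0, y, by ring, by rw [g01, h01, mul_zero], by rw [g10, h10, mul_zero], ?_⟩
      linear_combination hy
    · obtain ⟨y, hy⟩ : ∃ y, M.m h 0 1 = y * M.m c 0 1 := ⟨M.m h 0 1 / M.m c 0 1, by field_simp⟩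
      refine ⟨M.m h 0 0 - y * M.m c 0 0, y, by ring, hy, ?_, ?_⟩
      · apply mul_right_cancel₀ h01
        rw [hy] at e00
        linear_combination e00
      · apply mul_right_cancel₀ h01
        rw [hy] at e01
        linear_combination e01
  · obtain ⟨y, hy⟩ : ∃ y, M.m h 1 0 = y * M.m c 1 0 := ⟨M.m h 1 0 / M.m c 1 0, by field_simp⟩
    refine ⟨M.m h 0 0 - y * M.m c 0 0, y, by ring, ?_, hy, ?_⟩
    · apply mul_right_cancel₀ h10
      rw [hy] at e00
      linear_combination -e00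
    · apply mul_right_cancel₀ h10
      rw [hy] at e10
      linear_combination -e10

theorem cent_comm {c h k : G} (hs : ¬ M.Sc c) (hh : h ∈ Subgroup.centralizer ({c} : Set G))
    (hk : k ∈ Subgroup.centralizer ({c} : Set G)) : h * k = k * h := by
  rw [mem_cent_single] at hh hk
  obtain ⟨x, y, a00, a01, a10, a11⟩ := M.comm_lin hs hh
  obtain ⟨x', y', b00, b01, b10, b11⟩ := M.comm_lin hs hk
  refine M.ext ?_ ?_ ?_ ?_
  · rw [mul00, mul00, a00, a01, a10, b00, b01, b10]; ring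
  · rw [mul01, mul01, a00, a01, a11, b00, b01, b11]; ring
  · rw [mul10, mul10, a00, a10, a11, b00, b10, b11]; ring
  · rw [mul11, mul11, a01, a10, a11, b01, b10, b11]; ring

theorem cent_cent {c c' : G} (hs : ¬ M.Sc c) (hc' : c' ∈ Subgroup.centralizer ({c} : Set G)) (hs' : ¬ M.Sc c') :
    Subgroup.centralizer ({c'} : Set G) = Subgroup.centralizer ({c} : Set G) := by
  have hcc : c ∈ Subgroup.centralizer ({c} : Set G) := by rw [mem_cent_single]
  have hcc' : c' ∈ Subgroup.centralizer ({c'} : Set G) := by rw [mem_cent_single]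
  have h1 : c ∈ Subgroup.centralizer ({c'} : Set G) := by
    rw [mem_cent_single]; exact M.cent_comm hs hc' hcc
  ext h
  constructor
  · intro h2
    rw [mem_cent_single]; exact M.cent_comm hs' h1 h2
  · intro h2
    rw [mem_cent_single]; exact M.cent_comm hs hc' h2

theorem not_Sc_of_tr (hM : M.IsSL) {z : G} (hz : M.tr z ^ 2 ≠ 4) : ¬ M.Sc z := by
  rintro ⟨h1, h2, h3⟩
  apply hz
  have hd := hM z
  rw [dt, h1, h2, ← h3] at hd
  rw [tr, ← h3]
  linear_combination 4 * hd

theorem tr_lin (hM : M.IsSL) {c h : G} {x y : F} (a00 : M.m h 0 0 = x + y * M.m c 0 0) (a01 : M.m h 0 1 = y * M.m c 0 1)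
    (a10 : M.m h 1 0 = y * M.m c 1 0) (a11 : M.m h 1 1 = x + y * M.m c 1 1) :
    M.tr h ^ 2 - 4 = y ^ 2 * (M.tr c ^ 2 - 4) := by
  have dc := hM c
  have dh := hM h
  rw [dt, a00, a01, a10, a11] at dh
  rw [dt] at dc
  rw [tr, tr, a00, a11]
  linear_combination 4 * dh - 4 * y ^ 2 * dc

theorem cent_tr' (hM : M.IsSL) (h2 : (2 : F) ≠ 0) {c h : G} (hc : M.tr c ^ 2 ≠ 4)
    (hh : h ∈ Subgroup.centralizer ({c} : Set G)) (ht : M.tr h = M.tr c) : h = c ∨ h = c⁻¹ := by
  rw [mem_cent_single] at hh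
  obtain ⟨x, y, a00, a01, a10, a11⟩ := M.comm_lin (M.not_Sc_of_tr hM hc) hh
  have h3 := M.tr_lin hM a00 a01 a10 a11
  have hc' : M.tr c ^ 2 - 4 ≠ 0 := sub_ne_zero.2 hc
  rw [ht] at h3
  have h4 : (1 - y) * (1 + y) = 0 := by
    apply mul_right_cancel₀ hc'; linear_combination h3
  have ht' : 2 * x = (1 - y) * M.tr c := by
    have : M.tr h = 2 * x + y * M.tr c := by rw [tr, tr, a00, a11]; ring
    rw [ht] at this
    linear_combination -this
  rcases mul_eq_zero.1 h4 with h5 | h5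
  · left
    have hy1 : y = 1 := by linear_combination -h5
    have hx : x = 0 := by
      apply mul_left_cancel₀ h2; rw [ht', h5]; ring
    refine M.ext ?_ ?_ ?_ ?_
    · rw [a00, hx, hy1]; ring
    · rw [a01, hy1]; ring
    · rw [a10, hy1]; ring
    · rw [a11, hx, hy1]; ring
  · right
    have hy1 : y = -1 := by linear_combination h5
    have hx : x = M.tr c := by
      apply mul_left_cancel₀ h2; rw [ht', hy1]; ring
    have hdi : (M.dt c)⁻¹ = 1 := by rw [hM c, inv_one]
    refine M.ext ?_ ?_ ?_ ?_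
    · rw [inv00, hdi, a00, hx, hy1, tr]; ring
    · rw [inv01, hdi, a01, hy1]; ring
    · rw [inv10, hdi, a10, hy1]; ring
    · rw [inv11, hdi, a11, hx, hy1, tr]; ring

theorem tr_of_cent (hM : M.IsSL) {z c : G} (hz : M.tr z ^ 2 ≠ 4) (hc : c ∈ Subgroup.centralizer ({z} : Set G))
    (hs : ¬ M.Sc c) : M.tr c ^ 2 ≠ 4 := by
  rw [mem_cent_single] at hc
  obtain ⟨x, y, a00, a01, a10, a11⟩ := M.comm_lin (M.not_Sc_of_tr hM hz) hc
  have h3 := M.tr_lin hM a00 a01 a10 a11
  intro h4
  rw [h4, sub_self] at h3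
  have h5 : y = 0 := by
    rcases mul_eq_zero.1 h3.symm with h | h
    · exact pow_eq_zero_iff (two_ne_zero) |>.1 h
    · exact absurd (sub_eq_zero.1 h) hz
  apply hs
  rw [h5] at a00 a01 a10 a11
  exact ⟨by rw [a01]; ring, by rw [a10]; ring, by rw [a00, a11]; ring⟩

section Norm
variable [Fintype F] [DecidableEq F] [Fintype G]
variable (hM : M.IsSL) (hodd : Odd (Fintype.card F)) {z : G} (hz : M.tr z ^ 2 ≠ 4)

include hM hodd hz in
theorem inv_of_norm {x c : G} (hx : x ∈ Subgroup.normalizer (Subgroup.centralizer ({z} : Set G) : Set G))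
    (hxC : x ∉ Subgroup.centralizer ({z} : Set G)) (hc : c ∈ Subgroup.centralizer ({z} : Set G)) :
    x * c * x⁻¹ = c⁻¹ := by
  have hzs := M.not_Sc_of_tr hM hz
  by_cases hs : M.Sc c
  · have h1 : x * c * x⁻¹ = c := by rw [← hs.comm x, mul_inv_cancel_right]
    rw [h1]
    rcases M.Sc_SL hM hs with h | h
    · rw [h, inv_one]
    · rw [h]; symm; exact inv_eq_of_mul_eq_one_right (ng_mul_ng _)
  · have h1 : x * c * x⁻¹ ∈ Subgroup.centralizer ({z} : Set G) := (Subgroup.mem_normalizer_iff.1 hx c).1 hc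
    rw [← M.cent_cent hzs hc hs] at h1 hxC
    rcases M.cent_tr' hM (two_ne_of_odd hodd) (M.tr_of_cent hM hz hc hs) h1
      (M.tr_conj (isConj_iff.2 ⟨x, rfl⟩)).symm with h2 | h2
    · exfalso
      apply hxC
      rw [mem_cent_single]
      have := congrArg (fun g => g * x) h2
      simp only [inv_mul_cancel_right] at this
      exact this.symm
    · exact h2

include hM hodd hz in
theorem exists_norm : ∃ x₀ : G, x₀ ∈ Subgroup.normalizer (Subgroup.centralizer ({z} : Set G) : Set G) ∧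
    x₀ ∉ Subgroup.centralizer ({z} : Set G) := by
  have hzs := M.not_Sc_of_tr hM hz
  obtain ⟨x₀, hx₀⟩ := isConj_iff.1 (M.conj_SL_tr hM hodd hz (M.tr_inv hM z).symm)
  refine ⟨x₀, ?_, ?_⟩
  · rw [Subgroup.mem_normalizer_iff]
    intro h
    rw [mem_cent_single, mem_cent_single]
    have h1 : x₀⁻¹ * z * x₀ = z⁻¹ := by
      have := congrArg (fun g => (x₀⁻¹ * g * x₀)⁻¹) hx₀
      rw [show (x₀⁻¹ * (x₀ * z * x₀⁻¹) * x₀)⁻¹ = z⁻¹ by group] at this
      rw [this]; group
    constructor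
    · intro h2
      have h3 : z⁻¹ * (x₀ * h * x₀⁻¹) = x₀ * h * x₀⁻¹ * z⁻¹ := by
        rw [← hx₀]
        have e1 : x₀ * z * x₀⁻¹ * (x₀ * h * x₀⁻¹) = x₀ * (z * h) * x₀⁻¹ := by group
        have e2 : x₀ * h * x₀⁻¹ * (x₀ * z * x₀⁻¹) = x₀ * (h * z) * x₀⁻¹ := by group
        rw [e1, e2, h2]
      have h4 := congrArg (fun g => z * g * z) h3
      rw [show z * (z⁻¹ * (x₀ * h * x₀⁻¹)) * z = x₀ * h * x₀⁻¹ * z by group,
        show z * (x₀ * h * x₀⁻¹ * z⁻¹) * z = z * (x₀ * h * x₀⁻¹) by group] at h4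
      exact h4.symm
    · intro h2
      have h3 : z⁻¹ * h = h * z⁻¹ := by
        rw [← h1]
        have e1 : x₀⁻¹ * z * x₀ * h = x₀⁻¹ * (z * (x₀ * h * x₀⁻¹)) * x₀ := by group
        have e2 : h * (x₀⁻¹ * z * x₀) = x₀⁻¹ * (x₀ * h * x₀⁻¹ * z) * x₀ := by group
        rw [e1, e2, h2]
      have h4 := congrArg (fun g => z * g * z) h3
      rw [show z * (z⁻¹ * h) * z = h * z by group, show z * (h * z⁻¹) * z = z * h by group] at h4
      exact h4.symm
  · intro h
    rw [mem_cent_single] at h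
    apply M.inv_ne_self hM hodd hzs
    rw [← hx₀, ← h, mul_inv_cancel_right]

include hM hodd hz in
theorem norm_mul {x y : G} (hx : x ∈ Subgroup.normalizer (Subgroup.centralizer ({z} : Set G) : Set G))
    (hxC : x ∉ Subgroup.centralizer ({z} : Set G))
    (hy : y ∈ Subgroup.normalizer (Subgroup.centralizer ({z} : Set G) : Set G))
    (hyC : y ∉ Subgroup.centralizer ({z} : Set G)) : x * y ∈ Subgroup.centralizer ({z} : Set G) := by
  have hzz : z ∈ Subgroup.centralizer ({z} : Set G) := by rw [mem_cent_single]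
  have h1 := M.inv_of_norm hM hodd hz hx hxC hzz
  have h2 := M.inv_of_norm hM hodd hz hy hyC hzz
  have h1' := M.inv_of_norm hM hodd hz hx hxC (Subgroup.inv_mem _ hzz)
  rw [mem_cent_single]
  have e : x * y * z = x * (y * z * y⁻¹) * x⁻¹ * (x * y) := by group
  rw [e, h2, h1', inv_inv]

include hM hodd hz in
theorem norm_inv_not {x : G}
    (hxC : x ∉ Subgroup.centralizer ({z} : Set G)) : x⁻¹ ∉ Subgroup.centralizer ({z} : Set G) :=
  fun h => hxC (by simpa using Subgroup.inv_mem _ h)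

include hM hodd hz in
theorem norm_sq {x : G} (hx : x ∈ Subgroup.normalizer (Subgroup.centralizer ({z} : Set G) : Set G))
    (hxC : x ∉ Subgroup.centralizer ({z} : Set G)) : x * x = M.ng := by
  have h1 := M.norm_mul hM hodd hz hx hxC hx hxC
  have h2 := M.inv_of_norm hM hodd hz hx hxC h1
  have h3 : x * (x * x) * x⁻¹ = x * x := by group
  have h4 : M.Sc (x * x) := by
    by_contra hs
    exact M.inv_ne_self hM hodd hs (h2.symm.trans h3)
  rcases M.Sc_SL hM h4 with h5 | h5
  · exfalso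
    have h6 : x⁻¹ = x := inv_eq_of_mul_eq_one_right h5
    have h7 : M.Sc x := by
      by_contra hs; exact M.inv_ne_self hM hodd hs h6
    apply hxC
    rw [mem_cent_single]
    exact (h7.comm z).symm
  · exact h5

include hM hodd hz in
theorem card_norm : Nat.card (Subgroup.normalizer (Subgroup.centralizer ({z} : Set G) : Set G)) =
    2 * Nat.card (Subgroup.centralizer ({z} : Set G)) := by
  obtain ⟨x₀, hx₀, hx₀C⟩ := M.exists_norm hM hodd hz
  set C := Subgroup.centralizer ({z} : Set G) with hC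
  set N := Subgroup.normalizer (C : Set G) with hN
  have hle : C ≤ N := Subgroup.le_normalizer
  have h1 : (C.subgroupOf N).index = 2 := by
    rw [Subgroup.index_eq_two_iff]
    refine ⟨⟨x₀, hx₀⟩, fun b => ?_⟩
    rw [Subgroup.mem_subgroupOf, Subgroup.mem_subgroupOf]
    by_cases hb : (b : G) ∈ C
    · refine Or.inr ⟨hb, fun h => hx₀C ?_⟩
      have h' : (b : G) * x₀ ∈ C := h
      exact (Subgroup.mul_mem_cancel_left C hb).1 h'
    · exact Or.inl ⟨M.norm_mul hM hodd hz b.2 hb hx₀ hx₀C, hb⟩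
  have h2 := Subgroup.card_mul_index (C.subgroupOf N)
  rw [h1, Nat.card_congr (Subgroup.subgroupOfEquivOfLe hle).toEquiv] at h2
  rw [← h2, mul_comm]

end Norm

end MG

end CfsgH6
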