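import Cfsg.Agent.H6.Sl20
set_option autoImplicit false

namespace CfsgH6
open Cfsg CfsgH4
open scoped ComplexConjugate

namespace MG
variable {G : Type*} [Group G] {F : Type*} [Field F] (M : MG G F)

theorem lin_unique {c : G} (hs : ¬ M.Sc c) {x y x' y' : F} (h00 : x + y * M.m c 0 0 = x' + y' * M.m c 0 0)
    (h01 : y * M.m c 0 1 = y' * M.m c 0 1) (h10 : y * M.m c 1 0 = y' * M.m c 1 0)
    (h11 : x + y * M.m c 1 1 = x' + y' * M.m c 1 1) : x = x' ∧ y = y' := by
  have hy : y = y' := by
    by_cases g10 : M.m c 1 0 = 0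
    · by_cases g01 : M.m c 0 1 = 0
      · have hd : M.m c 1 1 - M.m c 0 0 ≠ 0 := fun h => hs ⟨g01, g10, by linear_combination -h⟩
        apply mul_right_cancel₀ hd
        linear_combination h11 - h00
      · exact mul_right_cancel₀ g01 h01
    · exact mul_right_cancel₀ g10 h10
  exact ⟨by rw [hy] at h00; exact add_right_cancel h00, hy⟩

theorem cyclic_cent [Finite G] (hM : M.IsSL) {z : G} (hz : M.tr z ^ 2 ≠ 4) :
    IsCyclic (Subgroup.centralizer ({z} : Set G)) := by
  have hzs := M.not_Sc_of_tr hM hz
  have hex : ∃ l : AlgebraicClosure F, l ^ 2 - algebraMap F _ (M.tr z) * l + 1 = 0 := by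
    obtain ⟨l, hl⟩ := IsAlgClosed.exists_root (Polynomial.X ^ 2 - Polynomial.C (algebraMap F (AlgebraicClosure F) (M.tr z)) * Polynomial.X + 1 : Polynomial (AlgebraicClosure F)) (by
      have : (Polynomial.X ^ 2 - Polynomial.C (algebraMap F (AlgebraicClosure F) (M.tr z)) * Polynomial.X + 1 : Polynomial (AlgebraicClosure F)).degree = 2 := by
        compute_degree!
      rw [this]; decide)
    refine ⟨l, ?_⟩
    rw [Polynomial.IsRoot.def] at hl
    simpa using hl
  obtain ⟨l, hl⟩ := hex
  choose X Y h00 h01 h10 h11 using fun h : Subgroup.centralizer ({z} : Set G) => M.comm_lin hzs (mem_cent_single.1 h.2)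
  have hdz := hM z
  rw [dt] at hdz
  set t := M.tr z with ht
  have ht' : t = M.m z 0 0 + M.m z 1 1 := ht
  have hnorm : ∀ h, X h ^ 2 + X h * Y h * t + Y h ^ 2 = 1 := by
    intro h
    have hd := hM (h : G)
    rw [dt, h00, h01, h10, h11] at hd
    rw [ht']
    linear_combination hd - Y h ^ 2 * hdz
  have hmul : ∀ h k, X (h * k) = X h * X k - Y h * Y k ∧ Y (h * k) = X h * Y k + Y h * X k + t * Y h * Y k := by
    intro h k
    apply M.lin_unique hzs
    · rw [← h00, Subgroup.coe_mul, mul00, h00, h00, h01, h10, ht']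
      linear_combination (-Y h * Y k) * hdz
    · rw [← h01, Subgroup.coe_mul, mul01, h00, h01, h01, h11, ht']; ring
    · rw [← h10, Subgroup.coe_mul, mul10, h00, h10, h10, h11, ht']; ring
    · rw [← h11, Subgroup.coe_mul, mul11, h11, h11, h01, h10, ht']
      linear_combination (-Y h * Y k) * hdz
  have hone : X 1 = 1 ∧ Y 1 = 0 := by
    apply M.lin_unique hzs
    · rw [← h00, Subgroup.coe_one, m_one00]; ring
    · rw [← h01, Subgroup.coe_one, m_one01]; ring
    · rw [← h10, Subgroup.coe_one, m_one10]; ring
    · rw [← h11, Subgroup.coe_one, m_one11]; ring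
  let φ : Subgroup.centralizer ({z} : Set G) →* AlgebraicClosure F :=
    { toFun := fun h => algebraMap F _ (X h) + algebraMap F _ (Y h) * l
      map_one' := by rw [hone.1, hone.2, map_one, map_zero]; ring
      map_mul' := by
        intro h k
        rw [(hmul h k).1, (hmul h k).2]
        simp only [map_sub, map_add, map_mul]
        linear_combination (-(algebraMap F (AlgebraicClosure F) (Y h)) * algebraMap F _ (Y k)) * hl }
  refine isCyclic_of_injective_ringHom φ ?_
  intro h k hhk
  have e1 : algebraMap F (AlgebraicClosure F) (X h) + algebraMap F _ (Y h) * l =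
    algebraMap F _ (X k) + algebraMap F _ (Y k) * l := hhk
  have n1 := congrArg (algebraMap F (AlgebraicClosure F)) (hnorm h)
  have n2 := congrArg (algebraMap F (AlgebraicClosure F)) (hnorm k)
  simp only [map_add, map_mul, map_pow, map_one] at n1 n2
  set T := algebraMap F (AlgebraicClosure F) t with hT
  set a := algebraMap F (AlgebraicClosure F) (X h)
  set b := algebraMap F (AlgebraicClosure F) (Y h)
  set a' := algebraMap F (AlgebraicClosure F) (X k)
  set b' := algebraMap F (AlgebraicClosure F) (Y k)
  have m1 : (a + b * l) * (a + b * (T - l)) = 1 := by linear_combination n1 - b ^ 2 * hl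
  have m2 : (a + b * l) * (a' + b' * (T - l)) = 1 := by rw [e1]; linear_combination n2 - b' ^ 2 * hl
  have hu : a + b * l ≠ 0 := left_ne_zero_of_mul_eq_one m1
  have m3 : a + b * (T - l) = a' + b' * (T - l) := mul_left_cancel₀ hu (m1.trans m2.symm)
  have hd : T - 2 * l ≠ 0 := by
    intro h
    apply hz
    have : T ^ 2 = 4 := by linear_combination (T + 2 * l) * h - 4 * hl - 4 * l * h
    have h2 : algebraMap F (AlgebraicClosure F) (t ^ 2) = algebraMap F _ 4 := by
      rw [map_pow, ← hT, this, map_ofNat]
    exact (algebraMap F (AlgebraicClosure F)).injective h2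
  have hb : b = b' := by
    apply mul_right_cancel₀ hd; linear_combination m3 - e1
  have ha : a = a' := by rw [hb] at e1; exact add_right_cancel e1
  have hY : Y h = Y k := (algebraMap F (AlgebraicClosure F)).injective hb
  have hX : X h = X k := (algebraMap F (AlgebraicClosure F)).injective ha
  apply Subtype.ext
  refine M.ext ?_ ?_ ?_ ?_
  · rw [h00, h00, hX, hY]
  · rw [h01, h01, hY]
  · rw [h10, h10, hY]
  · rw [h11, h11, hX, hY]

section Norm
variable [Fintype F] [DecidableEq F] [Fintype G]
variable (hM : M.IsSL) (hodd : Odd (Fintype.card F))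

include hM hodd in
theorem card_cent_tr4 {c : G} (hs : ¬ M.Sc c) (ht : M.tr c ^ 2 = 4) :
    Nat.card (Subgroup.centralizer ({c} : Set G)) = 2 * Fintype.card F := by
  have h3 : (M.tr c - 2) * (M.tr c + 2) = 0 := by linear_combination ht
  rcases mul_eq_zero.1 h3 with h4 | h4
  · obtain ⟨x, hx, hx2⟩ := M.unip_conj_ne (hM c) (sub_eq_zero.1 h4) hs
    rw [← card_cent_conj hx2, M.card_cent_u_SL hM hx, card_sq_one_odd hodd, Nat.card_eq_fintype_card]
  · have hs' : ¬ M.Sc (M.ng * c) := by
      rintro ⟨e1, e2, e3⟩
      apply hs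
      simp only [mul00, mul01, mul10, mul11, ng00, ng01, ng10, ng11] at e1 e2 e3
      refine ⟨by linear_combination -e1, by linear_combination -e2, by linear_combination -e3⟩
    obtain ⟨x, hx, hx2⟩ := M.unip_conj_ne (hM (M.ng * c)) (by rw [tr_ng]; linear_combination -h4) hs'
    rw [← M.cent_ng, ← card_cent_conj hx2, M.card_cent_u_SL hM hx, card_sq_one_odd hodd, Nat.card_eq_fintype_card]

include hM hodd in
theorem card_cent_nell {c : G} (ht : M.tr c ^ 2 ≠ 4) (hc : ¬ M.Ell c) :
    Nat.card (Subgroup.centralizer ({c} : Set G)) = Fintype.card F - 1 := by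
  rw [ell_iff_tr hM] at hc
  push Not at hc
  obtain ⟨a, ha⟩ := hc
  obtain ⟨d, hd⟩ := M.ex1 !![a, 0; 0, M.tr c - a] (by rw [Matrix.det_fin_two]; simpa using ha)
  have d00 : M.m d 0 0 = a := by rw [hd]; rfl
  have d01 : M.m d 0 1 = 0 := by rw [hd]; rfl
  have d10 : M.m d 1 0 = 0 := by rw [hd]; rfl
  have d11 : M.m d 1 1 = M.tr c - a := by rw [hd]; rfl
  have hcd : IsConj c d := M.conj_SL_tr hM hodd ht (by show M.tr c = M.m d 0 0 + M.m d 1 1; rw [d00, d11]; ring)
  rw [card_cent_conj hcd, M.cent_diag d01 d10 (by
    rw [d00, d11]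
    intro h4
    apply ht
    have h5 : M.tr c = 2 * a := by linear_combination -h4
    rw [← h4] at ha
    rw [h5]; linear_combination 4 * ha), M.card_T_SL hM]

include hM in
theorem exists_ell : ∃ g : G, M.Ell g := by
  classical
  by_contra hne
  push Not at hne
  have h1 : ∀ t : F, ∃ a : Fˣ, (a : F) + (a : F)⁻¹ = t := by
    intro t
    obtain ⟨g, hg⟩ := M.ex1 !![0, -1; 1, t] (by simp)
    have ht : M.tr g = t := by rw [tr, hg]; simp
    have h2 := hne g
    rw [ell_iff_tr hM] at h2
    push Not at h2
    obtain ⟨a, ha⟩ := h2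
    have ha0 : a ≠ 0 := fun h => by rw [h, zero_mul] at ha; exact zero_ne_one ha
    refine ⟨Units.mk0 a ha0, ?_⟩
    rw [Units.val_mk0]
    field_simp
    rw [ht] at ha
    linear_combination -ha
  choose f hf using h1
  have h2 : Function.Injective f := by
    intro x y hxy
    rw [← hf x, ← hf y, hxy]
  have h3 := Fintype.card_le_of_injective f h2
  rw [Fintype.card_units] at h3
  have := Fintype.one_lt_card (α := F)
  omega

include hM hodd in
theorem ell_into {z g : G} (hz : M.Ell z) (hg : M.Ell g) : ∃ h : G, h * g * h⁻¹ ∈ Subgroup.centralizer ({z} : Set G) := by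
  have h2 := two_ne_of_odd hodd
  have hns : ∀ {g : G}, M.Ell g → ¬ IsSquare (M.tr g ^ 2 - 4) := by
    rintro g hg ⟨s, hs⟩
    apply hg.pol_ne hM ((M.tr g + s) / 2)
    have : (M.tr g + s) / 2 * (M.tr g - (M.tr g + s) / 2) = (M.tr g ^ 2 - s * s) / (2 * 2) := by
      field_simp; ring
    rw [this, ← hs]
    field_simp
    ring
  obtain ⟨y, hy, hy2⟩ := nonsq_ratio (hns hz) (hns hg)
  set x := (M.tr g - y * M.tr z) / 2 with hx
  have hx2 : 2 * x = M.tr g - y * M.tr z := by rw [hx]; field_simp
  have hdz := hM z
  rw [dt] at hdz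
  have hdet : (!![x + y * M.m z 0 0, y * M.m z 0 1; y * M.m z 1 0, x + y * M.m z 1 1]).det = 1 := by
    rw [Matrix.det_fin_two]
    show (x + y * M.m z 0 0) * (x + y * M.m z 1 1) - (y * M.m z 0 1) * (y * M.m z 1 0) = 1
    have h4 : (2 : F) * 2 ≠ 0 := mul_ne_zero h2 h2
    apply mul_left_cancel₀ h4
    have e : 2 * x + y * (M.m z 0 0 + M.m z 1 1) = M.tr g := by rw [hx2, tr, tr]; ring
    rw [tr] at hy2
    linear_combination (2 * x + y * (M.m z 0 0 + M.m z 1 1) + M.tr g) * e - hy2 + 4 * y ^ 2 * hdz
  obtain ⟨k, hk⟩ := M.ex1 _ hdet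
  have k00 : M.m k 0 0 = x + y * M.m z 0 0 := by rw [hk]; rfl
  have k01 : M.m k 0 1 = y * M.m z 0 1 := by rw [hk]; rfl
  have k10 : M.m k 1 0 = y * M.m z 1 0 := by rw [hk]; rfl
  have k11 : M.m k 1 1 = x + y * M.m z 1 1 := by rw [hk]; rfl
  have htr : M.tr g = M.tr k := by rw [tr, tr, k00, k11]; rw [tr, tr] at hx2; linear_combination -hx2
  obtain ⟨h, hh⟩ := isConj_iff.1 (M.conj_SL_tr hM hodd (ell_tr hodd hM hg) htr)
  refine ⟨h, ?_⟩
  rw [hh, mem_cent_single]
  refine M.ext ?_ ?_ ?_ ?_
  · rw [mul00, mul00, k00, k01, k10]; ring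
  · rw [mul01, mul01, k00, k01, k11]; ring
  · rw [mul10, mul10, k00, k10, k11]; ring
  · rw [mul11, mul11, k01, k10, k11]; ring

variable {z : G} (hz : M.tr z ^ 2 ≠ 4)

theorem ng_mem_cent : M.ng ∈ Subgroup.centralizer ({z} : Set G) := by
  rw [mem_cent_single]; exact (M.Sc_ng.comm z).symm

include hM hodd hz in
theorem card_classes_norm : 2 * Nat.card (ConjClasses (Subgroup.normalizer (Subgroup.centralizer ({z} : Set G) : Set G))) =
    Nat.card (Subgroup.centralizer ({z} : Set G)) + 6 := by
  classical
  have hzs := M.not_Sc_of_tr hM hz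
  have hcn := M.card_norm hM hodd hz
  have hngC := M.ng_mem_cent (z := z)
  set C := Subgroup.centralizer ({z} : Set G) with hC
  set N := Subgroup.normalizer (C : Set G) with hN
  set n := Nat.card C with hn
  haveI : Fintype N := Fintype.ofFinite _
  have hle : C ≤ N := Subgroup.le_normalizer
  have hnpos : 0 < n := Nat.card_pos
  have hCN : Nat.card {y : N // (y : G) ∈ C} = n :=
    Nat.card_congr (Subgroup.subgroupOfEquivOfLe hle).toEquiv
  let ngN : N := ⟨M.ng, hle hngC⟩
  have h0 := card_comm_eq_card_conjClasses_mul_card N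
  rw [Nat.card_congr (Equiv.subtypeProdEquivSigmaSubtype (fun x y : N => Commute x y)), Nat.card_sigma] at h0
  have hf : ∀ x : N, Nat.card {y : N // Commute x y} =
      (if (x : G) ∈ C then n else 4) + (if (x : G) ∈ C ∧ M.Sc (x : G) then n else 0) := by
    intro x
    by_cases hx : (x : G) ∈ C
    · rw [if_pos hx]
      by_cases hs : M.Sc (x : G)
      · rw [if_pos ⟨hx, hs⟩]
        have : Nat.card {y : N // Commute x y} = Nat.card N :=
          Nat.card_congr (Equiv.subtypeUnivEquiv fun y => Subtype.ext (hs.comm (y : G)))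
        rw [this, hcn]; ring
      · rw [if_neg (fun h => hs h.2), add_zero, ← hCN]
        refine Nat.card_congr (Equiv.subtypeEquivRight fun y => ?_)
        have h1 := M.cent_cent hzs hx hs
        rw [← hC] at h1
        rw [← h1, mem_cent_single]
        constructor
        · intro h; exact congrArg Subtype.val h.eq
        · intro h; exact Subtype.ext h
    · rw [if_neg hx, if_neg (fun h => hx h.1), add_zero]
      rw [natCard_filter']
      have hS : (Finset.univ.filter (fun y : N => Commute x y)) = {1, ngN, x, x * ngN} := by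
        ext y
        simp only [Finset.mem_filter, Finset.mem_univ, true_and, Finset.mem_insert, Finset.mem_singleton]
        have key : ∀ y : N, (y : G) ∈ C → Commute x y → y = 1 ∨ y = ngN := by
          intro y hy hc
          have h1 := M.inv_of_norm hM hodd hz x.2 hx hy
          have h2 : (x : G) * y * (x : G)⁻¹ = y := by
            have : (x : G) * y = y * x := congrArg Subtype.val hc.eq
            rw [this, mul_inv_cancel_right]
          have h3 : M.Sc (y : G) := by
            by_contra hs; exact M.inv_ne_self hM hodd hs (h1.symm.trans h2)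
          rcases M.Sc_SL hM h3 with h | h
          · left; exact Subtype.ext h
          · right; exact Subtype.ext h
        constructor
        · intro hc
          by_cases hy : (y : G) ∈ C
          · rcases key y hy hc with h | h
            · exact Or.inl h
            · exact Or.inr (Or.inl h)
          · have h1 : ((x⁻¹ * y : N) : G) ∈ C :=
              M.norm_mul hM hodd hz (x⁻¹).2 (M.norm_inv_not hM hodd hz hx) y.2 hy
            have h2 : Commute x (x⁻¹ * y) := (Commute.refl x).inv_right.mul_right hc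
            rcases key _ h1 h2 with h | h
            · right; right; left; exact (inv_mul_eq_one.1 h).symm
            · right; right; right; exact (inv_mul_eq_iff_eq_mul.1 h)
        · have hcn : Commute x ngN := Subtype.ext (M.Sc_ng.comm (x : G)).symm
          rintro (rfl | rfl | rfl | rfl)
          · exact Commute.one_right _
          · exact hcn
          · exact Commute.refl _
          · exact (Commute.refl x).mul_right hcn
      have h1n : (1 : N) ≠ ngN := fun h => M.one_ne_ng hodd (congrArg Subtype.val h)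
      have h1x : (1 : N) ≠ x := fun h => hx (by rw [← h]; exact C.one_mem)
      have hnx : ngN ≠ x := fun h => hx (by rw [← h]; exact hngC)
      have h1xn : (1 : N) ≠ x * ngN := fun h => hx (by
        have := eq_inv_of_mul_eq_one_left h.symm
        rw [this]; exact C.inv_mem hngC)
      have hnxn : ngN ≠ x * ngN := fun h => h1x (mul_right_cancel (by rw [one_mul]; exact h))
      have hxxn : x ≠ x * ngN := fun h => h1n (mul_left_cancel (by rw [mul_one]; exact h))
      rw [hS, Finset.card_insert_of_notMem, Finset.card_insert_of_notMem, Finset.card_pair hxxn]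
      · simp only [Finset.mem_insert, Finset.mem_singleton, not_or]; exact ⟨hnx, hnxn⟩
      · simp only [Finset.mem_insert, Finset.mem_singleton, not_or]; exact ⟨h1n, h1x, h1xn⟩
  rw [Finset.sum_congr rfl (fun x _ => hf x), Finset.sum_add_distrib, Finset.sum_ite, Finset.sum_ite,
    Finset.sum_const, Finset.sum_const, Finset.sum_const, Finset.sum_const_zero, add_zero,
    ← natCard_filter', ← natCard_filter', ← natCard_filter', hCN] at h0
  have hcompl : Nat.card {y : N // ¬ (y : G) ∈ C} = n := by
    have h1 : Nat.card {y : N // (y : G) ∈ C} + Nat.card {y : N // ¬ (y : G) ∈ C} = Nat.card N := by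
      rw [← Nat.card_sum]
      exact Nat.card_congr (Equiv.sumCompl (fun y : N => (y : G) ∈ C))
    omega
  have hsc : Nat.card {y : N // (y : G) ∈ C ∧ M.Sc (y : G)} = 2 := by
    rw [natCard_filter']
    have : (Finset.univ.filter (fun y : N => (y : G) ∈ C ∧ M.Sc (y : G))) = {1, ngN} := by
      ext y
      simp only [Finset.mem_filter, Finset.mem_univ, true_and, Finset.mem_insert, Finset.mem_singleton]
      constructor
      · rintro ⟨_, h⟩
        rcases M.Sc_SL hM h with h | h
        · exact Or.inl (Subtype.ext h)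
        · exact Or.inr (Subtype.ext h)
      · rintro (rfl | rfl)
        · exact ⟨C.one_mem, M.Sc_one⟩
        · exact ⟨hngC, M.Sc_ng⟩
    rw [this, Finset.card_pair]
    exact fun h => M.one_ne_ng hodd (congrArg Subtype.val h)
  rw [hcompl, hsc, hcn] at h0
  simp only [smul_eq_mul] at h0
  apply Nat.eq_of_mul_eq_mul_right hnpos
  linarith

end Norm

end MG

end CfsgH6
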