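import Cfsg.Agent.H6.Sl21
set_option autoImplicit false

namespace CfsgH6
open Cfsg CfsgH4

namespace MG
variable {G : Type*} [Group G] {F : Type*} [Field F] (M : MG G F)
variable [Fintype F] [DecidableEq F] [Fintype G]
variable (hM : M.IsSL) (hodd : Odd (Fintype.card F))

include hM hodd in
theorem sylow_tr {l : ℕ} [hl : Fact l.Prime] (hl2 : l ≠ 2) (P : Sylow l G) {n : ℕ}
    (hn : n = Fintype.card F - 1 ∨ n = Fintype.card F + 1) (hdvd : l ∣ n) :
    ∃ z : G, M.tr z ^ 2 ≠ 4 ∧ Nat.card (Subgroup.centralizer ({z} : Set G)) = n ∧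
      Subgroup.centralizer ((P : Subgroup G) : Set G) = Subgroup.centralizer ({z} : Set G) ∧
      Subgroup.normalizer ((P : Subgroup G) : Set G) = Subgroup.normalizer (Subgroup.centralizer ({z} : Set G) : Set G) := by
  have hq1 := Fintype.one_lt_card (α := F)
  have hlodd : Odd l := hl.out.odd_of_ne_two hl2
  have hl2' : ¬ l ∣ 2 := fun h => hl2 ((Nat.prime_dvd_prime_iff_eq hl.out Nat.prime_two).1 h)
  have hnot : ¬ (l ∣ Fintype.card F - 1 ∧ l ∣ Fintype.card F + 1) := by
    rintro ⟨h1, h2⟩
    apply hl2'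
    have := Nat.dvd_sub h2 h1
    have e : Fintype.card F + 1 - (Fintype.card F - 1) = 2 := by omega
    rwa [e] at this
  have hq : ¬ l ∣ Fintype.card F := by
    intro h
    have h1 : l ∣ 1 := by
      rcases hn with h2 | h2
      · rw [h2] at hdvd
        have := Nat.dvd_sub h hdvd
        have e : Fintype.card F - (Fintype.card F - 1) = 1 := by omega
        rwa [e] at this
      · rw [h2] at hdvd
        have := Nat.dvd_sub hdvd h
        have e : Fintype.card F + 1 - Fintype.card F = 1 := by omega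
        rwa [e] at this
    exact hl.out.one_lt.ne' (Nat.dvd_one.1 h1)
  have hG : l ∣ Nat.card G := by
    rw [M.card_SL hM]
    apply Dvd.dvd.mul_right
    have e : Fintype.card F ^ 2 - 1 = (Fintype.card F + 1) * (Fintype.card F - 1) := by
      rw [← Nat.sq_sub_sq]
    rw [e]
    rcases hn with h2 | h2
    · exact (h2 ▸ hdvd).mul_left _
    · exact (h2 ▸ hdvd).mul_right _
  have hP : l ∣ Nat.card P := P.dvd_card_of_dvd_card hG
  haveI : Nontrivial P := by
    rw [← Finite.one_lt_card_iff_nontrivial]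
    exact lt_of_lt_of_le hl.out.one_lt (Nat.le_of_dvd Nat.card_pos hP)
  haveI : Nontrivial (Subgroup.center P) := P.isPGroup'.center_nontrivial
  obtain ⟨z', hz'⟩ := exists_ne (1 : Subgroup.center P)
  set z : G := ((z' : P) : G) with hzdef
  have hz1 : z ≠ 1 := fun h => hz' (Subtype.ext (Subtype.ext h))
  have hzP : z ∈ (P : Subgroup G) := (z' : P).2
  have hcomm : ∀ p ∈ (P : Subgroup G), z * p = p * z := by
    intro p hp
    have := (Subgroup.mem_center_iff.1 z'.2) ⟨p, hp⟩
    exact (congrArg Subtype.val this).symm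
  have hs : ¬ M.Sc z := by
    intro hs
    have h2 : z ^ 2 = 1 := by
      rcases M.Sc_SL hM hs with h | h
      · exact absurd h hz1
      · rw [h, sq, ng_mul_ng]
    obtain ⟨k, hk⟩ := P.isPGroup' (z' : P)
    obtain ⟨m, hm⟩ := (hlodd.pow (n := k))
    have h3 : z ^ (l ^ k) = 1 := by
      have := congrArg Subtype.val hk
      exact this
    rw [hm, pow_succ, pow_mul, h2, one_pow, one_mul] at h3
    exact hz1 h3
  have hPC : (P : Subgroup G) ≤ Subgroup.centralizer ({z} : Set G) := by
    intro p hp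
    rw [mem_cent_single]; exact hcomm p hp
  have hlC : l ∣ Nat.card (Subgroup.centralizer ({z} : Set G)) := hP.trans (Subgroup.card_dvd_of_le hPC)
  have htr : M.tr z ^ 2 ≠ 4 := by
    intro h4
    rw [M.card_cent_tr4 hM hodd hs h4] at hlC
    rcases (Nat.Prime.dvd_mul hl.out).1 hlC with h | h
    · exact hl2' h
    · exact hq h
  have hcard : Nat.card (Subgroup.centralizer ({z} : Set G)) = n := by
    by_cases he : M.Ell z
    · have h1 := M.card_cent_ell_SL hM hodd he
      rcases hn with h2 | h2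
      · exfalso; apply hnot; exact ⟨h2 ▸ hdvd, h1 ▸ hlC⟩
      · rw [h1, h2]
    · have h1 := M.card_cent_nell hM hodd htr he
      rcases hn with h2 | h2
      · rw [h1, h2]
      · exfalso; apply hnot; exact ⟨h1 ▸ hlC, h2 ▸ hdvd⟩
  have hcent : Subgroup.centralizer ((P : Subgroup G) : Set G) = Subgroup.centralizer ({z} : Set G) := by
    ext h
    rw [Subgroup.mem_centralizer_iff, mem_cent_single]
    constructor
    · intro h1; exact h1 z hzP
    · intro h1 k hk
      exact M.cent_comm hs (hPC hk) (mem_cent_single.2 h1)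
  refine ⟨z, htr, hcard, hcent, ?_⟩
  apply le_antisymm
  · intro x hx
    rw [Subgroup.mem_normalizer_iff]
    intro h
    rw [← hcent, Subgroup.mem_centralizer_iff, Subgroup.mem_centralizer_iff]
    constructor
    · intro h1 k hk
      have h2 : x⁻¹ * k * x ∈ (P : Subgroup G) := by
        have := (Subgroup.mem_normalizer_iff.1 (Subgroup.inv_mem _ hx) k).1 hk
        rwa [inv_inv] at this
      have h3 := h1 _ h2
      have e1 : k * (x * h * x⁻¹) = x * (x⁻¹ * k * x * h) * x⁻¹ := by group
      have e2 : x * h * x⁻¹ * k = x * (h * (x⁻¹ * k * x)) * x⁻¹ := by group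
      rw [e1, e2, h3]
    · intro h1 k hk
      have h2 : x * k * x⁻¹ ∈ (P : Subgroup G) := (Subgroup.mem_normalizer_iff.1 hx k).1 hk
      have h3 := h1 _ h2
      have e1 : k * h = x⁻¹ * (x * k * x⁻¹ * (x * h * x⁻¹)) * x := by group
      have e2 : h * k = x⁻¹ * (x * h * x⁻¹ * (x * k * x⁻¹)) * x := by group
      rw [e1, e2, h3]
  · have key : ∀ x ∈ Subgroup.normalizer (Subgroup.centralizer ({z} : Set G) : Set G), ∀ p ∈ (P : Subgroup G),
        x * p * x⁻¹ ∈ (P : Subgroup G) := by
      intro x hx p hp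
      by_cases hxC : x ∈ Subgroup.centralizer ({z} : Set G)
      · rw [M.cent_comm hs hxC (hPC hp), mul_inv_cancel_right]; exact hp
      · rw [M.inv_of_norm hM hodd htr hx hxC (hPC hp)]; exact Subgroup.inv_mem _ hp
    intro x hx
    rw [Subgroup.mem_normalizer_iff]
    intro p
    constructor
    · exact key x hx p
    · intro h
      have := key x⁻¹ (Subgroup.inv_mem _ hx) _ h
      rwa [show x⁻¹ * (x * p * x⁻¹) * x⁻¹⁻¹ = p by group] at this

end MG

end CfsgH6
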