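import Cfsg.Agent.H6.Sl22
import Cfsg.Agent.H6.Sl19
set_option autoImplicit false

namespace CfsgH6
open Cfsg CfsgH4

theorem mem_cent_conj {G : Type*} [Group G] {g z h : G} :
    h ∈ Subgroup.centralizer ({g * z * g⁻¹} : Set G) ↔ g⁻¹ * h * g ∈ Subgroup.centralizer ({z} : Set G) := by
  rw [mem_cent_single, mem_cent_single]
  constructor
  · intro h1
    have e1 : z * (g⁻¹ * h * g) = g⁻¹ * (g * z * g⁻¹ * h) * g := by group
    have e2 : g⁻¹ * h * g * z = g⁻¹ * (h * (g * z * g⁻¹)) * g := by group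
    rw [e1, e2, h1]
  · intro h1
    have e1 : g * z * g⁻¹ * h = g * (z * (g⁻¹ * h * g)) * g⁻¹ := by group
    have e2 : h * (g * z * g⁻¹) = g * (g⁻¹ * h * g * z) * g⁻¹ := by group
    rw [e1, e2, h1]

theorem pow_four' {G : Type*} [Group G] (x : G) : x ^ 4 = (x * x) * (x * x) := by
  simp only [pow_succ, pow_zero, one_mul, mul_assoc]

theorem sylow2_mem {G : Type*} [Group G] [Finite G] (S : Sylow 2 G) {x : G} {k : ℕ} (hk : x ^ (2 ^ k) = 1)
    (hx : x ∈ Subgroup.normalizer ((S : Subgroup G) : Set G)) : x ∈ (S : Subgroup G) := by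
  have h1 : IsPGroup 2 (Subgroup.zpowers x) := by
    rintro ⟨y, hy⟩
    obtain ⟨i, rfl⟩ := Subgroup.mem_zpowers_iff.1 hy
    refine ⟨k, Subtype.ext ?_⟩
    show (x ^ i) ^ (2 ^ k) = 1
    rw [← zpow_natCast, ← zpow_mul, mul_comm, zpow_mul, zpow_natCast, hk, one_zpow]
  have h2 := h1.inf_normalizer_sylow S
  have h3 : x ∈ Subgroup.zpowers x ⊓ Subgroup.normalizer ((S : Subgroup G) : Set G) := ⟨Subgroup.mem_zpowers x, hx⟩
  have h4 : x ∈ Subgroup.zpowers x ⊓ (S : Subgroup G) := h2 ▸ h3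
  exact h4.2

namespace MG
variable {G : Type*} [Group G] {F : Type*} [Field F] (M : MG G F)
variable [Fintype F] [DecidableEq F] [Fintype G]
variable (hM : M.IsSL) (hodd : Odd (Fintype.card F))

omit [Fintype G] [DecidableEq F] in
theorem exists_sq_ne (hq : 5 ≤ Fintype.card F) : ∃ a : F, a ≠ 0 ∧ a ^ 2 ≠ 1 := by
  classical
  by_contra hne
  push Not at hne
  have h1 : (Finset.univ : Finset F) ⊆ {0, 1, -1} := by
    intro a _
    rw [Finset.mem_insert, Finset.mem_insert, Finset.mem_singleton]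
    by_cases h0 : a = 0
    · exact Or.inl h0
    · have := hne a h0
      rw [sq] at this
      exact Or.inr (mul_self_eq_one_iff.1 this)
  have h2 := Finset.card_le_card h1
  have h3 : ({0, 1, -1} : Finset F).card ≤ 3 := Finset.card_le_three
  rw [Finset.card_univ] at h2
  omega

include hM hodd in
theorem sylow2_tor (S : Sylow 2 G) : ∃ (z : G) (j : ℕ), M.tr z ^ 2 ≠ 4 ∧
    (S : Subgroup G) ≤ Subgroup.normalizer (Subgroup.centralizer ({z} : Set G) : Set G) ∧
    Nat.card G = 2 * Nat.card (Subgroup.centralizer ({z} : Set G)) * (2 * j + 1) := by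
  have hq1 := Fintype.one_lt_card (α := F)
  have hfirst : ∃ (z : G) (j : ℕ), M.tr z ^ 2 ≠ 4 ∧
      Nat.card G = 2 * Nat.card (Subgroup.centralizer ({z} : Set G)) * (2 * j + 1) := by
    have hh := hodd
    obtain ⟨m, hm⟩ := hh
    rcases Nat.even_or_odd m with ⟨k, hk⟩ | ⟨k, hk⟩
    · have hq5 : 5 ≤ Fintype.card F := by omega
      obtain ⟨a, ha0, ha⟩ := exists_sq_ne hq5
      obtain ⟨z, hz⟩ := M.ex1 !![a, 0; 0, a⁻¹] (by rw [Matrix.det_fin_two]; simp [ha0])
      have z00 : M.m z 0 0 = a := by rw [hz]; rfl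
      have z10 : M.m z 1 0 = 0 := by rw [hz]; rfl
      have z11 : M.m z 1 1 = a⁻¹ := by rw [hz]; rfl
      have htr : M.tr z ^ 2 ≠ 4 := by
        rw [tr, z00, z11]
        intro h
        apply ha
        have h3 : (a ^ 2 - 1) ^ 2 = 0 := by
          field_simp at h
          linear_combination h
        exact sub_eq_zero.1 (pow_eq_zero_iff (two_ne_zero) |>.1 h3)
      refine ⟨z, 2 * k * (2 * k) + 2 * k + k, htr, ?_⟩
      rw [M.card_cent_nell hM hodd htr (fun h => h.h10 z10), M.card_SL hM]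
      have e : Fintype.card F = 4 * k + 1 := by omega
      rw [e]
      have e1 : (4 * k + 1) ^ 2 - 1 = 16 * k * k + 8 * k := by
        have : (4 * k + 1) ^ 2 = 16 * k * k + 8 * k + 1 := by ring
        omega
      rw [e1, show 4 * k + 1 - 1 = 4 * k by omega]
      ring
    · obtain ⟨z, hz⟩ := M.exists_ell hM
      refine ⟨z, 4 * k * k + 5 * k + 1, ell_tr hodd hM hz, ?_⟩
      rw [M.card_cent_ell_SL hM hodd hz, M.card_SL hM]
      have e : Fintype.card F = 4 * k + 3 := by omega
      rw [e]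
      have e1 : (4 * k + 3) ^ 2 - 1 = 16 * k * k + 24 * k + 8 := by
        have : (4 * k + 3) ^ 2 = 16 * k * k + 24 * k + 9 := by ring
        omega
      rw [e1]
      ring
  obtain ⟨z₀, j, hz₀, hcard⟩ := hfirst
  have hcn := M.card_norm hM hodd hz₀
  have hidx := Subgroup.card_mul_index (Subgroup.normalizer (Subgroup.centralizer ({z₀} : Set G) : Set G))
  rw [hcn, hcard] at hidx
  have hidx' : (Subgroup.normalizer (Subgroup.centralizer ({z₀} : Set G) : Set G)).index = 2 * j + 1 :=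
    Nat.eq_of_mul_eq_mul_left (Nat.mul_pos (by norm_num) Nat.card_pos) hidx
  have hnd : ¬ 2 ∣ Nat.card (G ⧸ (Subgroup.normalizer (Subgroup.centralizer ({z₀} : Set G) : Set G))) := by
    show ¬ 2 ∣ (Subgroup.normalizer (Subgroup.centralizer ({z₀} : Set G) : Set G)).index
    rw [hidx']; omega
  obtain ⟨x, hx⟩ := S.isPGroup'.nonempty_fixed_point_of_prime_not_dvd_card
    (G ⧸ (Subgroup.normalizer (Subgroup.centralizer ({z₀} : Set G) : Set G))) hnd
  obtain ⟨g, rfl⟩ := QuotientGroup.mk_surjective x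
  rw [MulAction.mem_fixedPoints] at hx
  have hs : ∀ s ∈ (S : Subgroup G), g⁻¹ * s * g ∈ Subgroup.normalizer (Subgroup.centralizer ({z₀} : Set G) : Set G) := by
    intro s hs
    have h1 := hx ⟨s⁻¹, Subgroup.inv_mem _ hs⟩
    have h2 : (((s⁻¹ * g : G)) : G ⧸ (Subgroup.normalizer (Subgroup.centralizer ({z₀} : Set G) : Set G))) = g := h1
    rw [QuotientGroup.eq] at h2
    have e : (s⁻¹ * g)⁻¹ * g = g⁻¹ * s * g := by group
    rwa [e] at h2
  have hcj : IsConj z₀ (g * z₀ * g⁻¹) := isConj_iff.2 ⟨g, rfl⟩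
  refine ⟨g * z₀ * g⁻¹, j, ?_, ?_, ?_⟩
  · rw [← M.tr_conj hcj]; exact hz₀
  · intro s hs'
    have ht := hs s hs'
    rw [Subgroup.mem_normalizer_iff] at ht ⊢
    intro h
    rw [mem_cent_conj, mem_cent_conj, ht (g⁻¹ * h * g)]
    rw [show g⁻¹ * s * g * (g⁻¹ * h * g) * (g⁻¹ * s * g)⁻¹ = g⁻¹ * (s * h * s⁻¹) * g by group]
  · rw [← card_cent_conj hcj]; exact hcard

section S2
variable (S : Sylow 2 G) {z : G} (hz : M.tr z ^ 2 ≠ 4)
  (hSN : (S : Subgroup G) ≤ Subgroup.normalizer (Subgroup.centralizer ({z} : Set G) : Set G))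
  {j : ℕ} (hj : Nat.card G = 2 * Nat.card (Subgroup.centralizer ({z} : Set G)) * (2 * j + 1))

omit [Fintype F] [DecidableEq F] in
include hj in
theorem sylow2_not_le : ∃ b ∈ (S : Subgroup G), b ∉ Subgroup.centralizer ({z} : Set G) := by
  by_contra hne
  push Not at hne
  have h1 : (S : Subgroup G) ≤ Subgroup.centralizer ({z} : Set G) := hne
  obtain ⟨r, hr⟩ := Subgroup.card_dvd_of_le h1
  have h2 := Subgroup.card_mul_index (S : Subgroup G)
  rw [hj, hr] at h2
  have h3 : (S : Subgroup G).index = 2 * (r * (2 * j + 1)) := by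
    apply Nat.eq_of_mul_eq_mul_left (Nat.card_pos (α := (S : Subgroup G)))
    rw [h2]; ring
  exact S.not_dvd_index ⟨_, h3⟩

include hM hodd hz hSN hj in
theorem sylow2_card : Nat.card (S : Subgroup G) = 2 * Nat.card ((Subgroup.centralizer ({z} : Set G)).subgroupOf (S : Subgroup G)) := by
  obtain ⟨b, hb, hbC⟩ := sylow2_not_le S hj
  have h1 : ((Subgroup.centralizer ({z} : Set G)).subgroupOf (S : Subgroup G)).index = 2 := by
    rw [Subgroup.index_eq_two_iff]
    refine ⟨⟨b, hb⟩, fun s => ?_⟩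
    rw [Subgroup.mem_subgroupOf, Subgroup.mem_subgroupOf]
    by_cases hs : (s : G) ∈ Subgroup.centralizer ({z} : Set G)
    · refine Or.inr ⟨hs, fun h => hbC ?_⟩
      have h' : (s : G) * b ∈ Subgroup.centralizer ({z} : Set G) := h
      exact (Subgroup.mul_mem_cancel_left _ hs).1 h'
    · exact Or.inl ⟨M.norm_mul hM hodd hz (hSN s.2) hs (hSN hb) hbC, hs⟩
  have h2 := Subgroup.card_mul_index ((Subgroup.centralizer ({z} : Set G)).subgroupOf (S : Subgroup G))
  rw [h1] at h2
  rw [← h2, mul_comm]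

include hM hodd hz hSN hj in
theorem sylow2_norm {x : G} (hx : x ∈ Subgroup.normalizer ((S : Subgroup G) : Set G))
    (hxN : x ∈ Subgroup.normalizer (Subgroup.centralizer ({z} : Set G) : Set G)) : x ∈ (S : Subgroup G) := by
  by_cases hxC : x ∈ Subgroup.centralizer ({z} : Set G)
  · obtain ⟨b, hb, hbC⟩ := sylow2_not_le S hj
    have h1 : x * b * x⁻¹ ∈ (S : Subgroup G) := (Subgroup.mem_normalizer_iff.1 hx b).1 hb
    have h2 := M.inv_of_norm hM hodd hz (hSN hb) hbC (Subgroup.inv_mem _ hxC)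
    have h3 : x * x ∈ (S : Subgroup G) := by
      have e : x * x = x * b * x⁻¹ * b⁻¹ := by
        rw [show x * b * x⁻¹ * b⁻¹ = x * (b * x⁻¹ * b⁻¹) by group, h2, inv_inv]
      rw [e]; exact Subgroup.mul_mem _ h1 (Subgroup.inv_mem _ hb)
    obtain ⟨k, hk⟩ := S.isPGroup' ⟨x * x, h3⟩
    have h4 : (x * x) ^ (2 ^ k) = 1 := congrArg Subtype.val hk
    refine sylow2_mem S (k := k + 1) ?_ hx
    rw [pow_succ', pow_mul, sq]; exact h4
  · have h1 := M.norm_sq hM hodd hz hxN hxC
    refine sylow2_mem S (k := 2) ?_ hx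
    have : x ^ (2 ^ 2) = (x * x) * (x * x) := by
      rw [show (2 ^ 2 : ℕ) = 4 by norm_num, pow_four']
    rw [this, h1, ng_mul_ng]

/-- elements of `C` with nontrivial image normalise well -/
theorem norm_of_mem {a x : G} (hs : ¬ M.Sc z) (haC : a ∈ Subgroup.centralizer ({z} : Set G)) (has : ¬ M.Sc a)
    (hx : x * a * x⁻¹ ∈ Subgroup.centralizer ({z} : Set G)) :
    x ∈ Subgroup.normalizer (Subgroup.centralizer ({z} : Set G) : Set G) := by
  have h1 := M.cent_cent hs haC has
  have h2 : ¬ M.Sc (x * a * x⁻¹) := by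
    intro h
    exact has (by rw [h.conj' (isConj_iff.2 ⟨x, rfl⟩)]; exact h)
  have h3 := M.cent_cent hs hx h2
  rw [Subgroup.mem_normalizer_iff]
  intro h
  conv_lhs => rw [← h1]
  conv_rhs => rw [← h3, mem_cent_conj, show x⁻¹ * (x * h * x⁻¹) * x = h by group]

include hM hodd in
theorem sylow2_cent : Subgroup.centralizer ((S : Subgroup G) : Set G) = Subgroup.center G := by
  apply le_antisymm
  · intro h hh
    by_contra hcen
    have hs : ¬ M.Sc h := fun hs => hcen (M.center_of_Sc hs)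
    rw [Subgroup.mem_centralizer_iff] at hh
    have hle : (S : Subgroup G) ≤ Subgroup.centralizer ({h} : Set G) := by
      intro s hs
      rw [mem_cent_single]; exact (hh s hs).symm
    have h1 := Subgroup.relIndex_mul_index hle
    have h2 : ¬ 2 ∣ (Subgroup.centralizer ({h} : Set G)).index := by
      intro h3
      apply S.not_dvd_index
      rw [← h1]; exact h3.mul_left _
    apply h2
    have h3 := Subgroup.card_mul_index (Subgroup.centralizer ({h} : Set G))
    rw [M.card_SL hM] at h3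
    have hh := hodd
    obtain ⟨m, hm⟩ := hh
    have hq1 := Fintype.one_lt_card (α := F)
    have e1 : Fintype.card F ^ 2 - 1 = 4 * m * m + 4 * m := by
      rw [hm]
      have : (2 * m + 1) ^ 2 = 4 * m * m + 4 * m + 1 := by ring
      omega
    rw [e1] at h3
    by_cases ht : M.tr h ^ 2 = 4
    · rw [M.card_cent_tr4 hM hodd hs ht] at h3
      refine ⟨m * m + m, ?_⟩
      apply Nat.eq_of_mul_eq_mul_left (show 0 < 2 * Fintype.card F by omega)
      rw [h3]; ring
    · by_cases he : M.Ell h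
      · rw [M.card_cent_ell_SL hM hodd he] at h3
        refine ⟨m * Fintype.card F, ?_⟩
        apply Nat.eq_of_mul_eq_mul_left (show 0 < Fintype.card F + 1 by omega)
        rw [h3, hm]; ring
      · rw [M.card_cent_nell hM hodd ht he] at h3
        refine ⟨(m + 1) * Fintype.card F, ?_⟩
        apply Nat.eq_of_mul_eq_mul_left (show 0 < Fintype.card F - 1 by omega)
        rw [h3, hm, show 2 * m + 1 - 1 = 2 * m by omega]; ring
  · exact Subgroup.center_le_centralizer _

include hM hodd in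
theorem sylow2_self (h8 : Fintype.card F % 8 = 1 ∨ Fintype.card F % 8 = 7) :
    Subgroup.normalizer ((S : Subgroup G) : Set G) = (S : Subgroup G) := by
  obtain ⟨z, j, hz, hSN, hj⟩ := M.sylow2_tor hM hodd S
  have hzs := M.not_Sc_of_tr hM hz
  have hcard := M.sylow2_card hM hodd S hz hSN hj
  haveI := M.cyclic_cent hM hz
  haveI hcyc : IsCyclic ((Subgroup.centralizer ({z} : Set G)).subgroupOf (S : Subgroup G)) := by
    refine isCyclic_of_injective (G' := Subgroup.centralizer ({z} : Set G))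
      { toFun := fun x => ⟨((x : (S : Subgroup G)) : G), x.2⟩
        map_one' := rfl
        map_mul' := fun x y => rfl } ?_
    intro x y h
    have h' : ((x : (S : Subgroup G)) : G) = ((y : (S : Subgroup G)) : G) :=
      congrArg (fun t : Subgroup.centralizer ({z} : Set G) => (t : G)) h
    exact Subtype.ext (Subtype.ext h')
  obtain ⟨a', ha'⟩ := hcyc.exists_generator
  have hord := orderOf_eq_card_of_forall_mem_zpowers ha'
  have h16 : 2 ^ 4 ∣ Nat.card G := by
    rw [M.card_SL hM]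
    apply Dvd.dvd.mul_right
    rcases h8 with h | h
    · obtain ⟨k, hk⟩ : ∃ k, Fintype.card F = 8 * k + 1 := ⟨Fintype.card F / 8, by omega⟩
      rw [hk]
      refine ⟨4 * k * k + k, ?_⟩
      have : (8 * k + 1) ^ 2 = 2 ^ 4 * (4 * k * k + k) + 1 := by ring
      omega
    · obtain ⟨k, hk⟩ : ∃ k, Fintype.card F = 8 * k + 7 := ⟨Fintype.card F / 8, by omega⟩
      rw [hk]
      refine ⟨4 * k * k + 7 * k + 3, ?_⟩
      have : (8 * k + 7) ^ 2 = 2 ^ 4 * (4 * k * k + 7 * k + 3) + 1 := by ring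
      omega
  have h16' := S.pow_dvd_card_of_pow_dvd_card h16
  have h8' : 8 ≤ orderOf a' := by
    rw [hord]
    have := Nat.le_of_dvd Nat.card_pos h16'
    have h3 : Nat.card (S : Subgroup G) = _ := hcard
    omega
  set a : G := ((a' : (S : Subgroup G)) : G) with ha
  have haC : a ∈ Subgroup.centralizer ({z} : Set G) := a'.2
  have haS : a ∈ (S : Subgroup G) := (a' : (S : Subgroup G)).2
  have ha4 : a ^ 4 ≠ 1 := by
    intro h
    have h1 : a' ^ 4 = 1 := Subtype.ext (Subtype.ext h)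
    have := Nat.le_of_dvd (by norm_num) (orderOf_dvd_of_pow_eq_one h1)
    omega
  have has : ¬ M.Sc a := by
    intro hs
    apply ha4
    rcases M.Sc_SL hM hs with h | h
    · rw [h, one_pow]
    · rw [h, pow_four', ng_mul_ng, one_mul]
  apply le_antisymm
  · intro x hx
    refine M.sylow2_norm hM hodd S hz hSN hj hx ?_
    refine M.norm_of_mem hzs haC has ?_
    by_contra hc
    have h1 : x * a * x⁻¹ ∈ (S : Subgroup G) := (Subgroup.mem_normalizer_iff.1 hx a).1 haS
    have h2 := M.norm_sq hM hodd hz (hSN h1) hc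
    apply ha4
    have h3 : (x * a * x⁻¹ * (x * a * x⁻¹)) * (x * a * x⁻¹ * (x * a * x⁻¹)) = 1 := by rw [h2, ng_mul_ng]
    have h4 : x * a ^ 4 * x⁻¹ = 1 := by
      rw [← h3]
      rw [pow_four' a]; group
    have h5 := congrArg (fun g => x⁻¹ * g * x) h4
    have e1 : x⁻¹ * (x * a ^ 4 * x⁻¹) * x = a ^ 4 := by group
    have e2 : x⁻¹ * 1 * x = 1 := by group
    exact e1.symm.trans (h5.trans e2)
  · exact Subgroup.le_normalizer

end S2

end MG

end CfsgH6
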