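import Cfsg.Agent.H6.Sl23
set_option autoImplicit false

namespace CfsgH6
open Cfsg CfsgH4

namespace MG
variable {G : Type*} [Group G] {F : Type*} [Field F] (M : MG G F)
variable [Fintype F] [DecidableEq F] [Fintype G]
variable (hM : M.IsSL) (hodd : Odd (Fintype.card F))

include hM in
theorem mem_H {g h : G} :
    h ∈ (Subgroup.centralizer ({(QuotientGroup.mk' (Subgroup.center G) g)} : Set (G ⧸ Subgroup.center G))).comap
      (QuotientGroup.mk' (Subgroup.center G)) ↔ h * g * h⁻¹ = g ∨ h * g * h⁻¹ = M.ng * g := by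
  rw [Subgroup.mem_comap, mem_cent_single, ← map_mul, ← map_mul]
  show ((g * h : G) : G ⧸ Subgroup.center G) = ((h * g : G) : G ⧸ Subgroup.center G) ↔ _
  rw [QuotientGroup.eq]
  constructor
  · intro h1
    have h2 : h * g = g * h * ((g * h)⁻¹ * (h * g)) := by group
    rcases M.Sc_SL hM (M.Sc_of_center h1) with h3 | h3
    · left
      rw [h3, mul_one] at h2
      rw [h2, mul_inv_cancel_right]
    · right
      rw [h3] at h2
      rw [h2, ← M.ng_comm (g * h), ← mul_assoc, mul_inv_cancel_right]
  · rintro (h1 | h1)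
    · have h2 : h * g = g * h := by
        have := congrArg (fun t => t * h) h1
        simpa using this
      rw [h2]; simp
    · have h2 : h * g = M.ng * (g * h) := by
        have h3 := congrArg (fun t => t * h) h1
        have e : h * g * h⁻¹ * h = h * g := by group
        rw [← mul_assoc]
        exact e.symm.trans h3
      have h3 : (g * h)⁻¹ * (h * g) = M.ng := by
        rw [h2, M.ng_comm (g * h)]; group
      rw [h3]; exact M.center_of_Sc M.Sc_ng

include hM in
theorem index_of_conj {g h₀ : G} (h : h₀ * g * h₀⁻¹ = M.ng * g) (hne : M.ng * g ≠ g) :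
    (Subgroup.centralizer ({(QuotientGroup.mk' (Subgroup.center G) g)} : Set (G ⧸ Subgroup.center G))).index *
      (2 * Nat.card (Subgroup.centralizer ({g} : Set G))) = Nat.card G := by
  set H := (Subgroup.centralizer ({(QuotientGroup.mk' (Subgroup.center G) g)} : Set (G ⧸ Subgroup.center G))).comap
      (QuotientGroup.mk' (Subgroup.center G)) with hH
  have h1 : H.index = (Subgroup.centralizer ({(QuotientGroup.mk' (Subgroup.center G) g)} : Set (G ⧸ Subgroup.center G))).index :=
    Subgroup.index_comap_of_surjective _ (QuotientGroup.mk'_surjective _)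
  have hle : Subgroup.centralizer ({g} : Set G) ≤ H := by
    intro x hx
    rw [hH, M.mem_H hM]
    left
    rw [mem_cent_single] at hx
    rw [← hx, mul_inv_cancel_right]
  have h₀H : h₀ ∈ H := by rw [hH, M.mem_H hM]; exact Or.inr h
  have hiff : ∀ x : G, x ∈ Subgroup.centralizer ({g} : Set G) ↔ x * g * x⁻¹ = g := by
    intro x
    rw [mem_cent_single]
    constructor
    · intro hx; rw [← hx, mul_inv_cancel_right]
    · intro hx
      have := congrArg (fun t => t * x) hx
      simp only [inv_mul_cancel_right] at this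
      exact this.symm
  have h2 : ((Subgroup.centralizer ({g} : Set G)).subgroupOf H).index = 2 := by
    rw [Subgroup.index_eq_two_iff]
    refine ⟨⟨h₀, h₀H⟩, fun b => ?_⟩
    rw [Subgroup.mem_subgroupOf, Subgroup.mem_subgroupOf, hiff, hiff]
    have hb := (M.mem_H hM).1 b.2
    show Xor (b.1 * h₀ * g * (b.1 * h₀)⁻¹ = g) (b.1 * g * b.1⁻¹ = g)
    have e : b.1 * h₀ * g * (b.1 * h₀)⁻¹ = M.ng * (b.1 * g * b.1⁻¹) := by
      have e1 : b.1 * h₀ * g * (b.1 * h₀)⁻¹ = b.1 * (h₀ * g * h₀⁻¹) * b.1⁻¹ := by group
      rw [e1, h, ← mul_assoc b.1, ← M.ng_comm b.1, mul_assoc, mul_assoc, mul_assoc]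
    rw [e]
    rcases hb with hb | hb
    · rw [hb]; exact Or.inr ⟨rfl, hne⟩
    · rw [hb, ← mul_assoc, ng_mul_ng, one_mul]; exact Or.inl ⟨rfl, hne⟩
  have h3 := Subgroup.card_mul_index ((Subgroup.centralizer ({g} : Set G)).subgroupOf H)
  rw [h2, Nat.card_congr (Subgroup.subgroupOfEquivOfLe hle).toEquiv] at h3
  have h4 := Subgroup.card_mul_index H
  rw [← h4, ← h1, ← h3]; ring

include hM in
theorem index_of_not_conj {g : G} (h : ∀ x, x * g * x⁻¹ ≠ M.ng * g) :
    (Subgroup.centralizer ({(QuotientGroup.mk' (Subgroup.center G) g)} : Set (G ⧸ Subgroup.center G))).index *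
      Nat.card (Subgroup.centralizer ({g} : Set G)) = Nat.card G := by
  set H := (Subgroup.centralizer ({(QuotientGroup.mk' (Subgroup.center G) g)} : Set (G ⧸ Subgroup.center G))).comap
      (QuotientGroup.mk' (Subgroup.center G)) with hH
  have h1 : H.index = (Subgroup.centralizer ({(QuotientGroup.mk' (Subgroup.center G) g)} : Set (G ⧸ Subgroup.center G))).index :=
    Subgroup.index_comap_of_surjective _ (QuotientGroup.mk'_surjective _)
  have h2 : H = Subgroup.centralizer ({g} : Set G) := by
    ext x
    rw [hH, M.mem_H hM, mem_cent_single]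
    constructor
    · rintro (h3 | h3)
      · have := congrArg (fun t => t * x) h3
        simp only [inv_mul_cancel_right] at this
        exact this.symm
      · exact absurd h3 (h x)
    · intro h3; left; rw [← h3, mul_inv_cancel_right]
  rw [← h1, h2, mul_comm]
  exact Subgroup.card_mul_index _

/-- the index of a centralizer in the projective group -/
noncomputable def ix (g : G) : ℕ :=
  (Subgroup.centralizer ({(QuotientGroup.mk' (Subgroup.center G) g)} : Set (G ⧸ Subgroup.center G))).index

include hM hodd in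
theorem not_conj_ng {g : G} (ht : M.tr g ≠ 0) (x : G) : x * g * x⁻¹ ≠ M.ng * g := by
  intro h
  have h1 := M.tr_conj (isConj_iff.2 ⟨x, h⟩)
  rw [tr_ng] at h1
  apply ht
  have h2 : 2 * M.tr g = 0 := by linear_combination h1
  exact (mul_eq_zero.1 h2).resolve_left (two_ne_of_odd hodd)

include hM hodd in
theorem ix_Sc {g : G} (hs : M.Sc g) : ix g = 1 := by
  have h1 : QuotientGroup.mk' (Subgroup.center G) g = 1 := by
    rw [QuotientGroup.mk'_apply, QuotientGroup.eq_one_iff]; exact M.center_of_Sc hs
  rw [ix, h1, Subgroup.index_eq_one]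
  rw [eq_top_iff]
  intro x _
  rw [mem_cent_single, one_mul, mul_one]

include hM hodd in
theorem card_G_SL' : Nat.card G = (Fintype.card F - 1) * ((Fintype.card F + 1) * Fintype.card F) := by
  rw [M.card_SL hM]
  have e : Fintype.card F ^ 2 - 1 = (Fintype.card F + 1) * (Fintype.card F - 1) := by
    rw [← Nat.sq_sub_sq]
  rw [e]; ring

include hM hodd in
theorem ix_unip {g : G} (hs : ¬ M.Sc g) (ht : M.tr g ^ 2 = 4) : ix g = (Fintype.card F ^ 2 - 1) / 2 := by
  have htr : M.tr g ≠ 0 := by
    intro h
    rw [h] at ht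
    have h2 := two_ne_of_odd hodd
    apply h2
    have : (2 : F) * 2 = 0 := by linear_combination -ht
    exact (mul_self_eq_zero.1 this)
  have h1 := M.index_of_not_conj hM (M.not_conj_ng hM hodd htr)
  rw [M.card_cent_tr4 hM hodd hs ht, M.card_SL hM] at h1
  have h2 : ix g * 2 = Fintype.card F ^ 2 - 1 := by
    apply Nat.eq_of_mul_eq_mul_right (Fintype.card_pos (α := F))
    rw [← h1, ix]; ring
  rw [← h2]; omega

include hM hodd in
theorem ix_ell {g : G} (hg : M.Ell g) :
    ix g = if M.tr g = 0 then Fintype.card F * (Fintype.card F - 1) / 2 else Fintype.card F * (Fintype.card F - 1) := by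
  have hq1 := Fintype.one_lt_card (α := F)
  have ht := ell_tr hodd hM hg
  have hgs := M.not_Sc_of_tr hM ht
  by_cases h0 : M.tr g = 0
  · rw [if_pos h0]
    obtain ⟨h₀, hh⟩ := isConj_iff.1 (M.conj_SL_tr hM hodd ht (h := M.ng * g) (by rw [tr_ng, h0, neg_zero]))
    have hne : M.ng * g ≠ g := fun h => M.one_ne_ng hodd (mul_right_cancel (h.trans (one_mul g).symm)).symm
    have h1 := M.index_of_conj hM hh hne
    rw [M.card_cent_ell_SL hM hodd hg, M.card_G_SL' hM hodd] at h1
    have h2 : ix g * 2 = Fintype.card F * (Fintype.card F - 1) := by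
      apply Nat.eq_of_mul_eq_mul_right (show 0 < Fintype.card F + 1 by omega)
      have e : ix g * 2 * (Fintype.card F + 1) = ix g * (2 * (Fintype.card F + 1)) := by ring
      rw [e]
      exact h1.trans (by ring)
    rw [← h2]; omega
  · rw [if_neg h0]
    have h1 := M.index_of_not_conj hM (M.not_conj_ng hM hodd h0)
    rw [M.card_cent_ell_SL hM hodd hg, M.card_G_SL' hM hodd] at h1
    apply Nat.eq_of_mul_eq_mul_right (show 0 < Fintype.card F + 1 by omega)
    exact h1.trans (by ring)

include hM hodd in
theorem ix_split {g : G} (hg : ¬ M.Ell g) (ht : M.tr g ^ 2 ≠ 4) :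
    ix g = if M.tr g = 0 then Fintype.card F * (Fintype.card F + 1) / 2 else Fintype.card F * (Fintype.card F + 1) := by
  have hq1 := Fintype.one_lt_card (α := F)
  have hgs := M.not_Sc_of_tr hM ht
  by_cases h0 : M.tr g = 0
  · rw [if_pos h0]
    obtain ⟨h₀, hh⟩ := isConj_iff.1 (M.conj_SL_tr hM hodd ht (h := M.ng * g) (by rw [tr_ng, h0, neg_zero]))
    have hne : M.ng * g ≠ g := fun h => M.one_ne_ng hodd (mul_right_cancel (h.trans (one_mul g).symm)).symm
    have h1 := M.index_of_conj hM hh hne
    rw [M.card_cent_nell hM hodd ht hg, M.card_G_SL' hM hodd] at h1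
    have h2 : ix g * 2 = Fintype.card F * (Fintype.card F + 1) := by
      apply Nat.eq_of_mul_eq_mul_right (show 0 < Fintype.card F - 1 by omega)
      have e : ix g * 2 * (Fintype.card F - 1) = ix g * (2 * (Fintype.card F - 1)) := by ring
      rw [e]
      exact h1.trans (by ring)
    rw [← h2]; omega
  · rw [if_neg h0]
    have h1 := M.index_of_not_conj hM (M.not_conj_ng hM hodd h0)
    rw [M.card_cent_nell hM hodd ht hg, M.card_G_SL' hM hodd] at h1
    apply Nat.eq_of_mul_eq_mul_right (show 0 < Fintype.card F - 1 by omega)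
    exact h1.trans (by ring)

include hM hodd in
theorem exists_ell_tr (hq : 5 ≤ Fintype.card F) : ∃ g : G, M.Ell g ∧ M.tr g ≠ 0 := by
  classical
  by_contra hne
  push Not at hne
  have h1 : ∀ t : F, t ≠ 0 → ∃ a : Fˣ, (a : F) + (a : F)⁻¹ = t := by
    intro t ht0
    obtain ⟨g, hg⟩ := M.ex1 !![0, -1; 1, t] (by simp)
    have ht : M.tr g = t := by rw [tr, hg]; simp
    have h2 : ¬ M.Ell g := fun h => ht0 (ht ▸ hne g h)
    rw [ell_iff_tr hM] at h2
    push Not at h2
    obtain ⟨a, ha⟩ := h2
    have ha0 : a ≠ 0 := fun h => by rw [h, zero_mul] at ha; exact zero_ne_one ha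
    refine ⟨Units.mk0 a ha0, ?_⟩
    rw [Units.val_mk0]
    field_simp
    rw [ht] at ha
    linear_combination -ha
  obtain ⟨b, hb0, hb⟩ := exists_sq_ne hq
  -- the map on nonzero traces is injective with image missing one of `b`, `b⁻¹`
  choose f hf using fun t : {t : F // t ≠ 0} => h1 t.1 t.2
  have hinj : Function.Injective f := by
    intro x y hxy
    apply Subtype.ext
    rw [← hf x, ← hf y, hxy]
  have hcard : Fintype.card {t : F // t ≠ 0} = Fintype.card Fˣ := by
    rw [Fintype.card_units, Fintype.card_subtype_compl, Fintype.card_subtype_eq]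
  have hsurj : Function.Surjective f := ((Fintype.bijective_iff_injective_and_card f).2 ⟨hinj, hcard⟩).2
  obtain ⟨x, hx⟩ := hsurj (Units.mk0 b hb0)
  obtain ⟨y, hy⟩ := hsurj (Units.mk0 b hb0)⁻¹
  have e1 := hf x
  have e2 := hf y
  rw [hx] at e1
  rw [hy] at e2
  have e3 : x = y := by
    apply Subtype.ext
    rw [← e1, ← e2, Units.val_inv_eq_inv_val, inv_inv, add_comm]
  rw [← e3, hx] at hy
  apply hb
  have h5 := congrArg (fun t : Fˣ => (t : F) * b) hy
  simp only [Units.val_mk0, Units.val_inv_eq_inv_val] at h5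
  rw [inv_mul_cancel₀ hb0] at h5
  rw [sq]; exact h5

include hM hodd in
theorem exists_split_tr (hq : 7 ≤ Fintype.card F) : ∃ g : G, ¬ M.Ell g ∧ M.tr g ^ 2 ≠ 4 ∧ M.tr g ≠ 0 := by
  classical
  obtain ⟨a, ha0, ha1, ha2⟩ : ∃ a : F, a ≠ 0 ∧ a ^ 2 ≠ 1 ∧ a ^ 2 ≠ -1 := by
    by_contra hne
    push Not at hne
    have h1 : (Finset.univ : Finset F) ⊆ {0, 1, -1} ∪ Finset.univ.filter (fun a => a ^ 2 = -1) := by
      intro a _
      rw [Finset.mem_union, Finset.mem_insert, Finset.mem_insert, Finset.mem_singleton, Finset.mem_filter]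
      by_cases h0 : a = 0
      · exact Or.inl (Or.inl h0)
      · by_cases h1 : a ^ 2 = 1
        · rw [sq] at h1
          exact Or.inl (Or.inr (mul_self_eq_one_iff.1 h1))
        · exact Or.inr ⟨Finset.mem_univ _, hne a h0 h1⟩
    have h2 := Finset.card_le_card h1
    have h3 : ({0, 1, -1} : Finset F).card ≤ 3 := Finset.card_le_three
    have h4 : (Finset.univ.filter (fun a : F => a ^ 2 = -1)).card ≤ 2 := by
      by_cases h : ∃ c : F, c ^ 2 = -1
      · obtain ⟨c, hc⟩ := h
        refine le_trans (Finset.card_le_card (t := {c, -c}) ?_) Finset.card_le_two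
        intro x hx
        have hx' := (Finset.mem_filter.1 hx).2
        rw [Finset.mem_insert, Finset.mem_singleton]
        have : (x - c) * (x + c) = 0 := by linear_combination hx' - hc
        rcases mul_eq_zero.1 this with h | h
        · left; exact sub_eq_zero.1 h
        · right; exact eq_neg_of_add_eq_zero_left h
      · rw [Finset.filter_false_of_mem (fun x _ hx => h ⟨x, hx⟩)]; simp
    have h5 := Finset.card_union_le ({0, 1, -1} : Finset F) (Finset.univ.filter (fun a => a ^ 2 = -1))
    rw [Finset.card_univ] at h2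
    omega
  obtain ⟨z, hz⟩ := M.ex1 !![a, 0; 0, a⁻¹] (by rw [Matrix.det_fin_two]; simp [ha0])
  have z00 : M.m z 0 0 = a := by rw [hz]; rfl
  have z10 : M.m z 1 0 = 0 := by rw [hz]; rfl
  have z11 : M.m z 1 1 = a⁻¹ := by rw [hz]; rfl
  refine ⟨z, fun h => h.h10 z10, ?_, ?_⟩
  · rw [tr, z00, z11]
    intro h
    apply ha1
    have h3 : (a ^ 2 - 1) ^ 2 = 0 := by
      field_simp at h
      linear_combination h
    exact sub_eq_zero.1 (pow_eq_zero_iff (two_ne_zero) |>.1 h3)
  · rw [tr, z00, z11]
    intro h
    apply ha2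
    field_simp at h
    linear_combination h

theorem tr_w : M.tr M.w = 0 := by rw [tr, w00, w11, add_zero]

include hM hodd in
theorem range_ix (hq : 7 ≤ Fintype.card F) :
    (Fintype.card F % 4 = 1 → Set.range (ix (G := G)) = {1, (Fintype.card F ^ 2 - 1) / 2, Fintype.card F * (Fintype.card F + 1) / 2,
          Fintype.card F * (Fintype.card F - 1), Fintype.card F * (Fintype.card F + 1)}) ∧
    (Fintype.card F % 4 = 3 → Set.range (ix (G := G)) = {1, (Fintype.card F ^ 2 - 1) / 2, Fintype.card F * (Fintype.card F - 1) / 2,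
          Fintype.card F * (Fintype.card F + 1), Fintype.card F * (Fintype.card F - 1)}) := by
  have h2 := two_ne_of_odd hodd
  obtain ⟨g1, a1, b1⟩ := M.exists_ell_tr hM hodd (by omega)
  obtain ⟨g2, a2, b2, c2⟩ := M.exists_split_tr hM hodd hq
  have w4 : M.tr M.w ^ 2 ≠ 4 := by
    rw [M.tr_w]
    intro h
    have h3 : (2 : F) * 2 = 0 := by linear_combination -h
    exact h2 (mul_self_eq_zero.1 h3)
  have i1 := M.ix_Sc hM hodd M.Sc_one
  have i2 : ix (M.u 1) = (Fintype.card F ^ 2 - 1) / 2 := by
    refine M.ix_unip hM hodd (fun h => ?_) ?_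
    · have := h.1
      rw [u01] at this
      exact one_ne_zero this
    · rw [tr, u00, u11]; norm_num
  have i3 := M.ix_ell hM hodd a1
  rw [if_neg b1] at i3
  have i4 := M.ix_split hM hodd a2 b2
  rw [if_neg c2] at i4
  constructor
  · intro h4
    have hsq : IsSquare (-1 : F) := FiniteField.isSquare_neg_one_iff.2 (by omega)
    obtain ⟨i, hi⟩ := hsq
    have hw : ∀ g : G, M.Ell g → M.tr g ≠ 0 := by
      intro g hg h0
      apply hg.pol_ne hM i
      rw [h0]; linear_combination hi
    have i5 := M.ix_split hM hodd (fun h => hw _ h M.tr_w) w4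
    rw [if_pos M.tr_w] at i5
    ext n
    simp only [Set.mem_range, Set.mem_insert_iff, Set.mem_singleton_iff]
    constructor
    · rintro ⟨g, rfl⟩
      by_cases hs : M.Sc g
      · left; exact M.ix_Sc hM hodd hs
      · right
        by_cases ht : M.tr g ^ 2 = 4
        · left; exact M.ix_unip hM hodd hs ht
        · right
          by_cases he : M.Ell g
          · have := M.ix_ell hM hodd he
            rw [if_neg (hw g he)] at this
            right; left; exact this
          · have := M.ix_split hM hodd he ht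
            by_cases h0 : M.tr g = 0
            · rw [if_pos h0] at this; left; exact this
            · rw [if_neg h0] at this; right; right; exact this
    · rintro (rfl | rfl | rfl | rfl | rfl)
      exacts [⟨_, i1⟩, ⟨_, i2⟩, ⟨_, i5⟩, ⟨_, i3⟩, ⟨_, i4⟩]
  · intro h4
    have hnsq : ¬ IsSquare (-1 : F) := by
      rw [FiniteField.isSquare_neg_one_iff]; omega
    have hw : ∀ g : G, M.tr g = 0 → M.Ell g := by
      intro g h0
      rw [ell_iff_tr hM, h0]
      intro a ha
      exact hnsq ⟨a, by linear_combination ha⟩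
    have i5 := M.ix_ell hM hodd (hw _ M.tr_w)
    rw [if_pos M.tr_w] at i5
    ext n
    simp only [Set.mem_range, Set.mem_insert_iff, Set.mem_singleton_iff]
    constructor
    · rintro ⟨g, rfl⟩
      by_cases hs : M.Sc g
      · left; exact M.ix_Sc hM hodd hs
      · right
        by_cases ht : M.tr g ^ 2 = 4
        · left; exact M.ix_unip hM hodd hs ht
        · right
          by_cases he : M.Ell g
          · have := M.ix_ell hM hodd he
            by_cases h0 : M.tr g = 0
            · rw [if_pos h0] at this; left; exact this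
            · rw [if_neg h0] at this; right; right; exact this
          · have := M.ix_split hM hodd he ht
            rw [if_neg (fun h0 => he (hw g h0))] at this
            right; left; exact this
    · rintro (rfl | rfl | rfl | rfl | rfl)
      exacts [⟨_, i1⟩, ⟨_, i2⟩, ⟨_, i5⟩, ⟨_, i4⟩, ⟨_, i3⟩]

end MG

end CfsgH6
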