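import Cfsg.Agent.H6.Sl27
set_option autoImplicit false

namespace CfsgH6
open Cfsg CfsgH4

namespace MG
variable {G : Type*} [Group G] {F : Type*} [Field F] (M : MG G F)
variable [Fintype F] [DecidableEq F] [Fintype G]
variable (hM : M.IsSL)

include hM in
theorem card_cent_norm {c : G} (hs : ¬ M.Sc c) : Nat.card (Subgroup.centralizer ({c} : Set G)) =
    Nat.card {p : F × F // p.1 ^ 2 + p.1 * p.2 * M.tr c + p.2 ^ 2 = 1} := by
  choose X Y h00 h01 h10 h11 using fun h : Subgroup.centralizer ({c} : Set G) => M.comm_lin hs (mem_cent_single.1 h.2)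
  have hdz := hM c
  rw [dt] at hdz
  have ht' : M.tr c = M.m c 0 0 + M.m c 1 1 := rfl
  have hnorm : ∀ h, X h ^ 2 + X h * Y h * M.tr c + Y h ^ 2 = 1 := by
    intro h
    have hd := hM (h : G)
    rw [dt, h00, h01, h10, h11] at hd
    rw [ht']
    linear_combination hd - Y h ^ 2 * hdz
  let f : Subgroup.centralizer ({c} : Set G) → {p : F × F // p.1 ^ 2 + p.1 * p.2 * M.tr c + p.2 ^ 2 = 1} :=
    fun h => ⟨(X h, Y h), hnorm h⟩
  refine Nat.card_congr (Equiv.ofBijective f ⟨?_, ?_⟩)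
  · intro h k hk
    have e := congrArg Subtype.val hk
    have hX : X h = X k := congrArg Prod.fst e
    have hY : Y h = Y k := congrArg Prod.snd e
    apply Subtype.ext
    refine M.ext ?_ ?_ ?_ ?_
    · rw [h00, h00, hX, hY]
    · rw [h01, h01, hY]
    · rw [h10, h10, hY]
    · rw [h11, h11, hX, hY]
  · rintro ⟨⟨x, y⟩, hp⟩
    have hp' : x ^ 2 + x * y * M.tr c + y ^ 2 = 1 := hp
    rw [ht'] at hp'
    obtain ⟨k, hk⟩ := M.ex1 !![x + y * M.m c 0 0, y * M.m c 0 1; y * M.m c 1 0, x + y * M.m c 1 1] (by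
      rw [Matrix.det_fin_two]
      show (x + y * M.m c 0 0) * (x + y * M.m c 1 1) - (y * M.m c 0 1) * (y * M.m c 1 0) = 1
      linear_combination hp' + y ^ 2 * hdz)
    have k00 : M.m k 0 0 = x + y * M.m c 0 0 := by rw [hk]; rfl
    have k01 : M.m k 0 1 = y * M.m c 0 1 := by rw [hk]; rfl
    have k10 : M.m k 1 0 = y * M.m c 1 0 := by rw [hk]; rfl
    have k11 : M.m k 1 1 = x + y * M.m c 1 1 := by rw [hk]; rfl
    have hkc : k ∈ Subgroup.centralizer ({c} : Set G) := by
      rw [mem_cent_single]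
      refine M.ext ?_ ?_ ?_ ?_
      · rw [mul00, mul00, k00, k01, k10]; ring
      · rw [mul01, mul01, k00, k01, k11]; ring
      · rw [mul10, mul10, k00, k10, k11]; ring
      · rw [mul11, mul11, k01, k10, k11]; ring
    refine ⟨⟨k, hkc⟩, ?_⟩
    have e := M.lin_unique hs (x := X ⟨k, hkc⟩) (y := Y ⟨k, hkc⟩) (x' := x) (y' := y)
      (by rw [← h00, ← k00]) (by rw [← h01, ← k01]) (by rw [← h10, ← k10]) (by rw [← h11, ← k11])
    apply Subtype.ext
    show (X ⟨k, hkc⟩, Y ⟨k, hkc⟩) = (x, y)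
    rw [e.1, e.2]

include hM in
theorem card_cent_split' {g : G} (hg : ¬ M.Ell g) (ht : M.tr g ^ 2 ≠ 4) :
    Nat.card (Subgroup.centralizer ({g} : Set G)) = Fintype.card F - 1 := by
  rw [M.card_cent_norm hM (M.not_Sc_of_tr hM ht), ← Fintype.card_units, ← Nat.card_eq_fintype_card]
  rw [ell_iff_tr hM] at hg
  push Not at hg
  obtain ⟨a, ha⟩ := hg
  set b := M.tr g - a with hb
  have hab : a + b = M.tr g := by rw [hb]; ring
  have hne : a - b ≠ 0 := by
    intro h
    apply ht
    rw [← hab]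
    linear_combination (a - b) * h + 4 * ha
  have hN : ∀ x y : F, x ^ 2 + x * y * M.tr g + y ^ 2 = (x + y * a) * (x + y * b) := by
    intro x y; rw [← hab]; linear_combination (-y ^ 2) * ha
  refine Nat.card_congr ⟨fun p => ⟨p.1.1 + p.1.2 * a, p.1.1 + p.1.2 * b, by rw [← hN]; exact p.2,
    by rw [mul_comm, ← hN]; exact p.2⟩, fun u => ⟨((u : F) - (((u : F) - ((u⁻¹ : Fˣ) : F)) / (a - b)) * a, ((u : F) - ((u⁻¹ : Fˣ) : F)) / (a - b)), ?_⟩, ?_, ?_⟩
  · show _ ^ 2 + _ * _ * M.tr g + _ ^ 2 = 1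
    rw [hN]
    have h1 : (u : F) * ((u⁻¹ : Fˣ) : F) = 1 := Units.mul_inv u
    set v := ((u⁻¹ : Fˣ) : F)
    have e1 : (u : F) - ((u : F) - v) / (a - b) * a + ((u : F) - v) / (a - b) * a = u := by ring
    have e2 : (u : F) - ((u : F) - v) / (a - b) * a + ((u : F) - v) / (a - b) * b = v := by
      field_simp; ring
    rw [e1, e2, h1]
  · rintro ⟨⟨x, y⟩, hp⟩
    apply Subtype.ext
    show (_, _) = (x, y)
    have e2 : ((x + y * a) - (x + y * b)) / (a - b) = y := by field_simp; ring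
    refine Prod.ext ?_ e2
    show (x + y * a) - ((x + y * a) - (x + y * b)) / (a - b) * a = x
    rw [e2]; ring
  · intro u
    apply Units.ext
    show _ - _ * a + _ * a = _
    ring

section Even
variable (h2 : (2 : F) = 0)

include hM h2 in
theorem card_cent_unip_even {g : G} (hs : ¬ M.Sc g) (ht : M.tr g ^ 2 = 4) :
    Nat.card (Subgroup.centralizer ({g} : Set G)) = Fintype.card F := by
  rw [M.card_cent_norm hM hs, ← Nat.card_eq_fintype_card]
  have ht0 : M.tr g = 0 := by
    have : M.tr g ^ 2 = 0 := by rw [ht]; linear_combination 2 * h2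
    exact pow_eq_zero_iff (two_ne_zero) |>.1 this
  refine Nat.card_congr ⟨fun p => p.1.1, fun x => ⟨(x, 1 - x), ?_⟩, ?_, fun x => rfl⟩
  · show x ^ 2 + x * (1 - x) * M.tr g + (1 - x) ^ 2 = 1
    rw [ht0]
    linear_combination (x ^ 2 - x) * h2
  · rintro ⟨⟨x, y⟩, hp⟩
    have hp' : x ^ 2 + x * y * M.tr g + y ^ 2 = 1 := hp
    rw [ht0] at hp'
    apply Subtype.ext
    show (x, 1 - x) = (x, y)
    have : (1 - x - y) ^ 2 = 0 := by linear_combination hp' + (1 - x - y + x * y) * h2
    have h3 : 1 - x - y = 0 := pow_eq_zero_iff (two_ne_zero) |>.1 this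
    rw [show 1 - x = y by linear_combination h3]

include hM h2 in
theorem card_cent_ell_even {g : G} (hg : M.Ell g) :
    Nat.card (Subgroup.centralizer ({g} : Set G)) = Fintype.card F + 1 := by
  classical
  rw [M.card_cent_norm hM hg.not_Sc]
  haveI : CharP F 2 := CharTwo.of_one_ne_zero_of_two_eq_zero one_ne_zero h2
  have hsq : ∀ a b : F, a ^ 2 = b ^ 2 → a = b := by
    intro a b h
    have : (a - b) ^ 2 = 0 := by linear_combination h + (b ^ 2 - a * b) * h2
    exact sub_eq_zero.1 (pow_eq_zero_iff (two_ne_zero) |>.1 this)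
  have hN : ∀ p : F × F, p ≠ 0 → p.1 ^ 2 + p.1 * p.2 * M.tr g + p.2 ^ 2 ≠ 0 := by
    intro p hp
    have h1 := hg.norm_ne (x := p.1) (y := p.2) (fun h => hp (Prod.ext h.1 h.2))
    rw [hM g] at h1
    intro h
    apply h1
    linear_combination h
  let f : Fˣ × {p : F × F // p.1 ^ 2 + p.1 * p.2 * M.tr g + p.2 ^ 2 = 1} → {p : F × F // p ≠ 0} :=
    fun x => ⟨((x.1 : F) * x.2.1.1, (x.1 : F) * x.2.1.2), by
      intro h
      have e1 : (x.1 : F) * x.2.1.1 = 0 := congrArg Prod.fst h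
      have e2 : (x.1 : F) * x.2.1.2 = 0 := congrArg Prod.snd h
      have f1 := (mul_eq_zero.1 e1).resolve_left x.1.ne_zero
      have f2 := (mul_eq_zero.1 e2).resolve_left x.1.ne_zero
      have := x.2.2
      rw [f1, f2] at this
      exact one_ne_zero (by rw [← this]; ring)⟩
  have hf : Function.Bijective f := by
    constructor
    · rintro ⟨s, p⟩ ⟨s', p'⟩ h
      have e := congrArg Subtype.val h
      have e1 : (s : F) * p.1.1 = s' * p'.1.1 := congrArg Prod.fst e
      have e2 : (s : F) * p.1.2 = s' * p'.1.2 := congrArg Prod.snd e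
      have h1 : (s : F) ^ 2 = s' ^ 2 := by
        have a1 := p.2
        have a2 := p'.2
        have a3 : (s : F) ^ 2 * (p.1.1 ^ 2 + p.1.1 * p.1.2 * M.tr g + p.1.2 ^ 2) =
          (s' : F) ^ 2 * (p'.1.1 ^ 2 + p'.1.1 * p'.1.2 * M.tr g + p'.1.2 ^ 2) := by
          have b1 : (s : F) ^ 2 * (p.1.1 ^ 2 + p.1.1 * p.1.2 * M.tr g + p.1.2 ^ 2) =
            (s * p.1.1) ^ 2 + (s * p.1.1) * (s * p.1.2) * M.tr g + (s * p.1.2) ^ 2 := by ring
          rw [b1, e1, e2]; ring
        rwa [a1, a2, mul_one, mul_one] at a3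
      have h3 : s = s' := Units.ext (hsq _ _ h1)
      subst h3
      have f1 : p.1.1 = p'.1.1 := mul_left_cancel₀ s.ne_zero e1
      have f2 : p.1.2 = p'.1.2 := mul_left_cancel₀ s.ne_zero e2
      exact Prod.ext rfl (Subtype.ext (Prod.ext f1 f2))
    · rintro ⟨p, hp⟩
      have h1 := hN p hp
      obtain ⟨s, hs⟩ := FiniteField.isSquare_of_char_two (ringChar.eq F 2 ▸ rfl) (p.1 ^ 2 + p.1 * p.2 * M.tr g + p.2 ^ 2)
      have hs0 : s ≠ 0 := fun h => h1 (by rw [hs, h, mul_zero])
      refine ⟨⟨Units.mk0 s hs0, ⟨(s⁻¹ * p.1, s⁻¹ * p.2), ?_⟩⟩, ?_⟩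
      · show (s⁻¹ * p.1) ^ 2 + (s⁻¹ * p.1) * (s⁻¹ * p.2) * M.tr g + (s⁻¹ * p.2) ^ 2 = 1
        field_simp
        linear_combination hs
      · apply Subtype.ext
        show (s * (s⁻¹ * p.1), s * (s⁻¹ * p.2)) = p
        rw [mul_inv_cancel_left₀ hs0, mul_inv_cancel_left₀ hs0]
  have h3 := Nat.card_congr (Equiv.ofBijective f hf)
  rw [Nat.card_prod, Nat.card_eq_fintype_card (α := Fˣ), Fintype.card_units, Nat.card_eq_fintype_card (α := {p : F × F // p ≠ 0}),
    Fintype.card_subtype_compl, Fintype.card_subtype_eq, Fintype.card_prod] at h3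
  have hq1 := Fintype.one_lt_card (α := F)
  apply Nat.eq_of_mul_eq_mul_left (show 0 < Fintype.card F - 1 by omega)
  rw [h3]
  obtain ⟨k, hk⟩ : ∃ k, Fintype.card F = k + 1 := ⟨Fintype.card F - 1, by omega⟩
  rw [hk]
  have : (k + 1) * (k + 1) = k * (k + 1 + 1) + 1 := by ring
  rw [this]; simp

include hM h2 in
theorem Sc_even {g : G} (hs : M.Sc g) : g = 1 := by
  rcases M.Sc_SL hM hs with h | h
  · exact h
  · rw [h]
    refine M.ext ?_ ?_ ?_ ?_
    · rw [ng00, m_one00]; linear_combination -h2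
    · rw [ng01, m_one01]
    · rw [ng10, m_one10]
    · rw [ng11, m_one11]; linear_combination -h2

include hM h2 in
theorem ix_even (g : G) : ix g * Nat.card (Subgroup.centralizer ({g} : Set G)) = Nat.card G := by
  set H := (Subgroup.centralizer ({(QuotientGroup.mk' (Subgroup.center G) g)} : Set (G ⧸ Subgroup.center G))).comap
      (QuotientGroup.mk' (Subgroup.center G)) with hH
  have h1 : H.index = ix g := Subgroup.index_comap_of_surjective _ (QuotientGroup.mk'_surjective _)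
  have hng : M.ng = 1 := M.Sc_even hM h2 M.Sc_ng
  have h2 : H = Subgroup.centralizer ({g} : Set G) := by
    ext x
    rw [hH, M.mem_H hM, mem_cent_single, hng, one_mul, or_self]
    constructor
    · intro h3
      have := congrArg (fun t => t * x) h3
      simp only [inv_mul_cancel_right] at this
      exact this.symm
    · intro h3; rw [← h3, mul_inv_cancel_right]
  rw [← h1, h2, mul_comm]
  exact Subgroup.card_mul_index _

omit [Fintype G] [DecidableEq F] in
theorem exists_sq_ne' (hq : 4 ≤ Fintype.card F) : ∃ a : F, a ≠ 0 ∧ a ^ 2 ≠ 1 := by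
  classical
  by_contra hne
  push Not at hne
  have h1 : (Finset.univ : Finset F) ⊆ {0, 1, -1} := by
    intro a _
    rw [Finset.mem_insert, Finset.mem_insert, Finset.mem_singleton]
    by_cases h0 : a = 0
    · exact Or.inl h0
    · have := hne a h0
      rw [sq] at this
      exact Or.inr (mul_self_eq_one_iff.1 this)
  have h2 := Finset.card_le_card h1
  have h3 : ({0, 1, -1} : Finset F).card ≤ 3 := Finset.card_le_three
  rw [Finset.card_univ] at h2
  omega

include hM in
theorem exists_split' (hq : 4 ≤ Fintype.card F) : ∃ g : G, ¬ M.Ell g ∧ M.tr g ^ 2 ≠ 4 := by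
  obtain ⟨a, ha0, ha1⟩ := exists_sq_ne' hq
  obtain ⟨z, hz⟩ := M.ex1 !![a, 0; 0, a⁻¹] (by rw [Matrix.det_fin_two]; simp [ha0])
  have z00 : M.m z 0 0 = a := by rw [hz]; rfl
  have z10 : M.m z 1 0 = 0 := by rw [hz]; rfl
  have z11 : M.m z 1 1 = a⁻¹ := by rw [hz]; rfl
  refine ⟨z, fun h => h.h10 z10, ?_⟩
  rw [tr, z00, z11]
  intro h
  apply ha1
  have h3 : (a ^ 2 - 1) ^ 2 = 0 := by
    field_simp at h
    linear_combination h
  exact sub_eq_zero.1 (pow_eq_zero_iff (two_ne_zero) |>.1 h3)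

include hM h2 in
theorem ell_tr_even {g : G} (hg : M.Ell g) : M.tr g ^ 2 ≠ 4 := by
  intro h
  have ht0 : M.tr g = 0 := by
    have : M.tr g ^ 2 = 0 := by rw [h]; linear_combination 2 * h2
    exact pow_eq_zero_iff (two_ne_zero) |>.1 this
  apply hg.pol_ne hM 1
  rw [ht0]; linear_combination -h2

include hM h2 in
theorem range_ix_even (hq : 4 ≤ Fintype.card F) :
    Set.range (ix (G := G)) = {1, Fintype.card F * (Fintype.card F - 1), Fintype.card F ^ 2 - 1, Fintype.card F * (Fintype.card F + 1)} := by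
  have hG : Nat.card G = (Fintype.card F - 1) * ((Fintype.card F + 1) * Fintype.card F) := by
    rw [M.card_SL hM]
    have e : Fintype.card F ^ 2 - 1 = (Fintype.card F + 1) * (Fintype.card F - 1) := by
      rw [← Nat.sq_sub_sq]
    rw [e]; ring
  have i1 : ∀ g : G, M.Sc g → ix g = 1 := by
    intro g hs
    have h1 : QuotientGroup.mk' (Subgroup.center G) g = 1 := by
      rw [QuotientGroup.mk'_apply, QuotientGroup.eq_one_iff]; exact M.center_of_Sc hs
    rw [ix, h1, Subgroup.index_eq_one]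
    rw [eq_top_iff]
    intro x _
    rw [mem_cent_single, one_mul, mul_one]
  have i2 : ∀ g : G, ¬ M.Sc g → M.tr g ^ 2 = 4 → ix g = Fintype.card F ^ 2 - 1 := by
    intro g hs ht
    have h1 := M.ix_even hM h2 g
    rw [M.card_cent_unip_even hM h2 hs ht, M.card_SL hM] at h1
    exact Nat.eq_of_mul_eq_mul_right (by omega) h1
  have i3 : ∀ g : G, M.Ell g → ix g = Fintype.card F * (Fintype.card F - 1) := by
    intro g hg
    have h1 := M.ix_even hM h2 g
    rw [M.card_cent_ell_even hM h2 hg, hG] at h1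
    apply Nat.eq_of_mul_eq_mul_right (show 0 < Fintype.card F + 1 by omega)
    rw [h1]; ring
  have i4 : ∀ g : G, ¬ M.Ell g → M.tr g ^ 2 ≠ 4 → ix g = Fintype.card F * (Fintype.card F + 1) := by
    intro g hg ht
    have h1 := M.ix_even hM h2 g
    rw [M.card_cent_split' hM hg ht, hG] at h1
    apply Nat.eq_of_mul_eq_mul_right (show 0 < Fintype.card F - 1 by omega)
    rw [h1]; ring
  obtain ⟨g1, hg1⟩ := M.exists_ell hM
  obtain ⟨g2, hg2, hg2'⟩ := M.exists_split' hM hq
  ext n
  simp only [Set.mem_range, Set.mem_insert_iff, Set.mem_singleton_iff]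
  constructor
  · rintro ⟨g, rfl⟩
    by_cases hs : M.Sc g
    · left; exact i1 g hs
    · right
      by_cases he : M.Ell g
      · left; exact i3 g he
      · right
        by_cases ht : M.tr g ^ 2 = 4
        · left; exact i2 g hs ht
        · right; exact i4 g he ht
  · rintro (rfl | rfl | rfl | rfl)
    · exact ⟨1, i1 _ M.Sc_one⟩
    · exact ⟨g1, i3 _ hg1⟩
    · refine ⟨M.u 1, i2 _ (fun h => ?_) ?_⟩
      · have := h.1
        rw [u01] at this
        exact one_ne_zero this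
      · rw [tr, u00, u11]; norm_num
    · exact ⟨g2, i4 _ hg2 hg2'⟩

end Even

end MG

end CfsgH6
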