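import Cfsg.Agent.H6.Sl28
set_option autoImplicit false

namespace CfsgH6
open Cfsg CfsgH4

namespace MG
variable {G : Type*} [Group G] {F : Type*} [Field F] (M : MG G F)
variable [Fintype F] [DecidableEq F] [Fintype G]
variable (hM : M.IsSL)

theorem mk_one_iff {g : G} : QuotientGroup.mk' (Subgroup.center G) g = 1 ↔ M.Sc g := by
  rw [QuotientGroup.mk'_apply, QuotientGroup.eq_one_iff]
  exact ⟨M.Sc_of_center, M.center_of_Sc⟩

include hM in
theorem spectrum (p : ℕ) [hp : Fact p.Prime] [CharP F p] {d : ℕ} (hd : ∀ g : G, g ^ d = 1 ↔ M.Sc g) (hd0 : 0 < d)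
    (hd1 : d ∣ Fintype.card F - 1) (hd2 : d ∣ Fintype.card F + 1)
    (hell : ∀ g : G, M.Ell g → Nat.card (Subgroup.centralizer ({g} : Set G)) = Fintype.card F + 1)
    (hellt : ∀ g : G, M.Ell g → M.tr g ^ 2 ≠ 4) (hq : 4 ≤ Fintype.card F) :
    Set.range (orderOf : G ⧸ Subgroup.center G → ℕ) =
      {m : ℕ | m ∣ p ∨ m ∣ (Fintype.card F - 1) / d ∨ m ∣ (Fintype.card F + 1) / d} := by
  have hA : ∀ (g : G) (n : ℕ), M.Sc (g ^ n) → orderOf (QuotientGroup.mk' (Subgroup.center G) g) ∣ n := by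
    intro g n h
    apply orderOf_dvd_of_pow_eq_one
    rw [← map_pow, M.mk_one_iff]; exact h
  have hdiv : ∀ (g : G) (n : ℕ), Nat.card (Subgroup.centralizer ({g} : Set G)) = n → d ∣ n → M.Sc (g ^ (n / d)) := by
    intro g n hn hdn
    rw [← hd, ← pow_mul, Nat.div_mul_cancel hdn, ← hn]
    have h2 : (⟨g, by rw [mem_cent_single]⟩ : Subgroup.centralizer ({g} : Set G)) ^ Nat.card (Subgroup.centralizer ({g} : Set G)) = 1 :=
      pow_card_eq_one'
    exact congrArg Subtype.val h2
  have hgen : ∀ (z : G) (n : ℕ), M.tr z ^ 2 ≠ 4 → Nat.card (Subgroup.centralizer ({z} : Set G)) = n → d ∣ n →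
      ∃ c : G ⧸ Subgroup.center G, orderOf c = n / d := by
    intro z n hz hn hdn
    haveI hcy := M.cyclic_cent hM hz
    obtain ⟨c₀, hc₀⟩ := hcy.exists_generator
    have hord := orderOf_eq_card_of_forall_mem_zpowers hc₀
    rw [hn] at hord
    refine ⟨QuotientGroup.mk' (Subgroup.center G) (c₀ : G), Nat.dvd_antisymm ?_ ?_⟩
    · apply hA
      rw [← hd, ← pow_mul, Nat.div_mul_cancel hdn]
      have := pow_orderOf_eq_one c₀
      rw [hord] at this
      exact congrArg Subtype.val this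
    · set k := orderOf (QuotientGroup.mk' (Subgroup.center G) (c₀ : G)) with hk
      have h1 : (QuotientGroup.mk' (Subgroup.center G) (c₀ : G)) ^ k = 1 := pow_orderOf_eq_one _
      rw [← map_pow, M.mk_one_iff, ← hd, ← pow_mul] at h1
      have h2 : c₀ ^ (k * d) = 1 := Subtype.ext h1
      have h3 := orderOf_dvd_of_pow_eq_one h2
      rw [hord] at h3
      apply Nat.dvd_of_mul_dvd_mul_right hd0
      rwa [Nat.div_mul_cancel hdn]
  have hpow : ∀ (c : G ⧸ Subgroup.center G) (n m : ℕ), n ≠ 0 → orderOf c = n → m ∣ n → ∃ c' : G ⧸ Subgroup.center G, orderOf c' = m := by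
    intro c n m hn0 hc hm
    have hk : n / m ∣ n := Nat.div_dvd_of_dvd hm
    have hk0 : n / m ≠ 0 := (Nat.div_pos (Nat.le_of_dvd (Nat.pos_of_ne_zero hn0) hm) (Nat.pos_of_dvd_of_pos hm (Nat.pos_of_ne_zero hn0))).ne'
    refine ⟨c ^ (n / m), ?_⟩
    rw [orderOf_pow_of_dvd hk0 (by rw [hc]; exact hk), hc]
    exact Nat.div_div_self hm hn0
  have hup : ∀ x : F, M.u x ^ p = 1 := by
    intro x
    rw [u_pow, CharP.cast_eq_zero, zero_mul, u_zero]
  have hu1 : ¬ M.Sc (M.u 1) := by
    intro h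
    have := h.1
    rw [u01] at this
    exact one_ne_zero this
  have hng : QuotientGroup.mk' (Subgroup.center G) M.ng = 1 := M.mk_one_iff.2 M.Sc_ng
  have hunip : ∀ g : G, ¬ M.Sc g → M.tr g = 2 → orderOf (QuotientGroup.mk' (Subgroup.center G) g) ∣ p := by
    intro g hs ht
    obtain ⟨x, _, hx⟩ := M.unip_conj_ne (hM g) ht hs
    obtain ⟨c, hc⟩ := isConj_iff.1 hx
    apply hA
    rw [← hc, conj_pow, hup, mul_one, mul_inv_cancel]
    exact M.Sc_one
  obtain ⟨g1, hg1⟩ := M.exists_ell hM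
  obtain ⟨g2, hg2, hg2'⟩ := M.exists_split' hM hq
  ext m
  rw [Set.mem_range, Set.mem_setOf_eq]
  constructor
  · rintro ⟨g', rfl⟩
    obtain ⟨g, rfl⟩ := QuotientGroup.mk'_surjective _ g'
    by_cases hs : M.Sc g
    · left
      rw [M.mk_one_iff.2 hs, orderOf_one]; exact one_dvd _
    · by_cases he : M.Ell g
      · right; right
        exact hA _ _ (hdiv g _ (hell g he) hd2)
      · by_cases ht : M.tr g ^ 2 = 4
        · left
          have h3 : (M.tr g - 2) * (M.tr g + 2) = 0 := by linear_combination ht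
          rcases mul_eq_zero.1 h3 with h4 | h4
          · exact hunip g hs (sub_eq_zero.1 h4)
          · have hs' : ¬ M.Sc (M.ng * g) := by
              rintro ⟨e1, e2, e3⟩
              apply hs
              simp only [mul00, mul01, mul10, mul11, ng00, ng01, ng10, ng11] at e1 e2 e3
              refine ⟨by linear_combination -e1, by linear_combination -e2, by linear_combination -e3⟩
            have h5 := hunip (M.ng * g) hs' (by rw [tr_ng]; linear_combination -h4)
            rwa [map_mul, hng, one_mul] at h5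
        · right; left
          exact hA _ _ (hdiv g _ (M.card_cent_split' hM he ht) hd1)
  · rintro (hm | hm | hm)
    · rcases (Nat.dvd_prime hp.out).1 hm with rfl | rfl
      · exact ⟨1, orderOf_one⟩
      · refine ⟨QuotientGroup.mk' (Subgroup.center G) (M.u 1), orderOf_eq_prime ?_ ?_⟩
        · rw [← map_pow, hup, map_one]
        · intro h; exact hu1 (M.mk_one_iff.1 h)
    · obtain ⟨c, hc⟩ := hgen g2 _ hg2' (M.card_cent_split' hM hg2 hg2') hd1
      exact hpow c _ m (Nat.div_pos (Nat.le_of_dvd (by omega) hd1) hd0).ne' hc hm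
    · obtain ⟨c, hc⟩ := hgen g1 _ (hellt g1 hg1) (hell g1 hg1) hd2
      exact hpow c _ m (Nat.div_pos (Nat.le_of_dvd (by omega) hd2) hd0).ne' hc hm

include hM in
theorem spectrum' (p : ℕ) [hp : Fact p.Prime] [CharP F p] (hq : 4 ≤ Fintype.card F) :
    Set.range (orderOf : G ⧸ Subgroup.center G → ℕ) =
      {m : ℕ | m ∣ p ∨ m ∣ (Fintype.card F - 1) / Nat.gcd 2 (Fintype.card F - 1) ∨
        m ∣ (Fintype.card F + 1) / Nat.gcd 2 (Fintype.card F - 1)} := by
  rcases Nat.even_or_odd (Fintype.card F) with he | ho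
  · have h20 : (2 : F) = 0 := by
      haveI := charP_two_of_even he
      exact_mod_cast CharP.cast_eq_zero F 2
    have hg : Nat.gcd 2 (Fintype.card F - 1) = 1 := by
      rw [← Nat.Coprime, Nat.coprime_two_left]
      obtain ⟨k, hk⟩ := he
      exact ⟨k - 1, by omega⟩
    rw [hg]
    refine M.spectrum hM p (fun g => ?_) one_pos (one_dvd _) (one_dvd _) (fun g hg => M.card_cent_ell_even hM h20 hg)
      (fun g hg => M.ell_tr_even hM h20 hg) hq
    rw [pow_one]
    exact ⟨fun h => by rw [h]; exact M.Sc_one, fun h => M.Sc_even hM h20 h⟩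
  · have hg : Nat.gcd 2 (Fintype.card F - 1) = 2 := by
      apply Nat.gcd_eq_left
      obtain ⟨k, hk⟩ := ho
      exact ⟨k, by omega⟩
    have hh := ho
    obtain ⟨k, hk⟩ := hh
    rw [hg]
    refine M.spectrum hM p (fun g => ?_) two_pos ⟨k, by omega⟩ ⟨k + 1, by omega⟩ (fun g hg => M.card_cent_ell_SL hM ho hg)
      (fun g hg => ell_tr ho hM hg) hq
    constructor
    · intro h
      by_contra hs
      rw [sq] at h
      exact M.inv_ne_self hM ho hs (inv_eq_of_mul_eq_one_right h)
    · intro h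
      rcases M.Sc_SL hM h with h | h
      · rw [h, one_pow]
      · rw [h, sq, ng_mul_ng]

end MG

end CfsgH6
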