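import Cfsg.Agent.H6.Sl2
set_option autoImplicit false

namespace CfsgH6
open Cfsg CfsgH4
open scoped ComplexConjugate

section Inst
variable {F : Type*} [Field F]

/-- the general linear group -/
def mGL : MG (Matrix.GeneralLinearGroup (Fin 2) F) F where
  m := Units.coeHom _
  inj := fun _ _ h => Units.ext h
  ex := by
    intro g A hA
    have : A.det ≠ 0 := by
      rw [hA]; exact (Matrix.isUnit_iff_isUnit_det _).1 g.isUnit |>.ne_zero
    exact ⟨Matrix.GeneralLinearGroup.mkOfDetNeZero A this, rfl⟩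

/-- the special linear group -/
def mSL : MG (Matrix.SpecialLinearGroup (Fin 2) F) F where
  m := { toFun := fun g => g.1, map_one' := rfl, map_mul' := fun _ _ => rfl }
  inj := fun _ _ h => Subtype.ext h
  ex := by
    intro g A hA
    exact ⟨⟨A, hA.trans g.2⟩, rfl⟩

theorem mGL_m (g : Matrix.GeneralLinearGroup (Fin 2) F) (i j : Fin 2) :
    mGL.m g i j = (g : Matrix (Fin 2) (Fin 2) F) i j := rfl

theorem mSL_m (g : Matrix.SpecialLinearGroup (Fin 2) F) (i j : Fin 2) :
    mSL.m g i j = (g : Matrix (Fin 2) (Fin 2) F) i j := rfl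

theorem isGL_mGL : (mGL (F := F)).IsGL := fun A hA => ⟨Matrix.GeneralLinearGroup.mkOfDetNeZero A hA, rfl⟩

theorem isSL_mSL : (mSL (F := F)).IsSL := fun g => by rw [MG.dt_eq]; exact g.2

theorem blockTri_iff (A : Matrix (Fin 2) (Fin 2) F) : A.BlockTriangular id ↔ A 1 0 = 0 := by
  constructor
  · intro h; exact h (by decide)
  · intro h i j hij
    have : i = 1 ∧ j = 0 := by
      revert hij; fin_cases i <;> fin_cases j <;> simp
    rw [this.1, this.2]; exact h

theorem B_GL : Cfsg.upperTriangularGL 2 F = (mGL (F := F)).B := by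
  ext g
  exact blockTri_iff _

theorem B_SL : (Cfsg.upperTriangularGL 2 F).comap Matrix.SpecialLinearGroup.toGL = (mSL (F := F)).B := by
  ext g
  exact blockTri_iff _

end Inst

namespace MG
variable {G : Type*} [Group G] {F : Type*} [Field F] (M : MG G F)
variable [Fintype F] [DecidableEq F] [Fintype G]

theorem ind_eq {H : Subgroup G} (h : H = M.B) (α β : MulChar F ℂ) :
    indFun H (fun b => α (M.m b.1 0 0) * β (M.m b.1 1 1)) = M.ps α β := by
  subst h
  exact M.indFun_bf α β

theorem ind_eq_one {H : Subgroup G} (h : H = M.B) (α : MulChar F ℂ) :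
    indFun H (fun b => α (M.m b.1 0 0)) = M.ps α 1 := by
  rw [← M.ind_eq h α 1]
  congr 1
  funext b
  rw [MulChar.one_apply (M.B_ne (h ▸ b.2)).2.isUnit, mul_one]

end MG

section Ind
variable {F : Type*} [Field F] [Fintype F] [DecidableEq F]

theorem ind_GL (α β : MulChar F ℂ) : Cfsg.indFun (Cfsg.upperTriangularGL 2 F) (fun b => α (((b : Matrix.GeneralLinearGroup (Fin 2) F) : Matrix (Fin 2) (Fin 2) F) 0 0) * β (((b : Matrix.GeneralLinearGroup (Fin 2) F) : Matrix (Fin 2) (Fin 2) F) 1 1)) = (mGL (F := F)).ps α β :=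
  (mGL (F := F)).ind_eq B_GL α β

theorem ind_SL (α : MulChar F ℂ) : Cfsg.indFun ((Cfsg.upperTriangularGL 2 F).comap Matrix.SpecialLinearGroup.toGL) (fun b => α (((b : Matrix.SpecialLinearGroup (Fin 2) F) : Matrix (Fin 2) (Fin 2) F) 0 0)) = (mSL (F := F)).ps α 1 :=
  (mSL (F := F)).ind_eq_one B_SL α

end Ind

namespace MG
variable {G : Type*} [Group G] {F : Type*} [Field F] (M : MG G F)
variable [Fintype F] [DecidableEq F] [Fintype G]

/-- elliptic elements -/
def Ell (g : G) : Prop := ∀ (c : F) (v : Fin 2 → F), v ≠ 0 → (M.m g).mulVec v ≠ c • v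

theorem Ell.h10 {M : MG G F} {g : G} (h : M.Ell g) : M.m g 1 0 ≠ 0 := by
  intro h0
  refine h (M.m g 0 0) ![1, 0] (fun h1 => by simpa using congrFun h1 0) ?_
  funext i
  fin_cases i
  · simp [Matrix.mulVec, dotProduct, Fin.sum_univ_two]
  · simp [Matrix.mulVec, dotProduct, Fin.sum_univ_two, h0]

theorem Ell.noroot {M : MG G F} {g : G} (h : M.Ell g) (x : F) :
    M.m g 1 0 * x ^ 2 + (M.m g 1 1 - M.m g 0 0) * x - M.m g 0 1 ≠ 0 := by
  intro h0
  refine h (M.m g 1 0 * x + M.m g 1 1) ![x, 1] (fun h1 => by simpa using congrFun h1 1) ?_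
  funext i
  fin_cases i
  · simp [Matrix.mulVec, dotProduct, Fin.sum_univ_two]
    linear_combination -h0
  · simp [Matrix.mulVec, dotProduct, Fin.sum_univ_two]

theorem ps_ell (α β : MulChar F ℂ) {g : G} (h : M.Ell g) : M.ps α β g = 0 := by
  rw [ps, if_neg h.h10, zero_add]
  exact Finset.sum_eq_zero fun x _ => if_neg (h.noroot x)

theorem ps_scalar (α β : MulChar F ℂ) {g : G} (h01 : M.m g 0 1 = 0) (h10 : M.m g 1 0 = 0)
    (h : M.m g 0 0 = M.m g 1 1) :
    M.ps α β g = ((Fintype.card F : ℂ) + 1) * (α (M.m g 0 0) * β (M.m g 0 0)) := by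
  rw [ps, if_pos h10, h01, h10, ← h]
  simp only [sub_self, zero_mul, add_zero, if_true, zero_add, sub_zero, Finset.sum_const, Finset.card_univ,
    nsmul_eq_mul]
  ring

theorem ps_split (α β : MulChar F ℂ) {g : G} (h01 : M.m g 0 1 = 0) (h10 : M.m g 1 0 = 0)
    (h : M.m g 0 0 ≠ M.m g 1 1) :
    M.ps α β g = α (M.m g 0 0) * β (M.m g 1 1) + α (M.m g 1 1) * β (M.m g 0 0) := by
  rw [ps, if_pos h10, h01, h10]
  congr 1
  rw [Finset.sum_eq_single 0]
  · rw [if_pos (by ring), zero_mul, zero_add, sub_zero]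
  · intro x _ hx
    rw [if_neg]
    intro h1
    have : (M.m g 1 1 - M.m g 0 0) * x = 0 := by linear_combination h1
    rcases mul_eq_zero.1 this with h2 | h2
    · exact h (sub_eq_zero.1 h2).symm
    · exact hx h2
  · intro h; exact absurd (Finset.mem_univ _) h

theorem ps_unip (α β : MulChar F ℂ) {g : G} (h01 : M.m g 0 1 ≠ 0) (h10 : M.m g 1 0 = 0)
    (h : M.m g 0 0 = M.m g 1 1) :
    M.ps α β g = α (M.m g 0 0) * β (M.m g 0 0) := by
  rw [ps, if_pos h10, h10, ← h, Finset.sum_eq_zero, add_zero]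
  intro x _
  rw [if_neg]
  intro h1
  apply h01
  linear_combination -h1

theorem ps_one (α β : MulChar F ℂ) : M.ps α β 1 = (Fintype.card F : ℂ) + 1 := by
  rw [M.ps_scalar α β M.m_one01 M.m_one10 (by rw [m_one00, m_one11]), m_one00, map_one, map_one]; ring

end MG

theorem eq_zero_of_inner {G : Type*} [Group G] [Fintype G] {f : G → ℂ} (h : classInner f f = 0) : f = 0 := by
  rw [classInner_def] at h
  have h1 : (Nat.card G : ℂ) ≠ 0 := by exact_mod_cast Nat.card_pos.ne'
  have h2 := (mul_eq_zero.1 h).resolve_left (inv_ne_zero h1)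
  have h3 : ∀ g : G, f g * conj (f g) = ((‖f g‖ ^ 2 : ℝ) : ℂ) := fun g => by
    rw [Complex.mul_conj, Complex.normSq_eq_norm_sq]
  rw [Finset.sum_congr rfl (fun g _ => h3 g), ← Complex.ofReal_sum] at h2
  have h4 : ∑ g : G, ‖f g‖ ^ 2 = 0 := by exact_mod_cast h2
  rw [Finset.sum_eq_zero_iff_of_nonneg (fun g _ => sq_nonneg _)] at h4
  funext g
  have h5 := h4 g (Finset.mem_univ g)
  have h6 : ‖f g‖ = 0 := by simpa using h5
  exact norm_eq_zero.1 h6

namespace MG
variable {G : Type*} [Group G] {F : Type*} [Field F] (M : MG G F)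
variable [Fintype F] [DecidableEq F] [Fintype G]

/-- swapping the two characters does not change the principal series character -/
theorem ps_swap (α β : MulChar F ℂ) (g : G) : M.ps β α g = M.ps α β g := by
  classical
  haveI : Fintype M.T := Fintype.ofFinite _
  have h1 : ∀ α₁ β₁ α₂ β₂ : MulChar F ℂ, classInner (M.ps α₁ β₁) (M.ps α₂ β₂) =
      classInner (M.ps α₁ β₁) (M.ps β₂ α₂) := by
    intro α₁ β₁ α₂ β₂
    rw [M.inner_ps, M.inner_ps]
    rw [add_comm]
    congr 1
    · congr 1; exact Finset.sum_congr rfl fun t _ => by rw [mul_comm (α₂ _) (β₂ _)]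
    · congr 1; exact Finset.sum_congr rfl fun t _ => by rw [mul_comm (α₂ _) (β₂ _)]
  have h2 : classInner (M.ps β α - M.ps α β) (M.ps β α - M.ps α β) = 0 := by
    have e1 : classInner (M.ps β α) (M.ps β α) = classInner (M.ps β α) (M.ps α β) := h1 _ _ _ _
    have e2 : classInner (M.ps α β) (M.ps β α) = classInner (M.ps α β) (M.ps α β) := h1 _ _ _ _
    rw [classInner_sub_left, classInner_sub_right, classInner_sub_right, e1, e2]
    ring
  have h3 := eq_zero_of_inner h2
  have h4 := congrFun h3 g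
  simp only [Pi.sub_apply, Pi.zero_apply] at h4
  exact sub_eq_zero.1 h4

end MG

end CfsgH6
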