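import Cfsg.Agent.H6.Sl29
set_option autoImplicit false

namespace CfsgH6
open Cfsg CfsgH4

theorem quad_not_all {F : Type*} [Field F] [Fintype F] (hq : 4 ≤ Fintype.card F) {l m n t : F} (hl : l ≠ 0)
    (h : ∀ x : F, (l * x ^ 2 + m * x + n) ^ 2 = t ^ 2) : False := by
  classical
  open Polynomial in
  set f : F[X] := C l * X ^ 2 + C m * X + C n with hf
  have hdf : f.natDegree = 2 := Polynomial.natDegree_quadratic hl
  have hev : ∀ x : F, f.eval x = l * x ^ 2 + m * x + n := by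
    intro x; rw [hf]; simp
  by_cases h5 : 5 ≤ Fintype.card F
  · have hP : (f ^ 2 - Polynomial.C (t ^ 2)).natDegree = 4 := by
      rw [Polynomial.natDegree_sub_C, Polynomial.natDegree_pow, hdf]
    have h0 : f ^ 2 - Polynomial.C (t ^ 2) = 0 := by
      refine Polynomial.eq_zero_of_natDegree_lt_card_of_eval_eq_zero' _ Finset.univ (fun x _ => ?_) ?_
      · rw [Polynomial.eval_sub, Polynomial.eval_pow, hev, Polynomial.eval_C, h x, sub_self]
      · rw [hP, Finset.card_univ]; omega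
    rw [h0] at hP
    simp at hP
  · have h4 : Fintype.card F = 4 := by omega
    have h20 : (2 : F) = 0 := by
      haveI := charP_two_of_even (F := F) (by rw [h4]; decide)
      exact_mod_cast CharP.cast_eq_zero F 2
    have hP : (f - Polynomial.C t).natDegree = 2 := by
      rw [Polynomial.natDegree_sub_C, hdf]
    have h0 : f - Polynomial.C t = 0 := by
      refine Polynomial.eq_zero_of_natDegree_lt_card_of_eval_eq_zero' _ Finset.univ (fun x _ => ?_) ?_
      · rw [Polynomial.eval_sub, hev, Polynomial.eval_C]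
        have h1 : (l * x ^ 2 + m * x + n - t) ^ 2 = 0 := by
          linear_combination h x + (t ^ 2 - (l * x ^ 2 + m * x + n) * t) * h20
        exact pow_eq_zero_iff (two_ne_zero) |>.1 h1
      · rw [hP, Finset.card_univ]; omega
    rw [h0] at hP
    simp at hP

namespace MG
variable {G : Type*} [Group G] {F : Type*} [Field F] (M : MG G F)

theorem tr_conj_mul {g h : G} (c : G) : M.tr (c * g * c⁻¹ * h) = M.tr (g * (c⁻¹ * h * c)) := by
  apply M.tr_conj
  refine isConj_iff.2 ⟨c⁻¹, ?_⟩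
  group

/-- a non-scalar element has a conjugate with non-zero lower left entry -/
theorem exists_conj_10 {g : G} (hs : ¬ M.Sc g) : ∃ c : G, M.m (c * g * c⁻¹) 1 0 ≠ 0 := by
  by_cases h10 : M.m g 1 0 = 0
  · by_cases h01 : M.m g 0 1 = 0
    · have hd : M.m g 0 0 - M.m g 1 1 ≠ 0 := fun h => hs ⟨h01, h10, by linear_combination h⟩
      obtain ⟨c, hc⟩ := M.ex1 !![1, 0; 1, 1] (by simp)
      have c00 : M.m c 0 0 = 1 := by rw [hc]; rfl
      have c01 : M.m c 0 1 = 0 := by rw [hc]; rfl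
      have c10 : M.m c 1 0 = 1 := by rw [hc]; rfl
      have c11 : M.m c 1 1 = 1 := by rw [hc]; rfl
      have hdt : (M.dt c)⁻¹ = 1 := by rw [dt, c00, c01, c10, c11]; norm_num
      refine ⟨c, ?_⟩
      rw [mul10, mul10, mul11, inv00, inv10, hdt, c10, c11, h10, h01]
      intro h
      apply hd
      linear_combination h
    · refine ⟨M.w, ?_⟩
      have hdt : (M.dt M.w)⁻¹ = 1 := by rw [dt_w, inv_one]
      rw [mul10, mul10, mul11, inv00, inv10, hdt, w10, w11, h10]
      intro h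
      apply h01
      linear_combination -h
  · exact ⟨1, by simpa using h10⟩

theorem tr_quad (a b : G) (x : F) : M.tr (a * (M.u x * b * (M.u x)⁻¹)) =
    (-(M.m a 1 0 * M.m b 1 0)) * x ^ 2 +
      (M.m a 0 0 * M.m b 1 0 + M.m a 1 0 * (M.m b 1 1 - M.m b 0 0) - M.m a 1 1 * M.m b 1 0) * x +
      (M.m a 0 0 * M.m b 0 0 + M.m a 0 1 * M.m b 1 0 + M.m a 1 0 * M.m b 0 1 + M.m a 1 1 * M.m b 1 1) := by
  have hdt : (M.dt (M.u x))⁻¹ = 1 := by rw [dt_u, inv_one]
  rw [tr]
  simp only [mul00, mul01, mul10, mul11, inv00, inv01, inv10, inv11, hdt, u00, u01, u10, u11]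
  ring

variable [Fintype F] [DecidableEq F] [Fintype G] (hM : M.IsSL)

include hM in
theorem tr_of_mk {g h : G} (hc : IsConj (QuotientGroup.mk' (Subgroup.center G) g) (QuotientGroup.mk' (Subgroup.center G) h)) :
    M.tr h ^ 2 = M.tr g ^ 2 := by
  obtain ⟨d', hd⟩ := isConj_iff.1 hc
  obtain ⟨d, rfl⟩ := QuotientGroup.mk'_surjective _ d'
  rw [← map_inv, ← map_mul, ← map_mul] at hd
  have h1 : ((d * g * d⁻¹ : G) : G ⧸ Subgroup.center G) = ((h : G) : G ⧸ Subgroup.center G) := hd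
  rw [QuotientGroup.eq] at h1
  have h2 : h = d * g * d⁻¹ * ((d * g * d⁻¹)⁻¹ * h) := by group
  have h3 : M.tr (d * g * d⁻¹) = M.tr g := (M.tr_conj (isConj_iff.2 ⟨d, rfl⟩)).symm
  rcases M.Sc_SL hM (M.Sc_of_center h1) with h4 | h4
  · rw [h4, mul_one] at h2
    rw [h2, h3]
  · rw [h4, ← M.ng_comm] at h2
    rw [h2, tr_ng, h3, neg_sq]

include hM in
theorem arad_herzog (hq : 4 ≤ Fintype.card F) (a b c : G ⧸ Subgroup.center G) (ha : a ≠ 1) (hb : b ≠ 1) :
    {g : G ⧸ Subgroup.center G | ∃ u v : G ⧸ Subgroup.center G, g = (u * a * u⁻¹) * (v * b * v⁻¹)} ≠ {g | IsConj c g} := by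
  intro heq
  obtain ⟨A, rfl⟩ := QuotientGroup.mk'_surjective _ a
  obtain ⟨B, rfl⟩ := QuotientGroup.mk'_surjective _ b
  obtain ⟨C, rfl⟩ := QuotientGroup.mk'_surjective _ c
  have hA : ¬ M.Sc A := fun h => ha (M.mk_one_iff.2 h)
  have hB : ¬ M.Sc B := fun h => hb (M.mk_one_iff.2 h)
  obtain ⟨d, hd⟩ := M.exists_conj_10 hA
  obtain ⟨e, he⟩ := M.exists_conj_10 hB
  have key : ∀ x : F, M.tr (d * A * d⁻¹ * (M.u x * (e * B * e⁻¹) * (M.u x)⁻¹)) ^ 2 = M.tr C ^ 2 := by
    intro x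
    apply M.tr_of_mk hM
    have h1 : QuotientGroup.mk' (Subgroup.center G) (d * A * d⁻¹ * (M.u x * (e * B * e⁻¹) * (M.u x)⁻¹)) ∈
      {g : G ⧸ Subgroup.center G | ∃ u v : G ⧸ Subgroup.center G, g = (u * QuotientGroup.mk' (Subgroup.center G) A * u⁻¹) * (v * QuotientGroup.mk' (Subgroup.center G) B * v⁻¹)} := by
      refine ⟨QuotientGroup.mk' (Subgroup.center G) d, QuotientGroup.mk' (Subgroup.center G) (M.u x * e), ?_⟩
      rw [← map_inv, ← map_inv, ← map_mul, ← map_mul, ← map_mul, ← map_mul, ← map_mul]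
      congr 1
      group
    rw [heq] at h1
    exact h1
  simp only [M.tr_quad] at key
  exact quad_not_all hq (neg_ne_zero.2 (mul_ne_zero hd he)) key

end MG

end CfsgH6
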