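import Cfsg.Agent.H6.Sl15
import Cfsg.Agent.H4.Prod
set_option autoImplicit false

namespace CfsgH6
open Cfsg CfsgH4
open scoped ComplexConjugate

theorem deg_nat {Γ : Type*} [Group Γ] {χ : Γ → ℂ} (h : IsIrrCharacter Γ χ) : χ 1 = (charDegree χ : ℂ) := by
  obtain ⟨n, hn⟩ := IsCharacter.one_nat (IsIrr.isCharacter h)
  rw [charDegree, hn]; simp

namespace MG
variable {G : Type*} [Group G] {F : Type*} [Field F] (M : MG G F)
variable [Fintype F] [DecidableEq F] [Fintype G] (hM : M.IsSL)

include hM in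
theorem deg_p_dvd (p : ℕ) [hp : Fact p.Prime] [hc : CharP F p] {χ : G → ℂ} (hχ : IsIrrCharacter G χ) {d : ℕ}
    (hd : χ 1 = (d : ℂ)) (hpd : p ∣ d) : χ = M.sta 1 := by
  have hpq : p ∣ Fintype.card F := (CharP.cast_eq_zero_iff F p (Fintype.card F)).1 (Nat.cast_card_eq_zero F)
  have hq1 := Fintype.one_lt_card (α := F)
  have hno : ∀ m : ℕ, p ∣ m → m ∣ Fintype.card F + 1 → False := by
    intro m h1 h2
    have h3 := (Nat.dvd_add_right hpq).1 (h1.trans h2)
    exact hp.out.one_lt.ne' (Nat.dvd_one.1 h3)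
  have hno' : ∀ m : ℕ, p ∣ m → m ∣ Fintype.card F - 1 → False := by
    intro m h1 h2
    have h3 := Nat.dvd_sub hpq (h1.trans h2)
    have e : Fintype.card F - (Fintype.card F - 1) = 1 := by omega
    rw [e] at h3
    exact hp.out.one_lt.ne' (Nat.dvd_one.1 h3)
  rcases Nat.even_or_odd (Fintype.card F) with he | ho
  · have hp2 : p = 2 := by
      haveI h2 := charP_two_of_even he
      exact CharP.eq F hc h2
    subst hp2
    rcases M.irr_SL_even hM hχ with h | h | ⟨γ, _, h⟩ | ⟨_, h, _⟩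
    · exfalso
      rw [h, M.lin_one] at hd
      have : d = 1 := by exact_mod_cast hd.symm
      rw [this] at hpd
      exact hno' 1 hpd (one_dvd _)
    · exact h
    · exfalso
      rw [h, ps_one] at hd
      have : d = Fintype.card F + 1 := by exact_mod_cast hd.symm
      exact hno d hpd (by rw [this])
    · exfalso
      rw [h, ← sub_cast] at hd
      have : d = Fintype.card F - 1 := by exact_mod_cast hd.symm
      exact hno' d hpd (by rw [this])
  · obtain ⟨e, hne⟩ := exists_nonsq ho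
    have hh := ho
    obtain ⟨k, hk⟩ := hh
    rcases M.irr_SL_odd hne ho hM hχ with ⟨_, b⟩ | ⟨a, _⟩ | ⟨_, b⟩ | ⟨_, b⟩ | ⟨_, b⟩ | ⟨_, b⟩
    · exfalso
      have hd' := Nat.cast_injective (hd.symm.trans b)
      exact hno' d hpd (by rw [hd']; exact one_dvd _)
    · exact a
    · exfalso
      have hd' := Nat.cast_injective (hd.symm.trans b)
      exact hno d hpd (by rw [hd'])
    · exfalso
      have hd' := Nat.cast_injective (hd.symm.trans b)
      exact hno d hpd ⟨2, by omega⟩
    · exfalso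
      have hd' := Nat.cast_injective (hd.symm.trans b)
      exact hno' d hpd (by rw [hd'])
    · exfalso
      have hd' := Nat.cast_injective (hd.symm.trans b)
      exact hno' d hpd ⟨2, by omega⟩

omit [Fintype F] [DecidableEq F] [Fintype G] in
theorem Sc_of_center' {z : G} (hz : z ∈ Subgroup.center G) : M.Sc z := by
  rw [Subgroup.mem_center_iff] at hz
  have h1 := hz (M.u 1)
  have h2 := hz M.w
  have a00 := congrArg (fun g => M.m g 0 0) h1
  have a01 := congrArg (fun g => M.m g 0 1) h1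
  have b11 := congrArg (fun g => M.m g 1 1) h2
  simp only [mul00, mul01, u00, u01, u10, u11] at a00 a01
  simp only [mul11, w01, w10, w11] at b11
  refine ⟨?_, ?_, ?_⟩
  · linear_combination b11 - a00
  · linear_combination a00
  · linear_combination -a01

include hM in
theorem sta_center {z : G} (hz : z ∈ Subgroup.center G) : M.sta 1 z = M.sta 1 1 := by
  have hs := M.Sc_of_center' hz
  have hb := M.B_ne (g := z) hs.2.1
  rw [sta_one, sta, M.ps_scalar 1 1 hs.1 hs.2.1 hs.2.2, M.lin_SL hM, MulChar.one_apply hb.1.isUnit]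
  ring

include hM in
theorem psl_p_singular (p : ℕ) [hp : Fact p.Prime] [hc : CharP F p] :
    Nat.card {χ : IrrCharacter (G ⧸ Subgroup.center G) // p ∣ charDegree (χ : (G ⧸ Subgroup.center G) → ℂ)} = 1 ∧
    ∀ χ : IrrCharacter (G ⧸ Subgroup.center G), p ∣ charDegree (χ : (G ⧸ Subgroup.center G) → ℂ) →
      charDegree (χ : (G ⧸ Subgroup.center G) → ℂ) = Fintype.card F := by
  have hpq : p ∣ Fintype.card F := (CharP.cast_eq_zero_iff F p (Fintype.card F)).1 (Nat.cast_card_eq_zero F)
  have key : ∀ χ : IrrCharacter (G ⧸ Subgroup.center G), p ∣ charDegree (χ : (G ⧸ Subgroup.center G) → ℂ) →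
      (fun g : G => (χ : (G ⧸ Subgroup.center G) → ℂ) (g : G ⧸ Subgroup.center G)) = M.sta 1 := by
    intro χ h
    refine M.deg_p_dvd hM p (isIrr_inflate (Subgroup.center G) χ.2) (d := charDegree (χ : (G ⧸ Subgroup.center G) → ℂ)) ?_ h
    exact deg_nat χ.2
  have hdeg : ∀ χ : IrrCharacter (G ⧸ Subgroup.center G),
      (fun g : G => (χ : (G ⧸ Subgroup.center G) → ℂ) (g : G ⧸ Subgroup.center G)) = M.sta 1 →
      charDegree (χ : (G ⧸ Subgroup.center G) → ℂ) = Fintype.card F := by
    intro χ h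
    have h1 := congrFun h 1
    have h2 : (χ : (G ⧸ Subgroup.center G) → ℂ) 1 = M.sta 1 1 := h1
    rw [deg_nat χ.2, M.sta_one] at h2
    exact_mod_cast h2
  refine ⟨?_, fun χ h => hdeg χ (key χ h)⟩
  obtain ⟨ψ, hψ, hψ2⟩ := exists_irr_of_ker (Subgroup.center G) (M.isIrr_sta_SL hM) (fun n hn => M.sta_center hM hn)
  rw [Nat.card_eq_one_iff_exists]
  refine ⟨⟨⟨ψ, hψ⟩, ?_⟩, ?_⟩
  · rw [hdeg ⟨ψ, hψ⟩ hψ2.symm]; exact hpq
  · rintro ⟨χ, hχ⟩
    apply Subtype.ext
    apply Subtype.ext
    funext x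
    obtain ⟨g, rfl⟩ := QuotientGroup.mk_surjective x
    have h1 := congrFun (key χ hχ) g
    have h2 := congrFun hψ2 g
    exact h1.trans h2

end MG

end CfsgH6
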