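import Mathlib
set_option autoImplicit false

namespace CfsgH6
open Matrix

namespace I2
variable {F : Type*} [Field F] {n : ℕ}

def NN (F : Type*) [Field F] (n l : ℕ) : Matrix (Fin n) (Fin n) F :=
  Matrix.of (fun i j : Fin n => if j.val < l ∧ i.val = j.val + (n - l) then (1 : F) else 0)

theorem NN_apply (l : ℕ) (i j : Fin n) : NN F n l i j = if j.val < l ∧ i.val = j.val + (n - l) then (1 : F) else 0 := rfl

theorem NN_sq {l : ℕ} (h2 : 2 * l ≤ n) : NN F n l * NN F n l = 0 := by
  ext i k
  rw [Matrix.mul_apply]
  refine Finset.sum_eq_zero fun j _ => ?_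
  rw [NN_apply, NN_apply]
  by_cases h : j.val < l ∧ i.val = j.val + (n - l)
  · rw [if_neg (c := k.val < l ∧ j.val = k.val + (n - l)) (by omega), mul_zero]
  · rw [if_neg h, zero_mul]

theorem rank_NN {l : ℕ} (h2 : 2 * l ≤ n) : (NN F n l).rank = l := by
  let f : Fin l → Fin n := fun j => ⟨j.val + (n - l), by omega⟩
  let g : Fin l → Fin n := fun j => ⟨j.val, by omega⟩
  apply le_antisymm
  · have h : NN F n l = ((NN F n l).submatrix id g) * ((1 : Matrix (Fin n) (Fin n) F).submatrix g id) := by
      ext i k
      rw [Matrix.mul_apply]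
      simp only [Matrix.submatrix_apply, id]
      by_cases hk : k.val < l
      · rw [Finset.sum_eq_single ⟨k.val, hk⟩]
        · show NN F n l i k = NN F n l i k * (1 : Matrix (Fin n) (Fin n) F) k k
          rw [Matrix.one_apply_eq, mul_one]
        · intro j _ hj
          have : g j ≠ k := by
            intro h
            have h' : j.val = k.val := congrArg Fin.val h
            exact hj (Fin.ext h')
          show NN F n l i (g j) * (1 : Matrix (Fin n) (Fin n) F) (g j) k = 0
          rw [Matrix.one_apply_ne this, mul_zero]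
        · intro h; exact absurd (Finset.mem_univ _) h
      · rw [NN_apply, if_neg (fun h => hk h.1)]
        symm
        refine Finset.sum_eq_zero fun j _ => ?_
        have : g j ≠ k := fun h => hk (by rw [← h]; exact j.2)
        show NN F n l i (g j) * (1 : Matrix (Fin n) (Fin n) F) (g j) k = 0
        rw [Matrix.one_apply_ne this, mul_zero]
    calc (NN F n l).rank = _ := congrArg Matrix.rank h
      _ ≤ ((NN F n l).submatrix id g).rank := Matrix.rank_mul_le_left _ _
      _ ≤ l := by
        have := Matrix.rank_le_card_width ((NN F n l).submatrix id g)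
        simpa using this
  · have h : (1 : Matrix (Fin n) (Fin n) F).submatrix f id * (NN F n l) * (1 : Matrix (Fin n) (Fin n) F).submatrix id g = 1 := by
      have e1 : (1 : Matrix (Fin n) (Fin n) F).submatrix f id * (NN F n l) = (NN F n l).submatrix f id := by
        ext i j
        rw [Matrix.mul_apply]
        simp only [Matrix.submatrix_apply, id, Matrix.one_apply, ite_mul, one_mul, zero_mul, Finset.sum_ite_eq, Finset.mem_univ, if_true]
      rw [e1]
      ext i j
      rw [Matrix.mul_apply]
      simp only [Matrix.submatrix_apply, id, Matrix.one_apply, mul_ite, mul_one, mul_zero, Finset.sum_ite_eq', Finset.mem_univ, if_true]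
      rw [NN_apply]
      have : (((g j : Fin n).val < l ∧ (f i : Fin n).val = (g j : Fin n).val + (n - l)) ↔ i = j) := by
        show (j.val < l ∧ i.val + (n - l) = j.val + (n - l)) ↔ i = j
        rw [Fin.ext_iff]; omega
      simp only [this]
    have h1 : ((1 : Matrix (Fin l) (Fin l) F)).rank = l := by rw [Matrix.rank_one, Fintype.card_fin]
    calc l = (1 : Matrix (Fin l) (Fin l) F).rank := h1.symm
      _ = _ := by rw [← h]
      _ ≤ _ := Matrix.rank_mul_le_left _ _
      _ ≤ _ := Matrix.rank_mul_le_right _ _

theorem main [CharP F 2] {l : ℕ} (h1 : 1 ≤ l) (h2 : 2 * l ≤ n) :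
    ∃ a : Matrix.SpecialLinearGroup (Fin n) F, (a : Matrix (Fin n) (Fin n) F) = 1 + NN F n l ∧ orderOf a = 2 ∧
      ((a : Matrix (Fin n) (Fin n) F) - 1).rank = l := by
  have hc : (2 : F) = 0 := by exact_mod_cast CharP.cast_eq_zero F 2
  have hsq : (1 + NN F n l) * (1 + NN F n l) = 1 := by
    have h3 : NN F n l + NN F n l = 0 := by
      rw [← two_smul F (NN F n l), hc, zero_smul]
    rw [mul_add, mul_one, add_mul, one_mul, NN_sq h2, add_zero, add_assoc, h3, add_zero]
  have hd : (1 + NN F n l).det = 1 := by
    have h3 : (1 + NN F n l).det * (1 + NN F n l).det = 1 := by rw [← Matrix.det_mul, hsq, Matrix.det_one]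
    have h4 : ((1 + NN F n l).det - 1) ^ 2 = 0 := by
      linear_combination h3 + (1 - (1 + NN F n l).det) * hc
    exact sub_eq_zero.1 (pow_eq_zero_iff two_ne_zero |>.1 h4)
  let a : Matrix.SpecialLinearGroup (Fin n) F := ⟨1 + NN F n l, hd⟩
  refine ⟨a, rfl, ?_, ?_⟩
  · apply orderOf_eq_prime
    · rw [sq]
      exact Subtype.ext hsq
    · intro h
      have h3 : (1 : Matrix (Fin n) (Fin n) F) + NN F n l = 1 := congrArg Subtype.val h
      have h4 : NN F n l = 0 := by simpa using h3
      have h5 := rank_NN (F := F) h2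
      rw [h4, Matrix.rank_zero] at h5
      omega
  · show ((1 + NN F n l) - 1).rank = l
    rw [add_sub_cancel_left, rank_NN h2]

end I2

end CfsgH6
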