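import Cfsg.Agent.H6.Sl3
set_option autoImplicit false

namespace CfsgH6
open Cfsg CfsgH4
open scoped ComplexConjugate

namespace MG
variable {G : Type*} [Group G] {F : Type*} [Field F] (M : MG G F)

def tr (g : G) : F := M.m g 0 0 + M.m g 1 1

theorem tr_eq (g : G) : M.tr g = (M.m g).trace := by rw [Matrix.trace_fin_two]; rfl

theorem tr_conj {g h : G} (hc : IsConj g h) : M.tr g = M.tr h := by
  obtain ⟨c, rfl⟩ := isConj_iff.1 hc
  rw [tr_eq, tr_eq, map_mul, map_mul, Matrix.trace_mul_comm, ← mul_assoc, ← map_mul, inv_mul_cancel,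
    map_one, one_mul]

theorem dt_conj {g h : G} (hc : IsConj g h) : M.dt g = M.dt h := by
  obtain ⟨c, rfl⟩ := isConj_iff.1 hc
  rw [dt_mul, dt_mul, dt_inv]
  have := M.dt_ne c
  field_simp

/-- scalar elements -/
def Sc (g : G) : Prop := M.m g 0 1 = 0 ∧ M.m g 1 0 = 0 ∧ M.m g 0 0 = M.m g 1 1

theorem Sc.comm {M : MG G F} {g : G} (h : M.Sc g) (k : G) : g * k = k * g := by
  obtain ⟨h1, h2, h3⟩ := h
  refine M.ext ?_ ?_ ?_ ?_ <;> simp only [mul00, mul01, mul10, mul11, h1, h2, h3] <;> ring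

theorem Sc.conj {M : MG G F} {g h : G} (hg : M.Sc g) (hc : IsConj g h) : g = h := by
  obtain ⟨c, rfl⟩ := isConj_iff.1 hc
  rw [← hg.comm c, mul_inv_cancel_right]

theorem Sc.conj' {M : MG G F} {g h : G} (hg : M.Sc g) (hc : IsConj h g) : h = g := (hg.conj hc.symm).symm

theorem conj_cp (g k h : G) (x y : F) (k00 : M.m k 0 0 = x) (k01 : M.m k 0 1 = M.m g 0 0 * x + M.m g 0 1 * y)
    (k10 : M.m k 1 0 = y) (k11 : M.m k 1 1 = M.m g 1 0 * x + M.m g 1 1 * y)
    (h00 : M.m h 0 0 = 0) (h01 : M.m h 0 1 = - M.dt g) (h10 : M.m h 1 0 = 1) (h11 : M.m h 1 1 = M.tr g) :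
    IsConj g h := by
  refine isConj_iff.2 ⟨k⁻¹, ?_⟩
  have h1 : g * k = k * h := by
    refine M.ext ?_ ?_ ?_ ?_ <;>
      simp only [mul00, mul01, mul10, mul11, k00, k01, k10, k11, h00, h01, h10, h11, dt, tr] <;> ring
  rw [inv_inv, mul_assoc, h1, inv_mul_cancel_left]

/-- the quadratic form attached to an element -/
def Q (g : G) (x y : F) : F := M.m g 1 0 * x ^ 2 + (M.m g 1 1 - M.m g 0 0) * x * y - M.m g 0 1 * y ^ 2

theorem Q_smul (g : G) (s x y : F) : M.Q g (s * x) (s * y) = s ^ 2 * M.Q g x y := by rw [Q, Q]; ring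

theorem exists_Q_ne {g : G} (hg : ¬ M.Sc g) : ∃ x y, M.Q g x y ≠ 0 := by
  by_contra hc
  push Not at hc
  have h1 := hc 1 0
  have h2 := hc 0 1
  have h3 := hc 1 1
  simp only [Q] at h1 h2 h3
  apply hg
  have e1 : M.m g 1 0 = 0 := by linear_combination h1
  have e2 : M.m g 0 1 = 0 := by linear_combination -h2
  refine ⟨e2, e1, ?_⟩
  rw [e1, e2] at h3
  linear_combination -h3

theorem Q_comb (g : G) (x y r s : F) :
    M.Q g (r * x + s * (M.m g 0 0 * x + M.m g 0 1 * y)) (r * y + s * (M.m g 1 0 * x + M.m g 1 1 * y)) =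
      (r ^ 2 + M.tr g * r * s + M.dt g * s ^ 2) * M.Q g x y := by
  simp only [Q, tr, dt]; ring

theorem conj_of_Q {g h : G} (x y : F) (hQ : M.Q g x y ≠ 0) (k : G) (hk : M.dt k = M.Q g x y)
    (h00 : M.m h 0 0 = 0) (h01 : M.m h 0 1 = - M.dt g) (h10 : M.m h 1 0 = 1) (h11 : M.m h 1 1 = M.tr g) :
    IsConj g h := by
  obtain ⟨k', hk'⟩ := M.ex k !![x, M.m g 0 0 * x + M.m g 0 1 * y; y, M.m g 1 0 * x + M.m g 1 1 * y] (by
    rw [← dt_eq, hk, Matrix.det_fin_two, Q]
    simp
    ring)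
  exact M.conj_cp g k' h x y (by rw [hk']; rfl) (by rw [hk']; rfl) (by rw [hk']; rfl) (by rw [hk']; rfl) h00
    h01 h10 h11

theorem conj_of_Q_one {g h : G} (x y : F) (hQ : M.Q g x y = 1)
    (h00 : M.m h 0 0 = 0) (h01 : M.m h 0 1 = - M.dt g) (h10 : M.m h 1 0 = 1) (h11 : M.m h 1 1 = M.tr g) :
    IsConj g h :=
  M.conj_of_Q x y (by rw [hQ]; exact one_ne_zero) 1 (by rw [hQ, dt_one]) h00 h01 h10 h11

/-- GL type: nonscalar elements with the same trace and determinant are conjugate -/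
theorem conj_GL (hM : M.IsGL) {g h : G} (hg : ¬ M.Sc g) (h00 : M.m h 0 0 = 0) (h01 : M.m h 0 1 = - M.dt g)
    (h10 : M.m h 1 0 = 1) (h11 : M.m h 1 1 = M.tr g) : IsConj g h := by
  obtain ⟨x, y, hQ⟩ := M.exists_Q_ne hg
  obtain ⟨k, hk⟩ := hM !![M.Q g x y, 0; 0, 1] (by rw [Matrix.det_fin_two]; simpa using hQ)
  refine M.conj_of_Q x y hQ k ?_ h00 h01 h10 h11
  rw [dt_eq, hk, Matrix.det_fin_two]; simp

theorem conj_GL' (hM : M.IsGL) {g g' : G} (hg : ¬ M.Sc g) (hg' : ¬ M.Sc g') (ht : M.tr g = M.tr g')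
    (hd : M.dt g = M.dt g') : IsConj g g' := by
  obtain ⟨h, hh⟩ := hM !![0, -M.dt g; 1, M.tr g] (by rw [Matrix.det_fin_two]; simpa using M.dt_ne g)
  have h1 := M.conj_GL hM (h := h) hg (by rw [hh]; rfl) (by rw [hh]; rfl) (by rw [hh]; rfl) (by rw [hh]; rfl)
  have h2 := M.conj_GL hM (h := h) hg' (by rw [hh]; rfl) (by rw [hh, ← hd]; rfl) (by rw [hh]; rfl)
    (by rw [hh, ← ht]; rfl)
  exact h1.trans h2.symm

theorem cp_not_Sc {h : G} (h10 : M.m h 1 0 = 1) : ¬ M.Sc h := by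
  intro hs
  rw [hs.2.1] at h10
  exact zero_ne_one h10

/-- number of classes, GL type -/
theorem card_classes_GL (hM : M.IsGL) [Fintype F] :
    Nat.card (ConjClasses G) = Fintype.card F ^ 2 - 1 := by
  classical
  have e1 : ∀ p : F × Fˣ, ∃ h : G, M.m h = !![0, -(p.2 : F); 1, p.1] := fun p =>
    hM _ (by rw [Matrix.det_fin_two]; simp)
  have e2 : ∀ a : Fˣ, ∃ h : G, M.m h = !![(a : F), 0; 0, (a : F)] := fun a =>
    hM _ (by rw [Matrix.det_fin_two]; simp)
  choose c hc using e1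
  choose s hs using e2
  have hcs : ∀ p, ¬ M.Sc (c p) := fun p => M.cp_not_Sc (by rw [hc]; rfl)
  have hss : ∀ a, M.Sc (s a) := fun a => ⟨by rw [hs]; rfl, by rw [hs]; rfl, by rw [hs]; rfl⟩
  have htc : ∀ p, M.tr (c p) = p.1 := fun p => by rw [tr, hc]; simp
  have hdc : ∀ p, M.dt (c p) = p.2 := fun p => by rw [dt, hc]; simp
  let f : (F × Fˣ) ⊕ Fˣ → ConjClasses G := Sum.elim (fun p => ConjClasses.mk (c p)) (fun a => ConjClasses.mk (s a))
  have hf : Function.Bijective f := by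
    constructor
    · rintro (p | a) (p' | a') h
      · have h1 : IsConj (c p) (c p') := ConjClasses.mk_eq_mk_iff_isConj.1 h
        have h2 := M.tr_conj h1
        have h3 := M.dt_conj h1
        rw [htc, htc] at h2
        rw [hdc, hdc] at h3
        rw [Prod.ext h2 (Units.ext h3)]
      · have h1 : IsConj (c p) (s a') := ConjClasses.mk_eq_mk_iff_isConj.1 h
        exact absurd ((hss a').conj' h1 ▸ hss a') (hcs p)
      · have h1 : IsConj (s a) (c p') := ConjClasses.mk_eq_mk_iff_isConj.1 h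
        exact absurd ((hss a).conj h1 ▸ hss a) (hcs p')
      · have h1 : IsConj (s a) (s a') := ConjClasses.mk_eq_mk_iff_isConj.1 h
        have h2 := (hss a).conj h1
        have h3 : M.m (s a) 0 0 = M.m (s a') 0 0 := by rw [h2]
        rw [hs, hs] at h3
        exact congrArg Sum.inr (Units.ext h3)
    · intro C
      induction C using Quotient.inductionOn with
      | h g =>
        by_cases hg : M.Sc g
        · have hb := (M.B_ne (g := g) hg.2.1).1
          refine ⟨Sum.inr (Units.mk0 _ hb), ?_⟩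
          show ConjClasses.mk _ = ConjClasses.mk g
          congr 1
          exact M.ext (by rw [hs]; rfl) (by rw [hs, hg.1]; rfl) (by rw [hs, hg.2.1]; rfl)
            (by rw [hs, ← hg.2.2]; rfl)
        · refine ⟨Sum.inl (M.tr g, Units.mk0 _ (M.dt_ne g)), ?_⟩
          show ConjClasses.mk _ = ConjClasses.mk g
          rw [ConjClasses.mk_eq_mk_iff_isConj]
          exact M.conj_GL' hM (hcs _) hg (htc _) (hdc _)
  rw [← Nat.card_congr (Equiv.ofBijective f hf), Nat.card_eq_fintype_card, Fintype.card_sum, Fintype.card_prod,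
    Fintype.card_units]
  have : 1 ≤ Fintype.card F := Fintype.card_pos
  obtain ⟨n, hn⟩ := Nat.exists_eq_add_of_le this
  rw [hn]
  simp only [Nat.add_sub_cancel_left]
  rw [show (1 + n) ^ 2 = 1 + (n * n + 2 * n) by ring, Nat.add_sub_cancel_left]
  ring

theorem conj_SL {g h : G} {x y : F} (hM : M.IsSL) (hQ : M.Q g x y = 1)
    (h00 : M.m h 0 0 = 0) (h01 : M.m h 0 1 = - 1) (h10 : M.m h 1 0 = 1) (h11 : M.m h 1 1 = M.tr g) :
    IsConj g h :=
  M.conj_of_Q_one x y hQ h00 (by rw [h01, hM g]) h10 h11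

variable [Fintype F]

theorem univ_form (hodd : Odd (Fintype.card F)) {t : F} (ht : t ^ 2 ≠ 4) (e : F) :
    ∃ r s : F, r ^ 2 + t * r * s + s ^ 2 = e := by
  classical
  have h2 : (2 : F) ≠ 0 := by
    intro h
    have hc : CharP F 2 := by
      apply CharTwo.of_one_ne_zero_of_two_eq_zero one_ne_zero h
    have := FiniteField.even_card_of_char_two (F := F) (by exact ringChar.eq F 2)
    rw [Nat.odd_iff] at hodd
    omega
  have h4 : (4 : F) ≠ 0 := by
    have : (4 : F) = 2 * 2 := by norm_num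
    rw [this]; exact mul_ne_zero h2 h2
  have hc : (1 - t ^ 2 / 4 : F) ≠ 0 := by
    intro h
    apply ht
    field_simp at h
    linear_combination -h
  obtain ⟨a, b, hab⟩ := FiniteField.exists_root_sum_quadratic (R := F)
    (f := Polynomial.X ^ 2) (g := Polynomial.C (1 - t ^ 2 / 4) * Polynomial.X ^ 2 - Polynomial.C e)
    (Polynomial.degree_X_pow 2) (by
      rw [Polynomial.degree_sub_eq_left_of_degree_lt, Polynomial.degree_C_mul_X_pow 2 hc]
      · rfl
      · rw [Polynomial.degree_C_mul_X_pow 2 hc]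
        exact lt_of_le_of_lt Polynomial.degree_C_le (by decide))
    (Nat.odd_iff.1 hodd)
  simp only [Polynomial.eval_pow, Polynomial.eval_X, Polynomial.eval_sub, Polynomial.eval_mul,
    Polynomial.eval_C] at hab
  refine ⟨a - t * b / 2, b, ?_⟩
  field_simp
  field_simp at hab
  linear_combination hab

end MG

end CfsgH6
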