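import Cfsg.Prelude.Def_Classical
import Mathlib
set_option autoImplicit false

namespace CfsgH6
open Matrix Cfsg

namespace DQ
variable {F : Type*} [Field F] {m : ℕ}

def J (F : Type*) [Field F] (m : ℕ) : Matrix (Fin m ⊕ Fin m) (Fin m ⊕ Fin m) F := Matrix.fromBlocks 0 1 1 0

theorem det_J : (J F m).det = (-1) ^ m := by
  have h1 : J F m * Matrix.fromBlocks 1 0 1 1 = Matrix.fromBlocks 1 1 1 0 := by
    rw [J, Matrix.fromBlocks_multiply]; simp
  have h2 : (Matrix.fromBlocks (1 : Matrix (Fin m) (Fin m) F) (0 : Matrix (Fin m) (Fin m) F) (1 : Matrix (Fin m) (Fin m) F) (1 : Matrix (Fin m) (Fin m) F)).det = 1 := by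
    rw [Matrix.det_fromBlocks_zero₁₂]; simp
  have h3 := congrArg Matrix.det h1
  rw [Matrix.det_mul, h2, mul_one, Matrix.det_fromBlocks_one₁₁] at h3
  rw [h3, Matrix.one_mul, zero_sub, Matrix.det_neg, Matrix.det_one, Fintype.card_fin, mul_one]

theorem polar_eq (x y : Fin m ⊕ Fin m → F) : QuadraticMap.polar (Cfsg.quadFormPlus m F) x y = x ⬝ᵥ (J F m *ᵥ y) := by
  rw [QuadraticMap.polar, J, Matrix.fromBlocks_mulVec]
  simp only [quadFormPlus, dotProduct, Fintype.sum_sum_type, Sum.elim_inl, Sum.elim_inr, Matrix.zero_mulVec, Matrix.one_mulVec,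
    zero_add, add_zero, Pi.add_apply, Function.comp_apply]
  rw [← Finset.sum_sub_distrib, ← Finset.sum_sub_distrib, ← Finset.sum_add_distrib]
  refine Finset.sum_congr rfl fun i _ => ?_
  ring

theorem main [Fintype F] {q : ℕ} (hF : Fintype.card F = q) (hq : Odd q) {ι : Type*} [Fintype ι] [DecidableEq ι]
    (b : Module.Basis ι F (Fin m ⊕ Fin m → F)) :
    IsSquare (Matrix.of (fun i j : ι => QuadraticMap.polar (Cfsg.quadFormPlus m F) (b i) (b j))).det ↔ Even (m * (q - 1) / 2) := by
  classical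
  let e : ι ≃ Fin m ⊕ Fin m := b.indexEquiv (Pi.basisFun F (Fin m ⊕ Fin m))
  let c := b.reindex e
  let B : Matrix (Fin m ⊕ Fin m) (Fin m ⊕ Fin m) F := Matrix.of fun k j => c j k
  have hB : B = (Pi.basisFun F (Fin m ⊕ Fin m)).toMatrix c := by
    ext k j
    rw [Module.Basis.toMatrix_apply, Pi.basisFun_repr]; rfl
  have hdB : B.det ≠ 0 := by
    have h := (Pi.basisFun F (Fin m ⊕ Fin m)).isUnit_det c
    rw [Module.Basis.det_apply, ← hB] at h
    exact h.ne_zero
  have hG : Matrix.of (fun i j : ι => QuadraticMap.polar (Cfsg.quadFormPlus m F) (b i) (b j)) = (Bᵀ * J F m * B).submatrix e e := by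
    ext i j
    rw [Matrix.of_apply, polar_eq, Matrix.submatrix_apply, Matrix.mul_assoc, Matrix.mul_apply]
    have h1 : ∀ i, b i = c (e i) := fun i => by
      show b i = (b.reindex e) (e i)
      rw [Module.Basis.reindex_apply, Equiv.symm_apply_apply]
    rw [h1, h1]
    rfl
  rw [hG, Matrix.det_submatrix_equiv_self, Matrix.det_mul, Matrix.det_mul, Matrix.det_transpose, det_J]
  have h1 : IsSquare (B.det * (-1) ^ m * B.det) ↔ IsSquare ((-1 : F) ^ m) := by
    constructor
    · rintro ⟨r, hr⟩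
      refine ⟨r / B.det, ?_⟩
      field_simp
      linear_combination hr
    · rintro ⟨r, hr⟩
      refine ⟨r * B.det, ?_⟩
      rw [hr]; ring
  rw [h1]
  obtain ⟨h, rfl⟩ := hq
  have h2 : m * (2 * h + 1 - 1) / 2 = m * h := by
    rw [Nat.add_sub_cancel, ← mul_assoc, mul_comm m 2, mul_assoc, Nat.mul_div_cancel_left _ (by norm_num)]
  rw [h2, Nat.even_mul]
  rcases Nat.even_or_odd m with hm | hm
  · rw [hm.neg_one_pow]
    exact ⟨fun _ => Or.inl hm, fun _ => IsSquare.one⟩
  · rw [hm.neg_one_pow, FiniteField.isSquare_neg_one_iff, hF]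
    have hm' := Nat.not_even_iff_odd.2 hm
    constructor
    · intro h3
      right
      rw [Nat.even_iff]; omega
    · rintro (h3 | h3)
      · exact absurd h3 hm'
      · rw [Nat.even_iff] at h3; omega

end DQ

end CfsgH6
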