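import Cfsg.Agent.H6.Sl4
set_option autoImplicit false

namespace CfsgH6
open Cfsg CfsgH4
open scoped ComplexConjugate

theorem two_ne_of_odd {F : Type*} [Field F] [Fintype F] (hodd : Odd (Fintype.card F)) : (2 : F) ≠ 0 := by
  intro h
  have hc : CharP F 2 := CharTwo.of_one_ne_zero_of_two_eq_zero one_ne_zero h
  have := FiniteField.even_card_of_char_two (F := F) (by exact ringChar.eq F 2)
  rw [Nat.odd_iff] at hodd
  omega

theorem exists_nonsq {F : Type*} [Field F] [Fintype F] (hodd : Odd (Fintype.card F)) : ∃ e : F, ¬ IsSquare e := by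
  apply FiniteField.exists_nonsquare
  intro h
  have := FiniteField.even_card_of_char_two h
  rw [Nat.odd_iff] at hodd
  omega

theorem nonsq_ratio {F : Type*} [Field F] [Fintype F] {e x : F} (he : ¬ IsSquare e)
    (hx : ¬ IsSquare x) : ∃ a : F, a ≠ 0 ∧ a ^ 2 * e = x := by
  classical
  have he0 : e ≠ 0 := fun h => he (by rw [h]; exact IsSquare.zero)
  have hx0 : x ≠ 0 := fun h => hx (by rw [h]; exact IsSquare.zero)
  have h1 := quadraticChar_neg_one_iff_not_isSquare.2 he
  have h2 := quadraticChar_neg_one_iff_not_isSquare.2 hx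
  have h3 : quadraticChar F (x * e) = 1 := by rw [map_mul, h1, h2]; norm_num
  obtain ⟨s, hs⟩ := (quadraticChar_one_iff_isSquare (mul_ne_zero hx0 he0)).1 h3
  have hs0 : s ≠ 0 := by
    rintro rfl
    rw [mul_zero] at hs
    exact mul_ne_zero hx0 he0 hs
  refine ⟨s / e, div_ne_zero hs0 he0, ?_⟩
  field_simp
  linear_combination -hs

namespace MG
variable {G : Type*} [Group G] {F : Type*} [Field F] (M : MG G F)

theorem conj_u_imp (hM : M.IsSL) {x y : F} (h : IsConj (M.u x) (M.u y)) : ∃ a : F, a ≠ 0 ∧ a ^ 2 * x = y := by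
  obtain ⟨c, hc⟩ := isConj_iff.1 h
  have h1 : c * M.u x = M.u y * c := by rw [← hc]; group
  have e00 := congrArg (fun g => M.m g 0 0) h1
  have e01 := congrArg (fun g => M.m g 0 1) h1
  have e11 := congrArg (fun g => M.m g 1 1) h1
  simp only [mul00, mul01, mul11, u00, u01, u10, u11] at e00 e01 e11
  have hd := hM c
  rw [dt] at hd
  by_cases hc0 : M.m c 1 0 = 0
  · rw [hc0] at hd
    have h2 : M.m c 0 0 * M.m c 1 1 = 1 := by linear_combination hd
    refine ⟨M.m c 0 0, left_ne_zero_of_mul_eq_one h2, ?_⟩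
    linear_combination (M.m c 0 0) * e01 + y * h2
  · have hx : x = 0 := by
      have : M.m c 1 0 * x = 0 := by linear_combination e11
      exact (mul_eq_zero.1 this).resolve_left hc0
    have hy : y = 0 := by
      have : y * M.m c 1 0 = 0 := by linear_combination -e00
      exact (mul_eq_zero.1 this).resolve_right hc0
    exact ⟨1, one_ne_zero, by rw [hx, hy]; ring⟩

theorem conj_u_of {x y a : F} (ha : a ≠ 0) (h : a ^ 2 * x = y) : IsConj (M.u x) (M.u y) := by
  obtain ⟨c, hc⟩ := M.ex1 !![a, 0; 0, a⁻¹] (by rw [Matrix.det_fin_two]; simp [ha])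
  refine isConj_iff.2 ⟨c, ?_⟩
  have h1 : c * M.u x = M.u y * c := by
    refine M.ext ?_ ?_ ?_ ?_ <;> simp only [mul00, mul01, mul10, mul11, u00, u01, u10, u11, hc, ← h] <;>
      simp <;> field_simp
  rw [h1, mul_inv_cancel_right]

theorem u_zero : M.u 0 = 1 :=
  M.ext (by rw [u00, m_one00]) (by rw [u01, m_one01]) (by rw [u10, m_one10]) (by rw [u11, m_one11])

theorem u_add (x y : F) : M.u (x + y) = M.u x * M.u y := by
  refine M.ext ?_ ?_ ?_ ?_ <;> simp only [mul00, mul01, mul10, mul11, u00, u01, u10, u11] <;> ring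

theorem u_inj {x y : F} (h : M.u x = M.u y) : x = y := by
  rw [← M.u01 x, h, u01]

theorem u_pow (x : F) (n : ℕ) : M.u x ^ n = M.u (n * x) := by
  induction n with
  | zero => simp [u_zero]
  | succ n ih => rw [pow_succ, ih, ← u_add]; congr 1; push_cast; ring

theorem tr_u (x : F) : M.tr (M.u x) = 2 := by rw [tr, u00, u11]; norm_num

theorem u_not_Sc {x : F} (hx : x ≠ 0) : ¬ M.Sc (M.u x) := fun h => hx (by rw [← M.u01 x]; exact h.1)

theorem unip_conj {g : G} (hd : M.dt g = 1) (ht : M.tr g = 2) : ∃ x, IsConj (M.u x) g := by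
  by_cases hc : M.m g 1 0 = 0
  · refine ⟨M.m g 0 1, ?_⟩
    rw [dt, hc] at hd
    rw [tr] at ht
    have h1 : (M.m g 0 0 - 1) ^ 2 = 0 := by linear_combination (-hd + M.m g 0 0 * ht)
    have h2 : M.m g 0 0 = 1 := by
      have := pow_eq_zero_iff (two_ne_zero) |>.1 h1
      linear_combination this
    have h3 : M.m g 1 1 = 1 := by rw [h2] at ht; linear_combination ht
    have : M.u (M.m g 0 1) = g := M.ext (by rw [u00, h2]) (by rw [u01]) (by rw [u10, hc]) (by rw [u11, h3])
    rw [this]
  · obtain ⟨c00, c01, c10, c11⟩ := M.conj_uw g ((1 - M.m g 1 1) / M.m g 1 0)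
    refine ⟨- M.m g 1 0, ?_⟩
    rw [dt] at hd
    rw [tr] at ht
    set k := M.u ((1 - M.m g 1 1) / M.m g 1 0) * M.w with hk
    have h1 : k⁻¹ * g * k = M.u (- M.m g 1 0) := by
      refine M.ext ?_ ?_ ?_ ?_
      · rw [c00, u00]; field_simp; ring
      · rw [c01, u01]
      · rw [c10, u10]; field_simp
        linear_combination (-(1 - M.m g 0 0 - M.m g 1 1 + 1)) * 0 + hd - ht
      · rw [c11, u11]; field_simp
        linear_combination (M.m g 1 0) * 0 + ht
    refine IsConj.symm (isConj_iff.2 ⟨k⁻¹, ?_⟩)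
    rw [inv_inv, h1]

/-- the element `-1` -/
noncomputable def ng : G := M.el !![-1, 0; 0, -1] (by simp)

theorem ng00 : M.m M.ng 0 0 = -1 := by rw [ng, m_el]; rfl
theorem ng01 : M.m M.ng 0 1 = 0 := by rw [ng, m_el]; rfl
theorem ng10 : M.m M.ng 1 0 = 0 := by rw [ng, m_el]; rfl
theorem ng11 : M.m M.ng 1 1 = -1 := by rw [ng, m_el]; rfl

theorem ng_comm (g : G) : M.ng * g = g * M.ng := by
  refine M.ext ?_ ?_ ?_ ?_ <;> simp only [mul00, mul01, mul10, mul11, ng00, ng01, ng10, ng11] <;> ring

theorem ng_mul_ng : M.ng * M.ng = 1 := by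
  refine M.ext ?_ ?_ ?_ ?_ <;>
    simp only [mul00, mul01, mul10, mul11, ng00, ng01, ng10, ng11, m_one00, m_one01, m_one10, m_one11] <;> ring

theorem conj_ng {g h : G} (hc : IsConj g h) : IsConj (M.ng * g) (M.ng * h) := by
  obtain ⟨c, rfl⟩ := isConj_iff.1 hc
  refine isConj_iff.2 ⟨c, ?_⟩
  rw [← mul_assoc, ← M.ng_comm c]
  group

theorem conj_ng_iff {g h : G} : IsConj (M.ng * g) (M.ng * h) ↔ IsConj g h := by
  refine ⟨fun hc => ?_, M.conj_ng⟩
  have := M.conj_ng hc
  rwa [← mul_assoc, ← mul_assoc, ng_mul_ng, one_mul, one_mul] at this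

theorem tr_ng (g : G) : M.tr (M.ng * g) = - M.tr g := by
  simp only [tr, mul00, mul11, ng00, ng01, ng10, ng11]; ring

theorem Sc_SL (hM : M.IsSL) {g : G} (hg : M.Sc g) : g = 1 ∨ g = M.ng := by
  have hd := hM g
  rw [dt, hg.1, hg.2.2] at hd
  have h1 : (M.m g 1 1 - 1) * (M.m g 1 1 + 1) = 0 := by linear_combination hd
  rcases mul_eq_zero.1 h1 with h | h
  · left
    have h2 : M.m g 1 1 = 1 := by linear_combination h
    exact M.ext (by rw [hg.2.2, h2, m_one00]) (by rw [hg.1, m_one01]) (by rw [hg.2.1, m_one10])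
      (by rw [h2, m_one11])
  · right
    have h2 : M.m g 1 1 = -1 := by linear_combination h
    exact M.ext (by rw [hg.2.2, h2, ng00]) (by rw [hg.1, ng01]) (by rw [hg.2.1, ng10])
      (by rw [h2, ng11])

theorem ex_cpt (t : F) : ∃ h : G, M.m h = !![0, -1; 1, t] := M.ex1 _ (by rw [Matrix.det_fin_two]; simp)

theorem card_classes_SL_even (hM : M.IsSL) [Fintype F] [CharP F 2] :
    Nat.card (ConjClasses G) = Fintype.card F + 1 := by
  classical
  choose c hc using M.ex_cpt
  have hcs : ∀ p, ¬ M.Sc (c p) := fun p => M.cp_not_Sc (by rw [hc]; rfl)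
  have htc : ∀ p, M.tr (c p) = p := fun p => by rw [tr, hc]; simp
  have h2 : (2 : F) = 0 := CharTwo.two_eq_zero
  let f : F ⊕ Unit → ConjClasses G := Sum.elim (fun p => ConjClasses.mk (c p)) (fun _ => ConjClasses.mk 1)
  have hs1 : M.Sc (1 : G) := ⟨M.m_one01, M.m_one10, by rw [m_one00, m_one11]⟩
  have hf : Function.Bijective f := by
    constructor
    · rintro (p | a) (p' | a') h
      · have h1 : IsConj (c p) (c p') := ConjClasses.mk_eq_mk_iff_isConj.1 h
        have h2 := M.tr_conj h1
        rw [htc, htc] at h2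
        rw [h2]
      · have h1 : IsConj (c p) 1 := ConjClasses.mk_eq_mk_iff_isConj.1 h
        exact absurd (hs1.conj' h1 ▸ hs1) (hcs p)
      · have h1 : IsConj 1 (c p') := ConjClasses.mk_eq_mk_iff_isConj.1 h
        exact absurd (hs1.conj h1 ▸ hs1) (hcs p')
      · rfl
    · intro C
      induction C using Quotient.inductionOn with
      | h g =>
        by_cases hg : M.Sc g
        · refine ⟨Sum.inr (), ?_⟩
          show ConjClasses.mk _ = ConjClasses.mk g
          congr 1
          rcases M.Sc_SL hM hg with h | h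
          · exact h.symm
          · rw [h]
            refine M.ext ?_ ?_ ?_ ?_ <;> simp only [ng00, ng01, ng10, ng11, m_one00, m_one01, m_one10, m_one11]
            · linear_combination h2
            · linear_combination h2
        · refine ⟨Sum.inl (M.tr g), ?_⟩
          show ConjClasses.mk _ = ConjClasses.mk g
          rw [ConjClasses.mk_eq_mk_iff_isConj]
          obtain ⟨x, y, hQ⟩ := M.exists_Q_ne hg
          obtain ⟨s, hs⟩ := FiniteField.isSquare_of_char_two (F := F) (ringChar.eq F 2) (M.Q g x y)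
          have hs0 : s ≠ 0 := by rintro rfl; apply hQ; rw [hs, mul_zero]
          refine (M.conj_SL (h := c (M.tr g)) (x := s⁻¹ * x) (y := s⁻¹ * y) hM ?_ (by rw [hc]; rfl) (by rw [hc]; rfl)
            (by rw [hc]; rfl) (by rw [hc]; rfl)).symm
          rw [Q_smul, hs]; field_simp
  rw [← Nat.card_congr (Equiv.ofBijective f hf), Nat.card_eq_fintype_card, Fintype.card_sum, Fintype.card_unit]

theorem conj_SL_reg (hM : M.IsSL) [Fintype F] (hodd : Odd (Fintype.card F)) {g h : G} (ht : M.tr g ^ 2 ≠ 4)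
    (h00 : M.m h 0 0 = 0) (h01 : M.m h 0 1 = - 1) (h10 : M.m h 1 0 = 1) (h11 : M.m h 1 1 = M.tr g) :
    IsConj g h := by
  have hg : ¬ M.Sc g := by
    intro hs
    apply ht
    have hd := hM g
    rw [dt, hs.1, hs.2.2] at hd
    rw [tr, hs.2.2]
    linear_combination 4 * hd
  obtain ⟨x, y, hQ⟩ := M.exists_Q_ne hg
  obtain ⟨r, s, hrs⟩ := univ_form hodd ht (M.Q g x y)⁻¹
  refine M.conj_SL (x := r * x + s * (M.m g 0 0 * x + M.m g 0 1 * y))
    (y := r * y + s * (M.m g 1 0 * x + M.m g 1 1 * y)) hM ?_ h00 h01 h10 h11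
  rw [Q_comb, hM g, one_mul, hrs, inv_mul_cancel₀ hQ]

/-- regular semisimple-ish elements with the same trace are conjugate in SL type -/
theorem conj_SL_tr (hM : M.IsSL) [Fintype F] (hodd : Odd (Fintype.card F)) {g h : G} (ht : M.tr g ^ 2 ≠ 4)
    (hh : M.tr g = M.tr h) : IsConj g h := by
  obtain ⟨c, hc⟩ := M.ex_cpt (M.tr g)
  exact (M.conj_SL_reg hM hodd (h := c) ht (by rw [hc]; rfl) (by rw [hc]; rfl) (by rw [hc]; rfl)
    (by rw [hc]; rfl)).trans (M.conj_SL_reg hM hodd (g := h) (h := c) (by rw [← hh]; exact ht) (by rw [hc]; rfl)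
    (by rw [hc]; rfl) (by rw [hc]; rfl) (by rw [hc, ← hh]; rfl)).symm

theorem card_classes_SL_odd (hM : M.IsSL) [Fintype F] (hodd : Odd (Fintype.card F)) :
    Nat.card (ConjClasses G) = Fintype.card F + 4 := by
  classical
  have h2 := two_ne_of_odd hodd
  obtain ⟨ε, hε⟩ := exists_nonsq hodd
  have hε0 : ε ≠ 0 := fun h => hε (by rw [h]; exact IsSquare.zero)
  have h22 : (2 : F) ≠ -2 := by
    intro h
    have : (2 : F) * 2 = 0 := by linear_combination h
    exact (mul_ne_zero h2 h2) this
  choose c hc using M.ex_cpt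
  have htc : ∀ p, M.tr (c p) = p := fun p => by rw [tr, hc]; simp
  let z : Bool → G := fun b => if b then M.ng else 1
  let xs : Fin 3 → F := ![0, 1, ε]
  let f : {t : F // t ≠ 2 ∧ t ≠ -2} ⊕ (Bool × Fin 3) → ConjClasses G :=
    Sum.elim (fun p => ConjClasses.mk (c p.1)) (fun p => ConjClasses.mk (z p.1 * M.u (xs p.2)))
  have hztr : ∀ b x, M.tr (z b * M.u x) = if b then -2 else 2 := by
    intro b x
    cases b
    · simp [z, tr_u]
    · simp [z, tr_u, tr_ng]
  have hxs : ∀ i j, IsConj (M.u (xs i)) (M.u (xs j)) → i = j := by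
    intro i j h
    obtain ⟨a, ha, h1⟩ := M.conj_u_imp hM h
    fin_cases i <;> fin_cases j <;> simp [xs] at h1 <;> first | rfl | skip
    · exact absurd h1.symm hε0
    · exact absurd h1 ha
    · exact absurd ⟨a, by rw [← h1]; ring⟩ hε
    · rcases h1 with h1 | h1
      · exact absurd h1 ha
      · exact absurd h1 hε0
    · exact absurd ⟨a⁻¹, by field_simp; linear_combination h1⟩ hε
  have hf : Function.Bijective f := by
    constructor
    · rintro (p | ⟨b, i⟩) (p' | ⟨b', i'⟩) h
      · have h1 : IsConj (c p) (c p') := ConjClasses.mk_eq_mk_iff_isConj.1 h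
        have h2 := M.tr_conj h1
        rw [htc, htc] at h2
        rw [Subtype.ext h2]
      · have h1 : IsConj (c p) (z b' * M.u (xs i')) := ConjClasses.mk_eq_mk_iff_isConj.1 h
        have h2 := M.tr_conj h1
        rw [htc, hztr] at h2
        cases b'
        · exact absurd h2 p.2.1
        · exact absurd h2 p.2.2
      · have h1 : IsConj (z b * M.u (xs i)) (c p') := ConjClasses.mk_eq_mk_iff_isConj.1 h
        have h2 := M.tr_conj h1
        rw [htc, hztr] at h2
        cases b
        · exact absurd h2.symm p'.2.1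
        · exact absurd h2.symm p'.2.2
      · have h1 : IsConj (z b * M.u (xs i)) (z b' * M.u (xs i')) := ConjClasses.mk_eq_mk_iff_isConj.1 h
        have h3 := M.tr_conj h1
        rw [hztr, hztr] at h3
        have hb : b = b' := by
          cases b <;> cases b' <;> first | rfl | skip
          · exact absurd h3 h22
          · exact absurd h3.symm h22
        subst hb
        have h4 : IsConj (M.u (xs i)) (M.u (xs i')) := by
          cases b
          · simpa [z] using h1
          · exact M.conj_ng_iff.1 (by simpa [z] using h1)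
        rw [hxs _ _ h4]
    · intro C
      induction C using Quotient.inductionOn with
      | h g =>
        show ∃ a, f a = ConjClasses.mk g
        have key : ∀ g : G, M.tr g = 2 → ∃ i, IsConj (M.u (xs i)) g := by
          intro g hg
          obtain ⟨x, hx⟩ := M.unip_conj (hM g) hg
          by_cases hx0 : x = 0
          · exact ⟨0, by rw [hx0] at hx; exact hx⟩
          by_cases hsq : IsSquare x
          · obtain ⟨a, ha⟩ := hsq
            have ha0 : a ≠ 0 := by rintro rfl; apply hx0; rw [ha, mul_zero]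
            refine ⟨1, IsConj.trans (M.conj_u_of ha0 (by rw [ha]; show a ^ 2 * 1 = _; ring)) hx⟩
          · obtain ⟨a, ha0, ha⟩ := nonsq_ratio hε hsq
            exact ⟨2, IsConj.trans (M.conj_u_of ha0 ha) hx⟩
        by_cases ht : M.tr g = 2
        · obtain ⟨i, hi⟩ := key g ht
          refine ⟨Sum.inr (false, i), ?_⟩
          exact ConjClasses.mk_eq_mk_iff_isConj.2 (by simpa [z] using hi)
        by_cases ht' : M.tr g = -2
        · obtain ⟨i, hi⟩ := key (M.ng * g) (by rw [tr_ng, ht', neg_neg])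
          refine ⟨Sum.inr (true, i), ?_⟩
          refine ConjClasses.mk_eq_mk_iff_isConj.2 ?_
          have := M.conj_ng hi
          rw [← mul_assoc, ng_mul_ng, one_mul] at this
          simpa [z] using this
        · refine ⟨Sum.inl ⟨M.tr g, ht, ht'⟩, ?_⟩
          refine ConjClasses.mk_eq_mk_iff_isConj.2 (M.conj_SL_tr hM hodd ?_ (htc _))
          rw [htc]
          intro h4
          have : (M.tr g - 2) * (M.tr g + 2) = 0 := by linear_combination h4
          rcases mul_eq_zero.1 this with h5 | h5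
          · exact ht (sub_eq_zero.1 h5)
          · exact ht' (eq_neg_of_add_eq_zero_left h5)
  rw [← Nat.card_congr (Equiv.ofBijective f hf), Nat.card_eq_fintype_card, Fintype.card_sum, Fintype.card_prod,
    Fintype.card_bool, Fintype.card_fin]
  have h5 : Fintype.card {t : F // t ≠ 2 ∧ t ≠ -2} = Fintype.card F - 2 := by
    rw [Fintype.card_subtype]
    have : (Finset.univ.filter (fun t : F => t ≠ 2 ∧ t ≠ -2)) = Finset.univ \ {2, -2} := by
      ext t; simp
    rw [this, Finset.card_sdiff_of_subset (Finset.subset_univ _), Finset.card_univ, Finset.card_pair h22]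
  rw [h5]
  have : 1 < Fintype.card F := Fintype.one_lt_card
  omega

end MG

end CfsgH6
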