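import Cfsg.Agent.H6.Sl5
set_option autoImplicit false

namespace CfsgH6
open Cfsg CfsgH4
open scoped ComplexConjugate

theorem card_sq_one_odd {F : Type*} [Field F] [Fintype F] (hodd : Odd (Fintype.card F)) :
    Nat.card {a : F // a ^ 2 = 1} = 2 := by
  classical
  have h2 := two_ne_of_odd hodd
  have h11 : (1 : F) ≠ -1 := by
    intro h
    exact h2 (by linear_combination h)
  rw [Nat.card_eq_fintype_card, Fintype.card_subtype]
  have : (Finset.univ.filter (fun a : F => a ^ 2 = 1)) = {1, -1} := by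
    ext a
    simp only [Finset.mem_filter, Finset.mem_univ, true_and, Finset.mem_insert, Finset.mem_singleton]
    rw [sq]; exact mul_self_eq_one_iff
  rw [this, Finset.card_pair h11]

theorem card_sq_one_even {F : Type*} [Field F] [Fintype F] [CharP F 2] :
    Nat.card {a : F // a ^ 2 = 1} = 1 := by
  rw [Nat.card_eq_one_iff_unique]
  refine ⟨⟨fun a b => ?_⟩, ⟨⟨1, one_pow 2⟩⟩⟩
  have h : ∀ a : {a : F // a ^ 2 = 1}, a.1 = 1 := by
    intro a
    have h2 : (2 : F) = 0 := CharTwo.two_eq_zero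
    have h1 : (a.1 - 1) ^ 2 = 0 := by linear_combination a.2 - (a.1 - 1) * h2
    have := pow_eq_zero_iff (two_ne_zero) |>.1 h1
    linear_combination this
  exact Subtype.ext ((h a).trans (h b).symm)

theorem card_carrier_mul {G : Type*} [Group G] [Finite G] (g : G) :
    Nat.card (ConjClasses.mk g).carrier * Nat.card (Subgroup.centralizer ({g} : Set G)) = Nat.card G := by
  rw [← card_isConj_mul_centralizer g]
  congr 1

theorem mem_cent_single {G : Type*} [Group G] {g h : G} :
    h ∈ Subgroup.centralizer ({g} : Set G) ↔ g * h = h * g := by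
  rw [Subgroup.mem_centralizer_iff]
  simp

theorem card_cent_conj {G : Type*} [Group G] [Finite G] {g h : G} (hc : IsConj g h) :
    Nat.card (Subgroup.centralizer ({g} : Set G)) = Nat.card (Subgroup.centralizer ({h} : Set G)) := by
  have h1 := card_carrier_mul g
  have h2 := card_carrier_mul h
  rw [← ConjClasses.mk_eq_mk_iff_isConj.2 hc, ← h1] at h2
  have h3 : 0 < Nat.card (ConjClasses.mk g).carrier := by
    haveI : Nonempty (ConjClasses.mk g).carrier := ⟨⟨g, ConjClasses.mem_carrier_mk⟩⟩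
    exact Nat.card_pos
  exact (Nat.eq_of_mul_eq_mul_left h3 h2).symm

theorem orderOf_conj {G : Type*} [Group G] {g h : G} (hc : IsConj g h) : orderOf g = orderOf h := by
  obtain ⟨c, rfl⟩ := isConj_iff.1 hc
  exact (MulEquiv.orderOf_eq (MulAut.conj c) g).symm

namespace MG
variable {G : Type*} [Group G] {F : Type*} [Field F] (M : MG G F)

theorem of_order (p : ℕ) [Fact p.Prime] [CharP F p] {g : G} (h : orderOf g = p) :
    M.tr g = 2 ∧ M.dt g = 1 ∧ ¬ M.Sc g := by
  have hp : p ≠ 0 := (Fact.out : p.Prime).ne_zero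
  have h1 : (M.m g - 1) ^ p = 0 := by
    rw [sub_pow_char_of_commute p (Commute.one_right _), one_pow, ← map_pow, ← h, pow_orderOf_eq_one, map_one,
      sub_self]
  have h2 : (M.m g - 1).trace = 0 :=
    (Matrix.isNilpotent_trace_of_isNilpotent ⟨p, h1⟩).eq_zero
  have h3 : (M.m g - 1).det = 0 := by
    have := congrArg Matrix.det h1
    rw [Matrix.det_pow, Matrix.det_zero] at this
    exact pow_eq_zero_iff hp |>.1 this
  rw [Matrix.trace_fin_two] at h2
  rw [Matrix.det_fin_two] at h3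
  simp only [Matrix.sub_apply, Matrix.one_apply_eq, ne_eq, zero_ne_one, not_false_eq_true,
    Matrix.one_apply_ne, sub_zero, one_ne_zero] at h2 h3
  have ht : M.tr g = 2 := by rw [tr]; linear_combination h2
  have hd : M.dt g = 1 := by rw [dt]; linear_combination h3 + h2
  refine ⟨ht, hd, fun hs => ?_⟩
  rw [tr, hs.2.2] at ht
  rw [dt, hs.1, hs.2.2] at hd
  have h4 : (M.m g 1 1 - 1) ^ 2 = 0 := by linear_combination hd - ht
  have h5 : M.m g 1 1 = 1 := by
    have := pow_eq_zero_iff (two_ne_zero) |>.1 h4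
    linear_combination this
  have h6 : g = 1 := M.ext (by rw [hs.2.2, h5, m_one00]) (by rw [hs.1, m_one01]) (by rw [hs.2.1, m_one10])
      (by rw [h5, m_one11])
  rw [h6, orderOf_one] at h
  exact (Fact.out : p.Prime).one_lt.ne h

theorem orderOf_u (p : ℕ) [Fact p.Prime] [CharP F p] {x : F} (hx : x ≠ 0) : orderOf (M.u x) = p := by
  refine orderOf_eq_prime ?_ ?_
  · rw [u_pow, CharP.cast_eq_zero, zero_mul, u_zero]
  · intro h
    exact hx (M.u_inj (h.trans M.u_zero.symm))

theorem unip_conj_ne {g : G} (hd : M.dt g = 1) (ht : M.tr g = 2) (hg : ¬ M.Sc g) :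
    ∃ x, x ≠ 0 ∧ IsConj (M.u x) g := by
  obtain ⟨x, hx⟩ := M.unip_conj hd ht
  refine ⟨x, ?_, hx⟩
  rintro rfl
  rw [u_zero] at hx
  have hs1 : M.Sc (1 : G) := ⟨M.m_one01, M.m_one10, by rw [m_one00, m_one11]⟩
  exact hg (hs1.conj hx ▸ hs1)

theorem cent_u {x : F} (hx : x ≠ 0) (h : G) : h ∈ Subgroup.centralizer ({M.u x} : Set G) ↔
    M.m h 1 0 = 0 ∧ M.m h 0 0 = M.m h 1 1 := by
  rw [mem_cent_single]
  constructor
  · intro h1
    have e00 := congrArg (fun g => M.m g 0 0) h1
    have e01 := congrArg (fun g => M.m g 0 1) h1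
    simp only [mul00, mul01, u00, u01, u10, u11] at e00 e01
    have h2 : x * M.m h 1 0 = 0 := by linear_combination e00
    have h3 : M.m h 1 0 = 0 := (mul_eq_zero.1 h2).resolve_left hx
    refine ⟨h3, ?_⟩
    have h4 : x * (M.m h 1 1 - M.m h 0 0) = 0 := by linear_combination e01
    exact (sub_eq_zero.1 ((mul_eq_zero.1 h4).resolve_left hx)).symm
  · rintro ⟨h1, h2⟩
    refine M.ext ?_ ?_ ?_ ?_ <;> simp only [mul00, mul01, mul10, mul11, u00, u01, u10, u11, h1, h2] <;> ring

theorem card_cent_u_SL (hM : M.IsSL) {x : F} (hx : x ≠ 0) :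
    Nat.card (Subgroup.centralizer ({M.u x} : Set G)) = Nat.card {a : F // a ^ 2 = 1} * Nat.card F := by
  rw [← Nat.card_prod]
  refine Nat.card_eq_of_bijective (fun h => (⟨M.m h.1 0 0, ?_⟩, M.m h.1 0 1)) ⟨?_, ?_⟩
  · obtain ⟨h1, h2⟩ := (M.cent_u hx h.1).1 h.2
    have := hM h.1
    rw [dt, h1, ← h2] at this
    linear_combination this
  · intro h h' he
    simp only [Prod.mk.injEq, Subtype.mk.injEq] at he
    obtain ⟨h1, h2⟩ := (M.cent_u hx h.1).1 h.2
    obtain ⟨h1', h2'⟩ := (M.cent_u hx h'.1).1 h'.2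
    exact Subtype.ext (M.ext he.1 he.2 (by rw [h1, h1']) (by rw [← h2, ← h2', he.1]))
  · rintro ⟨⟨a, ha⟩, b⟩
    obtain ⟨g, hg⟩ := M.ex1 !![a, b; 0, a] (by rw [Matrix.det_fin_two]; simp; rw [← ha]; ring)
    refine ⟨⟨g, (M.cent_u hx g).2 ⟨by rw [hg]; rfl, by rw [hg]; rfl⟩⟩, ?_⟩
    refine Prod.ext (Subtype.ext ?_) ?_
    · show M.m g 0 0 = a; rw [hg]; rfl
    · show M.m g 0 1 = b; rw [hg]; rfl

variable [Fintype F] [DecidableEq F] [Fintype G]

theorem card_SL (hM : M.IsSL) : Nat.card G = (Fintype.card F ^ 2 - 1) * Fintype.card F := by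
  rw [M.card_G, M.card_B, M.card_T_SL hM]
  have : 1 ≤ Fintype.card F := Fintype.card_pos
  obtain ⟨n, hn⟩ := Nat.exists_eq_add_of_le this
  rw [hn, Nat.add_sub_cancel_left, show (1 + n) ^ 2 = 1 + (n * n + 2 * n) by ring, Nat.add_sub_cancel_left]
  ring

theorem card_GL (hM : M.IsGL) : Nat.card G = (Fintype.card F - 1) ^ 2 * Fintype.card F * (Fintype.card F + 1) := by
  rw [M.card_G, M.card_B, M.card_T_GL hM]

theorem card_class_unip_odd (hM : M.IsSL) (hodd : Odd (Fintype.card F)) {g : G} (ht : M.tr g = 2) (hg : ¬ M.Sc g) :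
    Nat.card (ConjClasses.mk g).carrier = (Fintype.card F ^ 2 - 1) / 2 := by
  obtain ⟨x, hx, hc⟩ := M.unip_conj_ne (hM g) ht hg
  have h1 := card_carrier_mul g
  rw [← card_cent_conj hc, M.card_cent_u_SL hM hx, card_sq_one_odd hodd, M.card_SL hM, Nat.card_eq_fintype_card (α := F)] at h1
  have hq : 0 < Fintype.card F := Fintype.card_pos
  have h2 : Nat.card (ConjClasses.mk g).carrier * 2 = Fintype.card F ^ 2 - 1 := by
    apply Nat.eq_of_mul_eq_mul_right hq
    rw [← h1]; ring
  omega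

theorem card_class_unip_even (hM : M.IsSL) [CharP F 2] {g : G} (ht : M.tr g = 2) (hg : ¬ M.Sc g) :
    Nat.card (ConjClasses.mk g).carrier = Fintype.card F ^ 2 - 1 := by
  obtain ⟨x, hx, hc⟩ := M.unip_conj_ne (hM g) ht hg
  have h1 := card_carrier_mul g
  rw [← card_cent_conj hc, M.card_cent_u_SL hM hx, card_sq_one_even, M.card_SL hM, Nat.card_eq_fintype_card (α := F)] at h1
  have hq : 0 < Fintype.card F := Fintype.card_pos
  apply Nat.eq_of_mul_eq_mul_right hq
  rw [← h1]; ring

omit [DecidableEq F] [Fintype G] in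
include M in
theorem conj_unip_even (hM : M.IsSL) [CharP F 2] {g h : G} (ht : M.tr g = 2) (hg : ¬ M.Sc g)
    (ht' : M.tr h = 2) (hg' : ¬ M.Sc h) : IsConj g h := by
  obtain ⟨x, hx, hc⟩ := M.unip_conj_ne (hM g) ht hg
  obtain ⟨y, hy, hc'⟩ := M.unip_conj_ne (hM h) ht' hg'
  obtain ⟨s, hs⟩ := FiniteField.isSquare_of_char_two (F := F) (ringChar.eq F 2) (y / x)
  have hs0 : s ≠ 0 := by
    rintro rfl
    rw [mul_zero] at hs
    exact div_ne_zero hy hx hs
  refine (hc.symm.trans (M.conj_u_of (y := y) hs0 ?_)).trans hc'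
  rw [sq, ← hs]; field_simp

omit [DecidableEq F] [Fintype G] in
theorem conj_u_iff_sq (hM : M.IsSL) {x y : F} (hx : x ≠ 0) (hy : y ≠ 0) :
    IsConj (M.u x) (M.u y) ↔ IsSquare (x * y) := by
  constructor
  · intro h
    obtain ⟨a, ha, h1⟩ := M.conj_u_imp hM h
    exact ⟨a * x, by rw [← h1]; ring⟩
  · rintro ⟨s, hs⟩
    have hs0 : s ≠ 0 := by
      rintro rfl
      rw [mul_zero] at hs
      exact mul_ne_zero hx hy hs
    refine M.conj_u_of (div_ne_zero hs0 hx) ?_
    field_simp
    linear_combination -hs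

/-- centralizer of a regular diagonal element -/
theorem cent_diag {g : G} (h01 : M.m g 0 1 = 0) (h10 : M.m g 1 0 = 0) (hne : M.m g 0 0 ≠ M.m g 1 1) :
    Subgroup.centralizer ({g} : Set G) = M.T := by
  ext h
  rw [mem_cent_single, mem_T]
  have hne' := sub_ne_zero.2 hne
  constructor
  · intro h1
    have e01 := congrArg (fun g => M.m g 0 1) h1
    have e10 := congrArg (fun g => M.m g 1 0) h1
    simp only [mul01, mul10, h01, h10] at e01 e10
    constructor
    · have : (M.m g 0 0 - M.m g 1 1) * M.m h 0 1 = 0 := by linear_combination e01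
      exact (mul_eq_zero.1 this).resolve_left hne'
    · have : (M.m g 0 0 - M.m g 1 1) * M.m h 1 0 = 0 := by linear_combination -e10
      exact (mul_eq_zero.1 this).resolve_left hne'
  · rintro ⟨h1, h2⟩
    refine M.ext ?_ ?_ ?_ ?_ <;> simp only [mul00, mul01, mul10, mul11, h01, h10, h1, h2] <;> ring

theorem Ell.norm_ne {M : MG G F} {g : G} (h : M.Ell g) {x y : F} (hxy : ¬ (x = 0 ∧ y = 0)) :
    x ^ 2 + M.tr g * x * y + M.dt g * y ^ 2 ≠ 0 := by
  intro h0
  have hc := h.h10
  by_cases hy : y = 0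
  · rw [hy] at h0
    have : x ^ 2 = 0 := by linear_combination h0
    exact hxy ⟨pow_eq_zero_iff (two_ne_zero) |>.1 this, hy⟩
  · apply h.noroot ((-x / y - M.m g 1 1) / M.m g 1 0)
    rw [tr, dt] at h0
    field_simp
    linear_combination h0

theorem card_cent_ell (hM : M.IsGL) {g : G} (h : M.Ell g) :
    Nat.card (Subgroup.centralizer ({g} : Set G)) = Fintype.card F ^ 2 - 1 := by
  have hc := h.h10
  have e1 : ∀ p : {p : F × F // p ≠ 0}, ∃ k : G, M.m k = !![p.1.1 + p.1.2 * M.m g 0 0, p.1.2 * M.m g 0 1;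
      p.1.2 * M.m g 1 0, p.1.1 + p.1.2 * M.m g 1 1] := by
    intro p
    apply hM
    rw [Matrix.det_fin_two]
    have := h.norm_ne (x := p.1.1) (y := p.1.2) (fun h1 => p.2 (Prod.ext h1.1 h1.2))
    intro h2
    apply this
    simp at h2
    rw [tr, dt]
    linear_combination h2
  choose k hk using e1
  have hk00 : ∀ p, M.m (k p) 0 0 = p.1.1 + p.1.2 * M.m g 0 0 := fun p => by rw [hk]; rfl
  have hk01 : ∀ p, M.m (k p) 0 1 = p.1.2 * M.m g 0 1 := fun p => by rw [hk]; rfl
  have hk10 : ∀ p, M.m (k p) 1 0 = p.1.2 * M.m g 1 0 := fun p => by rw [hk]; rfl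
  have hk11 : ∀ p, M.m (k p) 1 1 = p.1.1 + p.1.2 * M.m g 1 1 := fun p => by rw [hk]; rfl
  have h3 : Nat.card {p : F × F // p ≠ 0} = Nat.card (Subgroup.centralizer ({g} : Set G)) := by
    refine Nat.card_eq_of_bijective (fun p => ⟨k p, ?_⟩) ⟨?_, ?_⟩
    · rw [mem_cent_single]
      refine M.ext ?_ ?_ ?_ ?_ <;> simp only [mul00, mul01, mul10, mul11, hk00, hk01, hk10, hk11] <;> ring
    · intro p p' he
      simp only [Subtype.mk.injEq] at he
      have e10 : M.m (k p) 1 0 = M.m (k p') 1 0 := by rw [he]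
      have e00 : M.m (k p) 0 0 = M.m (k p') 0 0 := by rw [he]
      rw [hk10, hk10] at e10
      have e2 := mul_right_cancel₀ hc e10
      rw [hk00, hk00, e2] at e00
      exact Subtype.ext (Prod.ext (add_right_cancel e00) e2)
    · rintro ⟨j, hj⟩
      rw [mem_cent_single] at hj
      have e00 := congrArg (fun g => M.m g 0 0) hj
      have e10 := congrArg (fun g => M.m g 1 0) hj
      simp only [mul00, mul10] at e00 e10
      have hp : ((M.m j 0 0 - M.m j 1 0 / M.m g 1 0 * M.m g 0 0, M.m j 1 0 / M.m g 1 0) : F × F) ≠ 0 := by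
        intro h0
        have h1 := congrArg Prod.fst h0
        have h2 := congrArg Prod.snd h0
        simp only [Prod.fst_zero, Prod.snd_zero] at h1 h2
        have h4 : M.m j 1 0 = 0 := by
          rcases div_eq_zero_iff.1 h2 with h5 | h5
          · exact h5
          · exact absurd h5 hc
        rw [h4] at h1
        have h5 : M.m j 0 0 = 0 := by linear_combination h1
        have := M.dt_ne j
        rw [dt, h4, h5] at this
        exact this (by ring)
      refine ⟨⟨_, hp⟩, Subtype.ext (M.ext ?_ ?_ ?_ ?_)⟩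
      · show M.m (k _) 0 0 = _; rw [hk00]; ring
      · show M.m (k _) 0 1 = _; rw [hk01]; field_simp; linear_combination e00
      · show M.m (k _) 1 0 = _; rw [hk10]; field_simp
      · show M.m (k _) 1 1 = _; rw [hk11]; field_simp; linear_combination e10
  rw [← h3, Nat.card_eq_fintype_card, Fintype.card_subtype_compl, Fintype.card_prod, sq]
  simp

end MG

end CfsgH6
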