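import Cfsg.Agent.H6.St15

set_option autoImplicit false

/-! Truncation of characters to the fixed points of a normal subgroup. -/

namespace CfsgH6
namespace Stb

open scoped Classical ComplexConjugate
open Cfsg CfsgH4

section
variable {G : Type*} [Group G]

/-- truncation of a class function -/
noncomputable def trunc (P U : Subgroup G) [Fintype U] (χ : G → ℂ) : P → ℂ :=
  fun x => (Nat.card U : ℂ)⁻¹ * ∑ u : U, χ ((x : G) * u)

theorem isCharacter_trunc [Finite G] {χ : G → ℂ} (hχ : IsCharacter G χ) (P U : Subgroup G) [Fintype U]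
    (hU : ∀ x ∈ P, ∀ u ∈ U, x⁻¹ * u * x ∈ U) : IsCharacter P (trunc P U χ) := by
  obtain ⟨n, ρ, rfl⟩ := hχ
  let W : Submodule ℂ (Fin n → ℂ) :=
    { carrier := {v | ∀ u ∈ U, ρ u v = v}
      add_mem' := by
        intro a b ha hb u hu
        rw [map_add, ha u hu, hb u hu]
      zero_mem' := by
        intro u _
        rw [map_zero]
      smul_mem' := by
        intro c a ha u hu
        rw [map_smul, ha u hu] }
  have hW : ∀ x : P, ∀ v ∈ W, ρ (x : G) v ∈ W := by
    intro x v hv u hu
    have h1 : ρ u (ρ (x : G) v) = ρ (x : G) (ρ ((x : G)⁻¹ * u * x) v) := by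
      rw [← Module.End.mul_apply, ← Module.End.mul_apply, ← map_mul, ← map_mul]
      congr 2
      group
    rw [h1, hv _ (hU x x.2 u hu)]
  let σ : Representation ℂ P W :=
    { toFun := fun x => (ρ (x : G)).restrict (hW x)
      map_one' := by
        ext v
        simp [LinearMap.restrict_apply]
      map_mul' := by
        intro x y
        apply LinearMap.ext
        intro v
        apply Subtype.ext
        simp [LinearMap.restrict_apply, map_mul] }
  have hσ := isCharacter_of_rep σ
  have hc : (Nat.card U : ℂ) ≠ 0 := by exact_mod_cast Nat.card_pos.ne'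
  let e : (Fin n → ℂ) →ₗ[ℂ] (Fin n → ℂ) := (Nat.card U : ℂ)⁻¹ • ∑ u : U, ρ (u : G)
  have heW : ∀ v, e v ∈ W := by
    intro v u hu
    show ρ u (((Nat.card U : ℂ)⁻¹ • ∑ u : U, ρ (u : G)) v) = ((Nat.card U : ℂ)⁻¹ • ∑ u : U, ρ (u : G)) v
    rw [LinearMap.smul_apply, LinearMap.sum_apply, map_smul, map_sum]
    congr 1
    refine Fintype.sum_equiv (Equiv.mulLeft (⟨u, hu⟩ : U)) _ _ fun w => ?_
    rw [← Module.End.mul_apply, ← map_mul]
    rfl
  have heid : ∀ v ∈ W, e v = v := by
    intro v hv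
    show ((Nat.card U : ℂ)⁻¹ • ∑ u : U, ρ (u : G)) v = v
    rw [LinearMap.smul_apply, LinearMap.sum_apply, Finset.sum_congr rfl (fun (u : U) _ => hv u u.2), Finset.sum_const, Finset.card_univ,
      ← Nat.card_eq_fintype_card, ← Nat.cast_smul_eq_nsmul ℂ, smul_smul, inv_mul_cancel₀ hc, one_smul]
  have hσe : σ.character = trunc P U ρ.character := by
    funext x
    show LinearMap.trace ℂ W ((ρ (x : G)).restrict (hW x)) = (Nat.card U : ℂ)⁻¹ * ∑ u : U, LinearMap.trace ℂ _ (ρ ((x : G) * u))
    have h1 : (ρ (x : G)).restrict (hW x) = (e.codRestrict W heW) ∘ₗ ((ρ (x : G)) ∘ₗ W.subtype) := by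
      apply LinearMap.ext
      intro v
      apply Subtype.ext
      simp only [LinearMap.restrict_coe_apply, LinearMap.comp_apply, LinearMap.codRestrict_apply, Submodule.subtype_apply]
      exact (heid _ (hW x v v.2)).symm
    rw [h1, LinearMap.trace_comp_comm']
    have h2 : (ρ (x : G) ∘ₗ W.subtype) ∘ₗ e.codRestrict W heW = ρ (x : G) ∘ₗ e := by
      apply LinearMap.ext
      intro v
      rfl
    rw [h2]
    have h3 : ρ (x : G) ∘ₗ e = (Nat.card U : ℂ)⁻¹ • ∑ u : U, ρ ((x : G) * u) := by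
      apply LinearMap.ext
      intro v
      show ρ (x : G) (((Nat.card U : ℂ)⁻¹ • ∑ u : U, ρ (u : G)) v) = _
      rw [LinearMap.smul_apply, LinearMap.sum_apply, map_smul, map_sum, LinearMap.smul_apply, LinearMap.sum_apply]
      congr 1
      apply Finset.sum_congr rfl
      intro u _
      rw [map_mul]
      rfl
    rw [h3, map_smul, map_sum, smul_eq_mul]
  rwa [hσe] at hσ

theorem char_zero_of_one [Finite G] {χ : G → ℂ} (hχ : IsCharacter G χ) (h : χ 1 = 0) : χ = 0 := by
  funext x
  have h1 := IsCharacter.norm_le hχ x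
  rw [h] at h1
  simpa using h1

theorem trunc_add (P U : Subgroup G) [Fintype U] (χ ψ : G → ℂ) : trunc P U (χ + ψ) = trunc P U χ + trunc P U ψ := by
  funext x
  simp only [trunc, Pi.add_apply, Finset.sum_add_distrib, mul_add]

theorem trunc_inner [Fintype G] (P U : Subgroup G) [Fintype U] [Fintype P] (hUP : U ≤ P) {χ f : G → ℂ} (hf : ∀ x ∈ P, ∀ u ∈ U, f (x * u) = f x) :
    classInner (trunc P U χ) (fun x : P => f x) = classInner (fun x : P => χ x) (fun x : P => f x) := by
  have hc : (Nat.card U : ℂ) ≠ 0 := by exact_mod_cast Nat.card_pos.ne'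
  rw [classInner_def, classInner_def]
  congr 1
  have h1 : ∀ x : P, trunc P U χ x * conj (f x) = (Nat.card U : ℂ)⁻¹ * ∑ u : U, χ ((x : G) * u) * conj (f ((x : G) * u)) := by
    intro x
    unfold trunc
    rw [mul_assoc, Finset.sum_mul]
    congr 1
    apply Finset.sum_congr rfl
    intro u _
    rw [hf x x.2 u u.2]
  rw [Finset.sum_congr rfl (fun x _ => h1 x), ← Finset.mul_sum, Finset.sum_comm]
  have h2 : ∀ u : U, ∑ x : P, χ ((x : G) * u) * conj (f ((x : G) * u)) = ∑ x : P, χ (x : G) * conj (f (x : G)) := by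
    intro u
    exact Fintype.sum_equiv (Equiv.mulRight (⟨(u : G), hUP u.2⟩ : P)) _ _ fun w => rfl
  rw [Finset.sum_congr rfl (fun u _ => h2 u), Finset.sum_const, Finset.card_univ, ← Nat.card_eq_fintype_card, nsmul_eq_mul,
    ← mul_assoc, inv_mul_cancel₀ hc, one_mul]

theorem trunc_mul (P U : Subgroup G) [Fintype U] {χ f : G → ℂ} (hf : ∀ x ∈ P, ∀ u ∈ U, f (x * u) = f x) :
    trunc P U (f * χ) = trunc P U χ * fun x : P => f x := by
  funext x
  simp only [trunc, Pi.mul_apply]
  rw [Finset.sum_congr rfl (fun (u : U) _ => by rw [hf x x.2 u u.2]), ← Finset.mul_sum]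
  ring

/-- a character containing an irreducible one with multiplicity one and agreeing with it in degree after truncation has it as its truncation -/
theorem trunc_eq_of_inner [Fintype G] (P U : Subgroup G) [Fintype U] [Fintype P] (hU : ∀ x ∈ P, ∀ u ∈ U, x⁻¹ * u * x ∈ U) (hUP : U ≤ P)
    {χ : G → ℂ} (hχ : IsCharacter G χ) {ψ : P → ℂ} (hψ : IsIrrCharacter P ψ) (hψU : ∀ x : P, ∀ u : P, (u : G) ∈ U → ψ (x * u) = ψ x)
    (hin : classInner (fun x : P => χ x) ψ = 1) (hdeg : trunc P U χ 1 = ψ 1) : trunc P U χ = ψ := by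
  have h1 := isCharacter_trunc hχ P U hU
  -- ψ extended
  have hex : ∀ x ∈ P, ∀ u ∈ U, extendByZero P ψ (x * u) = extendByZero P ψ x := by
    intro x hx u hu
    rw [extendByZero_of_mem P ψ hx, extendByZero_of_mem P ψ (P.mul_mem hx (hUP hu))]
    exact hψU ⟨x, hx⟩ ⟨u, hUP hu⟩ hu
  have h2 := trunc_inner (χ := χ) P U hUP hex
  have h3 : (fun x : P => extendByZero P ψ (x : G)) = ψ := by
    funext x
    exact extendByZero_coe P ψ x
  rw [h3, hin] at h2
  have h4 : IsCharacter P (trunc P U χ - ψ) := by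
    refine isCharacter_of_mult (isClassFunction_sub (IsCharacter.isClassFunction h1) (IsIrr.isClassFunction hψ)) fun φ hφ => ?_
    rw [classInner_sub_left, classInner_irr hψ hφ]
    by_cases h5 : ψ = φ
    · rw [if_pos h5, ← h5, h2]
      exact ⟨0, by simp⟩
    · rw [if_neg h5, sub_zero]
      exact IsCharacter.inner_nat h1 (IsIrr.isCharacter hφ)
  have h5 := char_zero_of_one h4 (by rw [Pi.sub_apply, hdeg, sub_self])
  exact sub_eq_zero.1 h5
end

end Stb
end CfsgH6
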