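import Cfsg.Agent.H6.Sl6
import Cfsg.Agent.H6.St19
import Cfsg.Agent.H4.Isom
set_option autoImplicit false

namespace CfsgH6
open Cfsg CfsgH4
open scoped ComplexConjugate

theorem mc_dual {F : Type*} [Field F] [Fintype F] [Fintype (MulChar F ℂ)] (a : F) [Decidable (a = 1)] :
    ∑ α : MulChar F ℂ, α a = if a = 1 then (Fintype.card F : ℂ) - 1 else 0 := by
  split_ifs with h
  · rw [h]
    simp only [map_one, Finset.sum_const, Finset.card_univ, nsmul_eq_mul, mul_one]
    have h1 := MulChar.card_eq_card_units_of_hasEnoughRootsOfUnity F ℂ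
    rw [Nat.card_eq_fintype_card] at h1
    classical
    rw [h1, Nat.card_eq_fintype_card, Fintype.card_units, Nat.cast_sub Fintype.card_pos, Nat.cast_one]
  · obtain ⟨χ, hχ⟩ := MulChar.exists_apply_ne_one_of_hasEnoughRootsOfUnity F ℂ h
    have h1 : ∑ α : MulChar F ℂ, α a = χ a * ∑ α : MulChar F ℂ, α a := by
      rw [Finset.mul_sum, ← Fintype.sum_equiv (Equiv.mulLeft χ) (fun α => (χ * α) a) (fun α => α a)
        (fun α => rfl)]
      exact Finset.sum_congr rfl fun α _ => MulChar.mul_apply _ _ _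
    have h2 : (1 - χ a) * ∑ α : MulChar F ℂ, α a = 0 := by linear_combination h1
    exact (mul_eq_zero.1 h2).resolve_left (sub_ne_zero.2 (Ne.symm hχ))

theorem card_mc {F : Type*} [Field F] [Fintype F] : Nat.card (MulChar F ℂ) = Fintype.card F - 1 := by
  classical
  rw [MulChar.card_eq_card_units_of_hasEnoughRootsOfUnity, Nat.card_eq_fintype_card, Fintype.card_units]

namespace MG
variable {G : Type*} [Group G] {F : Type*} [Field F] (M : MG G F)

/-- unitriangular subgroup -/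
def U : Subgroup G where
  carrier := Set.range M.u
  mul_mem' := by
    rintro _ _ ⟨x, rfl⟩ ⟨y, rfl⟩
    exact ⟨x + y, M.u_add x y⟩
  one_mem' := ⟨0, M.u_zero⟩
  inv_mem' := by
    rintro _ ⟨x, rfl⟩
    refine ⟨-x, ?_⟩
    rw [eq_inv_iff_mul_eq_one, ← u_add, neg_add_cancel, u_zero]

noncomputable def UEquiv : F ≃ M.U :=
  Equiv.ofBijective (fun x => ⟨M.u x, ⟨x, rfl⟩⟩)
    ⟨fun x y h => M.u_inj (congrArg Subtype.val h), fun v => by
      obtain ⟨v, x, rfl⟩ := v
      exact ⟨x, rfl⟩⟩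

variable [Fintype F] [DecidableEq F] [Fintype G]

theorem sum_U (f : G → ℂ) [Fintype M.U] : ∑ v : M.U, f v = ∑ x : F, f (M.u x) :=
  (Fintype.sum_equiv M.UEquiv _ _ fun _ => rfl).symm

/-- cuspidality -/
def Cusp (χ : G → ℂ) : Prop := ∑ x : F, χ (M.u x) = 0

theorem cusp_vanish {χ : G → ℂ} (hχ : IsCharacter G χ) (hc : M.Cusp χ) {b : G} (hb : b ∈ M.B) :
    ∑ x : F, χ (b * M.u x) = 0 := by
  classical
  haveI : Fintype M.U := Fintype.ofFinite _
  have hU : ∀ x ∈ M.B, ∀ u ∈ M.U, x⁻¹ * u * x ∈ M.U := by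
    rintro x hx _ ⟨y, rfl⟩
    have h1 := M.B_ne hx
    have hx0 := M.mem_B.1 hx
    have hd : M.dt x = M.m x 0 0 * M.m x 1 1 := by rw [dt, hx0]; ring
    refine ⟨M.m x 1 1 / M.m x 0 0 * y, ?_⟩
    refine M.ext ?_ ?_ ?_ ?_ <;>
      simp only [mul00, mul01, mul10, mul11, u00, u01, u10, u11, inv00, inv01, inv10, inv11, hx0, hd] <;>
      field_simp [h1.1, h1.2] <;> ring
  have h1 := Stb.isCharacter_trunc hχ M.B M.U hU
  have h2 : Stb.trunc M.B M.U χ 1 = 0 := by
    rw [Stb.trunc]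
    have : ∑ u : M.U, χ (((1 : M.B) : G) * u) = ∑ x : F, χ (M.u x) := by
      rw [← M.sum_U]
      exact Finset.sum_congr rfl fun v _ => by rw [OneMemClass.coe_one, one_mul]
    rw [this, show ∑ x : F, χ (M.u x) = 0 from hc, mul_zero]
  have h3 := congrFun (Stb.char_zero_of_one h1 h2) ⟨b, hb⟩
  rw [Stb.trunc, Pi.zero_apply, M.sum_U (fun v => χ (b * v))] at h3
  have h4 : (Nat.card M.U : ℂ) ≠ 0 := by exact_mod_cast Nat.card_pos.ne'
  exact (mul_eq_zero.1 h3).resolve_left (inv_ne_zero h4)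

omit [Fintype F] [DecidableEq F] [Fintype G] in
theorem conj_split {t : G} (h01 : M.m t 0 1 = 0) (h10 : M.m t 1 0 = 0) (hne : M.m t 0 0 ≠ M.m t 1 1) (x : F) :
    IsConj t (t * M.u x) := by
  have h1 : M.m t 1 1 - M.m t 0 0 ≠ 0 := sub_ne_zero.2 (Ne.symm hne)
  refine isConj_iff.2 ⟨M.u (M.m t 0 0 * x / (M.m t 1 1 - M.m t 0 0)), ?_⟩
  rw [mul_inv_eq_iff_eq_mul]
  refine M.ext ?_ ?_ ?_ ?_ <;>
      simp only [mul00, mul01, mul10, mul11, u00, u01, u10, u11, h01, h10] <;>
      field_simp <;> ring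

theorem cusp_split {χ : G → ℂ} (hχ : IsCharacter G χ) (hc : M.Cusp χ) {t : G} (h01 : M.m t 0 1 = 0)
    (h10 : M.m t 1 0 = 0) (hne : M.m t 0 0 ≠ M.m t 1 1) : χ t = 0 := by
  have h1 := M.cusp_vanish hχ hc (b := t) h10
  have h2 : ∀ x : F, χ (t * M.u x) = χ t := fun x =>
    (IsClassFunction.eq_of_isConj (IsCharacter.isClassFunction hχ) (M.conj_split h01 h10 hne x)).symm
  rw [Finset.sum_congr rfl (fun x _ => h2 x), Finset.sum_const, Finset.card_univ, nsmul_eq_mul] at h1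
  have h3 : (Fintype.card F : ℂ) ≠ 0 := by exact_mod_cast Fintype.card_ne_zero
  exact (mul_eq_zero.1 h1).resolve_left h3

theorem noncusp {χ : G → ℂ} (hχ : IsCharacter G χ) (h : ¬ M.Cusp χ) :
    ∃ α β : MulChar F ℂ, classInner χ (M.ps α β) ≠ 0 := by
  classical
  haveI : Fintype M.B := Fintype.ofFinite _
  haveI : Fintype (MulChar F ℂ) := Fintype.ofFinite _
  by_contra hc
  push Not at hc
  apply h
  have hcl := IsCharacter.isClassFunction hχ
  have h1 : ∀ α β : MulChar F ℂ, classInner χ (M.ps α β) = (Nat.card M.B : ℂ)⁻¹ *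
      ∑ b : M.B, χ b * conj (M.bf α β b) := by
    intro α β
    rw [← M.indFun_bf, CfsgH4.frobenius_right M.B _ hcl, classInner_def]
  have h2 : ∑ α : MulChar F ℂ, ∑ β : MulChar F ℂ, ∑ b : M.B, χ b * conj (M.bf α β b) = 0 := by
    refine Finset.sum_eq_zero fun α _ => Finset.sum_eq_zero fun β _ => ?_
    have h3 := hc α β
    rw [h1] at h3
    exact (mul_eq_zero.1 h3).resolve_left (inv_ne_zero (by exact_mod_cast Nat.card_pos.ne'))
  have h3 : ∀ b : M.B, ∑ α : MulChar F ℂ, ∑ β : MulChar F ℂ, χ b * conj (M.bf α β b) =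
      if M.m b.1 0 0 = 1 ∧ M.m b.1 1 1 = 1 then ((Fintype.card F : ℂ) - 1) ^ 2 * χ b else 0 := by
    intro b
    have e1 : ∑ α : MulChar F ℂ, ∑ β : MulChar F ℂ, χ b * conj (M.bf α β b) =
        χ b * (conj (∑ α : MulChar F ℂ, α (M.m b.1 0 0)) * conj (∑ β : MulChar F ℂ, β (M.m b.1 1 1))) := by
      rw [map_sum, map_sum, Finset.sum_mul_sum, Finset.mul_sum]
      refine Finset.sum_congr rfl fun α _ => ?_
      rw [Finset.mul_sum]
      refine Finset.sum_congr rfl fun β _ => ?_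
      rw [bf, map_mul]
    rw [e1, mc_dual, mc_dual]
    by_cases h4 : M.m b.1 0 0 = 1
    · by_cases h5 : M.m b.1 1 1 = 1
      · rw [if_pos h4, if_pos h5, if_pos ⟨h4, h5⟩]
        simp only [map_sub, map_natCast, map_one]; ring
      · rw [if_pos h4, if_neg h5, if_neg (fun h => h5 h.2)]; simp
    · rw [if_neg h4, if_neg (show ¬(M.m b.1 0 0 = 1 ∧ M.m b.1 1 1 = 1) from fun h => h4 h.1)]; simp
  have h4 : ∑ b : M.B, ∑ α : MulChar F ℂ, ∑ β : MulChar F ℂ, χ b * conj (M.bf α β b) = 0 := by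
    rw [Finset.sum_comm, ← h2]
    refine Finset.sum_congr rfl fun α _ => ?_
    rw [Finset.sum_comm]
  rw [Finset.sum_congr rfl (fun b _ => h3 b)] at h4
  have h5 : ∑ b : M.B, (if M.m b.1 0 0 = 1 ∧ M.m b.1 1 1 = 1 then ((Fintype.card F : ℂ) - 1) ^ 2 * χ b else 0) =
      ∑ x : F, ((Fintype.card F : ℂ) - 1) ^ 2 * χ (M.u x) := by
    symm
    refine Fintype.sum_of_injective (fun x : F => (⟨M.u x, M.u10 x⟩ : M.B)) ?_ _ _ ?_ ?_
    · intro x y hxy
      exact M.u_inj (congrArg Subtype.val hxy)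
    · intro b hb
      rw [if_neg]
      rintro ⟨h6, h7⟩
      apply hb
      refine ⟨M.m b.1 0 1, Subtype.ext (M.ext ?_ ?_ ?_ ?_)⟩
      · rw [u00, h6]
      · rw [u01]
      · rw [u10, M.mem_B.1 b.2]
      · rw [u11, h7]
    · intro x
      show _ = if M.m (M.u x) 0 0 = 1 ∧ M.m (M.u x) 1 1 = 1 then _ else _
      rw [if_pos ⟨M.u00 x, M.u11 x⟩]
  rw [h5, ← Finset.mul_sum] at h4
  exact (mul_eq_zero.1 h4).resolve_left (pow_ne_zero 2 q_sub_ne)

/-- one-dimensional characters -/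
noncomputable def lin (α : MulChar F ℂ) (g : G) : ℂ := α (M.dt g)

theorem isIrr_lin (α : MulChar F ℂ) : IsIrrCharacter G (M.lin α) := by
  let f : G →* ℂˣ :=
    { toFun := fun g => Units.mk0 (α (M.dt g)) (mc_ne α (M.dt_ne g))
      map_one' := by
        apply Units.ext
        show α (M.dt 1) = 1
        rw [dt_one, map_one]
      map_mul' := by
        intro b c
        apply Units.ext
        show α (M.dt (b * c)) = α (M.dt b) * α (M.dt c)
        rw [dt_mul, map_mul] }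
  exact isCharacter_one_dim f

theorem lin_one (α : MulChar F ℂ) : M.lin α 1 = 1 := by rw [lin, dt_one, map_one]

theorem ps_same (α : MulChar F ℂ) (g : G) : M.ps α α g = M.lin α g * M.ps 1 1 g := by
  rw [ps, ps, lin, mul_add, Finset.mul_sum]
  congr 1
  · by_cases h : M.m g 1 0 = 0
    · have hb := M.B_ne (g := g) h
      rw [if_pos h, if_pos h, MulChar.one_apply hb.1.isUnit, MulChar.one_apply hb.2.isUnit, mul_one, mul_one,
        ← map_mul]
      congr 1
      rw [dt, h]; ring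
    · rw [if_neg h, if_neg h, mul_zero]
  · refine Finset.sum_congr rfl fun x _ => ?_
    by_cases h : M.m g 1 0 * x ^ 2 + (M.m g 1 1 - M.m g 0 0) * x - M.m g 0 1 = 0
    · rw [if_pos h, if_pos h]
      have e1 : (M.m g 1 0 * x + M.m g 1 1) * (M.m g 0 0 - M.m g 1 0 * x) = M.dt g := by
        rw [dt]; linear_combination -(M.m g 1 0) * h
      have h1 : (M.m g 1 0 * x + M.m g 1 1) ≠ 0 := by
        intro h2; rw [h2, zero_mul] at e1; exact M.dt_ne g e1.symm
      have h2 : (M.m g 0 0 - M.m g 1 0 * x) ≠ 0 := by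
        intro h2; rw [h2, mul_zero] at e1; exact M.dt_ne g e1.symm
      rw [MulChar.one_apply h1.isUnit, MulChar.one_apply h2.isUnit, mul_one, mul_one, ← map_mul, e1]
    · rw [if_neg h, if_neg h, mul_zero]

/-- twists of the Steinberg character -/
noncomputable def sta (α : MulChar F ℂ) (g : G) : ℂ := M.ps α α g - M.lin α g

theorem inner_ps_lin (α : MulChar F ℂ) : classInner (M.ps α α) (M.lin α) = 1 := by
  classical
  haveI : Fintype M.B := Fintype.ofFinite _
  rw [← M.indFun_bf, CfsgH4.frobenius M.B _ (IsIrr.isClassFunction (M.isIrr_lin α)), classInner_def]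
  have h1 : ∀ b : M.B, M.bf α α b * conj (M.lin α b) = 1 := by
    intro b
    have : M.lin α b = M.bf α α b := by
      rw [lin, bf, ← map_mul, dt, M.mem_B.1 b.2]; congr 1; ring
    rw [this, bf, ← map_mul, mc_norm α (mul_ne_zero (M.B_ne b.2).1 (M.B_ne b.2).2)]
  rw [Finset.sum_congr rfl (fun b _ => h1 b), Finset.sum_const, Finset.card_univ, nsmul_eq_mul, mul_one,
    Nat.card_eq_fintype_card, inv_mul_cancel₀]
  exact_mod_cast Fintype.card_ne_zero

theorem isIrr_sta {α : MulChar F ℂ} (h2 : classInner (M.ps α α) (M.ps α α) = 2) : IsIrrCharacter G (M.sta α) := by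
  have e : M.sta α = M.ps α α - M.lin α := rfl
  have h3 := M.inner_ps_lin α
  have h4 : classInner (M.lin α) (M.ps α α) = 1 := by
    rw [← classInner_conj_symm, h3, map_one]
  have h5 := classInner_irr_self (M.isIrr_lin α)
  have h1 : classInner (M.sta α) (M.sta α) = 1 := by
    rw [e, classInner_sub_left, classInner_sub_right, classInner_sub_right, h2, h3, h4, h5]; norm_num
  have hg : IsGeneralizedCharacter G (M.sta α) := ⟨_, _, M.isCharacter_ps α α, IsIrr.isCharacter (M.isIrr_lin α), e⟩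
  rcases IsGen.norm_one hg h1 with h | h
  · exact h
  · exfalso
    obtain ⟨n, hn⟩ := IsCharacter.one_nat (IsIrr.isCharacter h)
    rw [Pi.neg_apply, sta, M.ps_one, M.lin_one] at hn
    have : (Fintype.card F + n : ℂ) = 0 := by linear_combination -hn
    have h7 : Fintype.card F + n = 0 := by exact_mod_cast this
    have := Fintype.card_pos (α := F)
    omega

theorem sta_one (α : MulChar F ℂ) : M.sta α 1 = Fintype.card F := by
  rw [sta, M.ps_one, M.lin_one]; ring

theorem of_inner_same {χ : G → ℂ} (hχ : IsIrrCharacter G χ) {α : MulChar F ℂ}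
    (h2 : classInner (M.ps α α) (M.ps α α) = 2) (h : classInner χ (M.ps α α) ≠ 0) :
    χ = M.lin α ∨ χ = M.sta α := by
  by_contra hc
  push Not at hc
  apply h
  have e : M.ps α α = M.lin α + M.sta α := by
    funext g; show _ = M.lin α g + M.sta α g; rw [sta]; ring
  rw [e, classInner_add_right, classInner_irr_ne hχ (M.isIrr_lin α) hc.1,
    classInner_irr_ne hχ (M.isIrr_sta h2) hc.2, add_zero]

/-- classification of the non-cuspidal characters, GL type -/
theorem noncusp_GL (hM : M.IsGL) {χ : G → ℂ} (hχ : IsIrrCharacter G χ) (h : ¬ M.Cusp χ) :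
    (∃ α, χ = M.lin α) ∨ (∃ α, χ = M.sta α) ∨ ∃ α β : MulChar F ℂ, α ≠ β ∧ χ = M.ps α β := by
  classical
  obtain ⟨α, β, h1⟩ := M.noncusp (IsIrr.isCharacter hχ) h
  by_cases hab : α = β
  · subst hab
    have h2 : classInner (M.ps α α) (M.ps α α) = 2 := by
      rw [M.inner_ps_GL hM, if_pos rfl]; norm_num
    rcases M.of_inner_same hχ h2 h1 with h3 | h3
    · exact Or.inl ⟨α, h3⟩
    · exact Or.inr (Or.inl ⟨α, h3⟩)
  · have h2 : IsIrrCharacter G (M.ps α β) := by
      refine isIrr_of_norm_one (M.isCharacter_ps α β) ?_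
      rw [M.inner_ps_GL hM, if_pos rfl, if_pos rfl, if_neg hab]
      ring
    refine Or.inr (Or.inr ⟨α, β, hab, ?_⟩)
    by_contra hc
    exact h1 (classInner_irr_ne hχ h2 hc)

theorem isIrr_sta_GL (hM : M.IsGL) (α : MulChar F ℂ) : IsIrrCharacter G (M.sta α) := by
  classical
  refine M.isIrr_sta ?_
  rw [M.inner_ps_GL hM, if_pos rfl]; norm_num

theorem isIrr_ps_GL (hM : M.IsGL) {α β : MulChar F ℂ} (hab : α ≠ β) : IsIrrCharacter G (M.ps α β) := by
  classical
  refine isIrr_of_norm_one (M.isCharacter_ps α β) ?_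
  rw [M.inner_ps_GL hM, if_pos rfl, if_pos rfl, if_neg hab]
  ring

theorem u_conj_GL (hM : M.IsGL) {x : F} (hx : x ≠ 0) : IsConj (M.u 1) (M.u x) :=
  M.conj_GL' hM (M.u_not_Sc one_ne_zero) (M.u_not_Sc hx) (by rw [tr_u, tr_u]) (by rw [dt_u, dt_u])

theorem sum_u_GL (hM : M.IsGL) {χ : G → ℂ} (hχ : IsClassFunction G χ) :
    ∑ x : F, χ (M.u x) = χ 1 + ((Fintype.card F : ℂ) - 1) * χ (M.u 1) := by
  classical
  rw [← Finset.add_sum_erase Finset.univ _ (Finset.mem_univ (0 : F)), u_zero]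
  congr 1
  have h1 : ∀ x ∈ Finset.univ.erase (0 : F), χ (M.u x) = χ (M.u 1) := by
    intro x hx
    exact (IsClassFunction.eq_of_isConj hχ (M.u_conj_GL hM (Finset.ne_of_mem_erase hx))).symm
  rw [Finset.sum_congr rfl h1, Finset.sum_const, Finset.card_erase_of_mem (Finset.mem_univ _), Finset.card_univ,
    nsmul_eq_mul, Nat.cast_sub Fintype.card_pos, Nat.cast_one]

theorem cusp_deg_GL (hM : M.IsGL) {χ : G → ℂ} (hχ : IsIrrCharacter G χ) (hc : M.Cusp χ) :
    ∃ n : ℕ, 1 ≤ n ∧ χ 1 = n * ((Fintype.card F : ℂ) - 1) ∧ χ (M.u 1) = -n := by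
  have h1 := M.sum_u_GL hM (IsIrr.isClassFunction hχ)
  rw [show ∑ x : F, χ (M.u x) = 0 from hc] at h1
  obtain ⟨d, hd⟩ := IsCharacter.one_nat (IsIrr.isCharacter hχ)
  have hq := q_sub_ne (F := F)
  have h2 : χ (M.u 1) = ((-(d : ℚ) / ((Fintype.card F : ℚ) - 1) : ℚ) : ℂ) := by
    push_cast
    field_simp
    linear_combination -h1 - hd
  obtain ⟨n, hn⟩ := int_of_isIntegral_rat (IsCharacter.isIntegral (IsIrr.isCharacter hχ) (M.u 1)) h2
  have h3 : (d : ℂ) = -n * ((Fintype.card F : ℂ) - 1) := by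
    rw [← hd]; rw [hn] at h1; linear_combination -h1
  have hq1 : 1 < Fintype.card F := Fintype.one_lt_card
  have h4 : (d : ℤ) = -n * ((Fintype.card F : ℤ) - 1) := by exact_mod_cast h3
  have hd0 : 0 < d := by
    rcases Nat.eq_zero_or_pos d with h | h
    · exfalso; rw [h, Nat.cast_zero] at hd; exact IsIrr.one_ne_zero hχ hd
    · exact h
  have h5 : n < 0 := by
    have h6 : (0 : ℤ) < -n * ((Fintype.card F : ℤ) - 1) := by rw [← h4]; exact_mod_cast hd0
    have h7 : (0 : ℤ) < (Fintype.card F : ℤ) - 1 := by omega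
    by_contra hn0
    have h8 := mul_nonneg (not_lt.1 hn0) h7.le
    linarith
  obtain ⟨k, rfl⟩ : ∃ k : ℕ, n = -(k : ℤ) := ⟨n.natAbs, by omega⟩
  refine ⟨k, by omega, ?_, ?_⟩
  · rw [hd, h3]; push_cast; ring
  · rw [hn]; push_cast; ring

end MG

end CfsgH6
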