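import Cfsg.Agent.H6.Sl7
set_option autoImplicit false

namespace CfsgH6
open Cfsg CfsgH4
open scoped ComplexConjugate

namespace MG
variable {G : Type*} [Group G] {F : Type*} [Field F] (M : MG G F)
variable [Fintype F] [DecidableEq F] [Fintype G]

theorem ps_u (α β : MulChar F ℂ) {x : F} (hx : x ≠ 0) : M.ps α β (M.u x) = 1 := by
  rw [M.ps_unip α β (by rw [u01]; exact hx) (M.u10 x) (by rw [u00, u11]), u00, map_one, map_one, mul_one]

theorem lin_u (α : MulChar F ℂ) (x : F) : M.lin α (M.u x) = 1 := by rw [lin, dt_u, map_one]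

theorem sum_ps_u (α β : MulChar F ℂ) : ∑ x : F, M.ps α β (M.u x) = 2 * (Fintype.card F : ℂ) := by
  classical
  rw [← Finset.add_sum_erase Finset.univ _ (Finset.mem_univ (0 : F)), u_zero, ps_one]
  rw [Finset.sum_congr rfl (fun x hx => M.ps_u α β (Finset.ne_of_mem_erase hx)), Finset.sum_const,
    Finset.card_erase_of_mem (Finset.mem_univ _), Finset.card_univ,
    nsmul_eq_mul, Nat.cast_sub Fintype.card_pos, Nat.cast_one]
  ring

theorem sum_lin_u (α : MulChar F ℂ) : ∑ x : F, M.lin α (M.u x) = (Fintype.card F : ℂ) := by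
  rw [Finset.sum_congr rfl (fun x _ => M.lin_u α x), Finset.sum_const, Finset.card_univ, nsmul_eq_mul, mul_one]

theorem sum_sta_u (α : MulChar F ℂ) : ∑ x : F, M.sta α (M.u x) = (Fintype.card F : ℂ) := by
  simp only [sta, Finset.sum_sub_distrib, sum_ps_u, sum_lin_u]; ring

theorem card_F_ne : (Fintype.card F : ℂ) ≠ 0 := by exact_mod_cast Fintype.card_ne_zero

theorem not_cusp_ps (α β : MulChar F ℂ) : ¬ M.Cusp (M.ps α β) := by
  rw [Cusp, sum_ps_u]; exact mul_ne_zero two_ne_zero card_F_ne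
theorem not_cusp_lin (α : MulChar F ℂ) : ¬ M.Cusp (M.lin α) := by
  rw [Cusp, sum_lin_u]; exact card_F_ne
theorem not_cusp_sta (α : MulChar F ℂ) : ¬ M.Cusp (M.sta α) := by
  rw [Cusp, sum_sta_u]; exact card_F_ne

omit [DecidableEq F] [Fintype G] in
theorem lin_inj_GL (hM : M.IsGL) : Function.Injective (fun α : MulChar F ℂ => M.lin α) := by
  intro α β h
  refine MulChar.ext fun a => ?_
  obtain ⟨g, hg⟩ := hM !![(a : F), 0; 0, 1] (by rw [Matrix.det_fin_two]; simp)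
  have := congrFun h g
  simp only [lin] at this
  rwa [dt, hg, show (!![(a : F), 0; 0, 1] : Matrix (Fin 2) (Fin 2) F) 0 0 * (!![(a : F), 0; 0, 1] : Matrix (Fin 2) (Fin 2) F) 1 1 -
    (!![(a : F), 0; 0, 1] : Matrix (Fin 2) (Fin 2) F) 0 1 * (!![(a : F), 0; 0, 1] : Matrix (Fin 2) (Fin 2) F) 1 0 = a by
      simp] at this

theorem sta_inj_GL (hM : M.IsGL) : Function.Injective (fun α : MulChar F ℂ => M.sta α) := by
  intro α β h
  refine MulChar.ext fun a => ?_
  by_cases ha : (a : F) = 1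
  · rw [ha, map_one, map_one]
  obtain ⟨g, hg⟩ := hM !![(a : F), 0; 0, 1] (by rw [Matrix.det_fin_two]; simp)
  have h00 : M.m g 0 0 = a := by rw [hg]; rfl
  have h01 : M.m g 0 1 = 0 := by rw [hg]; rfl
  have h10 : M.m g 1 0 = 0 := by rw [hg]; rfl
  have h11 : M.m g 1 1 = 1 := by rw [hg]; rfl
  have key : ∀ γ : MulChar F ℂ, M.sta γ g = γ a := by
    intro γ
    rw [sta, M.ps_split γ γ h01 h10 (by rw [h00, h11]; exact ha), lin, dt, h00, h01, h10, h11, map_one]
    simp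
  have := congrFun h g
  simp only at this
  rwa [key, key] at this

theorem ps_inj_GL (hM : M.IsGL) {α β α' β' : MulChar F ℂ} (h : M.ps α β = M.ps α' β') :
    (α = α' ∧ β = β') ∨ (α = β' ∧ β = α') := by
  classical
  have h1 := M.inner_ps_GL hM α β α' β'
  have h2 := M.inner_ps_GL hM α β α β
  rw [← h, h2] at h1
  rw [if_pos rfl, if_pos rfl] at h1
  by_contra hc
  push Not at hc
  have e1 : (if α = α' then (1 : ℂ) else 0) * (if β = β' then 1 else 0) = 0 := by
    by_cases h3 : α = α'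
    · rw [if_neg (hc.1 h3), mul_zero]
    · rw [if_neg h3, zero_mul]
  have e2 : (if α = β' then (1 : ℂ) else 0) * (if β = α' then 1 else 0) = 0 := by
    by_cases h3 : α = β'
    · rw [if_neg (hc.2 h3), mul_zero]
    · rw [if_neg h3, zero_mul]
  rw [e1, e2] at h1
  split_ifs at h1 <;> norm_num at h1

section CountGL
open scoped Classical

theorem card_A1 (hM : M.IsGL) : Nat.card {χ : IrrCharacter G // ∃ α, (χ : G → ℂ) = M.lin α} = Fintype.card F - 1 := by
  rw [← card_mc (F := F)]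
  refine (Nat.card_eq_of_bijective (fun α : MulChar F ℂ => ⟨⟨M.lin α, M.isIrr_lin α⟩, ⟨α, rfl⟩⟩) ⟨?_, ?_⟩).symm
  · intro α β h
    exact M.lin_inj_GL hM (congrArg (fun z => z.1.1) h)
  · rintro ⟨⟨χ, hχ⟩, α, h⟩
    exact ⟨α, Subtype.ext (Subtype.ext h.symm)⟩

theorem card_A2 (hM : M.IsGL) : Nat.card {χ : IrrCharacter G // ∃ α, (χ : G → ℂ) = M.sta α} = Fintype.card F - 1 := by
  rw [← card_mc (F := F)]
  refine (Nat.card_eq_of_bijective (fun α : MulChar F ℂ => ⟨⟨M.sta α, M.isIrr_sta_GL hM α⟩, ⟨α, rfl⟩⟩) ⟨?_, ?_⟩).symm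
  · intro α β h
    exact M.sta_inj_GL hM (congrArg (fun z => z.1.1) h)
  · rintro ⟨⟨χ, hχ⟩, α, h⟩
    exact ⟨α, Subtype.ext (Subtype.ext h.symm)⟩

theorem card_A3 (hM : M.IsGL) : Nat.card {χ : IrrCharacter G // ∃ α β, α ≠ β ∧ (χ : G → ℂ) = M.ps α β} =
    (Fintype.card F - 1).choose 2 := by
  haveI : Fintype (MulChar F ℂ) := Fintype.ofFinite _
  have h0 : Fintype.card {a : Sym2 (MulChar F ℂ) // ¬a.IsDiag} = (Fintype.card F - 1).choose 2 := by
    rw [Sym2.card_subtype_not_diag, ← Nat.card_eq_fintype_card, card_mc]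
  rw [← h0, ← Nat.card_eq_fintype_card]
  let e : Sym2 (MulChar F ℂ) → (G → ℂ) := Sym2.lift ⟨fun α β => M.ps α β, fun α β => funext fun g => M.ps_swap β α g⟩
  have he : ∀ α β, e s(α, β) = M.ps α β := fun α β => rfl
  have h1 : ∀ z : {a : Sym2 (MulChar F ℂ) // ¬a.IsDiag}, ∃ α β, α ≠ β ∧ e z.1 = M.ps α β := by
    rintro ⟨z, hz⟩
    induction z using Sym2.ind with
    | _ α β => exact ⟨α, β, fun h => hz (Sym2.mk_isDiag_iff.2 h), rfl⟩
  have h2 : ∀ z : {a : Sym2 (MulChar F ℂ) // ¬a.IsDiag}, IsIrrCharacter G (e z.1) := by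
    intro z
    obtain ⟨α, β, h, h'⟩ := h1 z
    rw [h']; exact M.isIrr_ps_GL hM h
  refine (Nat.card_eq_of_bijective (fun z : {a : Sym2 (MulChar F ℂ) // ¬a.IsDiag} => ⟨⟨e z.1, h2 z⟩, h1 z⟩) ⟨?_, ?_⟩).symm
  · rintro ⟨z, hz⟩ ⟨z', hz'⟩ h
    have h3 : e z = e z' := congrArg (fun z => z.1.1) h
    apply Subtype.ext
    show z = z'
    clear h
    induction z using Sym2.ind with
    | _ α β =>
      induction z' using Sym2.ind with
      | _ α' β' =>
        rw [he, he] at h3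
        rw [Sym2.eq_iff]
        exact M.ps_inj_GL hM h3
  · rintro ⟨⟨χ, hχ⟩, α, β, hab, h⟩
    exact ⟨⟨s(α, β), fun hd => hab (Sym2.mk_isDiag_iff.1 hd)⟩, Subtype.ext (Subtype.ext h.symm)⟩

theorem natCard_filter {α : Type*} [Fintype α] (p : α → Prop) : Nat.card {x // p x} = (Finset.univ.filter p).card := by
  rw [Nat.card_eq_fintype_card, Fintype.card_subtype]

theorem q_ne1 : (Fintype.card F : ℂ) ≠ 1 := by
  have := q_sub_ne (F := F)
  intro h; exact this (by rw [h, sub_self])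
theorem q1_ne1 : (Fintype.card F : ℂ) + 1 ≠ 1 := by
  intro h; exact card_F_ne (F := F) (by linear_combination h)
theorem q1_ne_q : (Fintype.card F : ℂ) + 1 ≠ Fintype.card F := by
  intro h; exact one_ne_zero (α := ℂ) (by linear_combination h)

theorem count_GL (hM : M.IsGL) :
    (∀ χ : G → ℂ, IsIrrCharacter G χ → M.Cusp χ → χ 1 = (Fintype.card F : ℂ) - 1 ∧ χ (M.u 1) = -1) ∧
    2 * Nat.card {χ : IrrCharacter G // M.Cusp (χ : G → ℂ)} = Fintype.card F * (Fintype.card F - 1) := by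
  set q := Fintype.card F with hq
  obtain ⟨n, hn⟩ : ∃ n, q = n + 1 := ⟨q - 1, by have := Fintype.card_pos (α := F); omega⟩
  have hn0 : 0 < n := by have := Fintype.one_lt_card (α := F); omega
  set A1 : Finset (IrrCharacter G) := Finset.univ.filter (fun χ => ∃ α, (χ : G → ℂ) = M.lin α) with hA1
  set A2 : Finset (IrrCharacter G) := Finset.univ.filter (fun χ => ∃ α, (χ : G → ℂ) = M.sta α) with hA2
  set A3 : Finset (IrrCharacter G) := Finset.univ.filter (fun χ => ∃ α β, α ≠ β ∧ (χ : G → ℂ) = M.ps α β) with hA3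
  set C : Finset (IrrCharacter G) := Finset.univ.filter (fun χ => M.Cusp (χ : G → ℂ)) with hC
  have c1 : A1.card = n := by rw [hA1, ← natCard_filter, M.card_A1 hM, ← hq, hn]; rfl
  have c2 : A2.card = n := by rw [hA2, ← natCard_filter, M.card_A2 hM, ← hq, hn]; rfl
  have c3 : A3.card = n.choose 2 := by rw [hA3, ← natCard_filter, M.card_A3 hM, ← hq, hn]; rfl
  have d1 : ∀ χ ∈ A1, (χ : G → ℂ) 1 = 1 := by
    intro χ h; obtain ⟨α, h⟩ := (Finset.mem_filter.1 h).2; rw [h, lin_one]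
  have d2 : ∀ χ ∈ A2, (χ : G → ℂ) 1 = q := by
    intro χ h; obtain ⟨α, h⟩ := (Finset.mem_filter.1 h).2; rw [h, sta_one]
  have d3 : ∀ χ ∈ A3, (χ : G → ℂ) 1 = q + 1 := by
    intro χ h; obtain ⟨α, β, _, h⟩ := (Finset.mem_filter.1 h).2; rw [h, ps_one]
  have n1 : ∀ χ ∈ A1, ¬ M.Cusp (χ : G → ℂ) := by
    intro χ h; obtain ⟨α, h⟩ := (Finset.mem_filter.1 h).2; rw [h]; exact M.not_cusp_lin α
  have n2 : ∀ χ ∈ A2, ¬ M.Cusp (χ : G → ℂ) := by
    intro χ h; obtain ⟨α, h⟩ := (Finset.mem_filter.1 h).2; rw [h]; exact M.not_cusp_sta α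
  have n3 : ∀ χ ∈ A3, ¬ M.Cusp (χ : G → ℂ) := by
    intro χ h; obtain ⟨α, β, _, h⟩ := (Finset.mem_filter.1 h).2; rw [h]; exact M.not_cusp_ps α β
  have hU : (Finset.univ : Finset (IrrCharacter G)) = ((A1 ∪ A2) ∪ A3) ∪ C := by
    symm
    rw [Finset.eq_univ_iff_forall]
    intro χ
    simp only [Finset.mem_union, hA1, hA2, hA3, hC, Finset.mem_filter, Finset.mem_univ, true_and]
    by_cases h : M.Cusp (χ : G → ℂ)
    · exact Or.inr h
    · rcases M.noncusp_GL hM χ.2 h with h | h | h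
      · exact Or.inl (Or.inl (Or.inl h))
      · exact Or.inl (Or.inl (Or.inr h))
      · exact Or.inl (Or.inr h)
  have e12 : Disjoint A1 A2 := by
    rw [Finset.disjoint_left]; intro χ h h'
    exact q_ne1 (F := F) ((d2 χ h').symm.trans (d1 χ h))
  have e123 : Disjoint (A1 ∪ A2) A3 := by
    rw [Finset.disjoint_left]; intro χ h h'
    rcases Finset.mem_union.1 h with h | h
    · exact q1_ne1 (F := F) ((d3 χ h').symm.trans (d1 χ h))
    · exact q1_ne_q (F := F) ((d3 χ h').symm.trans (d2 χ h))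
  have e1234 : Disjoint ((A1 ∪ A2) ∪ A3) C := by
    rw [Finset.disjoint_left]; intro χ h h'
    have hc : M.Cusp (χ : G → ℂ) := (Finset.mem_filter.1 h').2
    rcases Finset.mem_union.1 h with h | h
    · rcases Finset.mem_union.1 h with h | h
      · exact n1 χ h hc
      · exact n2 χ h hc
    · exact n3 χ h hc
  have hcard : A1.card + A2.card + A3.card + C.card = (n + 1) ^ 2 - 1 := by
    rw [← Finset.card_union_of_disjoint e12, ← Finset.card_union_of_disjoint e123,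
      ← Finset.card_union_of_disjoint e1234, ← hU, Finset.card_univ, ← Nat.card_eq_fintype_card, card_irr,
      M.card_classes_GL hM, ← hq, hn]
  have ht : 2 * n.choose 2 + n = n * n := by
    have := Nat.triangle_succ n
    rw [Nat.choose_two_right]
    have h2 := Nat.even_mul_pred_self n
    obtain ⟨k, hk⟩ := h2
    rw [hk]
    obtain ⟨m, rfl⟩ : ∃ m, n = m + 1 := ⟨n - 1, by omega⟩
    simp only [Nat.add_sub_cancel] at hk
    have : (k + k) / 2 = k := by omega
    rw [this]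
    nlinarith
  have hCc : 2 * C.card = (n + 1) * n := by
    rw [c1, c2, c3] at hcard
    have : (n + 1) ^ 2 - 1 = n * n + 2 * n := by
      rw [show (n + 1) ^ 2 = n * n + 2 * n + 1 by ring, Nat.add_sub_cancel]
    rw [this] at hcard
    nlinarith
  have hdeg : ∀ χ : IrrCharacter G, M.Cusp (χ : G → ℂ) → ∃ k : ℕ, 1 ≤ k ∧ (χ : G → ℂ) 1 = k * ((q : ℂ) - 1) ∧
      (χ : G → ℂ) (M.u 1) = - (k : ℂ) := fun χ h => M.cusp_deg_GL hM χ.2 h
  choose! k hk1 hk2 hk3 using hdeg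
  have hsum : (n : ℂ) * 1 + n * q ^ 2 + (n.choose 2 : ℂ) * ((q : ℂ) + 1) ^ 2 +
      ∑ χ ∈ C, ((k χ : ℂ)) ^ 2 * ((q : ℂ) - 1) ^ 2 = ((q - 1) ^ 2 * q * (q + 1) : ℕ) := by
    rw [hq, ← M.card_GL hM, ← sum_sq (G := G), hU, Finset.sum_union e1234, Finset.sum_union e123,
      Finset.sum_union e12]
    congr 1
    · congr 1
      · congr 1
        · rw [Finset.sum_congr rfl (fun χ h => by rw [d1 χ h]), Finset.sum_const, c1, nsmul_eq_mul, one_pow]
        · rw [Finset.sum_congr rfl (fun χ h => by rw [d2 χ h]), Finset.sum_const, c2, nsmul_eq_mul]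
      · rw [Finset.sum_congr rfl (fun χ h => by rw [d3 χ h]), Finset.sum_const, c3, nsmul_eq_mul]
    · exact Finset.sum_congr rfl fun χ h => by
        rw [hk2 χ (Finset.mem_filter.1 h).2]; ring
  rw [← Finset.sum_mul] at hsum
  have hsum2 : n + n * (n + 1) ^ 2 + n.choose 2 * (n + 2) ^ 2 + (∑ χ ∈ C, k χ ^ 2) * n ^ 2 =
      n ^ 2 * (n + 1) * (n + 2) := by
    have e1 : ((q : ℂ) - 1) = n := by rw [hn]; push_cast; ring
    have e2 : q - 1 = n := by omega
    rw [e1, e2, hn] at hsum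
    push_cast at hsum
    have : (((n + n * (n + 1) ^ 2 + n.choose 2 * (n + 2) ^ 2 + (∑ χ ∈ C, k χ ^ 2) * n ^ 2 : ℕ) : ℂ)) =
        ((n ^ 2 * (n + 1) * (n + 2) : ℕ) : ℂ) := by
      push_cast
      linear_combination hsum
    exact_mod_cast this
  have hks : ∑ χ ∈ C, k χ ^ 2 = C.card := by
    have h1 : (∑ χ ∈ C, k χ ^ 2) * (2 * n ^ 2) = C.card * (2 * n ^ 2) := by
      have h3 : C.card * (2 * n ^ 2) = (n + 1) * n * n ^ 2 := by rw [← hCc]; ring
      rw [h3]
      zify at hsum2 ht ⊢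
      linear_combination 2 * hsum2 - (n + 2) ^ 2 * ht
    exact Nat.eq_of_mul_eq_mul_right (by positivity) h1
  have hk : ∀ χ ∈ C, k χ = 1 := by
    have h1 : ∑ χ ∈ C, (k χ ^ 2 - 1) = 0 := by
      have h2 : ∑ χ ∈ C, (k χ ^ 2 - 1) + ∑ χ ∈ C, 1 = ∑ χ ∈ C, k χ ^ 2 := by
        rw [← Finset.sum_add_distrib]
        refine Finset.sum_congr rfl fun χ h => ?_
        have := hk1 χ (Finset.mem_filter.1 h).2
        have : 1 ≤ k χ ^ 2 := Nat.one_le_pow _ _ this
        omega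
      rw [hks, Finset.sum_const, smul_eq_mul, mul_one] at h2
      omega
    intro χ h
    have h2 := Finset.sum_eq_zero_iff.1 h1 χ h
    have h3 := hk1 χ (Finset.mem_filter.1 h).2
    nlinarith [Nat.sub_eq_zero_iff_le.1 h2]
  constructor
  · intro χ hχ hc
    have h1 : (⟨χ, hχ⟩ : IrrCharacter G) ∈ C := Finset.mem_filter.2 ⟨Finset.mem_univ _, hc⟩
    have h2 := hk2 ⟨χ, hχ⟩ hc
    have h3 := hk3 ⟨χ, hχ⟩ hc
    rw [hk _ h1] at h2 h3
    simp only [Nat.cast_one, one_mul] at h2 h3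
    exact ⟨h2, h3⟩
  · rw [natCard_filter, ← hC, hCc, hn]; rfl

end CountGL

end MG

end CfsgH6
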