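import Cfsg.Agent.H6.Sl8
set_option autoImplicit false

namespace CfsgH6
open Cfsg CfsgH4
open scoped ComplexConjugate

namespace MG
variable {G : Type*} [Group G] {F : Type*} [Field F] (M : MG G F)
variable [Fintype F] [DecidableEq F] [Fintype G]

theorem irr_GL (hM : M.IsGL) {χ : G → ℂ} (hχ : IsIrrCharacter G χ) :
    (∃ α, χ = M.lin α) ∨ (∃ α, χ = M.sta α) ∨ (∃ α β : MulChar F ℂ, α ≠ β ∧ χ = M.ps α β) ∨
    (M.Cusp χ ∧ χ 1 = (Fintype.card F : ℂ) - 1 ∧ χ (M.u 1) = -1) := by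
  by_cases h : M.Cusp χ
  · exact Or.inr (Or.inr (Or.inr ⟨h, (M.count_GL hM).1 χ hχ h⟩))
  · rcases M.noncusp_GL hM hχ h with h | h | h
    · exact Or.inl h
    · exact Or.inr (Or.inl h)
    · exact Or.inr (Or.inr (Or.inl h))

theorem nat_ne {a b : ℕ} (h : a ≠ b) : (a : ℂ) ≠ b := by exact_mod_cast h

omit [DecidableEq F] in
theorem sub_cast : ((Fintype.card F - 1 : ℕ) : ℂ) = (Fintype.card F : ℂ) - 1 := by
  rw [Nat.cast_sub Fintype.card_pos, Nat.cast_one]

theorem deg_GL_1 (hM : M.IsGL) (hq : 3 ≤ Fintype.card F) {χ : G → ℂ} (hχ : IsIrrCharacter G χ) (h : χ 1 = 1) :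
    ∃ α, χ = M.lin α := by
  rcases M.irr_GL hM hχ with h1 | ⟨α, rfl⟩ | ⟨α, β, _, rfl⟩ | ⟨_, h2, _⟩
  · exact h1
  · rw [sta_one] at h
    exact absurd (by exact_mod_cast h) (show Fintype.card F ≠ 1 by omega)
  · rw [ps_one] at h
    exact absurd (by exact_mod_cast h) (show Fintype.card F + 1 ≠ 1 by omega)
  · rw [h, ← sub_cast] at h2
    exact absurd (by exact_mod_cast h2) (show 1 ≠ Fintype.card F - 1 by omega)

theorem deg_GL_q (hM : M.IsGL) {χ : G → ℂ} (hχ : IsIrrCharacter G χ) (h : χ 1 = Fintype.card F) :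
    ∃ α, χ = M.sta α := by
  have hq := Fintype.one_lt_card (α := F)
  rcases M.irr_GL hM hχ with ⟨α, rfl⟩ | h1 | ⟨α, β, _, rfl⟩ | ⟨_, h2, _⟩
  · rw [lin_one] at h
    exact absurd (by exact_mod_cast h) (show 1 ≠ Fintype.card F by omega)
  · exact h1
  · rw [ps_one] at h
    exact absurd (by exact_mod_cast h) (show Fintype.card F + 1 ≠ Fintype.card F by omega)
  · rw [h, ← sub_cast] at h2
    exact absurd (by exact_mod_cast h2) (show Fintype.card F ≠ Fintype.card F - 1 by omega)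

theorem deg_GL_q1 (hM : M.IsGL) {χ : G → ℂ} (hχ : IsIrrCharacter G χ) (h : χ 1 = Fintype.card F + 1) :
    ∃ α β : MulChar F ℂ, α ≠ β ∧ χ = M.ps α β := by
  have hq := Fintype.one_lt_card (α := F)
  rcases M.irr_GL hM hχ with ⟨α, rfl⟩ | ⟨α, rfl⟩ | h1 | ⟨_, h2, _⟩
  · rw [lin_one] at h
    exact absurd (by exact_mod_cast h) (show 1 ≠ Fintype.card F + 1 by omega)
  · rw [sta_one] at h
    exact absurd (by exact_mod_cast h) (show Fintype.card F ≠ Fintype.card F + 1 by omega)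
  · exact h1
  · rw [h, ← sub_cast] at h2
    exact absurd (by exact_mod_cast h2) (show Fintype.card F + 1 ≠ Fintype.card F - 1 by omega)

theorem deg_GL_c (hM : M.IsGL) (hq : 3 ≤ Fintype.card F) {χ : G → ℂ} (hχ : IsIrrCharacter G χ)
    (h : χ 1 = (Fintype.card F : ℂ) - 1) : M.Cusp χ ∧ χ (M.u 1) = -1 := by
  rw [← sub_cast] at h
  rcases M.irr_GL hM hχ with ⟨α, rfl⟩ | ⟨α, rfl⟩ | ⟨α, β, _, rfl⟩ | h1
  · rw [lin_one] at h
    exact absurd (by exact_mod_cast h) (show 1 ≠ Fintype.card F - 1 by omega)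
  · rw [sta_one] at h
    exact absurd (by exact_mod_cast h) (show Fintype.card F ≠ Fintype.card F - 1 by omega)
  · rw [ps_one] at h
    exact absurd (by exact_mod_cast h) (show Fintype.card F + 1 ≠ Fintype.card F - 1 by omega)
  · exact ⟨h1.1, h1.2.2⟩

end MG

end CfsgH6
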