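import Cfsg.Agent.H6.ChJ1
import Cfsg.Agent.H6.ChZ6

set_option autoImplicit false

/-! Types of elements with respect to the Bruhat decomposition; gates. -/

namespace CfsgH6
namespace Chv

open Cfsg.Lie

variable {D : ChevalleyDatum} (g : Good D) {F : Type*} [Field F]

namespace Good

/-- `x` lies in the Bruhat cell of the word `L` -/
def Ty (x : GL D.Idx F) (L : List ℕ) : Prop := (∀ i ∈ L, i < D.rank) ∧ ∃ b ∈ g.BB F, ∃ b' ∈ g.BB F, x = b * g.nl F L * b'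

theorem exists_ty {x : GL D.Idx F} (hx : x ∈ g.GG F) : ∃ L, g.Ty x L := by
  obtain ⟨b, hb, L, hL, u, hu, rfl⟩ := g.bruhat hx
  exact ⟨L, hL, b, hb, u, g.UU_le_BB (g.XS_mono (fun s _ hs => hs.1) hu), rfl⟩

variable {g}

theorem Ty.uniq {x : GL D.Idx F} {L L' : List ℕ} (h : g.Ty x L) (h' : g.Ty x L') : ∀ s < D.nroots, g.wl L s = g.wl L' s := by
  obtain ⟨hL, b, hb, c, hc, rfl⟩ := h
  obtain ⟨hL', b', hb', c', hc', he⟩ := h'
  have h1 := g.bruhat_unique_coset hb hb' (g.nl_mem hL) (g.nl_mem hL') hc hc' he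
  intro s hs
  have h2 : g.nl F L' = (g.nl F L * ((g.nl F L)⁻¹ * g.nl F L') * (g.nl F L)⁻¹) * g.nl F L := by group
  exact (g.wl_eq_of_nl hL' hL (g.nl_HH hL h1) h2 hs).symm

theorem Ty.congr {x : GL D.Idx F} {L L' : List ℕ} (h : g.Ty x L) (hL' : ∀ i ∈ L', i < D.rank) (he : ∀ s < D.nroots, g.wl L s = g.wl L' s) : g.Ty x L' := by
  obtain ⟨hL, b, hb, c, hc, rfl⟩ := h
  refine ⟨hL', b * (g.nl F L * (g.nl F L')⁻¹), Subgroup.mul_mem _ hb (g.HH_le_BB (g.nl_of_wl_eq hL hL' he)), c, hc, by group⟩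

theorem Ty.mul {x : GL D.Idx F} {L : List ℕ} (h : g.Ty x L) {b b' : GL D.Idx F} (hb : b ∈ g.BB F) (hb' : b' ∈ g.BB F) : g.Ty (b * x * b') L := by
  obtain ⟨hL, c, hc, c', hc', rfl⟩ := h
  exact ⟨hL, b * c, Subgroup.mul_mem _ hb hc, c' * b', Subgroup.mul_mem _ hc' hb', by group⟩

theorem Ty.inv {x : GL D.Idx F} {L : List ℕ} (h : g.Ty x L) : g.Ty x⁻¹ L.reverse := by
  obtain ⟨hL, b, hb, c, hc, rfl⟩ := h
  obtain ⟨h, hh, he⟩ := g.nl_inv (F := F) hL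
  refine ⟨fun i hi => hL i (List.mem_reverse.1 hi), c⁻¹ * h, Subgroup.mul_mem _ (Subgroup.inv_mem _ hc) (g.HH_le_BB hh), b⁻¹, Subgroup.inv_mem _ hb, ?_⟩
  rw [_root_.mul_inv_rev, _root_.mul_inv_rev, he]
  group

theorem Ty.mem_GG {x : GL D.Idx F} {L : List ℕ} (h : g.Ty x L) : x ∈ g.GG F := by
  obtain ⟨hL, b, hb, c, hc, rfl⟩ := h
  exact Subgroup.mul_mem _ (Subgroup.mul_mem _ (g.BB_le_GG hb) (g.NN_le_GG (g.nl_mem hL))) (g.BB_le_GG hc)

variable (g)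

theorem dg_wl {J : Set ℕ} : ∀ {L : List ℕ}, (∀ i ∈ L, i < D.rank ∧ i ∈ J) → ∀ {r : ℕ}, r < D.nroots → g.dg J (g.wl L r) = g.dg J r
  | [], _, _, _ => rfl
  | i :: L, hL, r, hr => by
    have hL' : ∀ i ∈ L, i < D.rank ∧ i ∈ J := fun x hx => hL x (List.mem_cons_of_mem _ hx)
    show g.dg J (g.w i (g.wl L r)) = _
    rw [g.dg_w (hL i List.mem_cons_self).1 (hL i List.mem_cons_self).2 (g.wl_lt (fun x hx => (hL' x hx).1) hr)]
    exact dg_wl hL' hr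

theorem coef_zero_of_dg {J : Set ℕ} {r : ℕ} (hr : r < D.nroots) (hp : g.N ≤ r) (hd : g.dg J r = 0) : ∀ i < D.rank, i ∉ J → g.coef r i = 0 := by
  intro i hi hJ
  unfold dg at hd
  rw [Finset.sum_eq_zero_iff_of_nonneg] at hd
  · have := hd i (Finset.mem_range.2 hi)
    rwa [if_neg hJ] at this
  · intro j hj
    split_ifs
    · exact le_refl _
    · exact g.coef_nonneg r hr hp j (Finset.mem_range.1 hj)

/-- positive on the fundamental roots of `J` implies positive on the positive roots of `Φ_J` -/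
theorem wl_pos_J {J : Set ℕ} {L : List ℕ} (hL : ∀ i ∈ L, i < D.rank) (h : ∀ i < D.rank, i ∈ J → g.N ≤ g.wl L (D.simple i)) :
    ∀ r < D.nroots, g.N ≤ r → g.dg J r = 0 → g.N ≤ g.wl L r := by
  intro r hr hp hd
  rw [g.Ev_pos (g.wl_lt hL hr)]
  obtain ⟨m', hm'⟩ := g.wl_lin hL (fun j => (128 : ℤ) ^ (D.rank - 1 - j))
  have h1 : ∀ j < D.rank, j ∈ J → 0 < m' j := by
    intro j hj hJ
    have h2 := hm' _ (g.simple_lt j hj)
    rw [g.sum_simple m' hj] at h2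
    rw [← h2]
    exact (g.Ev_pos (g.wl_lt hL (g.simple_lt j hj))).1 (h j hj hJ)
  have h3 : Ev D.rank (g.coef (g.wl L r)) = ∑ j ∈ Finset.range D.rank, g.coef r j * m' j := hm' r hr
  rw [h3]
  have h4 := (g.Ev_pos hr).1 hp
  have h0 := g.coef_zero_of_dg hr hp hd
  have h5 : ∃ j ∈ Finset.range D.rank, 0 < g.coef r j := by
    by_contra hne
    push Not at hne
    have : Ev D.rank (g.coef r) ≤ 0 := by
      unfold Ev
      apply Finset.sum_nonpos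
      intro j hj
      exact mul_nonpos_of_nonpos_of_nonneg (hne j hj) (by positivity)
    omega
  obtain ⟨j, hj, hj2⟩ := h5
  have hjJ : j ∈ J := by
    by_contra hJ
    rw [h0 j (Finset.mem_range.1 hj) hJ] at hj2
    exact lt_irrefl _ hj2
  apply Finset.sum_pos'
  · intro j hj
    by_cases hJ : j ∈ J
    · exact mul_nonneg (g.coef_nonneg r hr hp j (Finset.mem_range.1 hj)) (h1 j (Finset.mem_range.1 hj) hJ).le
    · rw [h0 j (Finset.mem_range.1 hj) hJ, zero_mul]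
  · exact ⟨j, hj, mul_pos hj2 (h1 j (Finset.mem_range.1 hj) hjJ)⟩

/-- a word in `J` sends positive roots outside `Φ_J` to positive roots -/
theorem wl_J_pos {J : Set ℕ} {L : List ℕ} (hL : ∀ i ∈ L, i < D.rank ∧ i ∈ J) {r : ℕ} (hr : r < D.nroots) (hp : g.N ≤ r)
    (hn : g.wl L r < g.N) : g.dg J r = 0 := by
  by_contra hne
  have h1 := g.dg_nonneg (J := J) hr hp
  have h2 := g.dg_wl hL hr
  have h3 := g.dg_nonpos (J := J) (g.wl_lt (fun i hi => (hL i hi).1) hr) hn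
  omega

theorem nl_split {J : Set ℕ} {L L' : List ℕ} (hL : ∀ i ∈ L, i < D.rank) (hJ : ∀ i < D.rank, i ∈ J → g.N ≤ g.wl L (D.simple i))
    (hL' : ∀ i ∈ L', i < D.rank ∧ i ∈ J) {b : GL D.Idx F} (hb : b ∈ g.BB F) :
    ∃ c ∈ g.BB F, ∃ c' ∈ g.BB F, g.nl F L * b * g.nl F L' = c * g.nl F (L ++ L') * c' := by
  have hL'' : ∀ i ∈ L', i < D.rank := fun i hi => (hL' i hi).1
  obtain ⟨y, hy, h, hh, rfl⟩ := g.mem_BB.1 hb
  have hrev : ∀ i ∈ L'.reverse, i < D.rank ∧ i ∈ J := fun i hi => hL' i (List.mem_reverse.1 hi)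
  obtain ⟨a, ha, c, hc, rfl⟩ := g.UU_factor (fun r => g.N ≤ g.wl L r) (fun r => g.N ≤ g.wl L'.reverse r) (by
    intro r hr hp
    by_cases h1 : g.N ≤ g.wl L'.reverse r
    · exact Or.inr h1
    · left
      push Not at h1
      exact g.wl_pos_J hL hJ r hr hp (g.wl_J_pos hrev hr hp h1)) hy
  have h1 : g.nl F L * a * (g.nl F L)⁻¹ ∈ g.UU F := g.conj_map_XS (S := fun r => g.N ≤ r ∧ g.N ≤ g.wl L r) (T := fun r => g.N ≤ r) hL (fun r _ h => h.2) _ ha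
  have h2 : (g.nl F L')⁻¹ * c * g.nl F L' ∈ g.UU F := by
    obtain ⟨k, hk, he⟩ := g.nl_inv (F := F) hL''
    have h3 : g.nl F L'.reverse * c * (g.nl F L'.reverse)⁻¹ ∈ g.UU F :=
      g.conj_map_XS (S := fun r => g.N ≤ r ∧ g.N ≤ g.wl L'.reverse r) (T := fun r => g.N ≤ r) (fun i hi => (hrev i hi).1) (fun r _ h => h.2) _ hc
    have h4 : (g.nl F L')⁻¹ * c * g.nl F L' = k * (g.nl F L'.reverse * c * (g.nl F L'.reverse)⁻¹) * k⁻¹ := by
      have h5 : g.nl F L' = (g.nl F L'.reverse)⁻¹ * k⁻¹ := by rw [← _root_.mul_inv_rev, ← he, _root_.inv_inv]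
      calc (g.nl F L')⁻¹ * c * g.nl F L' = (k * g.nl F L'.reverse) * c * ((g.nl F L'.reverse)⁻¹ * k⁻¹) := by rw [he, ← h5]
        _ = _ := by group
    rw [h4]
    exact g.BB_conjU (g.HH_le_BB hk) h3
  have h3 : (g.nl F L')⁻¹ * h * g.nl F L' ∈ g.HH F := by
    have := g.NN_HH (Subgroup.inv_mem _ (g.nl_mem (F := F) hL'')) hh
    rwa [_root_.inv_inv] at this
  refine ⟨_, g.UU_le_BB h1, _, Subgroup.mul_mem _ (g.UU_le_BB h2) (g.HH_le_BB h3), ?_⟩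
  rw [g.nl_append]
  group

theorem PJ_right {J : Set ℕ} {x : GL D.Idx F} (hx : x ∈ g.PJ F J) : ∃ L, (∀ i ∈ L, i < D.rank ∧ i ∈ J) ∧ g.Ty x L := by
  have h1 : g.PJ F J ≤ g.BB F ⊔ Subgroup.closure {x | ∃ j ∈ J, j < D.rank ∧ x = g.nn (F := F) j} := by
    rw [← g.parab_eq]
    unfold ChevalleyDatum.parabolicSubgroup
    rw [g.borel_eq]
    apply sup_le le_sup_left
    apply le_trans _ le_sup_right
    apply Subgroup.closure_mono
    rintro x ⟨j, hj, hj', hx⟩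
    rw [g.nMat_eq, ← g.nn_eq_ng] at hx
    exact ⟨j, hj, hj', Units.ext hx⟩
  have key : ∀ y : GL D.Idx F, (∃ L, (∀ i ∈ L, i < D.rank ∧ i ∈ J) ∧ g.Ty y L) → ∀ z : GL D.Idx F, (z ∈ g.BB F ∨ ∃ j ∈ J, j < D.rank ∧ z = g.nn j) →
      (∃ L, (∀ i ∈ L, i < D.rank ∧ i ∈ J) ∧ g.Ty (z * y) L) := by
    rintro y ⟨L, hL, hy⟩ z (hz | ⟨j, hj, hj', rfl⟩)
    · refine ⟨L, hL, ?_⟩
      have := hy.mul hz (Subgroup.one_mem _)
      rwa [mul_one] at this
    · obtain ⟨hL', b, hb, b', hb', rfl⟩ := hy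
      obtain ⟨b1, hb1, b2, hb2, h | h⟩ := g.bn3 hj' (g.nl_mem hL') hb
      · refine ⟨j :: L, ?_, ?_, b1, hb1, b2 * b', Subgroup.mul_mem _ hb2 hb', ?_⟩
        · intro i hi
          rcases List.mem_cons.1 hi with rfl | hi
          · exact ⟨hj', hj⟩
          · exact hL i hi
        · intro i hi
          rcases List.mem_cons.1 hi with rfl | hi
          · exact hj'
          · exact hL' i hi
        · rw [g.nl_cons, ← mul_assoc, ← mul_assoc, h]; group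
      · refine ⟨L, hL, hL', b1, hb1, b2 * b', Subgroup.mul_mem _ hb2 hb', ?_⟩
        rw [← mul_assoc, ← mul_assoc, h]; group
  have h2 : ∀ z ∈ g.BB F ⊔ Subgroup.closure {x | ∃ j ∈ J, j < D.rank ∧ x = g.nn (F := F) j}, ∀ y : GL D.Idx F, (∃ L, (∀ i ∈ L, i < D.rank ∧ i ∈ J) ∧ g.Ty y L) →
      (∃ L, (∀ i ∈ L, i < D.rank ∧ i ∈ J) ∧ g.Ty (z * y) L) := by
    have h3 : g.BB F ⊔ Subgroup.closure {x | ∃ j ∈ J, j < D.rank ∧ x = g.nn (F := F) j} =
        Subgroup.closure ((g.BB F : Set (GL D.Idx F)) ∪ {x | ∃ j ∈ J, j < D.rank ∧ x = g.nn (F := F) j}) := by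
      rw [Subgroup.closure_union, Subgroup.closure_eq]
    rw [h3]
    intro z hz
    induction hz using Subgroup.closure_induction'' with
    | one => intro y hy; rwa [one_mul]
    | mem z hz => intro y hy; exact key y hy z hz
    | inv_mem z hz =>
      intro y hy
      rcases hz with hz | ⟨j, hj, hj', rfl⟩
      · exact key y hy _ (Or.inl (Subgroup.inv_mem _ hz))
      · rw [g.nn_inv_eq hj', mul_assoc]
        exact key _ (key y hy _ (Or.inr ⟨j, hj, hj', rfl⟩)) _ (Or.inl (g.HH_le_BB (g.hD_mem _ _)))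
    | mul z z' _ _ h1 h2 => intro y hy; rw [mul_assoc]; exact h1 _ (h2 y hy)
  have h4 := h2 x (h1 hx) 1 ⟨[], by simp, by simp, 1, Subgroup.one_mem _, 1, Subgroup.one_mem _, by simp [nl_nil]⟩
  rwa [mul_one] at h4

theorem PJ_of_ty {J : Set ℕ} {x : GL D.Idx F} {L : List ℕ} (hL : ∀ i ∈ L, i < D.rank ∧ i ∈ J) (hx : g.Ty x L) : x ∈ g.PJ F J := by
  obtain ⟨hL', b, hb, b', hb', rfl⟩ := hx
  refine Subgroup.mul_mem _ (Subgroup.mul_mem _ (g.BB_le_PJ J hb) ?_) (g.BB_le_PJ J hb')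
  unfold nl
  apply Subgroup.list_prod_mem
  intro z hz
  obtain ⟨i, hi, rfl⟩ := List.mem_map.1 hz
  exact g.nn_mem_PJ (hL i hi).2 (hL i hi).1

end Good

end Chv
end CfsgH6
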