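import Cfsg.Agent.H6.St5
import Cfsg.Agent.H4.BrauerC

set_option autoImplicit false

/-! The norm of an alternating sum of permutation characters; irreducibility and vanishing. -/

namespace CfsgH6
namespace Stb

open scoped Classical ComplexConjugate
open Cfsg CfsgH4

variable {G : Type*} [Group G] {I : Finset ℕ}

theorem isCharacter_fpc [Finite G] (P : Subgroup G) : IsCharacter G (fixedPointCharacter P) := isCharacter_perm (G ⧸ P)

theorem fpc_conj_val (P : Subgroup G) (x : G) : conj (fixedPointCharacter P x) = fixedPointCharacter P x := by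
  unfold fixedPointCharacter
  exact Complex.conj_natCast _

theorem inner_fpc [Fintype G] (P Q : Subgroup G) : classInner (fixedPointCharacter P) (fixedPointCharacter Q) =
    Nat.card (Quotient (MulAction.orbitRel G ((G ⧸ P) × (G ⧸ Q)))) := by
  rw [← inner_perm_one, classInner_def, classInner_def]
  congr 1
  apply Finset.sum_congr rfl
  intro x _
  rw [fpc_conj_val, map_one, mul_one]
  unfold fixedPointCharacter
  rw [← Nat.cast_mul]
  congr 1
  rw [← Nat.card_prod]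
  apply Nat.card_congr
  refine
    { toFun := fun z => ⟨(z.1.1, z.2.1), ?_⟩
      invFun := fun z => (⟨z.1.1, ?_⟩, ⟨z.1.2, ?_⟩)
      left_inv := fun z => rfl
      right_inv := fun z => rfl }
  · rw [MulAction.mem_fixedBy]
    exact Prod.ext z.1.2 z.2.2
  · have := z.2
    rw [MulAction.mem_fixedBy] at this ⊢
    exact congrArg Prod.fst this
  · have := z.2
    rw [MulAction.mem_fixedBy] at this ⊢
    exact congrArg Prod.snd this

namespace Gate

variable (T : Gate G I)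

/-- double cosets -/
abbrev DC : Type _ := DoubleCoset.Quotient (T.B : Set G) (T.B : Set G)

theorem A_inv_inv (x : G) {b b' : G} (hb : b ∈ T.B) (hb' : b' ∈ T.B) : T.A (b * x * b')⁻¹ = T.A x⁻¹ := by
  have : (b * x * b')⁻¹ = b'⁻¹ * x⁻¹ * b⁻¹ := by group
  rw [this]
  exact T.A_inv _ (Subgroup.inv_mem _ hb') _ (Subgroup.inv_mem _ hb) _

theorem orbits_card [Finite G] {J K : Finset ℕ} (hJ : J ⊆ I) (hK : K ⊆ I)
    (hex : ∀ x, ∃ q ∈ T.P J, ∃ p ∈ T.P K, J ⊆ T.A (q * x * p)⁻¹ ∧ K ⊆ T.A (q * x * p))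
    (hun : ∀ x, ∀ q ∈ T.P J, ∀ p ∈ T.P K, J ⊆ T.A x⁻¹ → K ⊆ T.A x → J ⊆ T.A (q * x * p)⁻¹ → K ⊆ T.A (q * x * p) →
      ∃ b ∈ T.B, ∃ b' ∈ T.B, q * x * p = b * x * b') :
    Nat.card (Quotient (MulAction.orbitRel G ((G ⧸ T.P J) × (G ⧸ T.P K)))) =
      Nat.card {δ : T.DC // J ⊆ T.A (δ.out)⁻¹ ∧ K ⊆ T.A δ.out} := by
  symm
  apply Nat.card_congr
  refine Equiv.ofBijective (fun δ => (Quotient.mk'' ((QuotientGroup.mk 1, QuotientGroup.mk δ.1.out) : (G ⧸ T.P J) × (G ⧸ T.P K)) :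
    Quotient (MulAction.orbitRel G ((G ⧸ T.P J) × (G ⧸ T.P K))))) ⟨?_, ?_⟩
  · rintro ⟨δ, h1, h2⟩ ⟨δ', h1', h2'⟩ h
    have h3 := Quotient.eq''.1 h
    rw [MulAction.orbitRel_apply, MulAction.mem_orbit_iff] at h3
    obtain ⟨y, hy⟩ := h3
    have h4 : (QuotientGroup.mk (y * 1) : G ⧸ T.P J) = QuotientGroup.mk 1 := congrArg Prod.fst hy
    have h5 : (QuotientGroup.mk (y * δ'.out) : G ⧸ T.P K) = QuotientGroup.mk δ.out := congrArg Prod.snd hy
    rw [QuotientGroup.eq] at h4 h5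
    have hyJ : y ∈ T.P J := by
      have : y = ((y * 1)⁻¹ * 1)⁻¹ := by group
      rw [this]; exact Subgroup.inv_mem _ h4
    apply Subtype.ext
    show δ = δ'
    have h6 : y * δ'.out * ((y * δ'.out)⁻¹ * δ.out) = δ.out := by group
    obtain ⟨b, hb, b', hb', h7⟩ := hun δ'.out y hyJ _ h5 h1' h2' (by rw [h6]; exact h1) (by rw [h6]; exact h2)
    rw [h6] at h7
    have h8 : DoubleCoset.mk T.B T.B δ'.out = DoubleCoset.mk T.B T.B δ.out := (DoubleCoset.eq _ _ _ _).2 ⟨b, hb, b', hb', h7⟩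
    rw [DoubleCoset.out_eq', DoubleCoset.out_eq'] at h8
    exact h8.symm
  · intro ω
    induction ω using Quotient.inductionOn' with
    | h z =>
      obtain ⟨a, c⟩ := z
      induction a using QuotientGroup.induction_on with
      | H a =>
        induction c using QuotientGroup.induction_on with
        | H c =>
          obtain ⟨q, hq, p, hp, h1, h2⟩ := hex (a⁻¹ * c)
          obtain ⟨b, b', hb, hb', h3⟩ := DoubleCoset.mk_out_eq_mul T.B T.B (q * (a⁻¹ * c) * p)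
          refine ⟨⟨DoubleCoset.mk T.B T.B (q * (a⁻¹ * c) * p), ?_, ?_⟩, ?_⟩
          · rw [h3, T.A_inv_inv _ hb hb']; exact h1
          · rw [h3, T.A_inv _ hb _ hb']; exact h2
          · apply Quotient.eq''.2
            rw [MulAction.orbitRel_apply, MulAction.mem_orbit_iff]
            refine ⟨b * q * a⁻¹, ?_⟩
            apply Prod.ext
            · show (QuotientGroup.mk (b * q * a⁻¹ * a) : G ⧸ T.P J) = QuotientGroup.mk 1
              rw [QuotientGroup.eq]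
              have : (b * q * a⁻¹ * a)⁻¹ * 1 = (b * q)⁻¹ := by group
              rw [this]
              exact Subgroup.inv_mem _ (Subgroup.mul_mem _ (T.B_le J hJ hb) hq)
            · show (QuotientGroup.mk (b * q * a⁻¹ * c) : G ⧸ T.P K) = QuotientGroup.mk (DoubleCoset.mk T.B T.B (q * (a⁻¹ * c) * p)).out
              rw [h3, QuotientGroup.eq]
              have : (b * q * a⁻¹ * c)⁻¹ * (b * (q * (a⁻¹ * c) * p) * b') = p * b' := by group
              rw [this]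
              exact Subgroup.mul_mem _ hp (T.B_le K hK hb')

theorem st_eq_sum : T.st = ∑ J ∈ I.powerset, ((-1 : ℂ) ^ J.card) • fixedPointCharacter (T.P J) := by
  funext x
  unfold st
  rw [Finset.sum_apply]
  rfl

theorem norm [Fintype G]
    (hex : ∀ J ⊆ I, ∀ K ⊆ I, ∀ x, ∃ q ∈ T.P J, ∃ p ∈ T.P K, J ⊆ T.A (q * x * p)⁻¹ ∧ K ⊆ T.A (q * x * p))
    (hun : ∀ J ⊆ I, ∀ K ⊆ I, ∀ x, ∀ q ∈ T.P J, ∀ p ∈ T.P K, J ⊆ T.A x⁻¹ → K ⊆ T.A x → J ⊆ T.A (q * x * p)⁻¹ → K ⊆ T.A (q * x * p) →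
      ∃ b ∈ T.B, ∃ b' ∈ T.B, q * x * p = b * x * b')
    (hw : ∀ x y, T.A x = ∅ → T.A y = ∅ → ∃ b ∈ T.B, ∃ b' ∈ T.B, y = b * x * b') (hw0 : ∃ x, T.A x = ∅) (hw1 : ∀ x, T.A x = ∅ → T.A x⁻¹ = ∅) :
    classInner T.st T.st = 1 := by
  have : Finite T.DC := Quotient.finite _
  have : Fintype T.DC := Fintype.ofFinite _
  have h1 : classInner T.st T.st = ∑ J ∈ I.powerset, ∑ K ∈ I.powerset, (-1 : ℂ) ^ J.card * ((-1 : ℂ) ^ K.card *
      ∑ δ : T.DC, (if J ⊆ T.A (δ.out)⁻¹ then (1 : ℂ) else 0) * (if K ⊆ T.A δ.out then 1 else 0)) := by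
    conv_lhs => rw [st_eq_sum]
    rw [classInner_sum_left]
    apply Finset.sum_congr rfl
    intro J hJ
    rw [classInner_sum_right]
    apply Finset.sum_congr rfl
    intro K hK
    rw [Finset.mem_powerset] at hJ hK
    rw [classInner_smul_left, classInner_smul_right, inner_fpc, T.orbits_card hJ hK (hex J hJ K hK) (hun J hJ K hK)]
    rw [map_pow, map_neg, map_one]
    congr 2
    rw [Nat.card_eq_fintype_card, Fintype.card_subtype, Finset.card_filter]
    push_cast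
    apply Finset.sum_congr rfl
    intro δ _
    by_cases h2 : J ⊆ T.A (δ.out)⁻¹ <;> by_cases h3 : K ⊆ T.A δ.out <;> simp [h2, h3]
  rw [h1]
  have h2 : ∑ J ∈ I.powerset, ∑ K ∈ I.powerset, (-1 : ℂ) ^ J.card * ((-1 : ℂ) ^ K.card *
      ∑ δ : T.DC, (if J ⊆ T.A (δ.out)⁻¹ then (1 : ℂ) else 0) * (if K ⊆ T.A δ.out then 1 else 0)) =
      ∑ δ : T.DC, (∑ J ∈ I.powerset, (-1 : ℂ) ^ J.card * (if J ⊆ T.A (δ.out)⁻¹ then (1 : ℂ) else 0)) *
        (∑ K ∈ I.powerset, (-1 : ℂ) ^ K.card * (if K ⊆ T.A δ.out then (1 : ℂ) else 0)) := by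
    simp_rw [Finset.sum_mul_sum]
    rw [Finset.sum_comm (s := (Finset.univ : Finset T.DC))]
    apply Finset.sum_congr rfl
    intro J _
    rw [Finset.sum_comm (s := (Finset.univ : Finset T.DC))]
    apply Finset.sum_congr rfl
    intro K _
    rw [Finset.mul_sum, Finset.mul_sum]
    apply Finset.sum_congr rfl
    intro δ _
    ring
  rw [h2]
  have h3 : ∀ δ : T.DC, (∑ J ∈ I.powerset, (-1 : ℂ) ^ J.card * (if J ⊆ T.A (δ.out)⁻¹ then (1 : ℂ) else 0)) *
        (∑ K ∈ I.powerset, (-1 : ℂ) ^ K.card * (if K ⊆ T.A δ.out then (1 : ℂ) else 0)) = if T.A δ.out = ∅ then 1 else 0 := by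
    intro δ
    have e1 : (∑ J ∈ I.powerset, (-1 : ℂ) ^ J.card * (if J ⊆ T.A (δ.out)⁻¹ then (1 : ℂ) else 0)) = if T.A (δ.out)⁻¹ = ∅ then 1 else 0 := by
      have h := alt_powerset _ (T.A_sub (δ.out)⁻¹)
      convert h
    have e2 : (∑ K ∈ I.powerset, (-1 : ℂ) ^ K.card * (if K ⊆ T.A δ.out then (1 : ℂ) else 0)) = if T.A δ.out = ∅ then 1 else 0 := by
      have h := alt_powerset _ (T.A_sub δ.out)
      convert h
    refine (congrArg₂ (· * ·) e1 e2).trans ?_
    by_cases h : T.A δ.out = ∅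
    · rw [if_pos h, if_pos (hw1 _ h)]; simp
    · rw [if_neg h]; simp
  rw [Finset.sum_congr rfl (fun δ _ => h3 δ)]
  obtain ⟨x0, hx0⟩ := hw0
  obtain ⟨b, b', hb, hb', h4⟩ := DoubleCoset.mk_out_eq_mul T.B T.B x0
  rw [Finset.sum_eq_single (DoubleCoset.mk T.B T.B x0)]
  · rw [if_pos]
    rw [h4, T.A_inv _ hb _ hb', hx0]
  · intro δ _ hne
    rw [if_neg]
    intro h5
    apply hne
    obtain ⟨c, hc, c', hc', h6⟩ := hw δ.out x0 h5 hx0
    have h7 : DoubleCoset.mk T.B T.B δ.out = DoubleCoset.mk T.B T.B x0 := (DoubleCoset.eq _ _ _ _).2 ⟨c, hc, c', hc', h6⟩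
    rwa [DoubleCoset.out_eq'] at h7
  · intro h; exact absurd (Finset.mem_univ _) h

theorem isGen_st [Finite G] : IsGeneralizedCharacter G T.st := by
  rw [st_eq_sum]
  apply isGen_sum
  intro J _
  have h1 : ((-1 : ℂ) ^ J.card) = (((-1 : ℤ) ^ J.card : ℤ) : ℂ) := by push_cast; rfl
  rw [h1]
  exact isGen_int_smul (IsCharacter.isGen (isCharacter_fpc _)) _

theorem irr_of_norm [Fintype G] (h : classInner T.st T.st = 1) (hpos : ∃ n : ℕ, T.st 1 = n) : IsIrrCharacter G T.st := by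
  rcases IsGen.norm_one T.isGen_st h with h1 | h1
  · exact h1
  · exfalso
    obtain ⟨n, hn⟩ := hpos
    obtain ⟨m, hm⟩ := IsCharacter.one_nat (IsIrr.isCharacter h1)
    have h2 := IsIrr.one_ne_zero h1
    rw [Pi.neg_apply, hn] at hm
    have h3 : ((n + m : ℕ) : ℂ) = 0 := by push_cast; rw [← hm]; ring
    have h4 : n + m = 0 := by exact_mod_cast h3
    apply h2
    rw [Pi.neg_apply, hn]
    have : n = 0 := by omega
    rw [this]; simp

end Gate

end Stb
end CfsgH6
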