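import Cfsg.Agent.H6.St10
import Cfsg.Agent.H1.SZ3

set_option autoImplicit false

/-! Burnside's lemma for a coset, conjugacy of regular elements in a coset of a normal `p`-subgroup. -/

namespace CfsgH6
namespace Stb

open scoped Classical Pointwise
open Cfsg CfsgH4

theorem alt_interval {I R A : Finset ℕ} (hRA : R ⊆ A) (hA : A ⊆ I) :
    ∑ K ∈ I.powerset, (-1 : ℂ) ^ K.card * (if R ⊆ K ∧ K ⊆ A then 1 else 0) = if R = A then (-1) ^ R.card else 0 := by
  have h1 : ∑ K ∈ I.powerset, (-1 : ℂ) ^ K.card * (if R ⊆ K ∧ K ⊆ A then 1 else 0) = ∑ K ∈ Finset.Icc R A, (-1 : ℂ) ^ K.card := by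
    have h2 : ∀ K ∈ I.powerset, (-1 : ℂ) ^ K.card * (if R ⊆ K ∧ K ⊆ A then 1 else 0) = if R ⊆ K ∧ K ⊆ A then (-1 : ℂ) ^ K.card else 0 := by
      intro K _; split_ifs <;> simp
    rw [Finset.sum_congr rfl h2, ← Finset.sum_filter]
    apply Finset.sum_congr _ (fun _ _ => rfl)
    ext K
    rw [Finset.mem_filter, Finset.mem_powerset, Finset.mem_Icc]
    exact ⟨fun h => h.2, fun h => ⟨h.2.trans hA, h⟩⟩
  rw [h1, Finset.Icc_eq_image_powerset hRA, Finset.sum_image]
  · have h2 : ∀ K ∈ (A \ R).powerset, (-1 : ℂ) ^ (R ∪ K).card = (-1) ^ R.card * (-1 : ℂ) ^ K.card := by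
      intro K hK
      rw [Finset.mem_powerset] at hK
      rw [Finset.card_union_of_disjoint, pow_add]
      exact Finset.disjoint_of_subset_right hK Finset.disjoint_sdiff
    rw [Finset.sum_congr rfl h2, ← Finset.mul_sum]
    have h4 := Finset.sum_powerset_neg_one_pow_card (x := A \ R)
    have h5 : ((∑ m ∈ (A \ R).powerset, (-1 : ℤ) ^ m.card : ℤ) : ℂ) = ∑ J ∈ (A \ R).powerset, (-1 : ℂ) ^ J.card := by push_cast; rfl
    rw [← h5, h4]
    by_cases h : R = A
    · subst h; simp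
    · have h6 : ¬ (A \ R = ∅) := by
        rw [Finset.sdiff_eq_empty_iff_subset]
        intro h7
        exact h (Finset.Subset.antisymm hRA h7)
      rw [if_neg h6, if_neg h]; simp
  · intro K hK K' hK' h
    rw [Finset.mem_coe, Finset.mem_powerset] at hK hK'
    have h2 : (R ∪ K) \ R = (R ∪ K') \ R := congrArg (fun z => z \ R) h
    have h3 : ∀ K ⊆ A \ R, (R ∪ K) \ R = K := by
      intro K hK
      rw [Finset.union_sdiff_left, Finset.sdiff_eq_self_iff_disjoint]
      exact Finset.disjoint_of_subset_left hK Finset.sdiff_disjoint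
    rwa [h3 K hK, h3 K' hK'] at h2

section

variable {G X : Type*} [Group G] [MulAction G X]

/-- points whose orbit is stable -/
def stS (U : Subgroup G) (x : G) (hx : ∀ u ∈ U, x * u * x⁻¹ ∈ U) (hx' : ∀ u ∈ U, x⁻¹ * u * x ∈ U) : SubMulAction U X where
  carrier := {c | ∃ u ∈ U, (x * u) • c = c}
  smul_mem' := by
    rintro v c ⟨u, hu, h⟩
    refine ⟨(x⁻¹ * (v : G) * x) * u * (v : G)⁻¹, U.mul_mem (U.mul_mem (hx' _ v.2) hu) (U.inv_mem v.2), ?_⟩
    show (x * ((x⁻¹ * (v : G) * x) * u * (v : G)⁻¹)) • ((v : G) • c) = (v : G) • c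
    have h1 : (x * ((x⁻¹ * (v : G) * x) * u * (v : G)⁻¹)) • ((v : G) • c) = (v : G) • ((x * u) • c) := by
      rw [smul_smul, smul_smul]; congr 1; group
    rw [h1, h]

theorem burnside_coset [Finite G] [Finite X] (U : Subgroup G) (x : G) (hx : ∀ u ∈ U, x * u * x⁻¹ ∈ U) (hx' : ∀ u ∈ U, x⁻¹ * u * x ∈ U) :
    ∑ᶠ u : U, Nat.card (MulAction.fixedBy X (x * (u : G))) = Nat.card U * Nat.card (Quotient (MulAction.orbitRel U (stS (X := X) U x hx hx'))) := by
  have : Fintype U := Fintype.ofFinite _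
  have : Fintype X := Fintype.ofFinite _
  have : Fintype (stS (X := X) U x hx hx') := Fintype.ofFinite _
  have hfq : Finite (Quotient (MulAction.orbitRel U (stS (X := X) U x hx hx'))) := Quotient.finite _
  have : Fintype (Quotient (MulAction.orbitRel U (stS (X := X) U x hx hx'))) := Fintype.ofFinite _
  rw [finsum_eq_sum_of_fintype]
  have h1 := MulAction.sum_card_fixedBy_eq_card_orbits_mul_card_group U (stS (X := X) U x hx hx')
  rw [Nat.card_eq_fintype_card (α := U), Nat.card_eq_fintype_card (α := Quotient _), mul_comm, ← h1]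
  simp_rw [← Nat.card_eq_fintype_card]
  rw [← Nat.card_sigma, ← Nat.card_sigma]
  -- pairs `(u, c)` with `x u c = c` versus pairs `(u, c)` with `u c = c`, `c` stable
  have hex : ∀ c : X, ∃ u : U, (∃ u ∈ U, (x * u) • c = c) → (x * (u : G)) • c = c := by
    intro c
    by_cases h : ∃ u ∈ U, (x * u) • c = c
    · obtain ⟨u, hu, h⟩ := h
      exact ⟨⟨u, hu⟩, fun _ => h⟩
    · exact ⟨1, fun h' => absurd h' h⟩
  choose τ hτ using hex
  have e1 : Nat.card (Σ u : U, MulAction.fixedBy X (x * (u : G))) = Nat.card {z : U × X // (x * (z.1 : G)) • z.2 = z.2} := by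
    apply Nat.card_congr
    exact
      { toFun := fun z => ⟨(z.1, z.2.1), z.2.2⟩
        invFun := fun z => ⟨z.1.1, ⟨z.1.2, z.2⟩⟩
        left_inv := fun z => rfl
        right_inv := fun z => rfl }
  have e2 : Nat.card (Σ u : U, MulAction.fixedBy (stS (X := X) U x hx hx') u) = Nat.card {z : U × X // (∃ u ∈ U, (x * u) • z.2 = z.2) ∧ (z.1 : G) • z.2 = z.2} := by
    apply Nat.card_congr
    exact
      { toFun := fun z => ⟨(z.1, (z.2.1 : X)), z.2.1.2, congrArg Subtype.val z.2.2⟩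
        invFun := fun z => ⟨z.1.1, ⟨⟨z.1.2, z.2.1⟩, Subtype.ext z.2.2⟩⟩
        left_inv := fun z => rfl
        right_inv := fun z => rfl }
  refine e1.trans (Eq.trans ?_ e2.symm)
  apply Nat.card_congr
  have hcanc : ∀ (u u' : U) (c : X), (x * (u : G)) • c = c → (x * (u' : G)) • c = c → ((u'⁻¹ * u : U) : G) • c = c := by
    intro u u' c h2 h3
    have h4 : (x * (u : G)) • c = (x * (u' : G)) • c := h2.trans h3.symm
    rw [mul_smul, mul_smul] at h4
    have h5 := smul_left_cancel _ h4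
    rw [Subgroup.coe_mul, Subgroup.coe_inv, mul_smul, h5, inv_smul_smul]
  exact
    { toFun := fun z => ⟨((τ z.1.2)⁻¹ * z.1.1, z.1.2), ⟨_, z.1.1.2, z.2⟩, hcanc _ _ _ z.2 (hτ _ ⟨_, z.1.1.2, z.2⟩)⟩
      invFun := fun z => ⟨(τ z.1.2 * z.1.1, z.1.2), by
        show (x * ((τ z.1.2 * z.1.1 : U) : G)) • z.1.2 = z.1.2
        rw [Subgroup.coe_mul, ← mul_assoc, mul_smul, z.2.2]
        exact hτ _ z.2.1⟩
      left_inv := fun z => by
        apply Subtype.ext
        apply Prod.ext
        · show τ z.1.2 * ((τ z.1.2)⁻¹ * z.1.1) = z.1.1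
          group
        · rfl
      right_inv := fun z => by
        apply Subtype.ext
        apply Prod.ext
        · show (τ z.1.2)⁻¹ * (τ z.1.2 * z.1.1) = z.1.1
          group
        · rfl }

end

end Stb
end CfsgH6
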