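import Cfsg.Agent.H6.St14

set_option autoImplicit false

/-! Regular elements in cosets of `p`-subgroups; divisibility of character values. -/

namespace CfsgH6
namespace Stb

open scoped Classical Pointwise ComplexConjugate
open Cfsg CfsgH4

variable {G : Type*} [Group G]

theorem coset_conj [Finite G] {p : ℕ} [Fact p.Prime] {U : Subgroup G} (hU : IsPGroup p U) {x u : G} (hxn : x ∈ Subgroup.normalizer (U : Set G))
    (hx : ¬ p ∣ orderOf x) (hu : u ∈ U) (hxu : ¬ p ∣ orderOf (x * u)) : ∃ v ∈ U, v * x * v⁻¹ = x * u := by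
  have hp : p.Prime := Fact.out
  obtain ⟨n, hn⟩ := IsPGroup.iff_card.1 hU
  have hcop : ∀ y : G, ¬ p ∣ orderOf y → (Nat.card U).Coprime (Nat.card (Subgroup.zpowers y)) := by
    intro y hy
    rw [hn, Nat.card_zpowers]
    exact Nat.Coprime.pow_left n ((Nat.Prime.coprime_iff_not_dvd hp).2 hy)
  have hun : u ∈ Subgroup.normalizer (U : Set G) := Subgroup.le_normalizer hu
  have hs : Group.IsSolvable U := by
    have := hU.isNilpotent
    infer_instance
  obtain ⟨v, hv, he⟩ := CfsgH1.sz_conj_internal_left (N := U) (H := Subgroup.zpowers x) (K := Subgroup.zpowers (x * u))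
    (Subgroup.zpowers_le.2 hxn) (Subgroup.zpowers_le.2 (Subgroup.mul_mem _ hxn hun)) (hcop x hx) hs (by
      apply le_antisymm
      · apply sup_le le_sup_left
        rw [Subgroup.zpowers_le]
        have h1 : x = (x * u) * u⁻¹ := by group
        rw [h1]
        exact Subgroup.mul_mem _ (Subgroup.mem_sup_right (by
          have : x * u * u⁻¹ * u = x * u := by group
          rw [this]; exact Subgroup.mem_zpowers _)) (Subgroup.mem_sup_left (Subgroup.inv_mem _ hu))
      · apply sup_le le_sup_left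
        rw [Subgroup.zpowers_le]
        exact Subgroup.mul_mem _ (Subgroup.mem_sup_right (Subgroup.mem_zpowers _)) (Subgroup.mem_sup_left hu))
    (CfsgH1.inf_eq_bot_of_coprime (hcop _ hxu))
  refine ⟨v, hv, ?_⟩
  have h1 : v * x * v⁻¹ ∈ Subgroup.zpowers (x * u) := by
    rw [← he, CfsgH1.mem_conj_smul]
    have : v⁻¹ * (v * x * v⁻¹) * v = x := by group
    rw [this]; exact Subgroup.mem_zpowers x
  have h2 : (v * x * v⁻¹)⁻¹ * (x * u) ∈ U ⊓ Subgroup.zpowers (x * u) := by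
    refine ⟨?_, Subgroup.mul_mem _ (Subgroup.inv_mem _ h1) (Subgroup.mem_zpowers _)⟩
    have h3 : (v * x * v⁻¹)⁻¹ * (x * u) = v * (x⁻¹ * v⁻¹ * x) * u := by group
    rw [h3]
    refine U.mul_mem (U.mul_mem hv ?_) hu
    have h4 := (Subgroup.mem_normalizer_iff.1 (Subgroup.inv_mem _ hxn) v⁻¹).1 (U.inv_mem hv)
    rwa [_root_.inv_inv] at h4
  rw [CfsgH1.inf_eq_bot_of_coprime (hcop _ hxu), Subgroup.mem_bot] at h2
  exact inv_mul_eq_one.1 h2

theorem sum_coset [Finite G] {p : ℕ} [Fact p.Prime] {U : Subgroup G} (hU : IsPGroup p U) {x : G} (hxn : x ∈ Subgroup.normalizer (U : Set G))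
    (hx : ¬ p ∣ orderOf x) {f : G → ℂ} (hf : ∀ y z, f (z * y * z⁻¹) = f y) (hf0 : ∀ y, p ∣ orderOf y → f y = 0) :
    (Nat.card ↥(U ⊓ Subgroup.centralizer {x}) : ℂ) * ∑ᶠ u : U, f (x * u) = (Nat.card U : ℂ) * f x := by
  have : Fintype U := Fintype.ofFinite _
  rw [finsum_eq_sum_of_fintype]
  have hT : ∀ v : U, x⁻¹ * (v : G) * x * (v : G)⁻¹ ∈ U := by
    intro v
    have h4 := (Subgroup.mem_normalizer_iff.1 (Subgroup.inv_mem _ hxn) (v : G)).1 v.2
    rw [_root_.inv_inv] at h4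
    exact U.mul_mem h4 (U.inv_mem v.2)
  let T : U → U := fun v => ⟨_, hT v⟩
  have h1 : ∀ v : U, f (x * (T v : G)) = f x := by
    intro v
    show f (x * (x⁻¹ * (v : G) * x * (v : G)⁻¹)) = f x
    have : x * (x⁻¹ * (v : G) * x * (v : G)⁻¹) = (v : G) * x * (v : G)⁻¹ := by group
    rw [this, hf]
  have h2 : (Nat.card U : ℂ) * f x = ∑ v : U, f (x * (T v : G)) := by
    rw [Finset.sum_congr rfl (fun v _ => h1 v), Finset.sum_const, nsmul_eq_mul, Finset.card_univ, Nat.card_eq_fintype_card]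
  rw [h2]
  conv_rhs => rw [← Finset.sum_fiberwise (s := (Finset.univ : Finset U)) (g := T)]
  rw [Finset.mul_sum]
  apply Finset.sum_congr rfl
  intro u _
  have h3 : ∑ v ∈ (Finset.univ : Finset U) with T v = u, f (x * (T v : G)) = ((Finset.univ.filter (fun v => T v = u)).card : ℂ) * f (x * (u : G)) := by
    rw [Finset.sum_congr rfl (g := fun _ => f (x * (u : G))), Finset.sum_const, nsmul_eq_mul]
    intro v hv
    rw [(Finset.mem_filter.1 hv).2]
  rw [h3]
  by_cases hne : ∃ v0, T v0 = u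
  · obtain ⟨v0, hv0⟩ := hne
    congr 1
    rw [← Fintype.card_subtype, ← Nat.card_eq_fintype_card]
    norm_cast
    apply Nat.card_congr
    refine
      { toFun := fun c => ⟨v0 * ⟨c, c.2.1⟩, ?_⟩
        invFun := fun v => ⟨((v0⁻¹ * v.1 : U) : G), ⟨(v0⁻¹ * v.1 : U).2, ?_⟩⟩
        left_inv := ?_
        right_inv := ?_ }
    · rw [← hv0]
      apply Subtype.ext
      show x⁻¹ * ((v0 : G) * c) * x * ((v0 : G) * c)⁻¹ = x⁻¹ * (v0 : G) * x * (v0 : G)⁻¹
      have hc := Subgroup.mem_centralizer_singleton_iff.1 c.2.2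
      calc x⁻¹ * ((v0 : G) * c) * x * ((v0 : G) * c)⁻¹ = x⁻¹ * (v0 : G) * ((c : G) * x) * (c : G)⁻¹ * (v0 : G)⁻¹ := by group
        _ = _ := by rw [hc]; group
    · apply Subgroup.mem_centralizer_singleton_iff.2
      have h4 : T v.1 = T v0 := v.2.trans hv0.symm
      have h5 : x⁻¹ * (v.1 : G) * x * (v.1 : G)⁻¹ = x⁻¹ * (v0 : G) * x * (v0 : G)⁻¹ := congrArg Subtype.val h4
      have h6 : (v.1 : G) * x * (v.1 : G)⁻¹ = (v0 : G) * x * (v0 : G)⁻¹ := by
        calc (v.1 : G) * x * (v.1 : G)⁻¹ = x * (x⁻¹ * (v.1 : G) * x * (v.1 : G)⁻¹) := by group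
          _ = _ := by rw [h5]; group
      rw [Subgroup.coe_mul, Subgroup.coe_inv]
      calc (v0 : G)⁻¹ * (v.1 : G) * x = (v0 : G)⁻¹ * ((v.1 : G) * x * (v.1 : G)⁻¹) * (v.1 : G) := by group
        _ = _ := by rw [h6]; group
    · intro c
      apply Subtype.ext
      show (v0 : G)⁻¹ * ((v0 : G) * c) = c
      group
    · intro v
      apply Subtype.ext
      apply Subtype.ext
      show (v0 : G) * ((v0 : G)⁻¹ * (v.1 : G)) = v.1
      group
  · have h4 : f (x * (u : G)) = 0 := by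
      apply hf0
      by_contra hn
      obtain ⟨v, hv, he⟩ := coset_conj hU hxn hx u.2 hn
      apply hne
      refine ⟨⟨v, hv⟩, Subtype.ext ?_⟩
      show x⁻¹ * v * x * v⁻¹ = u
      have : x⁻¹ * v * x * v⁻¹ = x⁻¹ * (v * x * v⁻¹) := by group
      rw [this, he]; group
    rw [h4, mul_zero, mul_zero]

/-- averaging a character over a subgroup gives a character of the centralizer -/
theorem isCharacter_avg [Finite G] {χ : G → ℂ} (hχ : IsCharacter G χ) (Q : Subgroup G) [Fintype Q] :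
    IsCharacter (Subgroup.centralizer (Q : Set G))
      (fun c => (Nat.card Q : ℂ)⁻¹ * ∑ q : Q, χ ((c : G) * q)) := by
  classical
  haveI := Fintype.ofFinite (Subgroup.centralizer (Q : Set G))
  let C := Subgroup.centralizer (Q : Set G)
  have hcomm : ∀ (c : C) (q : Q), (q : G) * c = c * q := fun c q => (Subgroup.mem_centralizer_iff.1 c.2) q q.2
  let f : C × Q →* G :=
    { toFun := fun a => (a.1 : G) * a.2
      map_one' := by simp
      map_mul' := fun a b => by
        show ((a.1 * b.1 : C) : G) * ((a.2 * b.2 : Q) : G) = (a.1 : G) * a.2 * ((b.1 : G) * b.2)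
        push_cast
        calc (a.1 : G) * b.1 * (a.2 * b.2) = a.1 * (b.1 * a.2) * b.2 := by group
          _ = a.1 * (a.2 * b.1) * b.2 := by rw [hcomm b.1 a.2]
          _ = (a.1 : G) * a.2 * (b.1 * b.2) := by group }
  have h1 : IsCharacter (C × Q) (fun a => χ (f a)) := isCharacter_comp f hχ
  refine isCharacter_of_mult ?_ fun ψ hψ => ?_
  · intro g h
    show (Nat.card Q : ℂ)⁻¹ * ∑ q : Q, χ (((h * g * h⁻¹ : C) : G) * q) = (Nat.card Q : ℂ)⁻¹ * ∑ q : Q, χ ((g : G) * q)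
    congr 1
    refine Finset.sum_congr rfl fun q _ => ?_
    have h2 : ((h * g * h⁻¹ : C) : G) * q = h * ((g : G) * q) * (h : G)⁻¹ := by
      push_cast
      have h3 : (q : G) * (h : G)⁻¹ = (h : G)⁻¹ * q := by
        have := hcomm h⁻¹ q
        simpa using this
      calc (h : G) * g * (h : G)⁻¹ * q = h * g * ((h : G)⁻¹ * q) := by group
        _ = h * g * (q * (h : G)⁻¹) := by rw [h3]
        _ = h * ((g : G) * q) * (h : G)⁻¹ := by group
    rw [h2, IsCharacter.isClassFunction hχ]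
  · have h2 : IsCharacter (C × Q) (fun a => ψ a.1) := isCharacter_comp (MonoidHom.fst C Q) (IsIrr.isCharacter hψ)
    obtain ⟨n, hn⟩ := IsCharacter.inner_nat h1 h2
    refine ⟨n, ?_⟩
    rw [← hn, classInner_def, classInner_def]
    rw [Fintype.sum_prod_type]
    have h3 : ∀ c : C, ((Nat.card Q : ℂ)⁻¹ * ∑ q : Q, χ ((c : G) * q)) * conj (ψ c) =
        (Nat.card Q : ℂ)⁻¹ * ∑ q : Q, χ (f (c, q)) * conj (ψ c) := by
      intro c
      rw [mul_assoc, Finset.sum_mul]
      rfl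
    simp only [h3]
    rw [← Finset.mul_sum]
    simp only [Nat.card_eq_fintype_card, Fintype.card_prod, Nat.cast_mul, mul_inv, mul_assoc]
    rfl

theorem dvd_val [Finite G] {p : ℕ} [Fact p.Prime] {χ : G → ℂ} (hχ : IsCharacter G χ) (h0 : ∀ y, p ∣ orderOf y → χ y = 0) {x : G}
    (hx : ¬ p ∣ orderOf x) {Q : Subgroup G} (hQ : IsPGroup p Q) (hxQ : x ∈ Subgroup.centralizer (Q : Set G)) {m : ℤ} (hm : χ x = m) :
    (Nat.card Q : ℤ) ∣ m := by
  have hp : p.Prime := Fact.out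
  have : Fintype Q := Fintype.ofFinite _
  have h1 := IsCharacter.isIntegral (isCharacter_avg hχ Q) ⟨x, hxQ⟩
  have h2 : ∑ q : Q, χ (x * (q : G)) = m := by
    rw [Finset.sum_eq_single (1 : Q)]
    · rw [Subgroup.coe_one, mul_one, hm]
    · intro q _ hq
      apply h0
      obtain ⟨k, hk⟩ := (IsPGroup.iff_orderOf.1 hQ) q
      have hq' : orderOf (q : G) = p ^ k := by rw [Subgroup.orderOf_coe, hk]
      have hk0 : k ≠ 0 := by
        rintro rfl
        rw [pow_zero, orderOf_eq_one_iff] at hk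
        exact hq hk
      have hcom : Commute x (q : G) := ((Subgroup.mem_centralizer_iff.1 hxQ) q q.2).symm
      have hcop : (orderOf x).Coprime (orderOf (q : G)) := by
        rw [hq']
        exact (Nat.Coprime.pow_left k ((Nat.Prime.coprime_iff_not_dvd hp).2 hx)).symm
      rw [hcom.orderOf_mul_eq_mul_orderOf_of_coprime hcop, hq']
      exact Dvd.dvd.mul_left (dvd_pow_self p hk0) _
    · intro h; exact absurd (Finset.mem_univ _) h
  simp only at h1
  rw [h2] at h1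
  have hc : (Nat.card Q : ℂ) ≠ 0 := by exact_mod_cast Nat.card_pos.ne'
  have h3 : (Nat.card Q : ℂ)⁻¹ * (m : ℂ) = (((m : ℚ) / (Nat.card Q : ℚ) : ℚ) : ℂ) := by
    push_cast
    field_simp
  rw [h3] at h1
  have h4 : IsIntegral ℤ ((m : ℚ) / (Nat.card Q : ℚ)) := by
    have h5 := (isIntegral_algHom_iff (IsScalarTower.toAlgHom ℤ ℚ ℂ) (algebraMap ℚ ℂ).injective (x := ((m : ℚ) / (Nat.card Q : ℚ)))).1
    exact h5 (by simpa using h1)
  obtain ⟨z, hz⟩ := IsIntegrallyClosed.isIntegral_iff.1 h4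
  refine ⟨z, ?_⟩
  have hc' : (Nat.card Q : ℚ) ≠ 0 := by exact_mod_cast Nat.card_pos.ne'
  have h5 : (z : ℚ) = (m : ℚ) / (Nat.card Q : ℚ) := by simpa using hz
  have h6 : (m : ℚ) = (Nat.card Q : ℚ) * z := by rw [h5]; field_simp
  exact_mod_cast h6

/-- Burnside's lemma for a coset, with given orbit representatives -/
theorem burnside_rep {X : Type*} [MulAction G X] [Finite G] [Finite X] (U : Subgroup G) (x : G) (hx : ∀ u ∈ U, x * u * x⁻¹ ∈ U)
    (hx' : ∀ u ∈ U, x⁻¹ * u * x ∈ U) {Y : Type*} (r : Y → X)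
    (h1 : ∀ y, ∃ u ∈ U, (x * u) • r y = r y) (h2 : ∀ y y', ∀ u ∈ U, u • r y' = r y → y = y')
    (h3 : ∀ c : X, (∃ u ∈ U, (x * u) • c = c) → ∃ y, ∃ u ∈ U, u • c = r y) :
    ∑ᶠ u : U, Nat.card (MulAction.fixedBy X (x * (u : G))) = Nat.card U * Nat.card Y := by
  rw [burnside_coset (X := X) U x hx hx']
  congr 1
  symm
  apply Nat.card_congr
  refine Equiv.ofBijective (fun y => (Quotient.mk'' (⟨r y, h1 y⟩ : stS (X := X) U x hx hx') :
    Quotient (MulAction.orbitRel U (stS (X := X) U x hx hx')))) ⟨?_, ?_⟩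
  · intro y y' h
    have h4 := Quotient.eq''.1 h
    rw [MulAction.orbitRel_apply, MulAction.mem_orbit_iff] at h4
    obtain ⟨u, hu⟩ := h4
    exact h2 y y' u u.2 (congrArg Subtype.val hu)
  · intro ω
    induction ω using Quotient.inductionOn' with
    | h z =>
      obtain ⟨c, hc⟩ := z
      obtain ⟨y, u', hu', h4⟩ := h3 c hc
      refine ⟨y, ?_⟩
      apply Quotient.eq''.2
      rw [MulAction.orbitRel_apply, MulAction.mem_orbit_iff]
      exact ⟨⟨u', hu'⟩, Subtype.ext h4⟩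

theorem sum_fpc_coset [Finite G] (P U : Subgroup G) (x : G) (hx : ∀ u ∈ U, x * u * x⁻¹ ∈ U) (hx' : ∀ u ∈ U, x⁻¹ * u * x ∈ U) {Y : Type*} (r : Y → G)
    (h1 : ∀ y, ∃ u ∈ U, (r y)⁻¹ * (x * u) * r y ∈ P) (h2 : ∀ y y', ∀ u ∈ U, (u * r y')⁻¹ * r y ∈ P → y = y')
    (h3 : ∀ c : G, (∃ u ∈ U, c⁻¹ * (x * u) * c ∈ P) → ∃ y, ∃ u ∈ U, (u * c)⁻¹ * r y ∈ P) :
    ∑ᶠ u : U, fixedPointCharacter P (x * (u : G)) = (Nat.card U : ℂ) * (Nat.card Y : ℂ) := by
  have h0 := burnside_rep (X := G ⧸ P) U x hx hx' (fun y => (QuotientGroup.mk (r y) : G ⧸ P)) (fun y => by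
    obtain ⟨u, hu, h⟩ := h1 y
    exact ⟨u, hu, (stab_iff P _ _).2 h⟩) (fun y y' u hu h => by
    have h5 : (QuotientGroup.mk ((u : G) * r y') : G ⧸ P) = QuotientGroup.mk (r y) := h
    rw [QuotientGroup.eq] at h5
    exact h2 y y' u hu h5) (fun c hc => by
    induction c using QuotientGroup.induction_on with
    | H c =>
      obtain ⟨u, hu, hfix⟩ := hc
      obtain ⟨y, u', hu', h4⟩ := h3 c ⟨u, hu, (stab_iff P _ _).1 hfix⟩
      refine ⟨y, u', hu', ?_⟩
      show (QuotientGroup.mk (u' * c) : G ⧸ P) = QuotientGroup.mk (r y)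
      rw [QuotientGroup.eq]; exact h4)
  have : Fintype U := Fintype.ofFinite _
  rw [finsum_eq_sum_of_fintype] at h0 ⊢
  unfold fixedPointCharacter
  exact_mod_cast h0

end Stb
end CfsgH6
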