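import Cfsg.Agent.H6.St1

set_option autoImplicit false

/-! Gates: minimal representatives of cosets of parabolic subgroups. -/

namespace CfsgH6
namespace Chv

open Cfsg.Lie

variable {D : ChevalleyDatum} (g : Good D) {F : Type*} [Field F]

namespace Good

theorem wl_gate {J : Set ℕ} {L L' : List ℕ} (hL : ∀ i ∈ L, i < D.rank) (hJ : ∀ i < D.rank, i ∈ J → g.N ≤ g.wl L (D.simple i))
    (hL' : ∀ i ∈ L', i < D.rank ∧ i ∈ J) (hJ' : ∀ i < D.rank, i ∈ J → g.N ≤ g.wl (L ++ L') (D.simple i)) :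
    ∀ r < D.nroots, g.N ≤ r → g.N ≤ g.wl L' r := by
  have hL'' : ∀ i ∈ L', i < D.rank := fun i hi => (hL' i hi).1
  apply g.wl_all_pos hL''
  intro i hi
  have hs := g.simple_lt i hi
  by_cases hiJ : i ∈ J
  · by_contra hlt
    push Not at hlt
    have hwl := g.wl_lt hL'' hs
    have hd : g.dg J (g.wl L' (D.simple i)) = 0 := by rw [g.dg_wl hL' hs, g.dg_simple hi hiJ]
    have h1 := g.wl_pos_J hL hJ (D.neg (g.wl L' (D.simple i))) (g.neg_lt hwl) (g.N_le_neg hwl hlt) (by rw [g.dg_neg hwl, hd, neg_zero])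
    rw [g.wl_neg hL hwl] at h1
    have h2 := hJ' i hi hiJ
    rw [g.wl_append] at h2
    have h3 := g.neg_lt_N (g.wl_lt hL hwl) h2
    omega
  · by_contra hlt
    push Not at hlt
    have h1 := g.wl_J_pos hL' hs (g.simple_ge i hi) hlt
    rw [g.dg_simple_out hi hiJ] at h1
    exact one_ne_zero h1

theorem ty_mul {J : Set ℕ} {x p : GL D.Idx F} {L L' : List ℕ} (hx : g.Ty x L) (hJ : ∀ i < D.rank, i ∈ J → g.N ≤ g.wl L (D.simple i))
    (hp : g.Ty p L') (hL' : ∀ i ∈ L', i < D.rank ∧ i ∈ J) : g.Ty (x * p) (L ++ L') := by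
  obtain ⟨hL, c, hc, c', hc', rfl⟩ := hx
  obtain ⟨hL'', b, hb, b', hb', rfl⟩ := hp
  obtain ⟨c1, hc1, c2, hc2, h⟩ := g.nl_split (F := F) hL hJ hL' (Subgroup.mul_mem _ hc' hb)
  refine ⟨?_, c * c1, Subgroup.mul_mem _ hc hc1, c2 * b', Subgroup.mul_mem _ hc2 hb', ?_⟩
  · intro i hi
    rcases List.mem_append.1 hi with h | h
    · exact hL i h
    · exact hL'' i h
  · calc c * g.nl F L * c' * (b * g.nl F L' * b') = c * (g.nl F L * (c' * b) * g.nl F L') * b' := by group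
      _ = _ := by rw [h]; group

/-- uniqueness of the gate -/
theorem gate_un {J : Set ℕ} {x p : GL D.Idx F} {L M : List ℕ} (hx : g.Ty x L) (hJ : ∀ i < D.rank, i ∈ J → g.N ≤ g.wl L (D.simple i))
    (hp : p ∈ g.PJ F J) (hxp : g.Ty (x * p) M) (hJ' : ∀ i < D.rank, i ∈ J → g.N ≤ g.wl M (D.simple i)) : p ∈ g.BB F := by
  obtain ⟨L', hL', hp'⟩ := g.PJ_right hp
  have h1 := g.ty_mul hx hJ hp' hL'
  have h2 := g.wl_gate hx.1 hJ hL' (by
    intro i hi hiJ
    rw [h1.uniq hxp _ (g.simple_lt i hi)]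
    exact hJ' i hi hiJ)
  have h3 := g.nl_mem_HH (F := F) (fun i hi => (hL' i hi).1) h2
  obtain ⟨_, b, hb, b', hb', rfl⟩ := hp'
  exact Subgroup.mul_mem _ (Subgroup.mul_mem _ hb (g.HH_le_BB h3)) hb'

theorem cnt_drop {L : List ℕ} (hL : ∀ i ∈ L, i < D.rank) {j : ℕ} (hj : j < D.rank) (h : g.wl L (D.simple j) < g.N) : g.cnt (L ++ [j]) + 1 = g.cnt L := by
  have hsj := g.simple_lt j hj
  have hL2 : ∀ i ∈ L ++ [j], i < D.rank := by
    intro i hi
    rcases List.mem_append.1 hi with h | h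
    · exact hL i h
    · rw [List.mem_singleton.1 h]; exact hj
  have h5 : g.N ≤ g.wl (L ++ [j]) (D.simple j) := by
    rw [g.wl_append]
    show g.N ≤ g.wl L (g.w j (D.simple j))
    rw [g.w_simple j hj, g.wl_neg hL hsj]
    exact g.N_le_neg (g.wl_lt hL hsj) h
  have h6 := g.cnt_append hL2 hj h5
  have h7 : g.cnt (L ++ [j] ++ [j]) = g.cnt L := by
    unfold cnt
    congr 1
    apply Finset.filter_congr
    intro s hs
    have hs' := (Finset.mem_Ico.1 hs).2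
    rw [g.wl_append, g.wl_append]
    show g.wl L (g.w j (g.w j s)) < g.N ↔ _
    rw [g.w_w j hj s hs']
  omega

theorem ty_nn {x : GL D.Idx F} {L : List ℕ} (hx : g.Ty x L) {j : ℕ} (hj : j < D.rank) : ∃ b ∈ g.BB F, g.Ty (x * (b * g.nn j)) (L ++ [j]) := by
  obtain ⟨hL, c, hc, c', hc', rfl⟩ := hx
  refine ⟨c'⁻¹, Subgroup.inv_mem _ hc', ?_, c, hc, 1, Subgroup.one_mem _, ?_⟩
  · intro i hi
    rcases List.mem_append.1 hi with h | h
    · exact hL i h
    · rw [List.mem_singleton.1 h]; exact hj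
  · rw [g.nl_append, g.nl_cons, g.nl_nil]; group

/-- existence of the gate -/
theorem gate_ex (J : Set ℕ) : ∀ m, ∀ (x : GL D.Idx F) (L : List ℕ), g.cnt L = m → g.Ty x L →
    ∃ p ∈ g.PJ F J, ∃ M, g.Ty (x * p) M ∧ ∀ i < D.rank, i ∈ J → g.N ≤ g.wl M (D.simple i) := by
  intro m
  induction m with
  | zero =>
    intro x L hm hx
    refine ⟨1, Subgroup.one_mem _, L, by rwa [mul_one], ?_⟩
    intro i hi _
    by_contra hlt
    push Not at hlt
    have := g.cnt_drop hx.1 hi hlt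
    omega
  | succ m ih =>
    intro x L hm hx
    by_cases h : ∀ i < D.rank, i ∈ J → g.N ≤ g.wl L (D.simple i)
    · exact ⟨1, Subgroup.one_mem _, L, by rwa [mul_one], h⟩
    · push Not at h
      obtain ⟨j, hj, hjJ, hlt⟩ := h
      have h1 := g.cnt_drop hx.1 hj hlt
      obtain ⟨b, hb, h2⟩ := g.ty_nn hx hj
      obtain ⟨p, hp, M, hM, hM'⟩ := ih _ _ (by omega) h2
      exact ⟨b * g.nn j * p, Subgroup.mul_mem _ (Subgroup.mul_mem _ (g.BB_le_PJ J hb) (g.nn_mem_PJ hjJ hj)) hp, M, by rwa [← mul_assoc], hM'⟩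

/-- the longest cell -/
theorem ty_w0 {L : List ℕ} (hL : ∀ i ∈ L, i < D.rank) (h : ∀ i < D.rank, g.wl L (D.simple i) < g.N) {L' : List ℕ} (hL' : ∀ i ∈ L', i < D.rank)
    (h' : ∀ i < D.rank, g.wl L' (D.simple i) < g.N) : ∀ s < D.nroots, g.wl L s = g.wl L' s := by
  have h1 := g.wl_all_neg hL h
  have h2 := g.wl_all_neg hL' h'
  have hrev : ∀ i ∈ L'.reverse, i < D.rank := fun i hi => hL' i (List.mem_reverse.1 hi)
  -- `L'⁻¹ L` is positive
  have h3 : ∀ r < D.nroots, g.N ≤ r → g.N ≤ g.wl (L'.reverse ++ L) r := by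
    intro r hr hp
    rw [g.wl_append]
    have h4 := h1 r hr hp
    have h5 := g.wl_lt hL hr
    by_contra hlt
    push Not at hlt
    have h6 := g.wl_lt hrev h5
    have h7 := h2 _ (g.neg_lt h6) (g.N_le_neg h6 hlt)
    rw [g.wl_neg hL' h6, (g.wl_reverse hL' h5).2] at h7
    have := g.N_le_neg h5 h4
    omega
  have hLL : ∀ i ∈ L'.reverse ++ L, i < D.rank := by
    intro i hi
    rcases List.mem_append.1 hi with h | h
    · exact hrev i h
    · exact hL i h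
  have h4 := g.nl_mem_HH (F := ℚ) hLL h3
  intro s hs
  have h5 : g.nl ℚ (L'.reverse ++ L) = (g.nl ℚ (L'.reverse ++ L)) * g.nl ℚ [] := by rw [g.nl_nil, mul_one]
  have h6 := g.wl_eq_of_nl hLL (by simp) h4 h5 hs
  rw [g.wl_append] at h6
  have h7 := (g.wl_reverse hL' (g.wl_lt hL hs)).2
  rw [h6] at h7
  exact h7.symm

end Good

end Chv
end CfsgH6
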