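import Cfsg.Agent.H6.St6

set_option autoImplicit false

/-! Counting unipotent elements. -/

namespace CfsgH6
namespace Stb

open scoped Classical

theorem fpc_conj {G : Type*} [Group G] (P : Subgroup G) (x u : G) : Cfsg.fixedPointCharacter P (x * u * x⁻¹) = Cfsg.fixedPointCharacter P u := by
  unfold Cfsg.fixedPointCharacter
  congr 1
  apply Nat.card_congr
  refine
    { toFun := fun c => ⟨x⁻¹ • c.1, ?_⟩
      invFun := fun c => ⟨x • c.1, ?_⟩
      left_inv := fun c => Subtype.ext (by simp)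
      right_inv := fun c => Subtype.ext (by simp) }
  · rw [MulAction.mem_fixedBy]
    have h := c.2
    rw [MulAction.mem_fixedBy] at h
    calc u • x⁻¹ • c.1 = x⁻¹ • ((x * u * x⁻¹) • c.1) := by rw [smul_smul, smul_smul]; congr 1; group
      _ = _ := by rw [h]
  · rw [MulAction.mem_fixedBy]
    have h := c.2
    rw [MulAction.mem_fixedBy] at h
    calc (x * u * x⁻¹) • x • c.1 = x • (u • c.1) := by rw [smul_smul, smul_smul]; congr 1; group
      _ = _ := by rw [h]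

theorem fpc_all {G : Type*} [Group G] (P : Subgroup G) (u : G) (h : ∀ x, x⁻¹ * u * x ∈ P) : Cfsg.fixedPointCharacter P u = (P.index : ℂ) := by
  unfold Cfsg.fixedPointCharacter
  have h2 : MulAction.fixedBy (G ⧸ P) u = Set.univ := by
    ext c
    simp only [MulAction.mem_fixedBy, Set.mem_univ, iff_true]
    induction c using QuotientGroup.induction_on with
    | H x => exact (stab_iff P x u).2 (h x)
  rw [h2, Nat.card_univ]
  rfl

theorem fpc_none {G : Type*} [Group G] (P : Subgroup G) (u : G) (h : ∀ x, x⁻¹ * u * x ∉ P) : Cfsg.fixedPointCharacter P u = 0 := by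
  unfold Cfsg.fixedPointCharacter
  rw [Nat.cast_eq_zero, Nat.card_eq_zero]
  left
  constructor
  rintro ⟨c, hc⟩
  rw [MulAction.mem_fixedBy] at hc
  induction c using QuotientGroup.induction_on with
  | H x => exact h x ((stab_iff P x u).1 hc)

theorem Gate.st_conj {G : Type*} [Group G] {I : Finset ℕ} (T : Gate G I) (x u : G) : T.st (x * u * x⁻¹) = T.st u := by
  unfold Gate.st
  apply Finset.sum_congr rfl
  intro J _
  rw [fpc_conj]

end Stb

namespace Chv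

open Cfsg.Lie CfsgH6.Stb
open scoped Classical

variable {D : ChevalleyDatum} (g : Good D) {F : Type*} [Field F]

namespace Good

theorem card_XH [Fintype F] {S : ℕ → Prop} (hS : ∀ r < D.nroots, S r → g.N ≤ r) :
    Nat.card (g.XH F S) = Nat.card (g.XS F S) * Nat.card (g.HH F) := by
  rw [← Nat.card_prod]
  symm
  apply Nat.card_congr
  refine Equiv.ofBijective (fun p => (⟨(p.1 : GL D.Idx F) * p.2, p.1, p.1.2, p.2, p.2.2, rfl⟩ : g.XH F S)) ⟨?_, ?_⟩
  · rintro ⟨⟨a, ha⟩, ⟨k, hk⟩⟩ ⟨⟨a', ha'⟩, ⟨k', hk'⟩⟩ h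
    have h1 : a * k = a' * k' := congrArg Subtype.val h
    have h2 : a'⁻¹ * a = k' * k⁻¹ := by
      calc a'⁻¹ * a = a'⁻¹ * (a * k) * k⁻¹ := by group
        _ = _ := by rw [h1]; group
    have h3 : a'⁻¹ * a ∈ g.UU F ⊓ g.HH F := ⟨g.XS_mono hS (Subgroup.mul_mem _ (Subgroup.inv_mem _ ha') ha), by
      rw [h2]; exact Subgroup.mul_mem _ hk' (Subgroup.inv_mem _ hk)⟩
    rw [g.UU_inf_HH, Subgroup.mem_bot] at h3
    have h4 : a = a' := by rw [inv_mul_eq_one] at h3; exact h3.symm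
    subst h4
    have h5 : k = k' := mul_left_cancel h1
    subst h5
    rfl
  · rintro ⟨x, a, ha, k, hk, rfl⟩
    exact ⟨(⟨a, ha⟩, ⟨k, hk⟩), rfl⟩

theorem index_SK [Fintype F] (K : Set ℕ) : (g.XH F (g.SK K)).relIndex (g.BB F) = Fintype.card F ^ g.NK K := by
  have hle : g.XH F (g.SK K) ≤ g.BB F := by
    rintro x ⟨a, ha, k, hk, rfl⟩
    exact ⟨a, g.XS_mono (fun r _ h => h.1) ha, k, hk, rfl⟩
  have h1 := Subgroup.card_mul_index ((g.XH F (g.SK K)).subgroupOf (g.BB F))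
  have h7 : Nat.card ((g.XH F (g.SK K)).subgroupOf (g.BB F)) = Nat.card (g.XH F (g.SK K)) := Nat.card_congr (Subgroup.subgroupOfEquivOfLe hle).toEquiv
  rw [h7, g.card_XH (fun r _ h => h.1), g.card_BB, ← g.card_SK K] at h1
  have h8 : 0 < Nat.card (g.XS F (g.SK K)) * Nat.card (g.HH F) := Nat.mul_pos Nat.card_pos Nat.card_pos
  apply Nat.eq_of_mul_eq_mul_left h8
  change Nat.card (g.XS F (g.SK K)) * Nat.card (g.HH F) * ((g.XH F (g.SK K)).subgroupOf (g.BB F)).index = _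
  rw [h1]
  ring

theorem XH_inf_UU {S : ℕ → Prop} (hS : ∀ r < D.nroots, S r → g.N ≤ r) {x : GL D.Idx F} (h1 : x ∈ g.XH F S) (h2 : x ∈ g.UU F) : x ∈ g.XS F S := by
  obtain ⟨a, ha, k, hk, rfl⟩ := h1
  have h3 : k ∈ g.UU F ⊓ g.HH F := ⟨by
    have : k = a⁻¹ * (a * k) := by group
    rw [this]; exact Subgroup.mul_mem _ (Subgroup.inv_mem _ (g.XS_mono hS ha)) h2, hk⟩
  rw [g.UU_inf_HH, Subgroup.mem_bot] at h3
  rw [h3, mul_one]; exact ha

theorem RJ_conj {K : Set ℕ} {x y : GL D.Idx F} (hx : x ∈ g.PJ F K) (hy : y ∈ g.XS F (g.SK K)) : x * y * x⁻¹ ∈ g.XS F (g.SK K) := by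
  have h1 := g.RJ_norm K hx
  rw [Subgroup.mem_normalizer_iff] at h1
  rw [← g.RJ_eq]
  apply (h1 y).1
  rw [g.RJ_eq]; exact hy

variable (F) in
noncomputable def gateJ (J : Finset ℕ) (hJ : J ⊆ Finset.range D.rank) : Gate ↥(g.PJ F (J : Set ℕ)) J :=
  g.gateOf F (g.PJ F (J : Set ℕ)) J hJ (g.PJ_le_GG _) (le_refl _)

theorem nK_mem (K : Set ℕ) : g.nK F K ∈ g.PJ F K :=
  g.PJ_of_ty (g.wKL_lt K) ⟨fun i hi => (g.wKL_lt K i hi).1, 1, Subgroup.one_mem _, 1, Subgroup.one_mem _, by unfold nK; simp⟩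

theorem gateJ_B {J : Finset ℕ} (hJ : J ⊆ Finset.range D.rank) {b : ↥(g.PJ F (J : Set ℕ))} (hb : (b : GL D.Idx F) ∈ g.BB F) [Finite F] :
    ∃ hb' : b ∈ (g.gateJ F J hJ).B, (g.gateJ F J hJ).st b =
      Cfsg.fixedPointCharacter (((g.XH F (g.SK (J : Set ℕ))).subgroupOf (g.PJ F (J : Set ℕ))).subgroupOf (g.gateJ F J hJ).B) ⟨b, hb'⟩ := by
  refine ⟨Subgroup.mem_subgroupOf.2 hb, ?_⟩
  apply (g.gateJ F J hJ).st_BH (w := ⟨g.nK F (J : Set ℕ), g.nK_mem _⟩) (H := (g.XH F (g.SK (J : Set ℕ))).subgroupOf (g.PJ F (J : Set ℕ)))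
  · intro x
    have h1 := g.desc_cell (I := J) (K := J) hJ (le_refl _) (p := (x : GL D.Idx F))
    have h2 : Disjoint J (g.asc J (x : GL D.Idx F)) ↔ g.asc J (x : GL D.Idx F) = ∅ := by
      constructor
      · intro h
        exact Finset.disjoint_self_iff_empty _ |>.1 (Finset.disjoint_of_subset_left (g.asc_sub J _) h)
      · intro h; rw [h]; exact Finset.disjoint_empty_right _
    show g.asc J (x : GL D.Idx F) = ∅ ↔ _
    rw [← h2]
    constructor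
    · intro h
      obtain ⟨b, hb, b', hb', he⟩ := h1.1 ⟨x.2, h⟩
      exact ⟨⟨b, g.BB_le_PJ _ hb⟩, Subgroup.mem_subgroupOf.2 hb, ⟨b', g.BB_le_PJ _ hb'⟩, Subgroup.mem_subgroupOf.2 hb', Subtype.ext he⟩
    · rintro ⟨b, hb, b', hb', he⟩
      exact (h1.2 ⟨b, Subgroup.mem_subgroupOf.1 hb, b', Subgroup.mem_subgroupOf.1 hb', congrArg Subtype.val he⟩).2
  · intro b hb
    exact g.nK_conj _ (Subgroup.mem_subgroupOf.1 hb)

/-- the value on unipotent elements -/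
theorem gateJ_U [Fintype F] {J : Finset ℕ} (hJ : J ⊆ Finset.range D.rank) {u : ↥(g.PJ F (J : Set ℕ))} (hu : (u : GL D.Idx F) ∈ g.UU F) :
    (g.gateJ F J hJ).st u = if (u : GL D.Idx F) ∈ g.XS F (g.SK (J : Set ℕ)) then (Fintype.card F : ℂ) ^ g.NK (J : Set ℕ) else 0 := by
  obtain ⟨hb, h⟩ := g.gateJ_B hJ (g.UU_le_BB hu)
  rw [h]
  split_ifs with h1
  · rw [fpc_all]
    · have h3 : (((g.XH F (g.SK (J : Set ℕ))).subgroupOf (g.PJ F (J : Set ℕ))).subgroupOf (g.gateJ F J hJ).B).index =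
          (g.XH F (g.SK (J : Set ℕ))).relIndex (g.BB F) := by
        change ((g.XH F (g.SK (J : Set ℕ))).subgroupOf (g.PJ F (J : Set ℕ))).relIndex ((g.BB F).subgroupOf (g.PJ F (J : Set ℕ))) = _
        exact Subgroup.relIndex_subgroupOf (g.BB_le_PJ _)
      rw [h3, g.index_SK]
      push_cast
      rfl
    · intro y
      rw [Subgroup.mem_subgroupOf, Subgroup.mem_subgroupOf]
      show ((y : ↥(g.PJ F (J : Set ℕ))) : GL D.Idx F)⁻¹ * (u : GL D.Idx F) * ((y : ↥(g.PJ F (J : Set ℕ))) : GL D.Idx F) ∈ _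
      have h3 := g.RJ_conj (K := (J : Set ℕ)) (Subgroup.inv_mem _ (y : ↥(g.PJ F (J : Set ℕ))).2) h1
      rw [_root_.inv_inv] at h3
      exact ⟨_, h3, 1, Subgroup.one_mem _, (mul_one _).symm⟩
  · apply fpc_none
    intro y hc
    rw [Subgroup.mem_subgroupOf, Subgroup.mem_subgroupOf] at hc
    change ((y : ↥(g.PJ F (J : Set ℕ))) : GL D.Idx F)⁻¹ * (u : GL D.Idx F) * ((y : ↥(g.PJ F (J : Set ℕ))) : GL D.Idx F) ∈ _ at hc
    have hyB : ((y : ↥(g.PJ F (J : Set ℕ))) : GL D.Idx F) ∈ g.BB F := Subgroup.mem_subgroupOf.1 y.2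
    have h2 := g.BB_conjU (Subgroup.inv_mem _ hyB) hu
    rw [_root_.inv_inv] at h2
    have h3 := g.XH_inf_UU (fun r _ h => h.1) hc h2
    have h4 := g.RJ_conj (K := (J : Set ℕ)) (y : ↥(g.PJ F (J : Set ℕ))).2 h3
    apply h1
    have h5 : ((y : ↥(g.PJ F (J : Set ℕ))) : GL D.Idx F) * (((y : ↥(g.PJ F (J : Set ℕ))) : GL D.Idx F)⁻¹ * (u : GL D.Idx F) *
      ((y : ↥(g.PJ F (J : Set ℕ))) : GL D.Idx F)) * ((y : ↥(g.PJ F (J : Set ℕ))) : GL D.Idx F)⁻¹ = (u : GL D.Idx F) := by group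
    rwa [h5] at h4

end Good

end Chv
end CfsgH6
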