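import Cfsg.Agent.H6.St19
import Cfsg.Agent.H6.St7

set_option autoImplicit false

/-! Duality of class functions for an abstract gate system; characters of defect zero. -/

namespace CfsgH6
namespace Stb

open scoped Classical ComplexConjugate
open Cfsg CfsgH4

section
variable {G : Type*} [Group G]

theorem exists_ppart [Finite G] {p : ℕ} (hp : p.Prime) : ∃ m : ℕ, (∀ x : G, ¬ p ∣ orderOf (x ^ m)) ∧ ∀ x : G, ¬ p ∣ orderOf x → x ^ m = x := by
  obtain ⟨a, b, hb, hab⟩ := Nat.exists_eq_pow_mul_and_not_dvd (n := Nat.card G) Nat.card_pos.ne' p hp.ne_one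
  have hcop : Nat.Coprime (p ^ a) b := Nat.Coprime.pow_left a ((Nat.Prime.coprime_iff_not_dvd hp).2 hb)
  obtain ⟨m, hm1, hm2⟩ := Nat.chineseRemainder hcop 0 1
  refine ⟨m, fun x h => ?_, fun x h => ?_⟩
  · apply hb
    refine h.trans (orderOf_dvd_of_pow_eq_one ?_)
    rw [← pow_mul]
    have h1 : p ^ a ∣ m := (Nat.modEq_zero_iff_dvd).1 hm1
    obtain ⟨c, rfl⟩ := h1
    have h2 : p ^ a * c * b = Nat.card G * c := by rw [hab]; ring
    rw [h2, pow_mul, pow_card_eq_one', one_pow]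
  · have h1 : orderOf x ∣ p ^ a * b := by rw [← hab]; exact orderOf_dvd_natCard x
    have h2 : (orderOf x).Coprime (p ^ a) := (Nat.Coprime.pow_left a ((Nat.Prime.coprime_iff_not_dvd hp).2 h)).symm
    have h3 : orderOf x ∣ b := h2.dvd_of_dvd_mul_left h1
    have h4 : m ≡ 1 [MOD orderOf x] := Nat.ModEq.of_dvd h3 hm2
    have h5 := (pow_eq_pow_iff_modEq (x := x) (n := m) (m := 1)).2 h4
    rwa [pow_one] at h5

theorem mul_pow_coset {U : Subgroup G} {x : G} (hx : ∀ u ∈ U, x⁻¹ * u * x ∈ U) {u : G} (hu : u ∈ U) (m : ℕ) : ∃ u' ∈ U, (x * u) ^ m = x ^ m * u' := by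
  induction m with
  | zero => exact ⟨1, U.one_mem, by simp⟩
  | succ m ih =>
    obtain ⟨u', hu', h⟩ := ih
    refine ⟨(x⁻¹ * u' * x) * u, U.mul_mem (hx u' hu') hu, ?_⟩
    rw [pow_succ, h, pow_succ]
    group
end

variable {G : Type*} [Group G] {I : Finset ℕ}

namespace Gate

variable (T : Gate G I)

/-- restriction of a gate system to a parabolic -/
noncomputable def res (hmono : ∀ J ⊆ I, ∀ K ⊆ J, T.P K ≤ T.P J) (J : Finset ℕ) (hJ : J ⊆ I) : Gate (T.P J) J where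
  B := T.B.subgroupOf (T.P J)
  P K := (T.P K).subgroupOf (T.P J)
  A x := T.A x ∩ J
  A_sub x := Finset.inter_subset_right
  A_inv := by
    intro b hb b' hb' x
    have := T.A_inv b hb b' hb' x
    show T.A ((b : G) * x * b') ∩ J = T.A (x : G) ∩ J
    rw [this]
  B_le := by
    intro K hK b hb
    exact T.B_le K (hK.trans hJ) hb
  ex := by
    intro K hK x
    obtain ⟨p, hp, h⟩ := T.ex K (hK.trans hJ) x
    exact ⟨⟨p, hmono J hJ K hK hp⟩, hp, Finset.subset_inter h hK⟩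
  un := by
    intro K hK x p hp h1 h2
    exact T.un K (hK.trans hJ) x p hp (h1.trans Finset.inter_subset_left) (h2.trans Finset.inter_subset_left)

variable {T} (hmono : ∀ J ⊆ I, ∀ K ⊆ J, T.P K ≤ T.P J)

theorem res_P (J : Finset ℕ) (hJ : J ⊆ I) (K : Finset ℕ) : (T.res hmono J hJ).P K = (T.P K).subgroupOf (T.P J) := rfl
theorem res_B (J : Finset ℕ) (hJ : J ⊆ I) : (T.res hmono J hJ).B = T.B.subgroupOf (T.P J) := rfl
theorem res_A (J : Finset ℕ) (hJ : J ⊆ I) (x : T.P J) : (T.res hmono J hJ).A x = T.A (x : G) ∩ J := rfl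

theorem fpc_eq_ind [Fintype G] (P : Subgroup G) : fixedPointCharacter P = indFun P (fun _ => 1) := by
  rw [indFun_one_eq_perm]
  rfl

theorem ind_res [Fintype G] (J : Finset ℕ) (hJ : J ⊆ I) :
    indFun (T.P J) (T.res hmono J hJ).st = ∑ K ∈ J.powerset, ((-1 : ℂ) ^ K.card) • fixedPointCharacter (T.P K) := by
  have : Fintype (T.P J) := Fintype.ofFinite _
  rw [st_eq_sum, indFun_sum]
  apply Finset.sum_congr rfl
  intro K hK
  rw [Finset.mem_powerset] at hK
  rw [indFun_smul, res_P, fpc_eq_ind, fpc_eq_ind]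
  congr 1
  exact indFun_trans (T.P K) (T.P J) (hmono J hJ K hK) (fun _ => 1)

theorem alt_alt (a : Finset ℕ → G → ℂ) :
    ∑ J ∈ I.powerset, ((-1 : ℂ) ^ J.card) • ∑ K ∈ J.powerset, ((-1 : ℂ) ^ K.card) • a K = a I := by
  have h1 : ∀ J ∈ I.powerset, ((-1 : ℂ) ^ J.card) • ∑ K ∈ J.powerset, ((-1 : ℂ) ^ K.card) • a K =
      ∑ K ∈ I.powerset, ((-1 : ℂ) ^ J.card * (if K ⊆ J ∧ J ⊆ I then 1 else 0)) • (((-1 : ℂ) ^ K.card) • a K) := by
    intro J hJ
    rw [Finset.mem_powerset] at hJ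
    rw [Finset.smul_sum]
    have h2 : J.powerset = I.powerset.filter (fun K => K ⊆ J ∧ J ⊆ I) := by
      ext K
      simp only [Finset.mem_powerset, Finset.mem_filter]
      exact ⟨fun h => ⟨h.trans hJ, h, hJ⟩, fun h => h.2.1⟩
    rw [h2, Finset.sum_filter]
    apply Finset.sum_congr rfl
    intro K _
    by_cases h3 : K ⊆ J ∧ J ⊆ I
    · rw [if_pos h3, if_pos h3, mul_one]
    · rw [if_neg h3, if_neg h3, mul_zero, zero_smul]
  rw [Finset.sum_congr rfl h1, Finset.sum_comm]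
  have h2 : ∀ K ∈ I.powerset, ∑ J ∈ I.powerset, ((-1 : ℂ) ^ J.card * (if K ⊆ J ∧ J ⊆ I then 1 else 0)) • (((-1 : ℂ) ^ K.card) • a K) =
      if K = I then a I else 0 := by
    intro K hK
    rw [Finset.mem_powerset] at hK
    rw [← Finset.sum_smul]
    have h3 := alt_interval (I := I) (R := K) (A := I) hK (le_refl _)
    have h4 : ∑ J ∈ I.powerset, (-1 : ℂ) ^ J.card * (if K ⊆ J ∧ J ⊆ I then (1 : ℂ) else 0) = if K = I then (-1) ^ K.card else 0 := by
      convert h3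
    rw [h4]
    by_cases h5 : K = I
    · rw [if_pos h5, if_pos h5, smul_smul, ← mul_pow, h5]
      simp
    · rw [if_neg h5, if_neg h5, zero_smul]
  rw [Finset.sum_congr rfl h2, Finset.sum_ite_eq', if_pos (Finset.mem_powerset.2 (le_refl _))]

theorem dual_st [Fintype G] (hPI : T.P I = ⊤) :
    ∑ J ∈ I.powerset.attach, ((-1 : ℂ) ^ J.1.card) • indFun (T.P J.1) (T.res hmono J.1 (Finset.mem_powerset.1 J.2)).st = 1 := by
  have h1 : ∑ J ∈ I.powerset.attach, ((-1 : ℂ) ^ J.1.card) • indFun (T.P J.1) (T.res hmono J.1 (Finset.mem_powerset.1 J.2)).st =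
      ∑ J ∈ I.powerset.attach, (fun J : Finset ℕ => ((-1 : ℂ) ^ J.card) • ∑ K ∈ J.powerset, ((-1 : ℂ) ^ K.card) • fixedPointCharacter (T.P K)) J.1 := by
    apply Finset.sum_congr rfl
    intro J _
    rw [ind_res]
  rw [h1, Finset.sum_attach (f := (fun J : Finset ℕ => ((-1 : ℂ) ^ J.card) • ∑ K ∈ J.powerset, ((-1 : ℂ) ^ K.card) • fixedPointCharacter (T.P K))),
    alt_alt (fun K => fixedPointCharacter (T.P K)), hPI]
  funext x
  rw [fpc_all ⊤ x (fun _ => trivial), Subgroup.index_top]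
  simp

theorem dual [Fintype G] {p : ℕ} [Fact p.Prime] (hPI : T.P I = ⊤) (U : Finset ℕ → Subgroup G)
    (hUP : ∀ J ⊆ I, U J ≤ T.P J) (hUn : ∀ J ⊆ I, ∀ x ∈ T.P J, ∀ u ∈ U J, x⁻¹ * u * x ∈ U J) (hUp : ∀ J ⊆ I, IsPGroup p (U J))
    (htr : ∀ (J : Finset ℕ) (hJ : J ⊆ I), trunc (T.P J) (U J) T.st = (T.res hmono J hJ).st)
    (hst0 : ∀ x, p ∣ orderOf x → T.st x = 0) (hst1 : ∀ x, ¬ p ∣ orderOf x → T.st x ≠ 0)
    {χ : G → ℂ} (hχ : IsIrrCharacter G χ) (hχ0 : ∀ x, p ∣ orderOf x → χ x = 0) :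
    ∃ f : G → ℂ, (IsIrrCharacter G f ∨ IsIrrCharacter G (-f)) ∧ χ = f * T.st ∧ ∀ u ∈ U ∅, f u = f 1 := by
  have hp : p.Prime := Fact.out
  have hχc := IsIrr.isClassFunction hχ
  have hSc : ∀ x u : G, T.st (x * u * x⁻¹) = T.st u := T.st_conj
  obtain ⟨m, hm1, hm2⟩ := exists_ppart (G := G) hp
  obtain ⟨f, hf⟩ : ∃ f : G → ℂ, ∀ x, f x = χ (x ^ m) / T.st (x ^ m) := ⟨_, fun x => rfl⟩
  have hfc : IsClassFunction G f := by
    intro x h
    rw [hf, hf, conj_pow, hSc, hχc]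
  have hfU : ∀ J ⊆ I, ∀ x ∈ T.P J, ∀ u ∈ U J, f (x * u) = f x := by
    intro J hJ x hx u hu
    obtain ⟨u', hu', h1⟩ := mul_pow_coset (hUn J hJ x hx) hu m
    have hxm : x ^ m ∈ T.P J := Subgroup.pow_mem _ hx m
    have hn : x ^ m ∈ Subgroup.normalizer (U J : Set G) := by
      rw [Subgroup.mem_normalizer_iff]
      intro w
      constructor
      · intro hw
        have := hUn J hJ _ (Subgroup.inv_mem _ hxm) w hw
        rwa [inv_inv] at this
      · intro hw
        have := hUn J hJ _ hxm _ hw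
        have h2 : (x ^ m)⁻¹ * (x ^ m * w * (x ^ m)⁻¹) * x ^ m = w := by group
        rwa [h2] at this
    obtain ⟨v, hv, h2⟩ := coset_conj (hUp J hJ) hn (hm1 x) hu' (by rw [← h1]; exact hm1 _)
    rw [hf, hf, h1, ← h2, hSc, hχc]
  have hχf : χ = f * T.st := by
    funext x
    rw [Pi.mul_apply, hf]
    by_cases h : p ∣ orderOf x
    · rw [hst0 x h, mul_zero, hχ0 x h]
    · rw [hm2 x h, div_mul_cancel₀ _ (hst1 x h)]
  -- f is the dual of χ
  have hfD : f = ∑ J ∈ I.powerset.attach, ((-1 : ℂ) ^ J.1.card) • indFun (T.P J.1) (trunc (T.P J.1) (U J.1) χ) := by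
    have h1 : ∑ J ∈ I.powerset.attach, ((-1 : ℂ) ^ J.1.card) • indFun (T.P J.1) (trunc (T.P J.1) (U J.1) χ) =
        (∑ J ∈ I.powerset.attach, ((-1 : ℂ) ^ J.1.card) • indFun (T.P J.1) (T.res hmono J.1 (Finset.mem_powerset.1 J.2)).st) * f := by
      rw [Finset.sum_mul]
      apply Finset.sum_congr rfl
      intro J _
      have hJ := Finset.mem_powerset.1 J.2
      rw [smul_mul_assoc, ← indFun_mul_restrict _ _ hfc, ← htr J.1 hJ, ← trunc_mul _ _ (hfU J.1 hJ), ← hχf]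
    rw [h1, dual_st hmono hPI, one_mul]
  have hfg : IsGeneralizedCharacter G f := by
    rw [hfD]
    apply isGen_sum
    intro J _
    have h1 : ((-1 : ℂ) ^ J.1.card) = (((-1 : ℤ) ^ J.1.card : ℤ) : ℂ) := by push_cast; rfl
    rw [h1]
    exact isGen_int_smul (isGen_indFun _ (IsCharacter.isGen (isCharacter_trunc (IsIrr.isCharacter hχ) _ _ (hUn J.1 (Finset.mem_powerset.1 J.2))))) _
  have hnorm : classInner f f = 1 := by
    have h0 : classInner f f = classInner (∑ J ∈ I.powerset.attach, ((-1 : ℂ) ^ J.1.card) • indFun (T.P J.1) (trunc (T.P J.1) (U J.1) χ)) f := by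
      rw [← hfD]
    rw [h0, classInner_sum_left]
    have h1 : ∀ J ∈ I.powerset.attach, classInner (((-1 : ℂ) ^ J.1.card) • indFun (T.P J.1) (trunc (T.P J.1) (U J.1) χ)) f =
        classInner χ ((((-1 : ℂ) ^ J.1.card) • fixedPointCharacter (T.P J.1)) * f) := by
      intro J _
      have hJ := Finset.mem_powerset.1 J.2
      have : Fintype (T.P J.1) := Fintype.ofFinite _
      rw [classInner_smul_left, CfsgH4.frobenius _ _ hfc, trunc_inner _ _ (hUP J.1 hJ) (hfU J.1 hJ), ← frobenius_right _ _ hχc, smul_mul_assoc,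
        classInner_smul_right, fpc_eq_ind, ← indFun_mul_restrict _ _ hfc]
      rw [map_pow, map_neg, map_one]
      congr 2
      congr 1
      funext x
      simp
    rw [Finset.sum_congr rfl h1]
    have h2 : classInner χ (T.st * f) = 1 := by
      have h3 : T.st * f = χ := by rw [mul_comm, ← hχf]
      rw [h3, classInner_irr hχ hχ, if_pos rfl]
    refine Eq.trans ?_ h2
    rw [st_eq_sum, Finset.sum_mul, classInner_sum_right]
    exact Finset.sum_attach I.powerset (fun J => classInner χ ((((-1 : ℂ) ^ J.card) • fixedPointCharacter (T.P J)) * f))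
  refine ⟨f, IsGen.norm_one hfg hnorm, hχf, ?_⟩
  intro u hu
  have := hfU ∅ (Finset.empty_subset _) 1 (Subgroup.one_mem _) u hu
  rwa [one_mul] at this

end Gate

end Stb
end CfsgH6
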