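import Mathlib
import Cfsg.Prelude.Def_ParabolicCharacters

set_option autoImplicit false

/-! Alternating sums of permutation characters over a family of subgroups with gates. -/

namespace CfsgH6
namespace Stb

open scoped Classical

structure Gate (G : Type*) [Group G] (I : Finset ℕ) where
  B : Subgroup G
  P : Finset ℕ → Subgroup G
  A : G → Finset ℕ
  A_sub : ∀ x, A x ⊆ I
  A_inv : ∀ b ∈ B, ∀ b' ∈ B, ∀ x, A (b * x * b') = A x
  B_le : ∀ J ⊆ I, B ≤ P J
  ex : ∀ J ⊆ I, ∀ x, ∃ p ∈ P J, J ⊆ A (x * p)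
  un : ∀ J ⊆ I, ∀ x, ∀ p ∈ P J, J ⊆ A x → J ⊆ A (x * p) → p ∈ B

variable {G : Type*} [Group G] {I : Finset ℕ}

theorem alt_powerset (A : Finset ℕ) (hA : A ⊆ I) : ∑ J ∈ I.powerset, (-1 : ℂ) ^ J.card * (if J ⊆ A then 1 else 0) = if A = ∅ then 1 else 0 := by
  have h1 : ∑ J ∈ I.powerset, (-1 : ℂ) ^ J.card * (if J ⊆ A then 1 else 0) = ∑ J ∈ A.powerset, (-1 : ℂ) ^ J.card := by
    rw [← Finset.sum_filter_add_sum_filter_not I.powerset (fun J => J ⊆ A)]
    have h2 : ∑ J ∈ I.powerset with ¬ J ⊆ A, (-1 : ℂ) ^ J.card * (if J ⊆ A then 1 else 0) = 0 := by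
      apply Finset.sum_eq_zero
      intro J hJ
      rw [if_neg (Finset.mem_filter.1 hJ).2, mul_zero]
    rw [h2, add_zero]
    have h3 : I.powerset.filter (fun J => J ⊆ A) = A.powerset := by
      ext J
      rw [Finset.mem_filter, Finset.mem_powerset, Finset.mem_powerset]
      exact ⟨fun h => h.2, fun h => ⟨h.trans hA, h⟩⟩
    rw [h3]
    apply Finset.sum_congr rfl
    intro J hJ
    rw [if_pos (Finset.mem_powerset.1 hJ), mul_one]
  rw [h1]
  have h4 := Finset.sum_powerset_neg_one_pow_card (x := A)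
  have h5 : ((∑ m ∈ A.powerset, (-1 : ℤ) ^ m.card : ℤ) : ℂ) = ∑ J ∈ A.powerset, (-1 : ℂ) ^ J.card := by push_cast; rfl
  rw [← h5, h4]
  split_ifs <;> simp

/-- alternating sums over a finite set of counts of elements with `J ⊆ A` -/
theorem alt_count {X : Type*} [Finite X] (A : X → Finset ℕ) (hA : ∀ x, A x ⊆ I) :
    ∑ J ∈ I.powerset, (-1 : ℂ) ^ J.card * (Nat.card {x : X // J ⊆ A x} : ℂ) = (Nat.card {x : X // A x = ∅} : ℂ) := by
  have := Fintype.ofFinite X
  have h1 : ∀ p : X → Prop, (Nat.card {x : X // p x} : ℂ) = ∑ x : X, if p x then 1 else 0 := by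
    intro p
    rw [Nat.card_eq_fintype_card, Fintype.card_subtype, Finset.sum_boole]
  rw [h1]
  simp_rw [h1, Finset.mul_sum]
  rw [Finset.sum_comm]
  apply Finset.sum_congr rfl
  intro x _
  have h := alt_powerset (A x) (hA x)
  convert h

namespace Gate

variable (T : Gate G I)

noncomputable def Ac (c : G ⧸ T.B) : Finset ℕ := T.A c.out

theorem A_right (x : G) {b : G} (hb : b ∈ T.B) : T.A (x * b) = T.A x := by
  have := T.A_inv 1 (Subgroup.one_mem _) b hb x
  rwa [one_mul] at this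

theorem A_left (x : G) {b : G} (hb : b ∈ T.B) : T.A (b * x) = T.A x := by
  have := T.A_inv b hb 1 (Subgroup.one_mem _) x
  rwa [mul_one] at this

theorem Ac_mk (x : G) : T.Ac (QuotientGroup.mk x) = T.A x := by
  unfold Ac
  obtain ⟨h, hh⟩ := QuotientGroup.mk_out_eq_mul T.B x
  rw [hh, T.A_right x h.2]

theorem Ac_smul {b : G} (hb : b ∈ T.B) (c : G ⧸ T.B) : T.Ac (b • c) = T.Ac c := by
  induction c using QuotientGroup.induction_on with
  | H x =>
    have : b • (QuotientGroup.mk x : G ⧸ T.B) = QuotientGroup.mk (b * x) := rfl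
    rw [this, T.Ac_mk, T.Ac_mk, T.A_left x hb]

/-- the projection -/
noncomputable def proj {J : Finset ℕ} (hJ : J ⊆ I) : G ⧸ T.B → G ⧸ T.P J := Subgroup.quotientMapOfLE (T.B_le J hJ)

theorem proj_mk {J : Finset ℕ} (hJ : J ⊆ I) (x : G) : T.proj hJ (QuotientGroup.mk x) = QuotientGroup.mk x := rfl

theorem proj_smul {J : Finset ℕ} (hJ : J ⊆ I) (x : G) (c : G ⧸ T.B) : T.proj hJ (x • c) = x • T.proj hJ c := by
  induction c using QuotientGroup.induction_on with
  | H y => rfl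

theorem proj_inj {J : Finset ℕ} (hJ : J ⊆ I) {c c' : G ⧸ T.B} (h1 : J ⊆ T.Ac c) (h2 : J ⊆ T.Ac c') (h : T.proj hJ c = T.proj hJ c') : c = c' := by
  induction c using QuotientGroup.induction_on with
  | H x =>
    induction c' using QuotientGroup.induction_on with
    | H y =>
      rw [T.proj_mk, T.proj_mk, QuotientGroup.eq] at h
      rw [T.Ac_mk] at h1 h2
      rw [QuotientGroup.eq]
      refine T.un J hJ x (x⁻¹ * y) h h1 ?_
      rwa [mul_inv_cancel_left]

theorem proj_surj {J : Finset ℕ} (hJ : J ⊆ I) (q : G ⧸ T.P J) : ∃ c : G ⧸ T.B, J ⊆ T.Ac c ∧ T.proj hJ c = q := by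
  induction q using QuotientGroup.induction_on with
  | H x =>
    obtain ⟨p, hp, h⟩ := T.ex J hJ x
    refine ⟨QuotientGroup.mk (x * p), by rwa [T.Ac_mk], ?_⟩
    rw [T.proj_mk, QuotientGroup.eq]
    rw [_root_.mul_inv_rev, mul_assoc, inv_mul_cancel, mul_one]
    exact Subgroup.inv_mem _ hp

/-- fixed points on `G/P_J` correspond to fixed gates -/
theorem fix_card {J : Finset ℕ} (hJ : J ⊆ I) {b : G} (hb : b ∈ T.B) :
    Nat.card (MulAction.fixedBy (G ⧸ T.P J) b) = Nat.card {c : {c : G ⧸ T.B // b • c = c} // J ⊆ T.Ac c.1} := by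
  symm
  apply Nat.card_congr
  refine Equiv.ofBijective (fun c => ⟨T.proj hJ c.1.1, ?_⟩) ⟨?_, ?_⟩
  · show b • T.proj hJ c.1.1 = T.proj hJ c.1.1
    rw [← T.proj_smul, c.1.2]
  · rintro ⟨⟨c, hc⟩, h1⟩ ⟨⟨c', hc'⟩, h2⟩ h
    have h3 : T.proj hJ c = T.proj hJ c' := congrArg Subtype.val h
    apply Subtype.ext
    apply Subtype.ext
    exact T.proj_inj hJ h1 h2 h3
  · rintro ⟨q, hq⟩
    obtain ⟨c, h1, h2⟩ := T.proj_surj hJ q
    have hbc : b • c = c := by
      apply T.proj_inj hJ (by rwa [T.Ac_smul hb]) h1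
      rw [T.proj_smul, h2]
      exact hq
    exact ⟨⟨⟨c, hbc⟩, h1⟩, Subtype.ext h2⟩

/-- the alternating sum of the permutation characters -/
noncomputable def st (g : G) : ℂ := ∑ J ∈ I.powerset, (-1 : ℂ) ^ J.card * Cfsg.fixedPointCharacter (T.P J) g

theorem st_B [Finite G] {b : G} (hb : b ∈ T.B) : T.st b = (Nat.card {c : {c : G ⧸ T.B // b • c = c} // T.Ac c.1 = ∅} : ℂ) := by
  rw [← alt_count (I := I) (fun c : {c : G ⧸ T.B // b • c = c} => T.Ac c.1) (fun c => T.A_sub _)]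
  unfold st
  apply Finset.sum_congr rfl
  intro J hJ
  unfold Cfsg.fixedPointCharacter
  rw [T.fix_card (Finset.mem_powerset.1 hJ) hb]

/-- if the cell with `A = ∅` is `B w B` with `B ∩ w B w⁻¹ = H`, the value is the permutation character on `B/H` -/
theorem st_BH [Finite G] {w : G} {H : Subgroup G} (hw : ∀ x, T.A x = ∅ ↔ ∃ b ∈ T.B, ∃ b' ∈ T.B, x = b * w * b')
    (hH : ∀ b ∈ T.B, w⁻¹ * b * w ∈ T.B ↔ b ∈ H) {b : G} (hb : b ∈ T.B) :
    T.st b = Cfsg.fixedPointCharacter (H.subgroupOf T.B) ⟨b, hb⟩ := by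
  rw [T.st_B hb]
  unfold Cfsg.fixedPointCharacter
  congr 1
  symm
  apply Nat.card_congr
  let φ : ↥T.B ⧸ H.subgroupOf T.B → G ⧸ T.B := Quotient.lift (fun y : ↥T.B => (QuotientGroup.mk ((y : G) * w) : G ⧸ T.B)) (by
    intro y y' h
    have h1 : y⁻¹ * y' ∈ H.subgroupOf T.B := QuotientGroup.leftRel_apply.1 h
    rw [QuotientGroup.eq]
    have h2 := (hH _ (y⁻¹ * y').2).2 (Subgroup.mem_subgroupOf.1 h1)
    rw [Subgroup.coe_mul, Subgroup.coe_inv] at h2
    have h3 : ((y : G) * w)⁻¹ * ((y' : G) * w) = w⁻¹ * ((y : G)⁻¹ * y') * w := by group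
    rw [h3]; exact h2)
  have hφ : ∀ y : ↥T.B, φ (QuotientGroup.mk y) = QuotientGroup.mk ((y : G) * w) := fun y => rfl
  have hinj : Function.Injective φ := by
    intro c c' h
    induction c using QuotientGroup.induction_on with
    | H y =>
      induction c' using QuotientGroup.induction_on with
      | H y' =>
        rw [hφ, hφ, QuotientGroup.eq] at h
        rw [QuotientGroup.eq, Subgroup.mem_subgroupOf]
        apply (hH _ (y⁻¹ * y').2).1
        rw [Subgroup.coe_mul, Subgroup.coe_inv]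
        have h3 : ((y : G) * w)⁻¹ * ((y' : G) * w) = w⁻¹ * ((y : G)⁻¹ * y') * w := by group
        rwa [h3] at h
  have hsm : ∀ c, φ ((⟨b, hb⟩ : ↥T.B) • c) = b • φ c := by
    intro c
    induction c using QuotientGroup.induction_on with
    | H y =>
      show (QuotientGroup.mk ((b * (y : G)) * w) : G ⧸ T.B) = QuotientGroup.mk (b * ((y : G) * w))
      rw [mul_assoc]
  refine Equiv.ofBijective (fun c => ⟨⟨φ c.1, ?_⟩, ?_⟩) ⟨?_, ?_⟩
  · rw [← hsm, c.2]
  · have h0 : ∀ c, T.Ac (φ c) = ∅ := by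
      intro c
      induction c using QuotientGroup.induction_on with
      | H y =>
        rw [hφ, T.Ac_mk, hw]
        exact ⟨y, y.2, 1, Subgroup.one_mem _, (mul_one _).symm⟩
    exact h0 c.1
  · rintro ⟨c, hc⟩ ⟨c', hc'⟩ h
    apply Subtype.ext
    apply hinj
    exact congrArg (fun z => z.1.1) h
  · rintro ⟨⟨c, hc⟩, h1⟩
    have h2 : ∃ c', φ c' = c := by
      have h1' : T.Ac c = ∅ := h1
      clear h1 hc
      induction c using QuotientGroup.induction_on with
      | H x =>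
        rw [T.Ac_mk] at h1'
        obtain ⟨b1, hb1, b2, hb2, rfl⟩ := (hw x).1 h1'
        refine ⟨QuotientGroup.mk ⟨b1, hb1⟩, ?_⟩
        rw [hφ, QuotientGroup.eq]
        have : (b1 * w)⁻¹ * (b1 * w * b2) = b2 := by group
        show (b1 * w)⁻¹ * (b1 * w * b2) ∈ T.B
        rw [this]; exact hb2
    obtain ⟨c', hc'⟩ := h2
    refine ⟨⟨c', ?_⟩, ?_⟩
    · apply hinj
      show φ ((⟨b, hb⟩ : ↥T.B) • c') = φ c'
      rw [hsm, hc', hc]
    · apply Subtype.ext
      apply Subtype.ext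
      exact hc'

end Gate

theorem fpc_one {G : Type*} [Group G] (H : Subgroup G) : Cfsg.fixedPointCharacter H 1 = (H.index : ℂ) := by
  unfold Cfsg.fixedPointCharacter
  have h2 : MulAction.fixedBy (G ⧸ H) (1 : G) = Set.univ := by
    ext c
    simp only [MulAction.mem_fixedBy, Set.mem_univ, iff_true]
    exact one_smul _ c
  rw [h2, Nat.card_univ]
  rfl

end Stb
end CfsgH6
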