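import Cfsg.Agent.H6.St2
import Cfsg.Agent.H6.St3

set_option autoImplicit false

/-! The gate structure of a Chevalley group and of its parabolic subgroups. -/

namespace CfsgH6
namespace Chv

open Cfsg.Lie CfsgH6.Stb
open scoped Classical

variable {D : ChevalleyDatum} (g : Good D) {F : Type*} [Field F]

namespace Good

theorem PJ_mono {J J' : Set ℕ} (h : J ⊆ J') : g.PJ F J ≤ g.PJ F J' := by
  intro x hx
  obtain ⟨L, hL, hx⟩ := g.PJ_right hx
  exact g.PJ_of_ty (fun i hi => ⟨(hL i hi).1, h (hL i hi).2⟩) hx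

/-- ascents inside `I` -/
noncomputable def asc (I : Finset ℕ) (x : GL D.Idx F) : Finset ℕ := I.filter (fun i => ∀ L, g.Ty x L → g.N ≤ g.wl L (D.simple i))

theorem mem_asc {I : Finset ℕ} (hI : I ⊆ Finset.range D.rank) {x : GL D.Idx F} {L : List ℕ} (hx : g.Ty x L) {i : ℕ} :
    i ∈ g.asc I x ↔ i ∈ I ∧ g.N ≤ g.wl L (D.simple i) := by
  unfold asc
  rw [Finset.mem_filter]
  constructor
  · rintro ⟨h1, h2⟩
    exact ⟨h1, h2 L hx⟩
  · rintro ⟨h1, h2⟩
    refine ⟨h1, fun L' hL' => ?_⟩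
    rw [hL'.uniq hx _ (g.simple_lt i (Finset.mem_range.1 (hI h1)))]
    exact h2

theorem asc_sub (I : Finset ℕ) (x : GL D.Idx F) : g.asc I x ⊆ I := Finset.filter_subset _ _

theorem asc_inv {I : Finset ℕ} (hI : I ⊆ Finset.range D.rank) {x b b' : GL D.Idx F} (hx : x ∈ g.GG F) (hb : b ∈ g.BB F) (hb' : b' ∈ g.BB F) :
    g.asc I (b * x * b') = g.asc I x := by
  obtain ⟨L, hL⟩ := g.exists_ty hx
  ext i
  rw [g.mem_asc hI (hL.mul hb hb'), g.mem_asc hI hL]

theorem sub_asc {I J : Finset ℕ} (hI : I ⊆ Finset.range D.rank) (hJ : J ⊆ I) {x : GL D.Idx F} {L : List ℕ} (hx : g.Ty x L) :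
    J ⊆ g.asc I x ↔ ∀ i < D.rank, i ∈ (J : Set ℕ) → g.N ≤ g.wl L (D.simple i) := by
  constructor
  · intro h i _ hi
    exact ((g.mem_asc hI hx).1 (h (Finset.mem_coe.1 hi))).2
  · intro h i hi
    exact (g.mem_asc hI hx).2 ⟨hJ hi, h i (Finset.mem_range.1 (hI (hJ hi))) (Finset.mem_coe.2 hi)⟩

variable (F) in
/-- the gate structure -/
noncomputable def gateOf (Γ : Subgroup (GL D.Idx F)) (I : Finset ℕ) (hI : I ⊆ Finset.range D.rank) (hΓ : Γ ≤ g.GG F) (hP : g.PJ F (I : Set ℕ) ≤ Γ) :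
    Gate ↥Γ I where
  B := (g.BB F).subgroupOf Γ
  P J := (g.PJ F (J : Set ℕ)).subgroupOf Γ
  A x := g.asc I (x : GL D.Idx F)
  A_sub x := g.asc_sub I _
  A_inv := by
    intro b hb b' hb' x
    exact g.asc_inv hI (hΓ x.2) (Subgroup.mem_subgroupOf.1 hb) (Subgroup.mem_subgroupOf.1 hb')
  B_le := by
    intro J _ x hx
    exact Subgroup.mem_subgroupOf.2 (g.BB_le_PJ _ (Subgroup.mem_subgroupOf.1 hx))
  ex := by
    intro J hJ x
    obtain ⟨L, hL⟩ := g.exists_ty (hΓ x.2)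
    obtain ⟨p, hp, M, hM, h⟩ := g.gate_ex (J : Set ℕ) _ (x : GL D.Idx F) L rfl hL
    refine ⟨⟨p, hP (g.PJ_mono (by exact_mod_cast hJ) hp)⟩, Subgroup.mem_subgroupOf.2 hp, ?_⟩
    exact (g.sub_asc hI hJ hM).2 h
  un := by
    intro J hJ x p hp h1 h2
    obtain ⟨L, hL⟩ := g.exists_ty (hΓ x.2)
    obtain ⟨M, hM⟩ := g.exists_ty (hΓ (x * p).2)
    rw [Subgroup.mem_subgroupOf]
    exact g.gate_un hL ((g.sub_asc hI hJ hL).1 h1) (Subgroup.mem_subgroupOf.1 hp) hM ((g.sub_asc hI hJ hM).1 h2)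

/-! ### the whole group -/

theorem PJ_all : g.PJ F ((Finset.range D.rank : Finset ℕ) : Set ℕ) = g.GG F := by
  apply le_antisymm (g.PJ_le_GG _)
  intro x hx
  obtain ⟨L, hL⟩ := g.exists_ty hx
  exact g.PJ_of_ty (fun i hi => ⟨hL.1 i hi, by rw [Finset.coe_range]; exact hL.1 i hi⟩) hL

theorem gG : D.group F = g.GG F := g.group_eq

variable (F) in
noncomputable def gateG : Gate ↥(D.group F) (Finset.range D.rank) :=
  g.gateOf F (D.group F) (Finset.range D.rank) (le_refl _) g.gG.le (by rw [g.PJ_all, g.gG])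

theorem gateG_B : (g.gateG F).B = (g.BB F).subgroupOf (D.group F) := rfl
theorem gateG_P (J : Finset ℕ) : (g.gateG F).P J = (g.PJ F (J : Set ℕ)).subgroupOf (D.group F) := rfl
theorem gateG_A (x : ↥(D.group F)) : (g.gateG F).A x = g.asc (Finset.range D.rank) (x : GL D.Idx F) := rfl

theorem steinberg_eq : D.steinbergCharacter F = (g.gateG F).st := by
  funext x
  unfold ChevalleyDatum.steinbergCharacter Gate.st
  apply Finset.sum_congr rfl
  intro J _
  rw [g.gateG_P]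
  unfold ChevalleyDatum.parabolicIn
  rw [g.parab_eq]

/-- the longest element of the Weyl group -/
noncomputable def w0L : List ℕ := (g.exists_w0).choose

theorem w0L_lt : ∀ i ∈ g.w0L, i < D.rank := (g.exists_w0).choose_spec.1
theorem w0L_neg : ∀ r < D.nroots, g.N ≤ r → g.wl g.w0L r < g.N := (g.exists_w0).choose_spec.2

variable (F) in
noncomputable def n0 : GL D.Idx F := g.nl F g.w0L

theorem n0_mem : g.n0 F ∈ g.GG F := g.NN_le_GG (g.nl_mem g.w0L_lt)

theorem asc_empty_iff {x : GL D.Idx F} (hx : x ∈ g.GG F) : g.asc (Finset.range D.rank) x = ∅ ↔ ∃ b ∈ g.BB F, ∃ b' ∈ g.BB F, x = b * g.n0 F * b' := by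
  obtain ⟨L, hL⟩ := g.exists_ty hx
  constructor
  · intro h
    have h1 : ∀ i < D.rank, g.wl L (D.simple i) < g.N := by
      intro i hi
      by_contra hlt
      push Not at hlt
      have : i ∈ g.asc (Finset.range D.rank) x := (g.mem_asc (le_refl _) hL).2 ⟨Finset.mem_range.2 hi, hlt⟩
      rw [h] at this
      simp at this
    have h2 := g.ty_w0 hL.1 h1 g.w0L_lt (fun i hi => g.w0L_neg _ (g.simple_lt i hi) (g.simple_ge i hi))
    obtain ⟨_, b, hb, b', hb', h3⟩ := hL.congr g.w0L_lt h2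
    exact ⟨b, hb, b', hb', h3⟩
  · rintro ⟨b, hb, b', hb', rfl⟩
    have h1 : g.Ty (b * g.n0 F * b') g.w0L := ⟨g.w0L_lt, b, hb, b', hb', rfl⟩
    rw [Finset.eq_empty_iff_forall_notMem]
    intro i hi
    have h2 := (g.mem_asc (le_refl _) h1).1 hi
    have h3 := g.w0L_neg _ (g.simple_lt i (Finset.mem_range.1 h2.1)) (g.simple_ge i (Finset.mem_range.1 h2.1))
    omega

theorem n0_conj {b : GL D.Idx F} (hb : b ∈ g.BB F) : (g.n0 F)⁻¹ * b * g.n0 F ∈ g.BB F ↔ b ∈ g.HH F := by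
  constructor
  · intro h
    obtain ⟨y, hy, k, hk, rfl⟩ := g.mem_BB.1 hb
    have h1 : (g.n0 F)⁻¹ * y * g.n0 F ∈ g.VV F := g.conj_map_XS' (S := fun r => r < g.N) (T := fun r => g.N ≤ r) g.w0L_lt (fun r hr h => by
      by_contra hlt
      push Not at hlt
      have := g.w0L_neg r hr hlt
      omega) y hy
    have h2 : (g.n0 F)⁻¹ * k * g.n0 F ∈ g.HH F := by
      have := g.NN_HH (Subgroup.inv_mem _ (g.nl_mem (F := F) g.w0L_lt)) hk
      rwa [_root_.inv_inv] at this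
    have h3 : (g.n0 F)⁻¹ * y * g.n0 F ∈ g.BB F := by
      have h4 : (g.n0 F)⁻¹ * y * g.n0 F = ((g.n0 F)⁻¹ * (y * k) * g.n0 F) * ((g.n0 F)⁻¹ * k * g.n0 F)⁻¹ := by group
      rw [h4]
      exact Subgroup.mul_mem _ h (Subgroup.inv_mem _ (g.HH_le_BB h2))
    have h5 : (g.n0 F)⁻¹ * y * g.n0 F ∈ g.BB F ⊓ g.VV F := ⟨h3, h1⟩
    rw [g.BB_inf_VV, Subgroup.mem_bot] at h5
    have h6 : y = 1 := by
      have : y = g.n0 F * ((g.n0 F)⁻¹ * y * g.n0 F) * (g.n0 F)⁻¹ := by group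
      rw [this, h5]; group
    rw [h6, one_mul]; exact hk
  · intro h
    have := g.NN_HH (Subgroup.inv_mem _ (g.nl_mem (F := F) g.w0L_lt)) h
    rw [_root_.inv_inv] at this
    exact g.HH_le_BB this

include g in
/-- restriction of the Steinberg character to `B` -/
theorem stmt_2313 [Fintype F] (b : ↥((D.borelSubgroup F).subgroupOf (D.group F))) :
    D.steinbergCharacter F ((((D.borelSubgroup F).subgroupOf (D.group F)).subtype) b) =
      Cfsg.fixedPointCharacter (((D.diagonalSubgroup F).subgroupOf (D.group F)).subgroupOf ((D.borelSubgroup F).subgroupOf (D.group F))) b := by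
  have h1 : (g.gateG F).B = (D.borelSubgroup F).subgroupOf (D.group F) := by rw [g.borel_eq]; rfl
  have h2 : (D.diagonalSubgroup F) = g.HH F := g.diag_eq
  rw [g.steinberg_eq, h2]
  obtain ⟨b, hb⟩ := b
  have hb' : b ∈ (g.gateG F).B := by rw [h1]; exact hb
  have h3 := (g.gateG F).st_BH (w := ⟨g.n0 F, by rw [g.gG]; exact g.n0_mem⟩) (H := (g.HH F).subgroupOf (D.group F)) (by
    intro x
    rw [g.gateG_A, g.asc_empty_iff (by rw [← g.gG]; exact x.2)]
    constructor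
    · rintro ⟨b, hb, b', hb', h⟩
      have e1 : b ∈ D.group F := by rw [g.gG]; exact g.BB_le_GG hb
      have e2 : b' ∈ D.group F := by rw [g.gG]; exact g.BB_le_GG hb'
      exact ⟨⟨b, e1⟩, hb, ⟨b', e2⟩, hb', Subtype.ext h⟩
    · rintro ⟨b, hb, b', hb', rfl⟩
      exact ⟨b, hb, b', hb', rfl⟩) (by
    intro b hb
    exact g.n0_conj (Subgroup.mem_subgroupOf.1 hb)) hb'
  show (g.gateG F).st b = _
  rw [h3]
  have key : ∀ (B1 B2 : Subgroup ↥(D.group F)) (H : Subgroup ↥(D.group F)) (h : B1 = B2) (b : ↥(D.group F)) (h1 : b ∈ B1) (h2 : b ∈ B2),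
      Cfsg.fixedPointCharacter (H.subgroupOf B1) ⟨b, h1⟩ = Cfsg.fixedPointCharacter (H.subgroupOf B2) ⟨b, h2⟩ := by
    rintro B1 _ H rfl b h1 h2
    rfl
  exact key _ _ _ h1 _ _ _

include g in
theorem stmt_2327 [Fintype F] : D.steinbergCharacter F 1 = (Fintype.card F : ℂ) ^ (D.nroots / 2) := by
  have h0 := g.stmt_2313 (F := F) ⟨1, Subgroup.one_mem _⟩
  have h1 : (((D.borelSubgroup F).subgroupOf (D.group F)).subtype) (⟨1, Subgroup.one_mem _⟩ : ↥((D.borelSubgroup F).subgroupOf (D.group F))) = 1 := rfl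
  rw [h1] at h0
  rw [h0]
  have e1 : (⟨1, Subgroup.one_mem _⟩ : ↥((D.borelSubgroup F).subgroupOf (D.group F))) = 1 := rfl
  rw [e1, fpc_one]
  have h4 : (((D.diagonalSubgroup F).subgroupOf (D.group F)).subgroupOf ((D.borelSubgroup F).subgroupOf (D.group F))).index = Fintype.card F ^ (D.nroots / 2) := by
    change (((D.diagonalSubgroup F).subgroupOf (D.group F)).relIndex ((D.borelSubgroup F).subgroupOf (D.group F))) = _
    rw [g.borel_eq, g.diag_eq]
    have h5 : ((g.HH F).subgroupOf (D.group F)).relIndex ((g.BB F).subgroupOf (D.group F)) = (g.HH F).relIndex (g.BB F) := by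
      rw [Subgroup.relIndex_subgroupOf]
      rw [g.gG]; exact g.BB_le_GG
    rw [h5]
    have h6 := Subgroup.card_mul_index ((g.HH F).subgroupOf (g.BB F))
    have h7 : Nat.card ((g.HH F).subgroupOf (g.BB F)) = Nat.card (g.HH F) := Nat.card_congr (Subgroup.subgroupOfEquivOfLe g.HH_le_BB).toEquiv
    rw [h7, g.card_BB, mul_comm] at h6
    have h8 : 0 < Nat.card (g.HH F) := Nat.card_pos
    have h9 := Nat.eq_of_mul_eq_mul_right h8 h6
    have hN : D.nroots / 2 = g.N := by have := g.hN; omega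
    rw [hN]
    exact h9
  rw [h4]
  push_cast
  rfl

end Good

end Chv
end CfsgH6
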