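import Cfsg.Agent.H6.St3

set_option autoImplicit false

/-! Counting with gates: sums over normal sets, descents. -/

namespace CfsgH6
namespace Stb

open scoped Classical

section
variable {G : Type*} [Group G]

theorem stab_iff (P : Subgroup G) (x u : G) : u • (QuotientGroup.mk x : G ⧸ P) = QuotientGroup.mk x ↔ x⁻¹ * u * x ∈ P := by
  have : u • (QuotientGroup.mk x : G ⧸ P) = QuotientGroup.mk (u * x) := rfl
  rw [this, QuotientGroup.eq]
  constructor
  · intro h
    have h2 := P.inv_mem h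
    have h3 : x⁻¹ * u * x = ((u * x)⁻¹ * x)⁻¹ := by group
    rw [h3]; exact h2
  · intro h
    have h2 := P.inv_mem h
    have h3 : (u * x)⁻¹ * x = (x⁻¹ * u * x)⁻¹ := by group
    rw [h3]; exact h2

/-- counting pairs (element of a normal set, fixed coset) -/
theorem sum_fpc [Finite G] (P : Subgroup G) (S : Set G) (hS : ∀ x, ∀ u ∈ S, x * u * x⁻¹ ∈ S) :
    ∑ᶠ u : S, Cfsg.fixedPointCharacter P (u : G) = (P.index : ℂ) * (Nat.card {u : S // (u : G) ∈ P} : ℂ) := by
  have : Fintype G := Fintype.ofFinite G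
  rw [finsum_eq_sum_of_fintype]
  unfold Cfsg.fixedPointCharacter
  have h1 : (∑ u : S, (Nat.card (MulAction.fixedBy (G ⧸ P) (u : G)) : ℂ)) = ((∑ u : S, Nat.card (MulAction.fixedBy (G ⧸ P) (u : G)) : ℕ) : ℂ) := by
    push_cast; rfl
  rw [h1, ← Nat.card_sigma]
  have h2 : Nat.card (Σ u : S, MulAction.fixedBy (G ⧸ P) (u : G)) = P.index * Nat.card {u : S // (u : G) ∈ P} := by
    unfold Subgroup.index
    rw [← Nat.card_prod]
    apply Nat.card_congr
    refine Equiv.ofBijective (fun z => (z.2.1, ⟨⟨(z.2.1.out)⁻¹ * z.1.1 * z.2.1.out, ?_⟩, ?_⟩)) ⟨?_, ?_⟩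
    · have := hS (z.2.1.out)⁻¹ _ z.1.2
      rwa [_root_.inv_inv] at this
    · apply (stab_iff P _ _).1
      rw [QuotientGroup.out_eq']
      exact z.2.2
    · rintro ⟨⟨u, hu⟩, ⟨c, hc⟩⟩ ⟨⟨u', hu'⟩, ⟨c', hc'⟩⟩ h
      have h3 : c = c' := congrArg Prod.fst h
      subst h3
      have h4 : c.out⁻¹ * u * c.out = c.out⁻¹ * u' * c.out := congrArg (fun z => (z.2.1 : G)) h
      have h5 : u = u' := mul_left_cancel (mul_right_cancel h4)
      subst h5
      rfl
    · rintro ⟨c, ⟨⟨u, hu⟩, hu'⟩⟩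
      have h3 := (stab_iff P c.out (c.out * u * (c.out)⁻¹)).2 (by
        have : (c.out)⁻¹ * (c.out * u * (c.out)⁻¹) * c.out = u := by group
        rw [this]; exact hu')
      rw [QuotientGroup.out_eq'] at h3
      refine ⟨⟨⟨c.out * u * c.out⁻¹, hS _ _ hu⟩, ⟨c, h3⟩⟩, ?_⟩
      have e : c.out⁻¹ * (c.out * u * c.out⁻¹) * c.out = u := by group
      simp only [e]
  rw [h2]
  push_cast
  rfl

theorem cell_card (B H : Subgroup G) (w : G) (hH : ∀ b ∈ B, w⁻¹ * b * w ∈ B ↔ b ∈ H) :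
    Nat.card {c : G ⧸ B // ∃ b ∈ B, c = QuotientGroup.mk (b * w)} = (H.subgroupOf B).index := by
  unfold Subgroup.index
  symm
  apply Nat.card_congr
  refine Equiv.ofBijective (Quotient.lift (fun y : ↥B => (⟨QuotientGroup.mk ((y : G) * w), y, y.2, rfl⟩ :
    {c : G ⧸ B // ∃ b ∈ B, c = QuotientGroup.mk (b * w)})) ?_) ⟨?_, ?_⟩
  · intro y y' h
    have h1 : y⁻¹ * y' ∈ H.subgroupOf B := QuotientGroup.leftRel_apply.1 h
    apply Subtype.ext
    show (QuotientGroup.mk ((y : G) * w) : G ⧸ B) = QuotientGroup.mk ((y' : G) * w)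
    rw [QuotientGroup.eq]
    have h2 := (hH _ (y⁻¹ * y').2).2 (Subgroup.mem_subgroupOf.1 h1)
    rw [Subgroup.coe_mul, Subgroup.coe_inv] at h2
    have h3 : ((y : G) * w)⁻¹ * ((y' : G) * w) = w⁻¹ * ((y : G)⁻¹ * y') * w := by group
    rw [h3]; exact h2
  · intro c c' h
    induction c using QuotientGroup.induction_on with
    | H y =>
      induction c' using QuotientGroup.induction_on with
      | H y' =>
        have h0 : (QuotientGroup.mk ((y : G) * w) : G ⧸ B) = QuotientGroup.mk ((y' : G) * w) := congrArg Subtype.val h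
        rw [QuotientGroup.eq] at h0
        rw [QuotientGroup.eq, Subgroup.mem_subgroupOf]
        apply (hH _ (y⁻¹ * y').2).1
        rw [Subgroup.coe_mul, Subgroup.coe_inv]
        have h3 : ((y : G) * w)⁻¹ * ((y' : G) * w) = w⁻¹ * ((y : G)⁻¹ * y') * w := by group
        rwa [h3] at h0
  · rintro ⟨c, b, hb, rfl⟩
    exact ⟨QuotientGroup.mk ⟨b, hb⟩, rfl⟩

end

variable {G : Type*} [Group G] {I : Finset ℕ}

namespace Gate

variable (T : Gate G I)

theorem st_sum [Finite G] (S : Set G) (hS : ∀ x, ∀ u ∈ S, x * u * x⁻¹ ∈ S) :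
    ∑ᶠ u : S, T.st (u : G) = ∑ J ∈ I.powerset, (-1 : ℂ) ^ J.card * (((T.P J).index : ℂ) * (Nat.card {u : S // (u : G) ∈ T.P J} : ℂ)) := by
  have : Fintype G := Fintype.ofFinite G
  rw [finsum_eq_sum_of_fintype]
  unfold st
  rw [Finset.sum_comm]
  apply Finset.sum_congr rfl
  intro J _
  rw [← Finset.mul_sum, ← sum_fpc _ S hS, finsum_eq_sum_of_fintype]

theorem card_desc [Finite G] {K : Finset ℕ} (hK : K ⊆ I) (h : ∀ x, K ⊆ T.A x → ∀ p ∈ T.P K, (Disjoint K (T.A (x * p)) ↔ Disjoint K (T.A p))) :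
    Nat.card {c : G ⧸ T.B // Disjoint K (T.Ac c)} = (T.P K).index * Nat.card {c : G ⧸ T.B // ∃ p ∈ T.P K, Disjoint K (T.A p) ∧ c = QuotientGroup.mk p} := by
  unfold Subgroup.index
  rw [← Nat.card_prod]
  -- representatives of gates
  have hex : ∀ q : G ⧸ T.P K, ∃ x : G, K ⊆ T.A x ∧ (QuotientGroup.mk x : G ⧸ T.P K) = q := by
    intro q
    induction q using QuotientGroup.induction_on with
    | H y =>
      obtain ⟨p, hp, h⟩ := T.ex K hK y
      refine ⟨y * p, h, ?_⟩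
      rw [QuotientGroup.eq, _root_.mul_inv_rev, mul_assoc, inv_mul_cancel, mul_one]
      exact Subgroup.inv_mem _ hp
  choose r hr1 hr2 using hex
  have hmem : ∀ c : G ⧸ T.B, (r (T.proj hK c))⁻¹ * c.out ∈ T.P K := by
    intro c
    rw [← QuotientGroup.eq, hr2]
    conv_lhs => rw [← QuotientGroup.out_eq' c]
    rfl
  apply Nat.card_congr
  refine
    { toFun := fun c => (T.proj hK c.1, ⟨QuotientGroup.mk ((r (T.proj hK c.1))⁻¹ * c.1.out), _, hmem c.1, ?_, rfl⟩)
      invFun := fun z => ⟨r z.1 • z.2.1, ?_⟩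
      left_inv := ?_
      right_inv := ?_ }
  · rw [← h _ (hr1 _) _ (hmem c.1), mul_inv_cancel_left]
    exact c.2
  · obtain ⟨q, ⟨c, p, hp, h1, rfl⟩⟩ := z
    show Disjoint K (T.Ac (QuotientGroup.mk (r q * p)))
    rw [T.Ac_mk, h _ (hr1 q) p hp]
    exact h1
  · rintro ⟨c, hc⟩
    apply Subtype.ext
    show r (T.proj hK c) • (QuotientGroup.mk ((r (T.proj hK c))⁻¹ * c.out) : G ⧸ T.B) = c
    have : r (T.proj hK c) • (QuotientGroup.mk ((r (T.proj hK c))⁻¹ * c.out) : G ⧸ T.B) = QuotientGroup.mk (r (T.proj hK c) * ((r (T.proj hK c))⁻¹ * c.out)) := rfl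
    rw [this, mul_inv_cancel_left, QuotientGroup.out_eq']
  · rintro ⟨q, ⟨c, p, hp, h1, rfl⟩⟩
    have e1 : T.proj hK (r q • (QuotientGroup.mk p : G ⧸ T.B)) = q := by
      show (QuotientGroup.mk (r q * p) : G ⧸ T.P K) = q
      rw [← hr2 q, QuotientGroup.eq, hr2 q]
      rw [_root_.mul_inv_rev, mul_assoc, inv_mul_cancel, mul_one]
      exact Subgroup.inv_mem _ hp
    apply Prod.ext
    · exact e1
    · apply Subtype.ext
      show (QuotientGroup.mk ((r (T.proj hK (r q • (QuotientGroup.mk p : G ⧸ T.B))))⁻¹ * (r q • (QuotientGroup.mk p : G ⧸ T.B)).out) : G ⧸ T.B) = QuotientGroup.mk p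
      rw [e1]
      obtain ⟨b, hb⟩ := QuotientGroup.mk_out_eq_mul T.B (r q * p)
      have e2 : (r q • (QuotientGroup.mk p : G ⧸ T.B)).out = r q * p * b := hb
      rw [e2, QuotientGroup.eq]
      have : ((r q)⁻¹ * (r q * p * ↑b))⁻¹ * p = (b : G)⁻¹ := by group
      rw [this]
      exact Subgroup.inv_mem _ b.2

/-- the alternating sum of the descent counts -/
theorem desc_alt [Finite G] (hI : T.A 1 = I) (hPI : T.P I = ⊤) :
    ∑ K ∈ I.powerset, (-1 : ℂ) ^ K.card * (Nat.card {c : G ⧸ T.B // Disjoint K (T.Ac c)} : ℂ) = 1 := by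
  have h1 := alt_count (I := I) (fun c : G ⧸ T.B => I \ T.Ac c) (fun c => Finset.sdiff_subset)
  have h2 : ∀ K ∈ I.powerset, Nat.card {c : G ⧸ T.B // Disjoint K (T.Ac c)} = Nat.card {c : G ⧸ T.B // K ⊆ I \ T.Ac c} := by
    intro K hK
    apply Nat.card_congr
    apply Equiv.subtypeEquivRight
    intro c
    rw [Finset.subset_sdiff]
    exact ⟨fun h => ⟨Finset.mem_powerset.1 hK, h⟩, fun h => h.2⟩
  rw [Finset.sum_congr rfl (fun K hK => by rw [h2 K hK]), h1]
  have h3 : Nat.card {c : G ⧸ T.B // I \ T.Ac c = ∅} = 1 := by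
    rw [Nat.card_eq_one_iff_unique]
    constructor
    · constructor
      rintro ⟨c, hc⟩ ⟨c', hc'⟩
      apply Subtype.ext
      rw [Finset.sdiff_eq_empty_iff_subset] at hc hc'
      apply T.proj_inj (le_refl I) hc hc'
      induction c using QuotientGroup.induction_on with
      | H x =>
        induction c' using QuotientGroup.induction_on with
        | H y =>
          rw [T.proj_mk, T.proj_mk, QuotientGroup.eq, hPI]
          exact Subgroup.mem_top _
    · refine ⟨⟨QuotientGroup.mk 1, ?_⟩⟩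
      rw [T.Ac_mk, hI, Finset.sdiff_self]
  rw [h3]
  norm_num

end Gate

end Stb
end CfsgH6
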