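import Cfsg.Agent.H6.St4
import Cfsg.Agent.H6.St5

set_option autoImplicit false

/-! Longest elements of parabolic subgroups of the Weyl group; descents. -/

namespace CfsgH6
namespace Chv

open Cfsg.Lie CfsgH6.Stb
open scoped Classical

variable {D : ChevalleyDatum} (g : Good D) {F : Type*} [Field F]

namespace Good

theorem wl_neg_J {J : Set ℕ} {L : List ℕ} (hL : ∀ i ∈ L, i < D.rank) (h : ∀ i < D.rank, i ∈ J → g.wl L (D.simple i) < g.N) :
    ∀ r < D.nroots, g.N ≤ r → g.dg J r = 0 → g.wl L r < g.N := by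
  intro r hr hp hd
  by_contra hlt
  push Not at hlt
  rw [g.Ev_pos (g.wl_lt hL hr)] at hlt
  obtain ⟨m', hm'⟩ := g.wl_lin hL (fun j => (128 : ℤ) ^ (D.rank - 1 - j))
  have h1 : ∀ j < D.rank, j ∈ J → m' j < 0 := by
    intro j hj hJ
    have h2 := hm' _ (g.simple_lt j hj)
    rw [g.sum_simple m' hj] at h2
    rw [← h2]
    exact g.Ev_neg_of_lt (g.wl_lt hL (g.simple_lt j hj)) (h j hj hJ)
  have h3 : Ev D.rank (g.coef (g.wl L r)) = ∑ j ∈ Finset.range D.rank, g.coef r j * m' j := hm' r hr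
  rw [h3] at hlt
  have h0 := g.coef_zero_of_dg hr hp hd
  have h4 : ∑ j ∈ Finset.range D.rank, g.coef r j * m' j ≤ 0 := by
    apply Finset.sum_nonpos
    intro j hj
    by_cases hJ : j ∈ J
    · exact mul_nonpos_of_nonneg_of_nonpos (g.coef_nonneg r hr hp j (Finset.mem_range.1 hj)) (h1 j (Finset.mem_range.1 hj) hJ).le
    · rw [h0 j (Finset.mem_range.1 hj) hJ, zero_mul]
  omega

theorem exists_wK (K : Set ℕ) : ∃ L : List ℕ, (∀ i ∈ L, i < D.rank ∧ i ∈ K) ∧ ∀ r < D.nroots, g.N ≤ r → g.dg K r = 0 → g.wl L r < g.N := by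
  have key : ∀ m, ∀ L : List ℕ, (∀ i ∈ L, i < D.rank ∧ i ∈ K) → g.N - g.cnt L = m →
      ∃ L : List ℕ, (∀ i ∈ L, i < D.rank ∧ i ∈ K) ∧ ∀ i < D.rank, i ∈ K → g.wl L (D.simple i) < g.N := by
    intro m
    induction m with
    | zero =>
      intro L hL hm
      refine ⟨L, hL, fun i hi hiK => ?_⟩
      by_contra hlt
      push Not at hlt
      have h1 := g.cnt_append (fun i hi => (hL i hi).1) hi hlt
      have h2 := g.cnt_le (L ++ [i])
      omega
    | succ m ih =>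
      intro L hL hm
      by_cases h : ∀ i < D.rank, i ∈ K → g.wl L (D.simple i) < g.N
      · exact ⟨L, hL, h⟩
      · push Not at h
        obtain ⟨i, hi, hiK, hlt⟩ := h
        have h1 := g.cnt_append (fun i hi => (hL i hi).1) hi hlt
        apply ih (L ++ [i])
        · intro j hj
          rcases List.mem_append.1 hj with h | h
          · exact hL j h
          · rw [List.mem_singleton.1 h]; exact ⟨hi, hiK⟩
        · omega
  obtain ⟨L, hL, h⟩ := key _ [] (by simp) rfl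
  exact ⟨L, hL, g.wl_neg_J (fun i hi => (hL i hi).1) h⟩

/-- the longest word in `K` -/
noncomputable def wKL (K : Set ℕ) : List ℕ := (g.exists_wK K).choose

theorem wKL_lt (K : Set ℕ) : ∀ i ∈ g.wKL K, i < D.rank ∧ i ∈ K := (g.exists_wK K).choose_spec.1
theorem wKL_neg (K : Set ℕ) : ∀ r < D.nroots, g.N ≤ r → g.dg K r = 0 → g.wl (g.wKL K) r < g.N := (g.exists_wK K).choose_spec.2

variable (F) in
noncomputable def nK (K : Set ℕ) : GL D.Idx F := g.nl F (g.wKL K)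

theorem wl_eq_of_pos {L : List ℕ} (hL : ∀ i ∈ L, i < D.rank) (h : ∀ r < D.nroots, g.N ≤ r → g.N ≤ g.wl L r) {s : ℕ} (hs : s < D.nroots) : g.wl L s = s := by
  have h4 := g.nl_mem_HH (F := ℚ) hL h
  have h5 : g.nl ℚ L = (g.nl ℚ L) * g.nl ℚ [] := by rw [g.nl_nil, mul_one]
  exact g.wl_eq_of_nl hL (by simp) h4 h5 hs

theorem wl_eq_of_rev {L L' : List ℕ} (hL : ∀ i ∈ L, i < D.rank) (hL' : ∀ i ∈ L', i < D.rank)
    (h : ∀ r < D.nroots, g.N ≤ r → g.N ≤ g.wl L.reverse (g.wl L' r)) {s : ℕ} (hs : s < D.nroots) : g.wl L' s = g.wl L s := by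
  have h1 : ∀ i ∈ L.reverse ++ L', i < D.rank := by
    intro i hi
    rcases List.mem_append.1 hi with h | h
    · exact hL i (List.mem_reverse.1 h)
    · exact hL' i h
  have h2 := g.wl_eq_of_pos h1 (by intro r hr hp; rw [g.wl_append]; exact h r hr hp) hs
  rw [g.wl_append] at h2
  have h3 := (g.wl_reverse hL (g.wl_lt hL' hs)).2
  rw [h2] at h3
  exact h3.symm

/-- negativity on `Φ_K^+` characterizes the longest element -/
theorem wl_wK {K : Set ℕ} {L : List ℕ} (hL : ∀ i ∈ L, i < D.rank ∧ i ∈ K) (h : ∀ i < D.rank, i ∈ K → g.wl L (D.simple i) < g.N) {s : ℕ} (hs : s < D.nroots) :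
    g.wl L s = g.wl (g.wKL K) s := by
  have hLr : ∀ i ∈ L, i < D.rank := fun i hi => (hL i hi).1
  have hKr : ∀ i ∈ g.wKL K, i < D.rank := fun i hi => (g.wKL_lt K i hi).1
  have hrev : ∀ i ∈ (g.wKL K).reverse, i < D.rank ∧ i ∈ K := fun i hi => g.wKL_lt K i (List.mem_reverse.1 hi)
  have hrev' : ∀ i ∈ (g.wKL K).reverse, i < D.rank := fun i hi => (hrev i hi).1
  refine g.wl_eq_of_rev hKr hLr ?_ hs
  intro r hr hp
  have h1 := g.wl_lt hLr hr
  by_cases hd : g.dg K r = 0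
  · have h2 := g.wl_neg_J hLr h r hr hp hd
    have h3 : g.dg K (g.wl L r) = 0 := by rw [g.dg_wl hL hr, hd]
    by_contra hlt
    push Not at hlt
    have h4 := g.wl_lt hrev' h1
    have h5 := g.wKL_neg K _ (g.neg_lt h4) (g.N_le_neg h4 hlt) (by rw [g.dg_neg h4, g.dg_wl hrev h1, h3, neg_zero])
    rw [g.wl_neg hKr h4, (g.wl_reverse hKr h1).2] at h5
    have := g.N_le_neg h1 h2
    omega
  · have h2 : g.dg K (g.wl (g.wKL K).reverse (g.wl L r)) = g.dg K r := by rw [g.dg_wl hrev h1, g.dg_wl hL hr]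
    have h3 := g.dg_nonneg (J := K) hr hp
    exact g.dg_pos (J := K) (g.wl_lt hrev' h1) (by omega)

theorem neg_iff_K {K : Set ℕ} {L L' : List ℕ} (hL : ∀ i ∈ L, i < D.rank) (hJ : ∀ i < D.rank, i ∈ K → g.N ≤ g.wl L (D.simple i))
    (hL' : ∀ i ∈ L', i < D.rank ∧ i ∈ K) {k : ℕ} (hk : k < D.rank) (hkK : k ∈ K) :
    g.wl (L ++ L') (D.simple k) < g.N ↔ g.wl L' (D.simple k) < g.N := by
  have hL'' : ∀ i ∈ L', i < D.rank := fun i hi => (hL' i hi).1
  have hs := g.simple_lt k hk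
  have hd : g.dg K (g.wl L' (D.simple k)) = 0 := by rw [g.dg_wl hL' hs, g.dg_simple hk hkK]
  have hlt := g.wl_lt hL'' hs
  rw [g.wl_append]
  constructor
  · intro h
    by_contra hn
    push Not at hn
    have := g.wl_pos_J hL hJ _ hlt hn hd
    omega
  · intro h
    have h1 := g.wl_pos_J hL hJ _ (g.neg_lt hlt) (g.N_le_neg hlt h) (by rw [g.dg_neg hlt, hd, neg_zero])
    rw [g.wl_neg hL hlt] at h1
    have h2 := g.neg_lt_N (g.neg_lt (g.wl_lt hL hlt)) h1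
    rwa [g.neg_neg (g.wl_lt hL hlt)] at h2

theorem disj_asc {I K : Finset ℕ} (hI : I ⊆ Finset.range D.rank) (hK : K ⊆ I) {x : GL D.Idx F} {L : List ℕ} (hx : g.Ty x L) :
    Disjoint K (g.asc I x) ↔ ∀ i < D.rank, i ∈ (K : Set ℕ) → g.wl L (D.simple i) < g.N := by
  rw [Finset.disjoint_left]
  constructor
  · intro h i hi hiK
    have h1 := h (Finset.mem_coe.1 hiK)
    rw [g.mem_asc hI hx] at h1
    by_contra hlt
    push Not at hlt
    exact h1 ⟨hK (Finset.mem_coe.1 hiK), hlt⟩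
  · intro h i hiK hi
    have h1 := ((g.mem_asc hI hx).1 hi).2
    have h2 := h i (Finset.mem_range.1 (hI (hK hiK))) (Finset.mem_coe.2 hiK)
    omega

theorem desc_iff {I K : Finset ℕ} (hI : I ⊆ Finset.range D.rank) (hK : K ⊆ I) {x p : GL D.Idx F} (hx : x ∈ g.GG F) (h : K ⊆ g.asc I x)
    (hp : p ∈ g.PJ F (K : Set ℕ)) : Disjoint K (g.asc I (x * p)) ↔ Disjoint K (g.asc I p) := by
  obtain ⟨L, hL⟩ := g.exists_ty hx
  obtain ⟨L', hL', hp'⟩ := g.PJ_right hp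
  have h1 := (g.sub_asc hI hK hL).1 h
  rw [g.disj_asc hI hK (g.ty_mul hL h1 hp' hL'), g.disj_asc hI hK hp']
  constructor
  · intro h2 i hi hiK
    exact (g.neg_iff_K hL.1 h1 hL' hi hiK).1 (h2 i hi hiK)
  · intro h2 i hi hiK
    exact (g.neg_iff_K hL.1 h1 hL' hi hiK).2 (h2 i hi hiK)

theorem desc_cell {I K : Finset ℕ} (hI : I ⊆ Finset.range D.rank) (hK : K ⊆ I) {p : GL D.Idx F} :
    (p ∈ g.PJ F (K : Set ℕ) ∧ Disjoint K (g.asc I p)) ↔ ∃ b ∈ g.BB F, ∃ b' ∈ g.BB F, p = b * g.nK F (K : Set ℕ) * b' := by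
  constructor
  · rintro ⟨hp, h⟩
    obtain ⟨L', hL', hp'⟩ := g.PJ_right hp
    rw [g.disj_asc hI hK hp'] at h
    obtain ⟨_, b, hb, b', hb', h1⟩ := hp'.congr (fun i hi => (g.wKL_lt (K : Set ℕ) i hi).1) (fun s hs => g.wl_wK hL' h hs)
    exact ⟨b, hb, b', hb', h1⟩
  · rintro ⟨b, hb, b', hb', rfl⟩
    have h1 : g.Ty (b * g.nK F (K : Set ℕ) * b') (g.wKL (K : Set ℕ)) := ⟨fun i hi => (g.wKL_lt _ i hi).1, b, hb, b', hb', rfl⟩
    refine ⟨g.PJ_of_ty (g.wKL_lt _) h1, ?_⟩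
    rw [g.disj_asc hI hK h1]
    intro i hi hiK
    exact g.wKL_neg _ _ (g.simple_lt i hi) (g.simple_ge i hi) (g.dg_simple hi hiK)

/-- the positive roots outside `Φ_K` -/
def SK (K : Set ℕ) (r : ℕ) : Prop := g.N ≤ r ∧ g.dg K r ≠ 0

theorem RJ_eq (K : Set ℕ) : g.RJ F K = g.XS F (g.SK K) := by
  unfold RJ
  apply g.XS_congr
  intro r hr
  exact g.dg_pos_iff hr

theorem nK_conj (K : Set ℕ) {b : GL D.Idx F} (hb : b ∈ g.BB F) : (g.nK F K)⁻¹ * b * g.nK F K ∈ g.BB F ↔ b ∈ g.XH F (g.SK K) := by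
  have hKr : ∀ i ∈ g.wKL K, i < D.rank := fun i hi => (g.wKL_lt K i hi).1
  have hpos : ∀ r < D.nroots, g.SK K r → g.N ≤ g.wl (g.wKL K) r := by
    intro r hr h
    by_contra hlt
    push Not at hlt
    exact h.2 (g.wl_J_pos (g.wKL_lt K) hr h.1 hlt)
  have hU : ∀ y ∈ g.XS F (g.SK K), (g.nK F K)⁻¹ * y * g.nK F K ∈ g.UU F := by
    apply g.conj_map_XS' (S := fun r => g.N ≤ r) (T := g.SK K) hKr
    intro r hr h
    by_contra hlt
    push Not at hlt
    have h1 := g.wl_lt hKr hr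
    -- `r` negative, `wl r` positive outside `Φ_K`: impossible
    have h2 : g.dg K r ≠ 0 := by rw [← g.dg_wl (g.wKL_lt K) hr]; exact h.2
    have h3 := g.dg_nonpos (J := K) hr hlt
    have h4 := g.dg_nonneg (J := K) h1 h.1
    rw [g.dg_wl (g.wKL_lt K) hr] at h4
    omega
  have hV : ∀ y ∈ g.XS F (fun r => g.N ≤ r ∧ g.dg K r = 0), (g.nK F K)⁻¹ * y * g.nK F K ∈ g.VV F := by
    apply g.conj_map_XS' (S := fun r => r < g.N) (T := fun r => g.N ≤ r ∧ g.dg K r = 0) hKr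
    intro r hr h
    by_contra hlt
    push Not at hlt
    have h2 : g.dg K r = 0 := by rw [← g.dg_wl (g.wKL_lt K) hr]; exact h.2
    have := g.wKL_neg K r hr hlt h2
    omega
  have hH : ∀ k ∈ g.HH F, (g.nK F K)⁻¹ * k * g.nK F K ∈ g.HH F := by
    intro k hk
    have := g.NN_HH (Subgroup.inv_mem _ (g.nl_mem (F := F) hKr)) hk
    rwa [_root_.inv_inv] at this
  constructor
  · intro h
    obtain ⟨y, hy, k, hk, rfl⟩ := g.mem_BB.1 hb
    obtain ⟨a, ha, c, hc, rfl⟩ := g.UU_factor (fun r => g.dg K r ≠ 0) (fun r => g.dg K r = 0) (fun r _ _ => (em _).symm) hy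
    have h1 := hU a ha
    have h2 := hV c hc
    have h3 := hH k hk
    have h4 : (g.nK F K)⁻¹ * c * g.nK F K ∈ g.BB F := by
      have h5 : (g.nK F K)⁻¹ * c * g.nK F K = ((g.nK F K)⁻¹ * a * g.nK F K)⁻¹ * ((g.nK F K)⁻¹ * (a * c * k) * g.nK F K) * ((g.nK F K)⁻¹ * k * g.nK F K)⁻¹ := by
        group
      rw [h5]
      exact Subgroup.mul_mem _ (Subgroup.mul_mem _ (Subgroup.inv_mem _ (g.UU_le_BB h1)) h) (Subgroup.inv_mem _ (g.HH_le_BB h3))
    have h5 : (g.nK F K)⁻¹ * c * g.nK F K ∈ g.BB F ⊓ g.VV F := ⟨h4, h2⟩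
    rw [g.BB_inf_VV, Subgroup.mem_bot] at h5
    have h6 : c = 1 := by
      have : c = g.nK F K * ((g.nK F K)⁻¹ * c * g.nK F K) * (g.nK F K)⁻¹ := by group
      rw [this, h5]; group
    rw [h6, mul_one]
    exact ⟨a, ha, k, hk, rfl⟩
  · rintro ⟨a, ha, k, hk, rfl⟩
    have h5 : (g.nK F K)⁻¹ * (a * k) * g.nK F K = ((g.nK F K)⁻¹ * a * g.nK F K) * ((g.nK F K)⁻¹ * k * g.nK F K) := by group
    rw [h5]
    exact Subgroup.mul_mem _ (g.UU_le_BB (hU a ha)) (g.HH_le_BB (hH k hk))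

/-- the number of positive roots in `Φ_K` -/
noncomputable def NK (K : Set ℕ) : ℕ := ((Finset.Ico g.N D.nroots).filter (fun r => g.dg K r = 0)).card

theorem SK_closed (K : Set ℕ) : g.ClS (g.SK K) := by
  intro r hr h
  refine ⟨h.1, fun s hs h' c hc => ?_⟩
  obtain ⟨hc1, h2, h3, h4⟩ := g.commTerms_mem hr hs hc
  have hgt := g.comm_term_gt hr hs h.1 h'.1 hc
  have hN1 : g.N ≤ r := h.1
  refine ⟨by omega, ?_⟩
  have h5 := g.dg_lin (J := K) (r := r) (s := s) (u := c.1) _ _ h4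
  have h6 := g.dg_nonneg (J := K) hr h.1
  have h7 := g.dg_nonneg (J := K) hs h'.1
  have h8 := h.2
  have h9 := h'.2
  have h10 : 0 < g.dg K r := by omega
  have h11 : 0 < g.dg K s := by omega
  have h12 : (1 : ℤ) ≤ (c.2.2.1 : ℤ) := by exact_mod_cast h2
  have h13 : (1 : ℤ) ≤ (c.2.2.2 : ℤ) := by exact_mod_cast h3
  rw [h5]
  nlinarith

theorem card_SK [Fintype F] (K : Set ℕ) : Nat.card (g.XS F (g.SK K)) * Fintype.card F ^ g.NK K = Fintype.card F ^ g.N := by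
  rw [g.card_XS (g.SK_closed K), ← pow_add]
  congr 1
  unfold NK
  have h1 : ((Finset.Ico g.N D.nroots).filter (g.SK K)).card = ((Finset.Ico g.N D.nroots).filter (fun r => ¬ g.dg K r = 0)).card := by
    congr 1
    apply Finset.filter_congr
    intro r hr
    exact ⟨fun h => h.2, fun h => ⟨(Finset.mem_Ico.1 hr).1, h⟩⟩
  rw [h1, add_comm, Finset.card_filter_add_card_filter_not, Nat.card_Ico]
  have := g.hN
  omega

end Good

end Chv
end CfsgH6
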