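import Cfsg.Agent.H6.TwE6
import Cfsg.Agent.H6.ChW4

set_option autoImplicit false

/-! Twisted groups: consequences. -/

namespace CfsgH6
namespace Chv

open Cfsg.Lie

variable {D : ChevalleyDatum}

namespace TwC

variable {g : Good D} (T : TwC g)
include T

theorem card_TW {A : List (List ℤ)} {Js Ws : List (List ℕ)} {es : List ℕ}
    (hA : ∀ j < D.rank, ∀ i < D.rank, (A.getD j []).getD i 0 = D.cartan j (D.simple i))
    (hJ : ∀ a < T.m, T.J a = Js.getD a []) (hW : ∀ a < T.m, T.ww a = Ws.getD a [])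
    {Os : List (ℕ × List OEt)} (hO : tOs A D.rank T.m Js Ws es Os = true) (hl : Os.length = T.m) {c : ℕ} (hc : hev (polyOs Os) 1 = c) :
    Nat.card (T.TW T.m) = c := by
  classical
  let W : Wt T 1 (fun a => es.getD a 0) := ⟨fun _ => 1, rfl, fun _ _ _ _ _ => by simp⟩
  have h1 := W.SW_eq hA hJ hW Os hO
  rw [hl, Nat.cast_one, hc] at h1
  have h2 : W.SW T.m = Nat.card (T.TW T.m) := by
    unfold Wt.SW
    show ∑ w ∈ Finset.univ.filter (fun w => w ∈ T.TW T.m), 1 = _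
    rw [Finset.sum_const, smul_eq_mul, mul_one, ← Fintype.card_subtype, Nat.card_eq_fintype_card]
  rw [← h2]
  exact_mod_cast h1

/-- the fixed points as a quotient of a presented group -/
theorem TW_gen : Subgroup.closure (Set.range fun a : Fin T.m => (⟨T.tP a, T.tP_mem a.2 a.2⟩ : T.TW T.m)) = ⊤ := by
  rw [eq_top_iff]
  rintro ⟨_, A, hA, rfl⟩ _
  induction A with
  | nil =>
    have : (⟨(List.map T.tP []).prod, ⟨[], hA, rfl⟩⟩ : T.TW T.m) = 1 := rfl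
    rw [this]; exact Subgroup.one_mem _
  | cons a A ih =>
    have h1 : ∀ b ∈ A, b < T.m ∧ b < T.m := fun b hb => hA b (by simp [hb])
    have ha := (hA a (by simp)).1
    have : (⟨(List.map T.tP (a :: A)).prod, ⟨a :: A, hA, rfl⟩⟩ : T.TW T.m) = ⟨T.tP a, T.tP_mem ha ha⟩ * ⟨(List.map T.tP A).prod, ⟨A, h1, rfl⟩⟩ :=
      Subtype.ext (by simp)
    rw [this]
    exact Subgroup.mul_mem _ (Subgroup.subset_closure ⟨⟨a, ha⟩, rfl⟩) (ih h1 trivial)

theorem tP_eq_of_wlF {L L' : List ℕ} (hL : ∀ i ∈ L, i < D.rank) (hL' : ∀ i ∈ L', i < D.rank)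
    (h : ((List.range D.nroots).all fun r => decide (wlF g.w L r = wlF g.w L' r)) = true) : g.wP L = g.wP L' := by
  simp only [List.all_eq_true, List.mem_range, decide_eq_true_eq] at h
  ext s
  rw [g.wP_val hL, g.wP_val hL', wl_eq_wlF, wl_eq_wlF, h s s.2]

end TwC

namespace Tw

variable {g : Good D} {F : Type*} [Field F] (T : Tw g F)
include T

theorem exists_bn (hne : ∀ a < T.m, ∃ u ∈ g.XS F (g.Sneg (T.ww a)) ⊓ T.FG, u ≠ 1) :
    ∃ P : Cfsg.BNPair ↥T.FG, P.B = (g.BB F ⊓ T.FG).subgroupOf T.FG ∧ P.N = (g.NN F ⊓ T.FG).subgroupOf T.FG := ⟨T.bn hne, rfl, rfl⟩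

/-- the longest element -/
theorem exists_nu0 : ∃ A : List ℕ, (∀ a ∈ A, a < T.m) ∧ (∀ r < D.nroots, g.N ≤ r → g.wl (T.tl A) r < g.N) ∧ T.nuL A ∈ T.FG ∧
    ∃ k ∈ g.HH F, T.nuL A = k * g.nl F (T.tl A) := by
  obtain ⟨L, hL, _, hn⟩ := T.UU_eq_w0
  obtain ⟨A, hA, he⟩ := T.exists_tl' hL
  exact ⟨A, hA, fun r hr hp => by rw [← he r hr]; exact hn r hr hp, T.nuL_FG hA, T.nuL_w hA⟩

/-- the core of the Borel subgroup -/
theorem core_FG (hcen : ∀ a < T.m, ∀ i ∈ T.J a, ∀ c : ℕ → Fˣ, (∀ u ∈ g.XS F (g.Sneg (T.ww a)) ⊓ T.FG, g.hc c * u * (g.hc c)⁻¹ = u) →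
      g.hcf c (D.simple i) = 1)
    {x : GL D.Idx F} (hxF : x ∈ T.FG) (hx : ∀ y ∈ T.FG, y * x * y⁻¹ ∈ g.BB F) : x = 1 := by
  obtain ⟨A, hA, hneg, hnF, k, hk, hke⟩ := T.exists_nu0
  have hC := T.tl_Cm hA
  have key : ∀ x : GL D.Idx F, x ∈ T.FG → (∀ y ∈ T.FG, y * x * y⁻¹ ∈ g.BB F) → x ∈ g.HH F := by
    intro x hxF hx
    have h1 : x ∈ g.BB F := by have := hx 1 (Subgroup.one_mem _); simpa using this
    have h2 := hx (T.nuL A)⁻¹ (Subgroup.inv_mem _ hnF)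
    rw [inv_inv] at h2
    obtain ⟨u, hu, h, hh, he⟩ := h2
    apply g.BB_inf_VH h1
    refine ⟨k * (g.nl F (T.tl A) * u * (g.nl F (T.tl A))⁻¹) * k⁻¹, g.HH_conj_XS hk _ (g.conj_map_XS hC.1 hneg u hu),
      k * (g.nl F (T.tl A) * h * (g.nl F (T.tl A))⁻¹) * k⁻¹, Subgroup.mul_mem _ (Subgroup.mul_mem _ hk (g.nl_HH hC.1 hh)) (Subgroup.inv_mem _ hk), ?_⟩
    have h3 : x = T.nuL A * ((T.nuL A)⁻¹ * x * T.nuL A) * (T.nuL A)⁻¹ := by group
    rw [h3, he, hke]; group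
  have hxH := key x hxF hx
  obtain ⟨c, rfl⟩ := hxH
  have h1 : ∀ a < T.m, ∀ i ∈ T.J a, g.hcf c (D.simple i) = 1 := by
    intro a ha i hi
    apply hcen a ha i hi c
    intro u hu
    have hxi : (g.hc c)⁻¹ ∈ T.FG := Subgroup.inv_mem _ hxF
    have h3 : ∀ y ∈ T.FG, y * (u * (g.hc c)⁻¹ * u⁻¹) * y⁻¹ ∈ g.BB F := by
      intro y hy
      have h4 := hx (y * u) (Subgroup.mul_mem _ hy hu.2)
      have h5 := Subgroup.inv_mem _ h4
      have h6 : (y * u * g.hc c * (y * u)⁻¹)⁻¹ = y * (u * (g.hc c)⁻¹ * u⁻¹) * y⁻¹ := by group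
      rwa [h6] at h5
    have h4 := key _ (Subgroup.mul_mem _ (Subgroup.mul_mem _ hu.2 hxi) (Subgroup.inv_mem _ hu.2)) h3
    have h5 : g.hc c * u * (g.hc c)⁻¹ * u⁻¹ ∈ g.UU F ⊓ g.HH F := by
      refine ⟨Subgroup.mul_mem _ (g.HH_conj_XS ⟨c, rfl⟩ _ (T.Sneg_le_UU _ hu.1)) (Subgroup.inv_mem _ (T.Sneg_le_UU _ hu.1)), ?_⟩
      have : g.hc c * u * (g.hc c)⁻¹ * u⁻¹ = g.hc c * (u * (g.hc c)⁻¹ * u⁻¹) := by group
      rw [this]
      exact Subgroup.mul_mem _ ⟨c, rfl⟩ h4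
    rw [g.UU_inf_HH, Subgroup.mem_bot] at h5
    exact mul_inv_eq_one.1 h5
  have h2 : ∀ i < D.rank, g.hcf c (D.simple i) = 1 := by
    intro i hi
    obtain ⟨a, ha, hia⟩ := T.J_cov i hi
    exact h1 a ha i hia
  rw [Good.hc, ← g.dgl_one]
  apply g.dgl_congr
  intro s hs
  rw [g.hcf_lin c hs]
  apply Finset.prod_eq_one
  intro j hj
  rw [h2 j (Finset.mem_range.1 hj), one_zpow]

theorem core_bot (hcen : ∀ a < T.m, ∀ i ∈ T.J a, ∀ c : ℕ → Fˣ, (∀ u ∈ g.XS F (g.Sneg (T.ww a)) ⊓ T.FG, g.hc c * u * (g.hc c)⁻¹ = u) →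
      g.hcf c (D.simple i) = 1) : ((g.BB F ⊓ T.FG).subgroupOf T.FG).normalCore = ⊥ := by
  rw [eq_bot_iff]
  intro x hx
  rw [Subgroup.mem_bot]
  apply Subtype.ext
  apply T.core_FG hcen x.2
  intro y hy
  have h := (Subgroup.normalCore_le ((g.BB F ⊓ T.FG).subgroupOf T.FG)) (Subgroup.Normal.conj_mem inferInstance x hx ⟨y, hy⟩)
  exact h.1

/-- the Weyl group -/
theorem exists_theta : ∃ θ : ↥(g.NN F ⊓ T.FG) →* ↥(T.TW T.m), Function.Surjective θ ∧ θ.ker = (g.HH F ⊓ T.FG).subgroupOf (g.NN F ⊓ T.FG) := by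
  let θ0 : ↥(g.NN F ⊓ T.FG) →* Equiv.Perm (Fin D.nroots) := ((g.WJ D.rank).subtype.comp (g.rho F)).comp (Subgroup.inclusion inf_le_left)
  have h0 : ∀ x : ↥(g.NN F ⊓ T.FG), ∀ A : List ℕ, (∀ a ∈ A, a < T.m) → ∀ h ∈ g.HH F, (x : GL D.Idx F) = h * T.nuL A → θ0 x = (A.map T.tP).prod := by
    intro x A hA h hh he
    obtain ⟨k, hk, hke⟩ := T.nuL_w hA
    rw [← T.wP_tl]
    exact g.rho_eq (x := Subgroup.inclusion inf_le_left x) (T.tl_Cm hA).1 (Subgroup.mul_mem _ hh hk) (by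
      show (x : GL D.Idx F) = _
      rw [he, hke]; group)
  have h1 : ∀ x, θ0 x ∈ T.TW T.m := by
    intro x
    obtain ⟨A, hA, h, hh, he⟩ := T.NN_fix x.2
    rw [h0 x A hA h hh.1 he]
    exact ⟨A, fun a ha => ⟨hA a ha, hA a ha⟩, rfl⟩
  refine ⟨θ0.codRestrict _ h1, ?_, ?_⟩
  · rintro ⟨_, A, hA, rfl⟩
    have hA' : ∀ a ∈ A, a < T.m := fun a ha => (hA a ha).1
    obtain ⟨k, hk, hke⟩ := T.nuL_w hA'
    have hN : T.nuL A ∈ g.NN F := by rw [hke]; exact Subgroup.mul_mem _ (g.HH_le_NN hk) (g.nl_mem (T.tl_Cm hA').1)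
    refine ⟨⟨T.nuL A, hN, T.nuL_FG hA'⟩, Subtype.ext ?_⟩
    exact h0 _ A hA' 1 (Subgroup.one_mem _) (by rw [one_mul])
  · ext x
    rw [MonoidHom.mem_ker, Subgroup.mem_subgroupOf]
    have h2 : θ0.codRestrict _ h1 x = 1 ↔ g.rho F (Subgroup.inclusion inf_le_left x) = 1 := by
      rw [Subtype.ext_iff, Subtype.ext_iff]; rfl
    rw [h2, ← MonoidHom.mem_ker, g.rho_ker, Subgroup.mem_subgroupOf]
    exact ⟨fun h => ⟨h, x.2.2⟩, fun h => h.1⟩

/-- the Weyl group as a group with the same order and a surjection -/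
theorem exists_weyl {W : Type*} [Group W] [Finite W] (ψ : W →* ↥(T.TW T.m)) (hψ : Function.Surjective ψ) (hc : Nat.card W = Nat.card (T.TW T.m)) :
    ∃ φ : ↥(g.NN F ⊓ T.FG) →* W, Function.Surjective φ ∧ φ.ker = (g.HH F ⊓ T.FG).subgroupOf (g.NN F ⊓ T.FG) := by
  obtain ⟨θ, h1, h2⟩ := T.exists_theta
  haveI : Finite ↥(T.TW T.m) := Finite.of_surjective ψ hψ
  have hbij : Function.Bijective ψ := (Nat.bijective_iff_surjective_and_card ψ).2 ⟨hψ, hc⟩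
  let e := MulEquiv.ofBijective ψ hbij
  refine ⟨e.symm.toMonoidHom.comp θ, e.symm.surjective.comp h1, ?_⟩
  rw [← h2]
  ext x
  rw [MonoidHom.mem_ker, MonoidHom.mem_ker, MonoidHom.comp_apply]
  exact e.symm.map_eq_one_iff

omit T in
theorem conj_ordP (c : ℕ → Fˣ) (t : ℕ → F) (L : List ℕ) (hL : ∀ r ∈ L, r < D.nroots) :
    g.hc c * g.ordP t L * (g.hc c)⁻¹ = g.ordP (fun r => ((g.hcf c r : Fˣ) : F) * t r) L := by
  unfold Good.ordP
  induction L with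
  | nil => simp
  | cons r L ih =>
    rw [List.map_cons, List.prod_cons, List.map_cons, List.prod_cons, ← ih fun s hs => hL s (by simp [hs]), ← g.hc_x c (hL r (by simp))]
    group

/-- torus commutators -/
theorem torus_comm [Finite F] {a : ℕ} (ha : a < T.m) {c : ℕ → Fˣ} (hc : g.hc c ∈ T.FG) (hχ : ∀ r < D.nroots, g.Sneg (T.ww a) r → g.hcf c r ≠ 1)
    {u : GL D.Idx F} (hu : u ∈ g.XS F (g.Sneg (T.ww a)) ⊓ T.FG) : ∃ v ∈ g.XS F (g.Sneg (T.ww a)) ⊓ T.FG, u = g.hc c * v * (g.hc c)⁻¹ * v⁻¹ := by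
  have hcl := g.Sneg_closed (T.ww_lt ha)
  have hfpf : ∀ x ∈ g.XS F (g.Sneg (T.ww a)), g.hc c * x * (g.hc c)⁻¹ = x → x = 1 := by
    intro x hx he
    obtain ⟨t, ht, rfl⟩ := Good.ClS.exists g hcl hx
    rw [conj_ordP c t _ (fun r hr => by have := List.mem_range'_1.1 hr; have := g.hN; omega)] at he
    have h0 : ∀ r ∈ List.range' g.N g.N, t r = 0 := by
      intro r hr
      have h1 := List.mem_range'_1.1 hr
      have hr' : r < D.nroots := by have := g.hN; omega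
      by_cases hS : g.Sneg (T.ww a) r
      · have h2 := g.U_inj he h1.1 hr'
        by_contra h3
        apply hχ r hr' hS
        apply Units.ext
        exact mul_right_cancel₀ h3 (h2.trans (one_mul _).symm)
      · exact ht r hS
    have h1 := g.ordP_congr (t := t) (t' := fun _ => 0) (L := List.range' g.N g.N) h0
    rw [h1]
    unfold Good.ordP
    apply List.prod_eq_one
    intro z hz
    obtain ⟨r, _, rfl⟩ := List.mem_map.1 hz
    exact g.xg_zero r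
  let A := g.XS F (g.Sneg (T.ww a)) ⊓ T.FG
  have hcH : g.hc c ∈ g.HH F := ⟨c, rfl⟩
  let κ : A → A := fun v => ⟨g.hc c * v * (g.hc c)⁻¹ * (v : GL D.Idx F)⁻¹,
    Subgroup.mul_mem _ (g.HH_conj_XS hcH _ v.2.1) (Subgroup.inv_mem _ v.2.1),
    Subgroup.mul_mem _ (Subgroup.mul_mem _ (Subgroup.mul_mem _ hc v.2.2) (Subgroup.inv_mem _ hc)) (Subgroup.inv_mem _ v.2.2)⟩
  have hinj : Function.Injective κ := by
    intro v w h
    have h1 : g.hc c * v * (g.hc c)⁻¹ * (v : GL D.Idx F)⁻¹ = g.hc c * w * (g.hc c)⁻¹ * (w : GL D.Idx F)⁻¹ := congrArg Subtype.val h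
    have h2 : g.hc c * ((w : GL D.Idx F)⁻¹ * v) * (g.hc c)⁻¹ = (w : GL D.Idx F)⁻¹ * v := by
      calc g.hc c * ((w : GL D.Idx F)⁻¹ * v) * (g.hc c)⁻¹ = (g.hc c * w * (g.hc c)⁻¹)⁻¹ * (g.hc c * v * (g.hc c)⁻¹ * (v : GL D.Idx F)⁻¹) * v := by group
        _ = _ := by rw [h1]; group
    have h3 := hfpf _ (Subgroup.mul_mem _ (Subgroup.inv_mem _ w.2.1) v.2.1) h2
    exact Subtype.ext (inv_mul_eq_one.1 h3).symm
  haveI : Finite (GL D.Idx F) := inferInstance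
  haveI : Finite A := Subtype.finite
  obtain ⟨v, hv⟩ := (Finite.injective_iff_surjective.1 hinj) ⟨u, hu⟩
  exact ⟨v, v.2, (congrArg Subtype.val hv).symm⟩

/-- negative orbit groups are conjugate to the positive ones -/
theorem neg_conj {a : ℕ} (ha : a < T.m) {S : ℕ → Prop} (hS : ∀ r < D.nroots, S r → g.Sneg (T.ww a) (D.neg r)) {x : GL D.Idx F}
    (hx : x ∈ g.XS F S ⊓ T.FG) : ∃ y ∈ g.XS F (g.Sneg (T.ww a)) ⊓ T.FG, x = T.nu a * y * (T.nu a)⁻¹ := by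
  obtain ⟨k, hk, hke⟩ := T.nu_w a ha
  refine ⟨(T.nu a)⁻¹ * x * T.nu a, ⟨?_, Subgroup.mul_mem _ (Subgroup.mul_mem _ (Subgroup.inv_mem _ (T.nu_FG ha)) hx.2) (T.nu_FG ha)⟩, by group⟩
  have h1 : (T.nu a)⁻¹ * x * T.nu a = (g.nl F (T.ww a))⁻¹ * (k⁻¹ * x * k) * g.nl F (T.ww a) := by rw [hke]; group
  rw [h1]
  refine g.conj_map_XS' (S := g.Sneg (T.ww a)) (T := S) (T.ww_lt ha) ?_ _ (g.HH_conj_XS' hk x hx.1)
  intro r hr hSr
  have hwr := g.wl_lt (T.ww_lt ha) hr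
  obtain ⟨h2, h3⟩ := hS _ hwr hSr
  rw [g.wl_neg (T.ww_lt ha) hwr, T.ww_inv a ha r hr, g.neg_lt_iff hr] at h3
  exact ⟨h3, (g.neg_pos_iff hwr).1 h2⟩

/-- simplicity -/
theorem simple_FG (hne : ∀ a < T.m, ∃ u ∈ g.XS F (g.Sneg (T.ww a)) ⊓ T.FG, u ≠ 1)
    (hcen : ∀ a < T.m, ∀ i ∈ T.J a, ∀ c : ℕ → Fˣ, (∀ u ∈ g.XS F (g.Sneg (T.ww a)) ⊓ T.FG, g.hc c * u * (g.hc c)⁻¹ = u) → g.hcf c (D.simple i) = 1)
    (hm : 0 < T.m) (hconn : ∀ a, a + 1 < T.m → T.tP a * T.tP (a + 1) ≠ T.tP (a + 1) * T.tP a) (hperf : commutator ↥T.FG = ⊤) :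
    IsSimpleGroup ↥T.FG ∧ ¬ IsMulCommutative ↥T.FG := by
  have hnt : Nontrivial ↥T.FG := by
    obtain ⟨u, hu, h1⟩ := hne 0 hm
    exact ⟨⟨⟨u, hu.2⟩, 1, fun h => h1 (Subtype.ext_iff.1 h)⟩⟩
  have hirr : (T.bn hne).Irreducible := by
    intro J hJ hJne hJne'
    by_contra hcon
    push Not at hcon
    have hmem : ∀ a (ha : a < T.m), (⟨T.nu a, T.nu_FG ha⟩ : ↥T.FG) ∈ (T.bn hne).S := fun a ha => ⟨a, ha, rfl⟩
    have key : ∀ a b (ha : a < T.m) (hb : b < T.m), (⟨T.nu a, T.nu_FG ha⟩ : ↥T.FG) ∈ J → (⟨T.nu b, T.nu_FG hb⟩ : ↥T.FG) ∉ J →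
        T.tP a * T.tP b = T.tP b * T.tP a := by
      intro a b ha hb h1 h2
      have h3 := hcon _ h1 _ ⟨hmem b hb, h2⟩
      have h4 : T.nu a * T.nu b * (T.nu a)⁻¹ * (T.nu b)⁻¹ ∈ g.BB F := h3.1
      have h5 := g.BB_inf_NN h4 (Subgroup.mul_mem _ (Subgroup.mul_mem _ (Subgroup.mul_mem _ (T.nu_NN ha) (T.nu_NN hb)) (Subgroup.inv_mem _ (T.nu_NN ha)))
        (Subgroup.inv_mem _ (T.nu_NN hb)))
      have e1 : T.nuL [a, b] = T.nu a * T.nu b := by simp [nuL]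
      have e2 : T.nuL [b, a] = T.nu b * T.nu a := by simp [nuL]
      have hab : ∀ c ∈ [a, b], c < T.m := by
        intro c hc
        simp only [List.mem_cons, List.not_mem_nil, or_false] at hc
        rcases hc with rfl | rfl <;> assumption
      have hba : ∀ c ∈ [b, a], c < T.m := by
        intro c hc
        simp only [List.mem_cons, List.not_mem_nil, or_false] at hc
        rcases hc with rfl | rfl <;> assumption
      obtain ⟨k1, hk1, hke1⟩ := T.nuL_w hab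
      obtain ⟨k2, hk2, hke2⟩ := T.nuL_w hba
      have h6 : k1 * g.nl F (T.tl [a, b]) = (T.nu a * T.nu b * (T.nu a)⁻¹ * (T.nu b)⁻¹ * k2) * g.nl F (T.tl [b, a]) := by
        rw [← hke1, e1, mul_assoc _ k2, ← hke2, e2]; group
      have h7 := g.wP_unique (F := F) (T.tl_Cm hab).1 (T.tl_Cm hba).1 hk1 (Subgroup.mul_mem _ h5 hk2) h6
      rw [T.wP_tl, T.wP_tl] at h7
      simpa using h7
    have hstep : ∀ a (ha : a + 1 < T.m), ((⟨T.nu a, T.nu_FG (by omega)⟩ : ↥T.FG) ∈ J ↔ (⟨T.nu (a + 1), T.nu_FG ha⟩ : ↥T.FG) ∈ J) := by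
      intro a ha
      constructor
      · intro h
        by_contra h'
        exact hconn a ha (key a (a + 1) (by omega) ha h h')
      · intro h
        by_contra h'
        exact hconn a ha (key (a + 1) a ha (by omega) h h').symm
    have hall : ∀ a (ha : a < T.m), ((⟨T.nu a, T.nu_FG ha⟩ : ↥T.FG) ∈ J ↔ (⟨T.nu 0, T.nu_FG hm⟩ : ↥T.FG) ∈ J) := by
      intro a
      induction a with
      | zero => intro _; exact Iff.rfl
      | succ a ih => intro ha; rw [← hstep a ha]; exact ih (by omega)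
    obtain ⟨s, hs⟩ := hJne
    obtain ⟨t, ht, ht'⟩ := hJne'
    obtain ⟨i, hi, hsi⟩ := hJ hs
    obtain ⟨j, hj, htj⟩ := ht
    have e1 : s = ⟨T.nu i, T.nu_FG hi⟩ := Subtype.ext hsi
    have e2 : t = ⟨T.nu j, T.nu_FG hj⟩ := Subtype.ext htj
    rw [e1] at hs
    rw [e2] at ht'
    exact ht' ((hall j hj).2 ((hall i hi).1 hs))
  refine ⟨?_, ?_⟩
  · apply Cfsg.Agent.S0319.result (T.bn hne) hirr ?_ hperf (T.core_bot hcen)
    haveI := g.BB_solvable (F := F)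
    let ι : ↥((g.BB F ⊓ T.FG).subgroupOf T.FG) →* ↥(g.BB F) :=
      { toFun := fun x => ⟨((x : ↥T.FG) : GL D.Idx F), x.2.1⟩
        map_one' := rfl
        map_mul' := fun _ _ => rfl }
    have hinj : Function.Injective ι := by
      intro x y h
      have h1 : ι x = ι y := h
      exact Subtype.ext (Subtype.ext (congrArg (fun z : ↥(g.BB F) => (z : GL D.Idx F)) h1))
    exact Group.isSolvable_of_isSolvable_injective hinj
  · intro hc
    have h1 : commutator ↥T.FG = ⊥ := by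
      rw [eq_bot_iff, commutator_def, Subgroup.commutator_le]
      intro a _ b _
      rw [Subgroup.mem_bot, commutatorElement_def, hc.is_comm.comm a b]
      group
    rw [hperf] at h1
    exact top_ne_bot h1

/-- perfectness from generators -/
theorem perf_of {S : Set (GL D.Idx F)} (hgen : T.FG = Subgroup.closure S) (h : ∀ x ∈ S, x ∈ ⁅T.FG, T.FG⁆) : commutator ↥T.FG = ⊤ := by
  have h1 : T.FG ≤ ⁅T.FG, T.FG⁆ := by
    conv_lhs => rw [hgen]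
    rw [Subgroup.closure_le]
    exact h
  have h2 : (commutator ↥T.FG).map T.FG.subtype = ⁅T.FG, T.FG⁆ := by
    rw [commutator_def, Subgroup.map_commutator]
    congr 1 <;> exact (MonoidHom.range_eq_map _).symm.trans (Subgroup.range_subtype _)
  rw [eq_top_iff]
  rintro ⟨x, hx⟩ _
  have h3 := h1 hx
  rw [← h2] at h3
  obtain ⟨y, hy, he⟩ := h3
  have : y = ⟨x, hx⟩ := Subtype.ext he
  rw [← this]
  exact hy

end Tw

end Chv
end CfsgH6
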