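import Cfsg.Agent.H6.Tw10

set_option autoImplicit false

/-! Twisted groups: small generalities. -/

namespace CfsgH6
namespace Chv

open Cfsg.Lie

variable {D : ChevalleyDatum}

theorem ne_of_card {G : Type*} [Group G] {H : Subgroup G} {q e : ℕ} (hq : 2 ≤ q) (he : 1 ≤ e) (h : Nat.card H = q ^ e) : ∃ u ∈ H, u ≠ 1 := by
  by_contra hcon
  push Not at hcon
  have : H = ⊥ := (Subgroup.eq_bot_iff_forall _).2 hcon
  rw [this, Subgroup.card_bot] at h
  have := Nat.one_lt_pow (by omega : e ≠ 0) (by omega : 1 < q)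
  omega

namespace Good

variable (g : Good D) {F : Type*} [Field F]
include g

theorem xg_cancel {r : ℕ} (hr : r < D.nroots) {t u : F} (h : g.xg r t = g.xg r u) : t = u := by
  have h1 : g.xg r (t + -u) = 1 := by
    rw [← g.xg_add hr, ← g.xg_inv hr, h, mul_inv_cancel]
  have := g.xg_eq_one hr h1
  rwa [← sub_eq_add_neg, sub_eq_zero] at this

theorem cen1 {r : ℕ} (hr : r < D.nroots) {c : ℕ → Fˣ} (h : g.hc c * g.xg r (1 : F) * (g.hc c)⁻¹ = g.xg r 1) : g.hcf c r = 1 := by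
  rw [g.hc_x c hr, mul_one] at h
  exact Units.ext (g.xg_cancel hr h)

theorem cen2 {i p' : ℕ} (hi : i < D.rank) (hp' : p' < D.nroots) (hpp : g.N ≤ p') (hne : p' ≠ D.simple i) {t u : F} (ht : t ≠ 0) (hu : u ≠ 0) {c : ℕ → Fˣ}
    (h : g.hc c * (g.xg (D.simple i) t * g.xg p' u) * (g.hc c)⁻¹ = g.xg (D.simple i) t * g.xg p' u) :
    g.hcf c (D.simple i) = 1 ∧ g.hcf c p' = 1 := by
  have h1 : g.hc c * (g.xg (D.simple i) t * g.xg p' u) * (g.hc c)⁻¹ = g.xg (D.simple i) (((g.hcf c (D.simple i) : Fˣ) : F) * t) * g.xg p' (((g.hcf c p' : Fˣ) : F) * u) := by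
    rw [← g.hc_x c (g.simple_lt i hi), ← g.hc_x c hp']; group
  rw [h1] at h
  obtain ⟨h2, h3⟩ := g.two_inj hi hp' hpp hne h
  exact ⟨Units.ext (mul_right_cancel₀ ht (h2.trans (one_mul _).symm)), Units.ext (mul_right_cancel₀ hu (h3.trans (one_mul _).symm))⟩

/-- single commutator -/
theorem comm_one {P : Subgroup (GL D.Idx F)} {r s p : ℕ} {c : ℤ} (hr : r < D.nroots) (hs : s < D.nroots) (h1 : s ≠ r) (h2 : s ≠ D.neg r)
    (h : D.commTerms r s = [(p, c, 1, 1)]) {t u : F} (ht : g.xg r t ∈ P) (hu : g.xg s u ∈ P) :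
    g.xg p ((c : F) * -t * u) ∈ ⁅P, P⁆ := by
  have h3 := g.xg_comm hr hs h1 h2 t u
  rw [h] at h3
  simp only [List.map_cons, List.map_nil, List.prod_cons, List.prod_nil, mul_one, pow_one] at h3
  have h4 : g.xg p ((c : F) * -t * u) = (g.xg s u)⁻¹ * (g.xg r t)⁻¹ * (g.xg s u) * (g.xg r t) := by
    calc g.xg p ((c : F) * -t * u) = (g.xg s u)⁻¹ * (g.xg r t)⁻¹ * (g.xg r t * g.xg s u * g.xg p ((c : F) * -t * u)) := by group
      _ = _ := by rw [← h3]; group
  rw [h4]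
  have h5 := Subgroup.commutator_mem_commutator (Subgroup.inv_mem _ hu) (Subgroup.inv_mem _ ht)
  rw [commutatorElement_def, inv_inv, inv_inv] at h5
  exact h5

end Good

namespace TwC

variable {g : Good D} (T : TwC g)
include T

theorem tP_eq {A B : List ℕ} (hA : ∀ a ∈ A, a < T.m) (hB : ∀ a ∈ B, a < T.m)
    (h : ((List.range D.nroots).all fun r => decide (wlF g.w (T.tl A) r = wlF g.w (T.tl B) r)) = true) : (A.map T.tP).prod = (B.map T.tP).prod := by
  rw [← T.wP_tl, ← T.wP_tl]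
  exact tP_eq_of_wlF T (T.tl_Cm hA).1 (T.tl_Cm hB).1 h

theorem prod_rep (a b : ℕ) (m : ℕ) : (((List.replicate m [a, b]).flatten).map T.tP).prod = (T.tP a * T.tP b) ^ m := by
  induction m with
  | zero => simp
  | succ m ih =>
    rw [List.replicate_succ, List.flatten_cons, List.map_append, List.prod_append, ih, pow_succ']
    simp

/-- the Coxeter relations -/
theorem rel_of {a b m : ℕ} (ha : a < T.m) (hb : b < T.m)
    (h : ((List.range D.nroots).all fun r => decide (wlF g.w (T.tl ((List.replicate m [a, b]).flatten)) r = r)) = true) : (T.tP a * T.tP b) ^ m = 1 := by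
  rw [← T.prod_rep]
  have h1 := T.tP_eq (A := (List.replicate m [a, b]).flatten) (B := []) (by
    intro c hc
    rw [List.mem_flatten] at hc
    obtain ⟨l, hl, hc⟩ := hc
    rw [List.eq_of_mem_replicate hl] at hc
    simp only [List.mem_cons, List.not_mem_nil, or_false] at hc
    rcases hc with rfl | rfl <;> assumption) (by simp) h
  rw [h1]
  simp

end TwC

namespace Tw

variable {g : Good D} {F : Type*} [Field F] (T : Tw g F)
include T

/-- perfectness from generating words -/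
theorem perf_words {S : Set (List (ℕ × F))} (hgen : T.FG = D.genSubgroup F S)
    (hpos : ∀ a < T.m, g.XS F (g.Sneg (T.ww a)) ⊓ T.FG ≤ ⁅T.FG, T.FG⁆)
    (hS : ∀ w ∈ S, ∃ a < T.m, (∀ p ∈ w, p.1 < D.nroots → g.Sneg (T.ww a) p.1) ∨ (∀ p ∈ w, p.1 < D.nroots → g.Sneg (T.ww a) (D.neg p.1))) :
    commutator ↥T.FG = ⊤ := by
  have hXS : ∀ (S' : ℕ → Prop) (w : List (ℕ × F)), (∀ p ∈ w, p.1 < D.nroots → S' p.1) → (w.map fun p => g.xg p.1 p.2).prod ∈ g.XS F S' := by
    intro S' w hw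
    apply Subgroup.list_prod_mem
    intro z hz
    obtain ⟨p, hp, rfl⟩ := List.mem_map.1 hz
    by_cases hr : p.1 < D.nroots
    · exact g.xg_mem (hw p hp hr) _
    · unfold Good.xg; rw [dif_neg hr]; exact Subgroup.one_mem _
  refine T.perf_of (S := {x | ∃ w ∈ S, (x : Matrix D.Idx D.Idx F) = D.wordMat F w}) hgen ?_
  rintro x ⟨w, hw, he⟩
  rw [g.wordMat_eq] at he
  rw [Units.ext he]
  have hF : (w.map fun p => g.xg p.1 p.2).prod ∈ T.FG := by rw [hgen]; exact mem_gen g hw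
  obtain ⟨a, ha, h | h⟩ := hS w hw
  · exact hpos a ha ⟨hXS _ w h, hF⟩
  · obtain ⟨y, hy, he⟩ := T.neg_conj ha (S := fun r => g.Sneg (T.ww a) (D.neg r)) (fun r _ h => h) ⟨hXS _ w h, hF⟩
    rw [he]
    have h1 := hpos a ha hy
    have h3 := Subgroup.commutator_mem_commutator (T.nu_FG ha) hy.2
    rw [commutatorElement_def] at h3
    have h2 : T.nu a * y * (T.nu a)⁻¹ = (T.nu a * y * (T.nu a)⁻¹ * y⁻¹) * y := by group
    rw [h2]
    exact Subgroup.mul_mem _ h3 h1

theorem torus_le [Finite F] {a : ℕ} (ha : a < T.m) {c : ℕ → Fˣ} (hc : g.hc c ∈ T.FG) (hχ : ∀ r < D.nroots, g.Sneg (T.ww a) r → g.hcf c r ≠ 1) :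
    g.XS F (g.Sneg (T.ww a)) ⊓ T.FG ≤ ⁅T.FG, T.FG⁆ := by
  intro u hu
  obtain ⟨v, hv, he⟩ := T.torus_comm ha hc hχ hu
  rw [he]
  exact Subgroup.commutator_mem_commutator hc hv.2

end Tw

end Chv
end CfsgH6
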