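import Cfsg.Agent.H6.TwE6c

set_option autoImplicit false

/-! Normal forms on lists of roots; Frobenius powers. -/

namespace CfsgH6
namespace Chv

open Cfsg.Lie

variable {D : ChevalleyDatum}

namespace Good

variable (g : Good D) {F : Type*} [Field F]
include g

theorem ordP_filter {t : ℕ → F} (R : List ℕ) : ∀ L : List ℕ, (∀ r ∈ L, r ∉ R → t r = 0) → g.ordP t L = g.ordP t (L.filter (fun r => decide (r ∈ R))) := by
  intro L
  induction L with
  | nil => intro _; rfl
  | cons r L ih =>
    intro h
    have h1 := ih fun s hs => h s (by simp [hs])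
    unfold ordP at h1 ⊢
    by_cases hr : r ∈ R
    · rw [List.filter_cons_of_pos (by simpa using hr), List.map_cons, List.prod_cons, List.map_cons, List.prod_cons, h1]
    · rw [List.filter_cons_of_neg (by simpa using hr), List.map_cons, List.prod_cons, h r (by simp) hr, g.xg_zero, one_mul, h1]

/-- sorted lists of positive roots -/
def SL (g : Good D) (R : List ℕ) : Prop := (List.range' g.N g.N).filter (fun r => decide (r ∈ R)) = R

theorem SL.ext {R : List ℕ} (hR : g.SL R) (t : ℕ → F) : g.ordP t R = g.ordP (fun r => if r ∈ R then t r else 0) (List.range' g.N g.N) := by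
  rw [g.ordP_filter R _ (fun r _ hr => if_neg hr)]
  have h : g.ordP (fun r => if r ∈ R then t r else 0) R = g.ordP t R := g.ordP_congr fun r hr => if_pos hr
  rw [← h]
  congr 1
  exact hR.symm

theorem SL.inj {R : List ℕ} (hR : g.SL R) {t t' : ℕ → F} (h : g.ordP t R = g.ordP t' R) : ∀ r ∈ R, t r = t' r := by
  intro r hr
  rw [hR.ext g, hR.ext g] at h
  have h1 : r ∈ List.range' g.N g.N := by
    have h2 : r ∈ (List.range' g.N g.N).filter (fun r => decide (r ∈ R)) := by rw [hR]; exact hr
    exact (List.mem_filter.1 h2).1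
  have h2 := List.mem_range'_1.1 h1
  have h3 := g.U_inj h h2.1 (by have := g.hN; omega)
  simpa [hr] using h3

theorem SL.mem {R : List ℕ} (hR : g.SL R) {S : ℕ → Prop} (hcl : g.ClS S) (hS : ∀ r < D.nroots, S r ↔ r ∈ R) {x : GL D.Idx F} :
    x ∈ g.XS F S ↔ ∃ t : ℕ → F, x = g.ordP t R := by
  have hlt : ∀ r ∈ R, r < D.nroots := by
    intro r hr
    have h2 : r ∈ (List.range' g.N g.N).filter (fun r => decide (r ∈ R)) := by rw [hR]; exact hr
    have h3 := List.mem_range'_1.1 (List.mem_filter.1 h2).1
    have := g.hN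
    omega
  constructor
  · intro hx
    obtain ⟨t, ht, rfl⟩ := Good.ClS.exists g hcl hx
    refine ⟨t, ?_⟩
    rw [g.ordP_filter R _ (fun r hr hn => ht r fun h => hn ((hS r (by have := List.mem_range'_1.1 hr; have := g.hN; omega)).1 h))]
    congr 1
  · rintro ⟨t, rfl⟩
    unfold ordP
    apply Subgroup.list_prod_mem
    intro z hz
    obtain ⟨r, hr, rfl⟩ := List.mem_map.1 hz
    exact g.xg_mem ((hS r (hlt r hr)).2 hr) _

end Good

theorem frobP {K : Type*} [Field K] [Finite K] (p : ℕ) [Fact p.Prime] [CharP K p] (m : ℕ) (t : K) : frobQ K (p ^ m) t = t ^ (p ^ m) := by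
  have h : ∃ φ : K ≃+* K, ∀ t, φ t = t ^ (p ^ m) := by
    haveI : ExpChar K p := ExpChar.prime (Fact.out)
    haveI : PerfectRing K p := PerfectRing.ofSurjective K p (Finite.surjective_of_injective (RingHom.injective (frobenius K p)))
    exact ⟨iterateFrobeniusEquiv K p m, fun t => iterateFrobeniusEquiv_def K p m t⟩
  unfold frobQ
  rw [dif_pos h]
  exact h.choose_spec t

end Chv
end CfsgH6
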