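import Cfsg.Agent.H6.Tw1

set_option autoImplicit false

/-! Twisted groups: the fixed points of an automorphism of a Chevalley group. -/

namespace CfsgH6
namespace Chv

open Cfsg.Lie

variable {D : ChevalleyDatum}

/-- an automorphism of the Chevalley group permuting the root groups -/
structure Tw (g : Good D) (F : Type*) [Field F] extends TwC g where
  f : ↥(g.GG F) ≃* ↥(g.GG F)
  τ : ℕ → F → F
  th : ℕ → Fˣ → Fˣ
  f_xg : ∀ r < D.nroots, ∀ t : F, (f ⟨g.xg r t, g.xg_mem_GG r t⟩ : GL D.Idx F) = g.xg (ρ r) (τ r t)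
  f_hD : ∀ r < D.nroots, ∀ t : Fˣ, (f ⟨g.hD r t, g.HH_le_GG (g.hD_mem r t)⟩ : GL D.Idx F) = g.hD (ρ r) (th r t)
  f_nn : ∀ i < D.rank, (f ⟨g.nn i, g.nn_mem_GG i⟩ : GL D.Idx F) = g.nn (π i)
  nu : ℕ → GL D.Idx F
  nu_GG : ∀ a < m, nu a ∈ g.GG F
  nu_f : ∀ a < m, ∀ h : nu a ∈ g.GG F, (f ⟨nu a, h⟩ : GL D.Idx F) = nu a
  nu_w : ∀ a < m, ∃ k ∈ g.HH F, nu a = k * g.nl F (ww a)

namespace Tw

variable {g : Good D} {F : Type*} [Field F] (T : Tw g F)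
include T

open Classical in
/-- the automorphism as a function on matrices -/
noncomputable def ff (x : GL D.Idx F) : GL D.Idx F := if h : x ∈ g.GG F then (T.f ⟨x, h⟩ : GL D.Idx F) else 1

theorem ff_eq {x : GL D.Idx F} (h : x ∈ g.GG F) : T.ff x = (T.f ⟨x, h⟩ : GL D.Idx F) := by unfold ff; rw [dif_pos h]

theorem ff_mem (x : GL D.Idx F) : T.ff x ∈ g.GG F := by
  unfold ff
  split_ifs with h
  · exact (T.f ⟨x, h⟩).2
  · exact Subgroup.one_mem _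

theorem ff_mul {x y : GL D.Idx F} (hx : x ∈ g.GG F) (hy : y ∈ g.GG F) : T.ff (x * y) = T.ff x * T.ff y := by
  rw [T.ff_eq hx, T.ff_eq hy, T.ff_eq (Subgroup.mul_mem _ hx hy), ← Subgroup.coe_mul, ← map_mul]
  rfl

theorem ff_one : T.ff 1 = 1 := by
  rw [T.ff_eq (Subgroup.one_mem _)]
  have : (⟨1, Subgroup.one_mem _⟩ : ↥(g.GG F)) = 1 := rfl
  rw [this, map_one]; rfl

theorem ff_inv {x : GL D.Idx F} (hx : x ∈ g.GG F) : T.ff x⁻¹ = (T.ff x)⁻¹ := by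
  rw [T.ff_eq hx, T.ff_eq (Subgroup.inv_mem _ hx), ← Subgroup.coe_inv, ← map_inv]
  rfl

theorem ff_inj {x y : GL D.Idx F} (hx : x ∈ g.GG F) (hy : y ∈ g.GG F) (h : T.ff x = T.ff y) : x = y := by
  rw [T.ff_eq hx, T.ff_eq hy] at h
  exact congrArg Subtype.val (T.f.injective (Subtype.ext h))

theorem ff_xg {r : ℕ} (hr : r < D.nroots) (t : F) : T.ff (g.xg r t) = g.xg (T.ρ r) (T.τ r t) := by
  rw [T.ff_eq (g.xg_mem_GG r t), T.f_xg r hr]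

theorem ff_hD {r : ℕ} (hr : r < D.nroots) (t : Fˣ) : T.ff (g.hD r t) = g.hD (T.ρ r) (T.th r t) := by
  rw [T.ff_eq (g.HH_le_GG (g.hD_mem r t)), T.f_hD r hr]

theorem ff_nn {i : ℕ} (hi : i < D.rank) : T.ff (g.nn i) = g.nn (T.π i) := by
  rw [T.ff_eq (g.nn_mem_GG i), T.f_nn i hi]

theorem nl_GG (L : List ℕ) : g.nl F L ∈ g.GG F := by
  induction L with
  | nil => rw [g.nl_nil]; exact Subgroup.one_mem _
  | cons i L ih => rw [g.nl_cons]; exact Subgroup.mul_mem _ (g.nn_mem_GG i) ih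

theorem ff_nl {L : List ℕ} (hL : ∀ i ∈ L, i < D.rank) : T.ff (g.nl F L) = g.nl F (L.map T.π) := by
  induction L with
  | nil => rw [List.map_nil, g.nl_nil, T.ff_one]
  | cons i L ih =>
    rw [g.nl_cons, T.ff_mul (g.nn_mem_GG i) (T.nl_GG L), T.ff_nn (hL i (by simp)), ih (fun j hj => hL j (by simp [hj])), List.map_cons, g.nl_cons]

theorem wl_map {L : List ℕ} (hL : ∀ i ∈ L, i < D.rank) {s : ℕ} (hs : s < D.nroots) : g.wl (L.map T.π) (T.ρ s) = T.ρ (g.wl L s) := by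
  induction L with
  | nil => rfl
  | cons i L ih =>
    have h1 : ∀ j ∈ L, j < D.rank := fun j hj => hL j (by simp [hj])
    show g.w (T.π i) (g.wl (L.map T.π) (T.ρ s)) = T.ρ (g.w i (g.wl L s))
    rw [ih h1, T.ρ_w i (hL i (by simp)) _ (g.wl_lt h1 hs)]

theorem XS_GG (S : ℕ → Prop) : g.XS F S ≤ g.GG F := g.XS_mono (T := fun _ => True) (fun _ _ _ => trivial)

theorem ff_XS {S S' : ℕ → Prop} (h : ∀ r < D.nroots, S r → S' (T.ρ r)) {x : GL D.Idx F} (hx : x ∈ g.XS F S) : T.ff x ∈ g.XS F S' := by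
  induction hx using Subgroup.closure_induction with
  | mem y hy =>
    obtain ⟨s, u, h1, h2, rfl⟩ := hy
    rw [T.ff_xg h2]
    exact g.xg_mem (h s h2 h1) _
  | one => rw [T.ff_one]; exact Subgroup.one_mem _
  | mul a b ha hb iha ihb => rw [T.ff_mul (T.XS_GG S ha) (T.XS_GG S hb)]; exact Subgroup.mul_mem _ iha ihb
  | inv a ha iha => rw [T.ff_inv (T.XS_GG S ha)]; exact Subgroup.inv_mem _ iha

theorem ff_UU {x : GL D.Idx F} (hx : x ∈ g.UU F) : T.ff x ∈ g.UU F :=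
  T.ff_XS (S := fun r => g.N ≤ r) (S' := fun r => g.N ≤ r) (fun r hr h => (T.ρ_pos r hr).2 h) hx

theorem ff_VV {x : GL D.Idx F} (hx : x ∈ g.VV F) : T.ff x ∈ g.VV F :=
  T.ff_XS (S := fun r => r < g.N) (S' := fun r => r < g.N) (fun r hr h => by
    by_contra hc
    push Not at hc
    have := (T.ρ_pos r hr).1 hc
    omega) hx

theorem ff_HH {x : GL D.Idx F} (hx : x ∈ g.HH F) : T.ff x ∈ g.HH F := by
  have hx2 := hx
  rw [g.HH_eq_closure] at hx2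
  refine Subgroup.closure_induction (p := fun x _ => x ∈ g.HH F → T.ff x ∈ g.HH F) ?_ ?_ ?_ ?_ hx2 hx
  · rintro y ⟨i, hi, t, rfl⟩ _
    rw [T.ff_hD (g.simple_lt i hi)]
    exact g.hD_mem _ _
  · intro _; rw [T.ff_one]; exact Subgroup.one_mem _
  · intro a b ha hb iha ihb _
    rw [← g.HH_eq_closure] at ha hb
    rw [T.ff_mul (g.HH_le_GG ha) (g.HH_le_GG hb)]; exact Subgroup.mul_mem _ (iha ha) (ihb hb)
  · intro a ha iha _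
    rw [← g.HH_eq_closure] at ha
    rw [T.ff_inv (g.HH_le_GG ha)]; exact Subgroup.inv_mem _ (iha ha)

theorem ff_BB {x : GL D.Idx F} (hx : x ∈ g.BB F) : T.ff x ∈ g.BB F := by
  obtain ⟨y, hy, h, hh, rfl⟩ := hx
  rw [T.ff_mul (g.UU_le_GG hy) (g.HH_le_GG hh)]
  exact Subgroup.mul_mem _ (g.UU_le_BB (T.ff_UU hy)) (g.HH_le_BB (T.ff_HH hh))

/-- the fixed points -/
def FG : Subgroup (GL D.Idx F) where
  carrier := {x | x ∈ g.GG F ∧ T.ff x = x}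
  one_mem' := ⟨Subgroup.one_mem _, T.ff_one⟩
  mul_mem' := by
    rintro a b ⟨ha, ha'⟩ ⟨hb, hb'⟩
    exact ⟨Subgroup.mul_mem _ ha hb, by rw [T.ff_mul ha hb, ha', hb']⟩
  inv_mem' := by
    rintro a ⟨ha, ha'⟩
    exact ⟨Subgroup.inv_mem _ ha, by rw [T.ff_inv ha, ha']⟩

theorem mem_FG {x : GL D.Idx F} : x ∈ T.FG ↔ x ∈ g.GG F ∧ T.ff x = x := Iff.rfl

theorem FG_le : T.FG ≤ g.GG F := fun _ h => h.1

theorem nu_FG {a : ℕ} (ha : a < T.m) : T.nu a ∈ T.FG :=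
  ⟨T.nu_GG a ha, by rw [T.ff_eq (T.nu_GG a ha), T.nu_f a ha]⟩

theorem nu_NN {a : ℕ} (ha : a < T.m) : T.nu a ∈ g.NN F := by
  obtain ⟨k, hk, h⟩ := T.nu_w a ha
  rw [h]
  exact Subgroup.mul_mem _ (g.HH_le_NN hk) (g.nl_mem (T.ww_lt ha))

/-- the element of `N` attached to a list of orbits -/
def nuL (A : List ℕ) : GL D.Idx F := (A.map T.nu).prod

theorem nuL_FG {A : List ℕ} (hA : ∀ a ∈ A, a < T.m) : T.nuL A ∈ T.FG := by
  apply Subgroup.list_prod_mem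
  intro z hz
  obtain ⟨a, ha, rfl⟩ := List.mem_map.1 hz
  exact T.nu_FG (hA a ha)

theorem nuL_w {A : List ℕ} (hA : ∀ a ∈ A, a < T.m) : ∃ k ∈ g.HH F, T.nuL A = k * g.nl F (T.tl A) := by
  induction A with
  | nil => exact ⟨1, Subgroup.one_mem _, by rw [T.tl_nil, g.nl_nil]; simp [nuL]⟩
  | cons a A ih =>
    obtain ⟨k, hk, h⟩ := ih fun b hb => hA b (by simp [hb])
    obtain ⟨k', hk', h'⟩ := T.nu_w a (hA a (by simp))
    have h2 := g.nl_HH (T.ww_lt (hA a (by simp))) hk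
    refine ⟨k' * (g.nl F (T.ww a) * k * (g.nl F (T.ww a))⁻¹), Subgroup.mul_mem _ hk' h2, ?_⟩
    have : T.nuL (a :: A) = T.nu a * T.nuL A := by simp [nuL]
    rw [this, h, h', T.tl_cons, g.nl_append]
    group

/-- Bruhat decomposition of the fixed points -/
theorem fix_bruhat {x : GL D.Idx F} (hx : x ∈ T.FG) : ∃ u ∈ g.UU F ⊓ T.FG, ∃ L : List ℕ, T.Cm L ∧ ∃ h ∈ g.HH F, h * g.nl F L ∈ T.FG ∧
    ∃ u' ∈ g.XS F (g.Sneg L) ⊓ T.FG, x = u * (h * g.nl F L) * u' := by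
  obtain ⟨b, hb, L, hL, u, hu, he⟩ := g.bruhat hx.1
  have hbG := g.BB_le_GG hb
  have hnG := T.nl_GG L
  have huG := T.XS_GG _ hu
  have h1 : T.ff x = T.ff b * g.nl F (L.map T.π) * T.ff u := by
    rw [he, T.ff_mul (Subgroup.mul_mem _ hbG hnG) huG, T.ff_mul hbG hnG, T.ff_nl hL]
  have hπ : ∀ i ∈ L.map T.π, i < D.rank := by
    intro i hi
    obtain ⟨j, hj, rfl⟩ := List.mem_map.1 hi
    exact T.π_lt j (hL j hj)
  have hu2 : T.ff u ∈ g.XS F (g.Sneg (L.map T.π)) := by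
    refine T.ff_XS (S := g.Sneg L) (S' := g.Sneg (L.map T.π)) ?_ hu
    rintro r hr ⟨h2, h3⟩
    refine ⟨(T.ρ_pos r hr).2 h2, ?_⟩
    rw [T.wl_map hL hr]
    by_contra hc
    push Not at hc
    have := (T.ρ_pos _ (g.wl_lt hL hr)).1 hc
    omega
  have hS : ∀ L : List ℕ, g.XS F (g.Sneg L) ≤ g.UU F := fun L => g.XS_mono (fun r _ h => h.1)
  rw [hx.2, he] at h1
  have h2 := g.bruhat_unique_coset hb (T.ff_BB hb) (g.nl_mem hL) (g.nl_mem hπ) (g.UU_le_BB (hS _ hu)) (g.UU_le_BB (hS _ hu2)) h1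
  -- nl(πL) = k nl L
  obtain ⟨k, hk⟩ : ∃ k, k = g.nl F L * ((g.nl F L)⁻¹ * g.nl F (L.map T.π)) * (g.nl F L)⁻¹ := ⟨_, rfl⟩
  have hkH : k ∈ g.HH F := by rw [hk]; exact g.nl_HH hL h2
  have hk2 : g.nl F (L.map T.π) = k * g.nl F L := by rw [hk]; group
  have hwl : ∀ s < D.nroots, g.wl (L.map T.π) s = g.wl L s := fun s hs => g.wl_eq_of_nl hπ hL hkH hk2 hs
  rw [g.Sneg_congr hwl] at hu2
  have h3 : b * (1 * g.nl F L) * u = (T.ff b * k) * (1 * g.nl F L) * T.ff u := by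
    rw [one_mul, h1, hk2]; group
  obtain ⟨h4, h5⟩ := g.bruhat_unique hL (Subgroup.one_mem _) hb (Subgroup.mul_mem _ (T.ff_BB hb) (g.HH_le_BB hkH)) hu hu2 h3
  obtain ⟨y, hy, h, hh, rfl⟩ := hb
  have hyG := g.UU_le_GG hy
  have hhG := g.HH_le_GG hh
  rw [T.ff_mul hyG hhG] at h4
  have h6 : y⁻¹ * T.ff y = h * (T.ff h * k)⁻¹ := by
    have : y⁻¹ * T.ff y = y⁻¹ * (T.ff y * T.ff h * k) * (T.ff h * k)⁻¹ := by group
    rw [this, ← h4]; group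
  have h7 : y⁻¹ * T.ff y ∈ g.UU F ⊓ g.HH F :=
    ⟨Subgroup.mul_mem _ (Subgroup.inv_mem _ hy) (T.ff_UU hy), by
      rw [h6]; exact Subgroup.mul_mem _ hh (Subgroup.inv_mem _ (Subgroup.mul_mem _ (T.ff_HH hh) hkH))⟩
  rw [g.UU_inf_HH, Subgroup.mem_bot] at h7
  have h8 : T.ff y = y := (inv_mul_eq_one.1 h7).symm
  rw [h7] at h6
  have h9 : T.ff h * k = h := (mul_inv_eq_one.1 h6.symm).symm
  refine ⟨y, ⟨hy, hyG, h8⟩, L, ⟨hL, ?_⟩, h, hh, ⟨Subgroup.mul_mem _ hhG hnG, ?_⟩, u, ⟨hu, huG, h5.symm⟩, by rw [he]; group⟩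
  · intro s hs
    rw [← hwl _ (T.ρ_lt s hs), T.wl_map hL hs]
  · rw [T.ff_mul hhG hnG, T.ff_nl hL, hk2, ← mul_assoc, h9]

/-- the fixed points of `N` -/
theorem NN_fix {x : GL D.Idx F} (hx : x ∈ g.NN F ⊓ T.FG) : ∃ A : List ℕ, (∀ a ∈ A, a < T.m) ∧ ∃ h ∈ g.HH F ⊓ T.FG, x = h * T.nuL A := by
  obtain ⟨L, hL, h, hh, he⟩ := hx.1
  obtain ⟨u, hu, L', hL', h', hh', hn', u', hu', he'⟩ := T.fix_bruhat hx.2
  have hS : g.XS F (g.Sneg L') ≤ g.UU F := g.XS_mono (fun r _ h => h.1)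
  have h1 : (1 : GL D.Idx F) * x * 1 = u * (h' * g.nl F L') * u' := by rw [one_mul, mul_one, ← he']
  have hN' : h' * g.nl F L' ∈ g.NN F := Subgroup.mul_mem _ (g.HH_le_NN hh') (g.nl_mem hL'.1)
  have h2 := g.bruhat_unique_coset (Subgroup.one_mem _) (g.UU_le_BB hu.1) hx.1 hN' (Subgroup.one_mem _) (g.UU_le_BB (hS hu'.1)) h1
  obtain ⟨A, hA, hAe⟩ := T.exists_tl' hL'
  obtain ⟨k, hk, hke⟩ := T.nuL_w hA
  have h3 := g.nl_of_wl_eq (F := F) hL'.1 (T.tl_Cm hA).1 hAe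
  refine ⟨A, hA, x * (T.nuL A)⁻¹, ⟨?_, Subgroup.mul_mem _ hx.2 (Subgroup.inv_mem _ (T.nuL_FG hA))⟩, by group⟩
  have h4 : x * (T.nuL A)⁻¹ = (x * (x⁻¹ * (h' * g.nl F L'))⁻¹ * x⁻¹) * h' * (g.nl F L' * (g.nl F (T.tl A))⁻¹) * k⁻¹ := by
    rw [hke]; group
  rw [h4]
  exact Subgroup.mul_mem _ (Subgroup.mul_mem _ (Subgroup.mul_mem _ (g.NN_HH hx.1 (Subgroup.inv_mem _ h2)) hh') h3) (Subgroup.inv_mem _ hk)

/-! ### the unipotent groups of the inversions -/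

/-- elements of `U` made negative -/
theorem XS_Sneg_of {L : List ℕ} (hL : ∀ i ∈ L, i < D.rank) {z : GL D.Idx F} (hz : z ∈ g.UU F) (h : g.nl F L * z * (g.nl F L)⁻¹ ∈ g.VV F) :
    z ∈ g.XS F (g.Sneg L) := by
  obtain ⟨a, ha, b, hb, he⟩ := g.UU_factor (fun r => g.N ≤ g.wl L r) (fun r => g.wl L r < g.N) (fun r _ _ => by omega) hz
  have h1 := g.conj_map_XS (S := fun r => g.N ≤ r ∧ g.N ≤ g.wl L r) (T := fun r => g.N ≤ r) hL (fun r _ h => h.2) a ha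
  have h2 := g.conj_map_XS (S := fun r => g.N ≤ r ∧ g.wl L r < g.N) (T := fun r => r < g.N) hL (fun r _ h => h.2) b hb
  have h3 : g.nl F L * a * (g.nl F L)⁻¹ ∈ g.VV F := by
    have : g.nl F L * a * (g.nl F L)⁻¹ = (g.nl F L * z * (g.nl F L)⁻¹) * (g.nl F L * b * (g.nl F L)⁻¹)⁻¹ := by rw [he]; group
    rw [this]
    exact Subgroup.mul_mem _ h (Subgroup.inv_mem _ h2)
  have h4 := g.UU_inf_VV h1 h3
  have h5 : a = 1 := by
    have : a = (g.nl F L)⁻¹ * (g.nl F L * a * (g.nl F L)⁻¹) * g.nl F L := by group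
    rw [this, h4]; group
  rw [he, h5, one_mul]
  exact hb

/-- splitting off the last orbit -/
theorem split_ww {L : List ℕ} (hL : T.Cm L) {a : ℕ} (ha : a < T.m) (hp : ∀ i ∈ T.J a, g.N ≤ g.wl L (D.simple i)) {x : GL D.Idx F}
    (hx : x ∈ g.XS F (g.Sneg (L ++ T.ww a)) ⊓ T.FG) : ∃ y ∈ g.XS F (g.Sneg L) ⊓ T.FG, ∃ z ∈ g.XS F (g.Sneg (T.ww a)) ⊓ T.FG,
      x = (T.nu a)⁻¹ * y * T.nu a * z := by
  have hwa := T.ww_lt ha
  have hC := T.Cm_append hL (T.ww_Cm ha)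
  have hS : ∀ L : List ℕ, g.XS F (g.Sneg L) ≤ g.UU F := fun L => g.XS_mono (fun r _ h => h.1)
  have hxU := hS _ hx.1
  obtain ⟨b, hb, z, hz, he⟩ := g.UU_factor (fun r => g.N ≤ g.wl (T.ww a) r) (fun r => g.wl (T.ww a) r < g.N) (fun r _ _ => by omega) hxU
  have hz' : z ∈ g.XS F (g.Sneg (T.ww a)) := hz
  -- z is in the big group
  have hz2 : z ∈ g.XS F (g.Sneg (L ++ T.ww a)) := by
    refine g.XS_mono ?_ hz'
    rintro r hr ⟨h1, h2⟩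
    exact ⟨h1, (T.inv_ww hL.1 ha hp hr h1).2 (Or.inl h2)⟩
  have hb2 : b ∈ g.XS F (g.Sneg (L ++ T.ww a)) := by
    have : b = x * z⁻¹ := by rw [he]; group
    rw [this]; exact Subgroup.mul_mem _ hx.1 (Subgroup.inv_mem _ hz2)
  -- fixed
  have hbG := T.XS_GG _ hb
  have hzG := T.XS_GG _ hz
  have hfx : T.ff b * T.ff z = b * z := by rw [← T.ff_mul hbG hzG, ← he, hx.2.2]
  have hfb : T.ff b ∈ g.XS F (fun r => g.N ≤ r ∧ g.N ≤ g.wl (T.ww a) r) := by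
    refine T.ff_XS (S' := fun r => g.N ≤ r ∧ g.N ≤ g.wl (T.ww a) r) ?_ hb
    rintro r hr ⟨h1, h2⟩
    refine ⟨(T.ρ_pos r hr).2 h1, ?_⟩
    rw [T.ww_ρ a ha r hr]
    exact (T.ρ_pos _ (g.wl_lt hwa hr)).2 h2
  have hfz : T.ff z ∈ g.XS F (fun r => g.N ≤ r ∧ g.wl (T.ww a) r < g.N) := by
    refine T.ff_XS (S' := fun r => g.N ≤ r ∧ g.wl (T.ww a) r < g.N) ?_ hz
    rintro r hr ⟨h1, h2⟩
    refine ⟨(T.ρ_pos r hr).2 h1, ?_⟩
    rw [T.ww_ρ a ha r hr]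
    by_contra hc
    push Not at hc
    have := (T.ρ_pos _ (g.wl_lt hwa hr)).1 hc
    omega
  have h1 : b⁻¹ * T.ff b = z * (T.ff z)⁻¹ := by
    have : b⁻¹ * T.ff b = b⁻¹ * (T.ff b * T.ff z) * (T.ff z)⁻¹ := by group
    rw [this, hfx]; group
  have h2 := g.conj_map_XS (S := fun r => g.N ≤ r ∧ g.N ≤ g.wl (T.ww a) r) (T := fun r => g.N ≤ r) hwa (fun r _ h => h.2) _
    (Subgroup.mul_mem _ (Subgroup.inv_mem _ hb) hfb)
  have h3 := g.conj_map_XS (S := fun r => g.N ≤ r ∧ g.wl (T.ww a) r < g.N) (T := fun r => r < g.N) hwa (fun r _ h => h.2) _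
    (Subgroup.mul_mem _ hz (Subgroup.inv_mem _ hfz))
  rw [← h1] at h3
  have h4 := g.UU_inf_VV h2 h3
  have h5 : b⁻¹ * T.ff b = 1 := by
    have : b⁻¹ * T.ff b = (g.nl F (T.ww a))⁻¹ * (g.nl F (T.ww a) * (b⁻¹ * T.ff b) * (g.nl F (T.ww a))⁻¹) * g.nl F (T.ww a) := by group
    rw [this, h4]; group
  have h6 : T.ff b = b := (inv_mul_eq_one.1 h5).symm
  rw [h5] at h1
  have h7 : T.ff z = z := (mul_inv_eq_one.1 h1.symm).symm
  obtain ⟨k, hk, hke⟩ := T.nu_w a ha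
  have hnG := T.nu_GG a ha
  refine ⟨T.nu a * b * (T.nu a)⁻¹, ⟨?_, ?_⟩, z, ⟨hz', hzG, h7⟩, by rw [he]; group⟩
  · -- in XS (Sneg L)
    have h8 := g.conj_map_XS (S := fun r => g.N ≤ r ∧ g.N ≤ g.wl (T.ww a) r) (T := fun r => g.N ≤ r) hwa (fun r _ h => h.2) b hb
    have h9 : T.nu a * b * (T.nu a)⁻¹ = k * (g.nl F (T.ww a) * b * (g.nl F (T.ww a))⁻¹) * k⁻¹ := by rw [hke]; group
    rw [h9]
    apply g.HH_conj_XS hk
    apply T.XS_Sneg_of hL.1 h8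
    have h10 : g.nl F L * (g.nl F (T.ww a) * b * (g.nl F (T.ww a))⁻¹) * (g.nl F L)⁻¹ = g.nl F (L ++ T.ww a) * b * (g.nl F (L ++ T.ww a))⁻¹ := by
      rw [g.nl_append]; group
    rw [h10]
    exact g.conj_map_XS (S := g.Sneg (L ++ T.ww a)) (T := fun r => r < g.N) hC.1 (fun r _ h => h.2) b hb2
  · exact Subgroup.mul_mem _ (Subgroup.mul_mem _ (T.nu_FG ha) ⟨hbG, h6⟩) (Subgroup.inv_mem _ (T.nu_FG ha))

theorem conj_nu {L : List ℕ} (hL : T.Cm L) {a : ℕ} (ha : a < T.m) (hp : ∀ i ∈ T.J a, g.N ≤ g.wl L (D.simple i)) {y : GL D.Idx F}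
    (hy : y ∈ g.XS F (g.Sneg L)) : (T.nu a)⁻¹ * y * T.nu a ∈ g.XS F (fun r => g.Sneg (L ++ T.ww a) r ∧ g.N ≤ g.wl (T.ww a) r) := by
  obtain ⟨k, hk, hke⟩ := T.nu_w a ha
  have h1 : (T.nu a)⁻¹ * y * T.nu a = (g.nl F (T.ww a))⁻¹ * (k⁻¹ * y * k) * g.nl F (T.ww a) := by rw [hke]; group
  rw [h1]
  refine g.conj_map_XS' (S := fun r => g.Sneg (L ++ T.ww a) r ∧ g.N ≤ g.wl (T.ww a) r) (T := g.Sneg L) (T.ww_lt ha) ?_ _ (g.HH_conj_XS' hk y hy)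
  rintro r hr ⟨h2, h3⟩
  have hwr := g.wl_lt (T.ww_lt ha) hr
  have h4 : g.N ≤ r := by
    by_contra hc
    push Not at hc
    have h5 := T.pos_of_J hL.1 ha hp hwr h2 (by rw [T.ww_inv a ha r hr]; exact hc)
    omega
  exact ⟨⟨h4, (T.inv_ww hL.1 ha hp hr h4).2 (Or.inr ⟨h2, h3⟩)⟩, h2⟩

/-- the number of fixed elements -/
theorem card_split {L : List ℕ} (hL : T.Cm L) {a : ℕ} (ha : a < T.m) (hp : ∀ i ∈ T.J a, g.N ≤ g.wl L (D.simple i)) :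
    Nat.card ↥(g.XS F (g.Sneg (L ++ T.ww a)) ⊓ T.FG) = Nat.card ↥(g.XS F (g.Sneg L) ⊓ T.FG) * Nat.card ↥(g.XS F (g.Sneg (T.ww a)) ⊓ T.FG) := by
  rw [← Nat.card_prod]
  symm
  have hz : g.XS F (g.Sneg (T.ww a)) ≤ g.XS F (g.Sneg (L ++ T.ww a)) := by
    refine g.XS_mono ?_
    rintro r hr ⟨h1, h2⟩
    exact ⟨h1, (T.inv_ww hL.1 ha hp hr h1).2 (Or.inl h2)⟩
  refine Nat.card_congr (Equiv.ofBijective (fun p : ↥(g.XS F (g.Sneg L) ⊓ T.FG) × ↥(g.XS F (g.Sneg (T.ww a)) ⊓ T.FG) =>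
    (⟨(T.nu a)⁻¹ * p.1 * T.nu a * p.2, Subgroup.mul_mem _ ⟨g.XS_mono (fun r _ h => h.1) (T.conj_nu hL ha hp p.1.2.1),
      Subgroup.mul_mem _ (Subgroup.mul_mem _ (Subgroup.inv_mem _ (T.nu_FG ha)) p.1.2.2) (T.nu_FG ha)⟩ ⟨hz p.2.2.1, p.2.2.2⟩⟩ :
        ↥(g.XS F (g.Sneg (L ++ T.ww a)) ⊓ T.FG))) ⟨?_, ?_⟩)
  · rintro ⟨⟨y, hy⟩, ⟨z, hz⟩⟩ ⟨⟨y', hy'⟩, ⟨z', hz'⟩⟩ h
    have h1 : (T.nu a)⁻¹ * y * T.nu a * z = (T.nu a)⁻¹ * y' * T.nu a * z' := congrArg Subtype.val h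
    have h2 : ((T.nu a)⁻¹ * y' * T.nu a)⁻¹ * ((T.nu a)⁻¹ * y * T.nu a) = z' * z⁻¹ := by
      have : ((T.nu a)⁻¹ * y' * T.nu a)⁻¹ * ((T.nu a)⁻¹ * y * T.nu a) =
        ((T.nu a)⁻¹ * y' * T.nu a)⁻¹ * ((T.nu a)⁻¹ * y * T.nu a * z) * z⁻¹ := by group
      rw [this, h1]; group
    have h3 := g.conj_map_XS (S := fun r => g.Sneg (L ++ T.ww a) r ∧ g.N ≤ g.wl (T.ww a) r) (T := fun r => g.N ≤ r) (T.ww_lt ha) (fun r _ h => h.2) _
      (Subgroup.mul_mem _ (Subgroup.inv_mem _ (T.conj_nu hL ha hp hy'.1)) (T.conj_nu hL ha hp hy.1))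
    have h4 := g.conj_map_XS (S := g.Sneg (T.ww a)) (T := fun r => r < g.N) (T.ww_lt ha) (fun r _ h => h.2) _
      (Subgroup.mul_mem _ hz'.1 (Subgroup.inv_mem _ hz.1))
    rw [← h2] at h4
    have h5 := g.UU_inf_VV h3 h4
    have h6 : z' * z⁻¹ = 1 := by
      rw [h2] at h5
      have : z' * z⁻¹ = (g.nl F (T.ww a))⁻¹ * (g.nl F (T.ww a) * (z' * z⁻¹) * (g.nl F (T.ww a))⁻¹) * g.nl F (T.ww a) := by group
      rw [this, h5]; group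
    have h7 : z' = z := mul_inv_eq_one.1 h6
    subst h7
    have h8 : y = y' := by
      have h9 : y = T.nu a * ((T.nu a)⁻¹ * y * T.nu a * z') * z'⁻¹ * (T.nu a)⁻¹ := by group
      rw [h9, h1]; group
    subst h8
    rfl
  · rintro ⟨x, hx⟩
    obtain ⟨y, hy, z, hz, he⟩ := T.split_ww hL ha hp hx
    exact ⟨(⟨y, hy⟩, ⟨z, hz⟩), Subtype.ext he.symm⟩

/-- generation by the orbits -/
theorem Sneg_le {P : Subgroup (GL D.Idx F)} (h1 : ∀ a < T.m, g.XS F (g.Sneg (T.ww a)) ⊓ T.FG ≤ P) (h2 : ∀ a < T.m, T.nu a ∈ P) :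
    ∀ L, T.Cm L → g.XS F (g.Sneg L) ⊓ T.FG ≤ P := by
  apply T.cm_induction (P := fun L => g.XS F (g.Sneg L) ⊓ T.FG ≤ P)
  · intro L L' _ _ h hL
    rw [← g.Sneg_congr h]; exact hL
  · have : g.XS F (g.Sneg []) = ⊥ := by
      rw [Good.XS, Subgroup.closure_eq_bot_iff]
      rintro x ⟨r, t, h1, h2, _⟩
      have h3 := h1.1
      have h4 : r < g.N := h1.2
      omega
    rw [this, bot_inf_eq]
    exact bot_le
  · intro L hL a ha hp hP x hx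
    obtain ⟨y, hy, z, hz, rfl⟩ := T.split_ww hL ha hp hx
    exact Subgroup.mul_mem _ (Subgroup.mul_mem _ (Subgroup.mul_mem _ (Subgroup.inv_mem _ (h2 a ha)) (hP hy)) (h2 a ha)) (h1 a ha hz)

theorem UU_eq_w0 : ∃ L, T.Cm L ∧ g.UU F = g.XS F (g.Sneg L) ∧ (∀ r < D.nroots, g.N ≤ r → g.wl L r < g.N) := by
  obtain ⟨L, hL, h⟩ := T.exists_w0
  refine ⟨L, hL, ?_, h⟩
  apply g.XS_congr
  intro r hr
  exact ⟨fun h1 => ⟨h1, h r hr h1⟩, fun h1 => h1.1⟩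

theorem UU_le {P : Subgroup (GL D.Idx F)} (h1 : ∀ a < T.m, g.XS F (g.Sneg (T.ww a)) ⊓ T.FG ≤ P) (h2 : ∀ a < T.m, T.nu a ∈ P) :
    g.UU F ⊓ T.FG ≤ P := by
  obtain ⟨L, hL, he, _⟩ := T.UU_eq_w0
  rw [he]
  exact T.Sneg_le h1 h2 L hL

/-- the fixed point group is generated by the orbit groups and the torus -/
theorem FG_gen {P : Subgroup (GL D.Idx F)} (h1 : ∀ a < T.m, g.XS F (g.Sneg (T.ww a)) ⊓ T.FG ≤ P) (h2 : ∀ a < T.m, T.nu a ∈ P)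
    (h3 : g.HH F ⊓ T.FG ≤ P) : T.FG ≤ P := by
  intro x hx
  obtain ⟨u, hu, L, hL, h, hh, hn, u', hu', rfl⟩ := T.fix_bruhat hx
  have hU := T.UU_le h1 h2
  obtain ⟨A, hA, k, hk, he⟩ := T.NN_fix ⟨Subgroup.mul_mem _ (g.HH_le_NN hh) (g.nl_mem hL.1), hn⟩
  rw [he]
  refine Subgroup.mul_mem _ (Subgroup.mul_mem _ (hU hu) (Subgroup.mul_mem _ (h3 hk) ?_)) (T.Sneg_le h1 h2 L hL hu')
  apply Subgroup.list_prod_mem
  intro z hz
  obtain ⟨a, ha, rfl⟩ := List.mem_map.1 hz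
  exact h2 a (hA a ha)

end Tw

end Chv
end CfsgH6
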