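import Cfsg.Agent.H6.Tw2

set_option autoImplicit false

/-! Twisted groups: weighted sums over the fixed points of the symmetry on the Weyl group. -/

namespace CfsgH6
namespace Chv

open Cfsg.Lie

variable {D : ChevalleyDatum}

namespace TwC

variable {g : Good D} (T : TwC g)
include T

def tP (a : ℕ) : Equiv.Perm (Fin D.nroots) := g.wP (T.ww a)

theorem tP_val {a : ℕ} (ha : a < T.m) (s : Fin D.nroots) : (T.tP a s : ℕ) = g.wl (T.ww a) s := g.wP_val (T.ww_lt ha) s

theorem tP_mul {a : ℕ} (ha : a < T.m) : T.tP a * T.tP a = 1 := by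
  ext s
  rw [Equiv.Perm.mul_apply, T.tP_val ha, T.tP_val ha, T.ww_inv a ha s s.2, Equiv.Perm.one_apply]

theorem tP_inv {a : ℕ} (ha : a < T.m) : (T.tP a)⁻¹ = T.tP a := by
  rw [inv_eq_iff_mul_eq_one, T.tP_mul ha]

theorem wP_tl (A : List ℕ) : g.wP (T.tl A) = (A.map T.tP).prod := by
  induction A with
  | nil => rw [T.tl_nil, g.wP_nil]; rfl
  | cons a A ih => rw [T.tl_cons, g.wP_append, ih, List.map_cons, List.prod_cons]; rfl

/-- parabolic subgroups of the fixed points -/
def TW (k : ℕ) : Subgroup (Equiv.Perm (Fin D.nroots)) where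
  carrier := {w | ∃ A : List ℕ, (∀ a ∈ A, a < T.m ∧ a < k) ∧ w = (A.map T.tP).prod}
  one_mem' := ⟨[], by simp, rfl⟩
  mul_mem' := by
    rintro _ _ ⟨A, hA, rfl⟩ ⟨B, hB, rfl⟩
    refine ⟨A ++ B, ?_, by rw [List.map_append, List.prod_append]⟩
    intro i hi
    rcases List.mem_append.1 hi with h | h
    · exact hA i h
    · exact hB i h
  inv_mem' := by
    rintro _ ⟨A, hA, rfl⟩
    refine ⟨A.reverse, fun i hi => hA i (List.mem_reverse.1 hi), ?_⟩
    induction A with
    | nil => simp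
    | cons a A ih =>
      rw [List.map_cons, List.prod_cons, mul_inv_rev, ih (fun b hb => hA b (by simp [hb])), T.tP_inv (hA a (by simp)).1, List.reverse_cons,
        List.map_append, List.prod_append]
      simp

theorem mem_TW {k : ℕ} {w : Equiv.Perm (Fin D.nroots)} : w ∈ T.TW k ↔ ∃ A : List ℕ, (∀ a ∈ A, a < T.m ∧ a < k) ∧ w = (A.map T.tP).prod := Iff.rfl

theorem TW_mono {k k' : ℕ} (h : k ≤ k') : T.TW k ≤ T.TW k' := by
  rintro _ ⟨L, hL, rfl⟩
  exact ⟨L, fun i hi => ⟨(hL i hi).1, lt_of_lt_of_le (hL i hi).2 h⟩, rfl⟩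

theorem TW_le {k : ℕ} : T.TW k ≤ T.TW T.m := by
  rintro _ ⟨L, hL, rfl⟩
  exact ⟨L, fun i hi => ⟨(hL i hi).1, (hL i hi).1⟩, rfl⟩

theorem tP_mem {a k : ℕ} (ha : a < T.m) (hk : a < k) : T.tP a ∈ T.TW k := ⟨[a], by simp [ha, hk], by simp⟩

theorem TW_zero : T.TW 0 = ⊥ := by
  rw [eq_bot_iff]
  rintro _ ⟨L, hL, rfl⟩
  cases L with
  | nil => exact Subgroup.one_mem _
  | cons i L => exact absurd (hL i (by simp)).2 (by omega)

theorem TW_word {k : ℕ} {w : Equiv.Perm (Fin D.nroots)} (hw : w ∈ T.TW k) : ∃ L, T.Cm L ∧ (∀ i ∈ L, i < D.rank ∧ ∃ a < T.m, a < k ∧ i ∈ T.J a) ∧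
    w = g.wP L := by
  obtain ⟨A, hA, rfl⟩ := hw
  refine ⟨T.tl A, T.tl_Cm fun a ha => (hA a ha).1, ?_, (T.wP_tl A).symm⟩
  intro i hi
  obtain ⟨l, hl, hil⟩ := List.mem_flatten.1 hi
  obtain ⟨a, ha, rfl⟩ := List.mem_map.1 hl
  have h1 := hA a ha
  exact ⟨T.ww_lt h1.1 i hil, a, h1.1, h1.2, T.ww_J a h1.1 i hil⟩

theorem TW_WJ {k : ℕ} {w : Equiv.Perm (Fin D.nroots)} (hw : w ∈ T.TW k) : w ∈ g.WJ D.rank := by
  obtain ⟨L, hL, _, rfl⟩ := T.TW_word hw
  exact ⟨L, fun i hi => ⟨hL.1 i hi, hL.1 i hi⟩, rfl⟩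

theorem wP_TW {k : ℕ} {L : List ℕ} (hL : T.Cm L) (h : ∀ i ∈ L, i < D.rank ∧ ∃ a < T.m, a < k ∧ i ∈ T.J a) : g.wP L ∈ T.TW k := by
  obtain ⟨A, hA, he⟩ := T.exists_tl _ L h hL rfl
  refine ⟨A, hA, ?_⟩
  rw [← T.wP_tl]
  ext s
  rw [g.wP_val hL.1, g.wP_val (T.tl_Cm fun a ha => (hA a ha).1).1, he s s.2]

theorem wP_TW' {L : List ℕ} (hL : T.Cm L) : g.wP L ∈ T.TW T.m := by
  apply T.wP_TW hL
  intro i hi
  obtain ⟨a, ha, h⟩ := T.J_cov i (hL.1 i hi)
  exact ⟨hL.1 i hi, a, ha, ha, h⟩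

/-- the action on weights of a word -/
def swl (g : Good D) : List ℕ → (ℕ → ℤ) → (ℕ → ℤ)
  | [], v => v
  | i :: L, v => g.sV i (swl g L v)

omit T in
theorem swl_congr {L : List ℕ} (hL : ∀ i ∈ L, i < D.rank) {v v' : ℕ → ℤ} (h : ∀ j < D.rank, v j = v' j) :
    ∀ j < D.rank, swl g L v j = swl g L v' j := by
  induction L with
  | nil => exact h
  | cons i L ih =>
    intro j hj
    exact g.sV_congr (ih fun k hk => hL k (by simp [hk])) (hL i (by simp)) hj

omit T in
theorem aV_wP {k : ℕ} {w : Equiv.Perm (Fin D.nroots)} (hw : w ∈ g.WJ k) {L : List ℕ} (hL : ∀ i ∈ L, i < D.rank) (v : ℕ → ℤ) :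
    ∀ j < D.rank, g.aV (g.wP L * w) v j = swl g L (g.aV w v) j := by
  have hw' : w ∈ g.WJ D.rank := by
    obtain ⟨L, hL, rfl⟩ := hw
    exact ⟨L, fun i hi => ⟨(hL i hi).1, (hL i hi).1⟩, rfl⟩
  induction L with
  | nil => intro j hj; rw [g.wP_nil, one_mul]; rfl
  | cons i L ih =>
    have h1 : ∀ j ∈ L, j < D.rank := fun j hj => hL j (by simp [hj])
    have hi := hL i (by simp)
    intro j hj
    have h2 : g.wP L * w ∈ g.WJ D.rank := Subgroup.mul_mem _ ⟨L, fun i hi => ⟨h1 i hi, h1 i hi⟩, rfl⟩ hw'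
    rw [g.wP_cons, mul_assoc, g.aV_mul h2 v hj, g.aV_sP hi _ hj, g.sV_congr (ih h1) hi hj]
    rfl

theorem aV_tP {k : ℕ} {w : Equiv.Perm (Fin D.nroots)} (hw : w ∈ T.TW k) {a : ℕ} (ha : a < T.m) (v : ℕ → ℤ) :
    ∀ j < D.rank, g.aV (T.tP a * w) v j = swl g (T.ww a) (g.aV w v) j := aV_wP (T.TW_WJ hw) (T.ww_lt ha) v

/-- the stabilizer of the last weight -/
theorem stab_mem {k : ℕ} {v : ℕ → ℤ} (hv : ∀ i < D.rank, v i = if i ∈ T.J k then 1 else 0) :
    ∀ m, ∀ L : List ℕ, T.Cm L → (∀ i ∈ L, i < D.rank ∧ ∃ a < T.m, a < k + 1 ∧ i ∈ T.J a) → g.cnt L = m →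
      (∀ r < D.nroots, g.pv v (g.wl L r) = g.pv v r) → g.wP L ∈ T.TW k := by
  intro m
  induction m using Nat.strong_induction_on with
  | _ m ih =>
    intro L hL hK hm hfix
    by_cases hall : ∀ j < D.rank, (∃ a < T.m, a < k + 1 ∧ j ∈ T.J a) → g.N ≤ g.wl L (D.simple j)
    · have : g.wP L = 1 := by
        ext s
        rw [g.wP_val hL.1, g.wl_id_K hK hall s.2, Equiv.Perm.one_apply]
      rw [this]
      exact Subgroup.one_mem _
    · push Not at hall
      obtain ⟨j, hj, ⟨a, ha, hak, hja⟩, hneg⟩ := hall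
      have hneg' : ∀ i ∈ T.J a, g.wl L (D.simple i) < g.N := by
        intro i hi
        by_contra hc
        push Not at hc
        have := (T.orb_sign hL ha hi hja).1 hc
        omega
      have hv0 : ∀ i ∈ T.J a, v i = 0 := by
        intro i hi
        have hi' := T.J_lt a ha i hi
        have h1 := hfix _ (g.simple_lt i hi')
        have h2 := g.pv_nonpos (g.wl_lt hL.1 (g.simple_lt i hi')) (hneg' i hi) (v := v) (by intro i hi; rw [hv i hi]; split_ifs <;> simp)
        rw [g.pv_simple hi'] at h1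
        have h3 := hv i hi'
        split_ifs at h3 <;> omega
      have hak' : a < k := by
        by_contra hc
        have hak2 : a = k := by omega
        subst hak2
        have h1 := hv0 j hja
        rw [hv j hj, if_pos hja] at h1
        omega
      have hL' : T.Cm (L ++ T.ww a) := T.Cm_append hL (T.ww_Cm ha)
      have hpos : ∀ i ∈ T.J a, g.N ≤ g.wl (L ++ T.ww a) (D.simple i) := by
        intro i hi
        obtain ⟨i', hi', h⟩ := T.ww_neg a ha i hi
        rw [g.wl_append, h, g.wl_neg hL.1 (g.simple_lt _ (T.J_lt a ha i' hi'))]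
        exact (g.neg_pos_iff (g.wl_lt hL.1 (g.simple_lt _ (T.J_lt a ha i' hi')))).2 (hneg' i' hi')
      have h1 := T.cnt_ww hL'.1 ha hpos
      have h2 : g.cnt (L ++ T.ww a ++ T.ww a) = g.cnt L := by
        apply T.cnt_congr
        intro s hs
        rw [g.wl_append, g.wl_append, T.ww_inv a ha s hs]
      have h3 := T.cnt_ww_pos ha
      -- the weight is fixed by `w_a`
      have hfixa : ∀ r < D.nroots, g.pv v (g.wl (T.ww a) r) = g.pv v r := by
        have key : ∀ M : List ℕ, (∀ i ∈ M, i < D.rank ∧ v i = 0) → ∀ r < D.nroots, g.pv v (g.wl M r) = g.pv v r := by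
          intro M
          induction M with
          | nil => intro _ r _; rfl
          | cons i M ihM =>
            intro hM r hr
            have h1 : ∀ j ∈ M, j < D.rank ∧ v j = 0 := fun j hj => hM j (by simp [hj])
            have hi := hM i (by simp)
            show g.pv v (g.w i (g.wl M r)) = _
            rw [g.pv_w hi.1 (g.wl_lt (fun j hj => (h1 j hj).1) hr), ← ihM h1 r hr]
            apply g.pv_congr
            intro j _
            unfold Good.sV
            rw [hi.2, zero_mul, sub_zero]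
        exact key _ fun i hi => ⟨T.ww_lt ha i hi, hv0 i (T.ww_J a ha i hi)⟩
      have h4 := ih (g.cnt (L ++ T.ww a)) (by omega) (L ++ T.ww a) hL' (by
        intro i hi
        rcases List.mem_append.1 hi with hi | hi
        · exact hK i hi
        · exact ⟨T.ww_lt ha i hi, a, ha, hak, T.ww_J a ha i hi⟩) rfl (by
        intro r hr
        rw [g.wl_append, hfix _ (g.wl_lt (T.ww_lt ha) hr), hfixa r hr])
      rw [g.wP_append] at h4
      have h5 := Subgroup.mul_mem _ h4 (T.tP_mem ha hak')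
      have h6 : g.wP L * g.wP (T.ww a) * T.tP a = g.wP L := by
        show g.wP L * T.tP a * T.tP a = _
        rw [mul_assoc, T.tP_mul ha, mul_one]
      rwa [h6] at h5

theorem stab_iff {k : ℕ} (hk : k < T.m) {v : ℕ → ℤ} (hv : ∀ i < D.rank, v i = if i ∈ T.J k then 1 else 0)
    (w : Equiv.Perm (Fin D.nroots)) : (w ∈ T.TW (k + 1) ∧ ∀ j < D.rank, g.aV w v j = v j) ↔ w ∈ T.TW k := by
  constructor
  · rintro ⟨hw, h⟩
    obtain ⟨L, hL, hK, rfl⟩ := T.TW_word hw
    apply T.stab_mem hv _ L hL hK rfl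
    intro r hr
    have h1 := g.pv_aV (T.TW_WJ hw) v (g.wP L ⟨r, hr⟩)
    rw [g.pv_congr h, ← Equiv.Perm.mul_apply, inv_mul_cancel, Equiv.Perm.one_apply, g.wP_val hL.1] at h1
    exact h1
  · intro hw
    refine ⟨T.TW_mono (by omega) hw, ?_⟩
    obtain ⟨A, hA, rfl⟩ := hw
    induction A with
    | nil =>
      intro j hj
      rw [List.map_nil, List.prod_nil, g.aV_one v hj]
    | cons a A ih =>
      have h1 : ∀ b ∈ A, b < T.m ∧ b < k := fun b hb => hA b (by simp [hb])
      have ha := hA a (by simp)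
      intro j hj
      rw [List.map_cons, List.prod_cons, T.aV_tP (k := k) ⟨A, h1, rfl⟩ ha.1 v j hj, swl_congr (T.ww_lt ha.1) (ih h1) j hj]
      -- the weight is fixed by `w_a`
      have hv0 : ∀ i ∈ T.ww a, v i = 0 := by
        intro i hi
        rw [hv i (T.ww_lt ha.1 i hi), if_neg]
        intro hk'
        have := T.J_disj a ha.1 k hk i (T.ww_J a ha.1 i hi) hk'
        omega
      have key : ∀ M : List ℕ, (∀ i ∈ M, i < D.rank ∧ v i = 0) → ∀ j < D.rank, swl g M v j = v j := by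
        intro M
        induction M with
        | nil => intro _ j _; rfl
        | cons i M ihM =>
          intro hM j hj
          have h1 : ∀ j ∈ M, j < D.rank ∧ v j = 0 := fun j hj => hM j (by simp [hj])
          have hi := hM i (by simp)
          show g.sV i (swl g M v) j = _
          rw [g.sV_congr (ihM h1) hi.1 hj]
          unfold Good.sV
          rw [hi.2, zero_mul, sub_zero]
      exact key _ (fun i hi => ⟨T.ww_lt ha.1 i hi, hv0 i hi⟩) j hj

end TwC

/-- a weight function on the fixed points of the Weyl group -/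
structure Wt {g : Good D} (T : TwC g) (Q : ℕ) (e : ℕ → ℕ) where
  c : Equiv.Perm (Fin D.nroots) → ℕ
  c1 : c 1 = 1
  cm : ∀ w ∈ T.TW T.m, ∀ a < T.m, (∀ i (hi : i < D.rank), i ∈ T.J a → g.N ≤ ((w ⟨D.simple i, g.simple_lt i hi⟩ : Fin D.nroots) : ℕ)) →
    c (w * T.tP a) = Q ^ e a * c w

namespace Wt

variable {g : Good D} {T : TwC g} {Q : ℕ} {e : ℕ → ℕ} (W : Wt T Q e)

open Classical in
noncomputable def SW (k : ℕ) : ℕ := ∑ w ∈ Finset.univ.filter (fun w => w ∈ T.TW k), W.c w⁻¹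

theorem SW_zero : W.SW 0 = 1 := by
  classical
  unfold SW
  have : Finset.univ.filter (fun w => w ∈ T.TW 0) = {1} := by
    ext w
    simp only [Finset.mem_filter, Finset.mem_univ, true_and, Finset.mem_singleton]
    rw [T.TW_zero, Subgroup.mem_bot]
  rw [Finset.sum_congr this (fun _ _ => rfl), Finset.sum_singleton, inv_one, W.c1]

end Wt

/-- an orbit certificate -/
structure OrbT {g : Good D} (T : TwC g) (e : ℕ → ℕ) (k len k0 : ℕ) (vec : ℕ → ℕ → ℤ) (dep : ℕ → ℕ) (nb : ℕ → ℕ → ℕ) : Prop where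
  hk : k < T.m
  k0_lt : k0 < len
  dep0 : dep k0 = 0
  vec0 : ∀ i < D.rank, vec k0 i = if i ∈ T.J k then 1 else 0
  nb_lt : ∀ m < len, ∀ a < k + 1, nb m a < len
  nb_vec : ∀ m < len, ∀ a < k + 1, ∀ j < D.rank, vec (nb m a) j = TwC.swl g (T.ww a) (vec m) j
  nb_dep : ∀ m < len, ∀ a < k + 1, (∀ i ∈ T.J a, 0 < vec m i) → dep (nb m a) = dep m + e a
  low : ∀ m < len, m ≠ k0 → ∃ a, a < k + 1 ∧ 0 < e a ∧ nb (nb m a) a = m ∧ ∀ i ∈ T.J a, 0 < vec (nb m a) i
  inj : ∀ m < len, ∀ m' < len, (∀ j < D.rank, vec m j = vec m' j) → m = m'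

open Classical in
/-- the sum over a fibre -/
noncomputable def fibT {g : Good D} {T : TwC g} {Q : ℕ} {e : ℕ → ℕ} (W : Wt T Q e) (k : ℕ) (v0 v : ℕ → ℤ) : ℕ :=
  ∑ w ∈ Finset.univ.filter (fun w => w ∈ T.TW (k + 1) ∧ ∀ j < D.rank, g.aV w v0 j = v j), W.c w⁻¹

section
variable {g : Good D} {T : TwC g} {Q : ℕ} {e : ℕ → ℕ} (W : Wt T Q e)
variable {k len k0 : ℕ} {vec : ℕ → ℕ → ℤ} {dep : ℕ → ℕ} {nb : ℕ → ℕ → ℕ} (C : OrbT T e k len k0 vec dep nb)
include C

theorem OrbT.exists_idx {A : List ℕ} (hA : ∀ a ∈ A, a < T.m ∧ a < k + 1) :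
    ∃ m < len, ∀ j < D.rank, g.aV ((A.map T.tP).prod) (vec k0) j = vec m j := by
  induction A with
  | nil => exact ⟨k0, C.k0_lt, fun j hj => by rw [List.map_nil, List.prod_nil, g.aV_one _ hj]⟩
  | cons a A ih =>
    have h1 : ∀ b ∈ A, b < T.m ∧ b < k + 1 := fun b hb => hA b (by simp [hb])
    have ha := hA a (by simp)
    obtain ⟨m, hm, h⟩ := ih h1
    refine ⟨nb m a, C.nb_lt m hm a ha.2, fun j hj => ?_⟩
    rw [List.map_cons, List.prod_cons, T.aV_tP (k := k + 1) ⟨A, h1, rfl⟩ ha.1 _ j hj, TwC.swl_congr (T.ww_lt ha.1) h j hj, C.nb_vec m hm a ha.2 j hj]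

theorem OrbT.swl_swl {a : ℕ} (ha : a < T.m) (v : ℕ → ℤ) : ∀ j < D.rank, TwC.swl g (T.ww a) (TwC.swl g (T.ww a) v) j = v j := by
  intro j hj
  have h1 : ∀ j < D.rank, g.aV (T.tP a * 1) v j = TwC.swl g (T.ww a) v j := by
    intro j hj
    rw [T.aV_tP (k := 0) (Subgroup.one_mem _) ha v j hj, TwC.swl_congr (T.ww_lt ha) (fun i hi => g.aV_one v hi) j hj]
  have h2 := T.aV_tP (k := T.m) (w := T.tP a * 1) (by rw [mul_one]; exact T.tP_mem ha ha) ha v j hj
  rw [TwC.swl_congr (T.ww_lt ha) h1 j hj, mul_one, T.tP_mul ha, g.aV_one v hj] at h2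
  exact h2.symm

theorem OrbT.fib_up {m a : ℕ} (hm : m < len) (ha : a < k + 1) (hpos : ∀ i ∈ T.J a, 0 < vec m i) :
    fibT W k (vec k0) (vec (nb m a)) = Q ^ e a * fibT W k (vec k0) (vec m) := by
  classical
  have ham : a < T.m := by have := C.hk; omega
  have hs := T.tP_mem ham ha
  have hv2 := C.nb_vec m hm a ha
  unfold fibT
  rw [Finset.mul_sum]
  symm
  refine Finset.sum_bij' (fun w _ => T.tP a * w) (fun w _ => T.tP a * w) ?_ ?_ ?_ ?_ ?_
  · intro w hw
    simp only [Finset.mem_filter, Finset.mem_univ, true_and] at hw ⊢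
    refine ⟨Subgroup.mul_mem _ hs hw.1, fun j hj => ?_⟩
    rw [T.aV_tP hw.1 ham _ j hj, TwC.swl_congr (T.ww_lt ham) hw.2 j hj, hv2 j hj]
  · intro w hw
    simp only [Finset.mem_filter, Finset.mem_univ, true_and] at hw ⊢
    refine ⟨Subgroup.mul_mem _ hs hw.1, fun j hj => ?_⟩
    rw [T.aV_tP hw.1 ham _ j hj, TwC.swl_congr (T.ww_lt ham) hw.2 j hj, TwC.swl_congr (T.ww_lt ham) hv2 j hj]
    exact OrbT.swl_swl C ham _ j hj
  · intro w _
    rw [← mul_assoc, T.tP_mul ham, one_mul]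
  · intro w _
    rw [← mul_assoc, T.tP_mul ham, one_mul]
  · intro w hw
    simp only [Finset.mem_filter, Finset.mem_univ, true_and] at hw
    rw [mul_inv_rev, T.tP_inv ham, W.cm _ (Subgroup.inv_mem _ (T.TW_le hw.1)) a ham]
    intro i hi hia
    by_contra hc
    push Not at hc
    have h2 := hw.2 i hi
    rw [Good.aV, dif_pos hi] at h2
    have h3 := g.pv_nonpos (Fin.is_lt _) hc (v := vec k0) (by intro j hj; rw [C.vec0 j hj]; split_ifs <;> simp)
    have h4 := hpos i hia
    omega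

theorem OrbT.fib_eq : ∀ n, ∀ m < len, dep m = n → fibT W k (vec k0) (vec m) = Q ^ n * fibT W k (vec k0) (vec k0) := by
  intro n
  induction n using Nat.strong_induction_on with
  | _ n ih =>
    intro m hm hd
    by_cases h0 : m = k0
    · subst h0
      rw [C.dep0] at hd
      rw [← hd, pow_zero, one_mul]
    · obtain ⟨a, ha, hea, hnn, hpos⟩ := C.low m hm h0
      have hm' := C.nb_lt m hm a ha
      have h3 := C.nb_dep _ hm' a ha hpos
      have h4 := C.fib_up W hm' ha hpos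
      rw [hnn] at h3 h4
      rw [h4, ih (dep (nb m a)) (by omega) _ hm' rfl, ← hd, h3, pow_add]
      ring

theorem OrbT.SW_succ : W.SW (k + 1) = (∑ m ∈ Finset.range len, Q ^ dep m) * W.SW k := by
  classical
  have h0 : fibT W k (vec k0) (vec k0) = W.SW k := by
    unfold fibT Wt.SW
    apply Finset.sum_congr _ (fun _ _ => rfl)
    ext w
    simp only [Finset.mem_filter, Finset.mem_univ, true_and]
    exact T.stab_iff C.hk C.vec0 w
  have hex : ∀ w, w ∈ T.TW (k + 1) → ∃ m < len, ∀ j < D.rank, g.aV w (vec k0) j = vec m j := by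
    rintro _ ⟨L, hL, rfl⟩
    exact C.exists_idx hL
  let f : Equiv.Perm (Fin D.nroots) → ℕ := fun w => if h : w ∈ T.TW (k + 1) then (hex w h).choose else 0
  have hf : ∀ w (h : w ∈ T.TW (k + 1)), f w < len ∧ ∀ j < D.rank, g.aV w (vec k0) j = vec (f w) j := by
    intro w h
    simp only [f]
    rw [dif_pos h]
    exact (hex w h).choose_spec
  rw [Finset.sum_mul]
  have h1 : W.SW (k + 1) = ∑ m ∈ Finset.range len, ∑ w ∈ (Finset.univ.filter (fun w => w ∈ T.TW (k + 1))).filter (fun w => f w = m), W.c w⁻¹ := by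
    unfold Wt.SW
    symm
    apply Finset.sum_fiberwise_of_maps_to
    intro w hw
    rw [Finset.mem_range]
    exact (hf w (Finset.mem_filter.1 hw).2).1
  rw [h1]
  apply Finset.sum_congr rfl
  intro m hm
  have hm' := Finset.mem_range.1 hm
  rw [← h0, ← C.fib_eq W (dep m) m hm' rfl]
  unfold fibT
  apply Finset.sum_congr _ (fun _ _ => rfl)
  ext w
  simp only [Finset.mem_filter, Finset.mem_univ, true_and]
  constructor
  · rintro ⟨hw, rfl⟩
    exact ⟨hw, (hf w hw).2⟩
  · rintro ⟨hw, h⟩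
    refine ⟨hw, ?_⟩
    apply C.inj _ (hf w hw).1 _ hm'
    intro j hj
    rw [← (hf w hw).2 j hj, h j hj]

end

/-! ### certificates -/

def swV (A : List (List ℤ)) (l : ℕ) : List ℕ → List ℤ → List ℤ
  | [], v => v
  | i :: L, v => let v' := swV A l L v
    (List.range l).map fun j => v'.getD j 0 - v'.getD i 0 * (A.getD j []).getD i 0

theorem getD_range_mapT (f : ℕ → ℤ) {n j : ℕ} (hj : j < n) : ((List.range n).map f).getD j 0 = f j := by
  rw [List.getD_eq_getElem _ _ (by simpa using hj)]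
  simp

theorem swV_spec {g : Good D} {A : List (List ℤ)} (hA : ∀ j < D.rank, ∀ i < D.rank, (A.getD j []).getD i 0 = D.cartan j (D.simple i))
    {L : List ℕ} (hL : ∀ i ∈ L, i < D.rank) (v : List ℤ) :
    ∀ j < D.rank, (swV A D.rank L v).getD j 0 = TwC.swl g L (fun j => v.getD j 0) j := by
  induction L with
  | nil => intro j _; rfl
  | cons i L ih =>
    intro j hj
    have h1 : ∀ j ∈ L, j < D.rank := fun j hj => hL j (by simp [hj])
    have hi := hL i (by simp)
    show ((List.range D.rank).map fun j => _).getD j 0 = g.sV i _ j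
    rw [getD_range_mapT _ hj]
    unfold Good.sV
    rw [ih h1 j hj, ih h1 i hi, hA j hj i hi]

def tN (A : List (List ℤ)) (l k : ℕ) (Js Ws : List (List ℕ)) (es : List ℕ) (O : List OEt) (e : OEt) : Bool :=
  (List.range (k + 1)).all fun a =>
    decide (e.2.2.getD a 0 < O.length) &&
    (let e' := O.getD (e.2.2.getD a 0) eD
     (List.range l).all (fun j => decide (e'.1.getD j 0 = (swV A l (Ws.getD a []) e.1).getD j 0)) &&
      (!((Js.getD a []).all fun i => decide (0 < e.1.getD i 0)) || decide (e'.2.1 = e.2.1 + es.getD a 0)))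

def tLo (k k0 : ℕ) (Js : List (List ℕ)) (es : List ℕ) (O : List OEt) : ℕ → List OEt → Bool
  | _, [] => true
  | m, e :: O' => (decide (m = k0) || (List.range (k + 1)).any fun a => decide (0 < es.getD a 0) &&
      (decide ((O.getD (e.2.2.getD a 0) eD).2.2.getD a 0 = m) &&
        (Js.getD a []).all fun i => decide (0 < (O.getD (e.2.2.getD a 0) eD).1.getD i 0))) && tLo k k0 Js es O (m + 1) O'

def tO (A : List (List ℤ)) (l k m k0 : ℕ) (Js Ws : List (List ℕ)) (es : List ℕ) (O : List OEt) : Bool :=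
  decide (k < m) && decide (k0 < O.length) && decide ((O.getD k0 eD).2.1 = 0) &&
  (List.range l).all (fun i => decide ((O.getD k0 eD).1.getD i 0 = if (Js.getD k []).contains i then 1 else 0)) &&
  O.all (fun e => decide (e.1.length = l)) && O.all (tN A l k Js Ws es O) && tLo k k0 Js es O 0 O && oS O

theorem tLo_spec {k k0 : ℕ} {Js : List (List ℕ)} {es : List ℕ} {O : List OEt} : ∀ (O' : List OEt) (n : ℕ), tLo k k0 Js es O n O' = true →
    ∀ m < O'.length, n + m ≠ k0 → ∃ a < k + 1, 0 < es.getD a 0 ∧ (O.getD ((O'.getD m eD).2.2.getD a 0) eD).2.2.getD a 0 = n + m ∧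
      ∀ i ∈ Js.getD a [], 0 < (O.getD ((O'.getD m eD).2.2.getD a 0) eD).1.getD i 0 := by
  intro O'
  induction O' with
  | nil => intro n _ m hm; simp at hm
  | cons x O' ih =>
    intro n h m hm hne
    rw [tLo, Bool.and_eq_true, Bool.or_eq_true, decide_eq_true_eq] at h
    obtain ⟨h1, h2⟩ := h
    cases m with
    | zero =>
      rcases h1 with h1 | h1
      · exact absurd h1 hne
      · simp only [List.any_eq_true, List.mem_range, Bool.and_eq_true, decide_eq_true_eq, List.all_eq_true] at h1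
        obtain ⟨a, ha, h3, h4, h5⟩ := h1
        exact ⟨a, ha, h3, h4, h5⟩
    | succ m =>
      rw [List.getD_cons_succ]
      have := ih (n + 1) h2 m (by simpa using hm) (by omega)
      rwa [show n + 1 + m = n + (m + 1) by ring] at this

theorem tO_spec {g : Good D} {T : TwC g} {A : List (List ℤ)} {k k0 : ℕ} {Js Ws : List (List ℕ)} {es : List ℕ} {O : List OEt}
    (hA : ∀ j < D.rank, ∀ i < D.rank, (A.getD j []).getD i 0 = D.cartan j (D.simple i))
    (hJ : ∀ a < T.m, T.J a = Js.getD a []) (hW : ∀ a < T.m, T.ww a = Ws.getD a []) (h : tO A D.rank k T.m k0 Js Ws es O = true) :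
    OrbT T (fun a => es.getD a 0) k O.length k0 (fun m j => (O.getD m eD).1.getD j 0) (fun m => (O.getD m eD).2.1) (fun m i => (O.getD m eD).2.2.getD i 0) := by
  unfold tO at h
  simp only [Bool.and_eq_true, decide_eq_true_eq, List.all_eq_true, List.mem_range] at h
  obtain ⟨⟨⟨⟨⟨⟨⟨h1, h2⟩, h3⟩, h4⟩, h5⟩, h6⟩, h7⟩, h8⟩ := h
  have hN : ∀ m < O.length, ∀ a < k + 1, (O.getD m eD).2.2.getD a 0 < O.length ∧
      (∀ j < D.rank, (O.getD ((O.getD m eD).2.2.getD a 0) eD).1.getD j 0 = (swV A D.rank (Ws.getD a []) (O.getD m eD).1).getD j 0) ∧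
      ((∀ i ∈ Js.getD a [], 0 < (O.getD m eD).1.getD i 0) → (O.getD ((O.getD m eD).2.2.getD a 0) eD).2.1 = (O.getD m eD).2.1 + es.getD a 0) := by
    intro m hm i hi
    have := h6 _ (getD_mem hm)
    unfold tN at this
    rw [List.all_eq_true] at this
    have h9 := this i (List.mem_range.2 hi)
    simp only [Bool.and_eq_true, decide_eq_true_eq, List.all_eq_true, List.mem_range, Bool.or_eq_true, Bool.not_eq_true'] at h9
    refine ⟨h9.1, h9.2.1, fun h10 => ?_⟩
    rcases h9.2.2 with h11 | h11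
    · exfalso
      have h12 : ((Js.getD i []).all fun i => decide (0 < (O.getD m eD).1.getD i 0)) = true := by
        rw [List.all_eq_true]; intro x hx; rw [decide_eq_true_eq]; exact h10 x hx
      rw [h12] at h11
      exact absurd h11 (by simp)
    · exact h11
  refine ⟨h1, h2, h3, ?_, ?_, ?_, ?_, ?_, ?_⟩
  · intro i hi
    have := h4 i hi
    simp only [List.contains_iff_mem] at this
    rw [hJ k h1]
    exact this
  · intro m hm i hi; exact (hN m hm i hi).1
  · intro m hm a ha j hj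
    have ham : a < T.m := by omega
    have h9 := (hN m hm a ha).2.1 j hj
    rw [← hW a ham, swV_spec (g := g) hA (T.ww_lt ham) _ j hj] at h9
    exact h9
  · intro m hm a ha hp
    rw [hJ a (by omega)] at hp
    exact (hN m hm a ha).2.2 hp
  · intro m hm hne
    obtain ⟨a, ha, h9, h10, h11⟩ := tLo_spec O 0 h7 m hm (by simpa using hne)
    rw [zero_add] at h10
    refine ⟨a, ha, h9, h10, ?_⟩
    intro i hi
    rw [hJ a (by omega)] at hi
    exact h11 i hi
  · intro m hm m' hm' he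
    have hv : (O.getD m eD).1 = (O.getD m' eD).1 := by
      apply list_ext_getD
      · rw [h5 _ (getD_mem hm), h5 _ (getD_mem hm')]
      · intro j hj
        rw [h5 _ (getD_mem hm)] at hj
        exact he j hj
    rcases lt_trichotomy m m' with h9 | h9 | h9
    · have := oS_spec O h8 m m' h9 hm'
      rw [hv] at this; exact absurd this (lt_irrefl _)
    · exact h9
    · have := oS_spec O h8 m' m h9 hm
      rw [hv] at this; exact absurd this (lt_irrefl _)

def tOs (A : List (List ℤ)) (l m : ℕ) (Js Ws : List (List ℕ)) (es : List ℕ) : List (ℕ × List OEt) → Bool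
  | [] => true
  | (k0, O) :: Os => tO A l Os.length m k0 Js Ws es O && tOs A l m Js Ws es Os

theorem Wt.SW_eq {g : Good D} {T : TwC g} {A : List (List ℤ)} {Js Ws : List (List ℕ)} {es : List ℕ} {Q : ℕ} (W : Wt T Q (fun a => es.getD a 0))
    (hA : ∀ j < D.rank, ∀ i < D.rank, (A.getD j []).getD i 0 = D.cartan j (D.simple i))
    (hJ : ∀ a < T.m, T.J a = Js.getD a []) (hW : ∀ a < T.m, T.ww a = Ws.getD a []) :
    ∀ Os : List (ℕ × List OEt), tOs A D.rank T.m Js Ws es Os = true → ((W.SW Os.length : ℕ) : ℤ) = hev (polyOs Os) Q := by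
  intro Os
  induction Os with
  | nil => intro _; rw [List.length_nil, W.SW_zero]; simp [polyOs, hev_cons, hev_nil]
  | cons p Os ih =>
    obtain ⟨k0, O⟩ := p
    intro h
    rw [tOs, Bool.and_eq_true] at h
    have C := tO_spec hA hJ hW h.1
    rw [List.length_cons, C.SW_succ W, polyOs, hev_mulP, ← ih h.2, hev_mkP, ← sum_getD (fun e => (Q : ℤ) ^ e.2.1) eD]
    push_cast
    rfl

end Chv
end CfsgH6
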