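import Cfsg.Agent.H6.Tw3
import Cfsg.Agent.H6.ChP2

set_option autoImplicit false

/-! Twisted groups: orders and (B,N)-pairs. -/

namespace CfsgH6
namespace Chv

open Cfsg.Lie

variable {D : ChevalleyDatum}

namespace Tw

variable {g : Good D} {F : Type*} [Field F] (T : Tw g F)
include T

theorem BB_fix {x : GL D.Idx F} (hx : x ∈ g.BB F ⊓ T.FG) : ∃ u ∈ g.UU F ⊓ T.FG, ∃ h ∈ g.HH F ⊓ T.FG, x = u * h := by
  obtain ⟨⟨u, hu, h, hh, he⟩, hG, hf⟩ := hx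
  have huG := g.UU_le_GG hu
  have hhG := g.HH_le_GG hh
  rw [he, T.ff_mul huG hhG] at hf
  have h1 : u⁻¹ * T.ff u = h * (T.ff h)⁻¹ := by
    have : u⁻¹ * T.ff u = u⁻¹ * (T.ff u * T.ff h) * (T.ff h)⁻¹ := by group
    rw [this, hf]; group
  have h2 : u⁻¹ * T.ff u ∈ g.UU F ⊓ g.HH F :=
    ⟨Subgroup.mul_mem _ (Subgroup.inv_mem _ hu) (T.ff_UU hu), by rw [h1]; exact Subgroup.mul_mem _ hh (Subgroup.inv_mem _ (T.ff_HH hh))⟩
  rw [g.UU_inf_HH, Subgroup.mem_bot] at h2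
  have h3 : T.ff u = u := (inv_mul_eq_one.1 h2).symm
  rw [h2] at h1
  have h4 : T.ff h = h := (mul_inv_eq_one.1 h1.symm).symm
  exact ⟨u, ⟨hu, huG, h3⟩, h, ⟨hh, hhG, h4⟩, he⟩

theorem card_BBF : Nat.card ↥(g.BB F ⊓ T.FG) = Nat.card ↥(g.UU F ⊓ T.FG) * Nat.card ↥(g.HH F ⊓ T.FG) := by
  rw [← Nat.card_prod]
  symm
  refine Nat.card_congr (Equiv.ofBijective (fun p : ↥(g.UU F ⊓ T.FG) × ↥(g.HH F ⊓ T.FG) =>
    (⟨p.1 * p.2, ⟨Subgroup.mul_mem _ (g.UU_le_BB p.1.2.1) (g.HH_le_BB p.2.2.1), Subgroup.mul_mem _ p.1.2.2 p.2.2.2⟩⟩ : ↥(g.BB F ⊓ T.FG))) ⟨?_, ?_⟩)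
  · rintro ⟨⟨u, hu⟩, ⟨h, hh⟩⟩ ⟨⟨u', hu'⟩, ⟨h', hh'⟩⟩ he
    have h1 : u * h = u' * h' := congrArg Subtype.val he
    have h2 : u'⁻¹ * u = h' * h⁻¹ := by
      calc u'⁻¹ * u = u'⁻¹ * (u * h) * h⁻¹ := by group
        _ = _ := by rw [h1]; group
    have h3 : u'⁻¹ * u ∈ g.UU F ⊓ g.HH F :=
      ⟨Subgroup.mul_mem _ (Subgroup.inv_mem _ hu'.1) hu.1, by rw [h2]; exact Subgroup.mul_mem _ hh'.1 (Subgroup.inv_mem _ hh.1)⟩
    rw [g.UU_inf_HH, Subgroup.mem_bot] at h3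
    have h4 : u' = u := inv_mul_eq_one.1 h3
    rw [h3] at h2
    have h5 : h' = h := mul_inv_eq_one.1 h2.symm
    subst h4; subst h5; rfl
  · rintro ⟨x, hx⟩
    obtain ⟨u, hu, h, hh, he⟩ := T.BB_fix hx
    exact ⟨(⟨u, hu⟩, ⟨h, hh⟩), Subtype.ext he.symm⟩

theorem Sneg_le_UU (L : List ℕ) : g.XS F (g.Sneg L) ≤ g.UU F := g.XS_mono (fun _ _ h => h.1)

open Classical in
/-- the order of the fixed point group of an element of the Weyl group -/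
noncomputable def cw (w : Equiv.Perm (Fin D.nroots)) : ℕ :=
  Nat.card ↥(g.XS F (fun r => g.N ≤ r ∧ ∃ h : r < D.nroots, ((w ⟨r, h⟩ : Fin D.nroots) : ℕ) < g.N) ⊓ T.FG)

theorem cw_wP {L : List ℕ} (hL : ∀ i ∈ L, i < D.rank) : T.cw (g.wP L) = Nat.card ↥(g.XS F (g.Sneg L) ⊓ T.FG) := by
  unfold cw
  have : g.XS F (fun r => g.N ≤ r ∧ ∃ h : r < D.nroots, ((g.wP L ⟨r, h⟩ : Fin D.nroots) : ℕ) < g.N) = g.XS F (g.Sneg L) := by
    apply g.XS_congr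
    intro r hr
    constructor
    · rintro ⟨h1, h, h2⟩
      rw [g.wP_val hL] at h2
      exact ⟨h1, h2⟩
    · rintro ⟨h1, h2⟩
      exact ⟨h1, hr, by rw [g.wP_val hL]; exact h2⟩
  rw [this]

theorem card_Sneg_nil : Nat.card ↥(g.XS F (g.Sneg []) ⊓ T.FG) = 1 := by
  have : g.XS F (g.Sneg []) = ⊥ := by
    rw [Good.XS, Subgroup.closure_eq_bot_iff]
    rintro x ⟨r, t, h1, h2, _⟩
    have h3 := h1.1
    have h4 : r < g.N := h1.2
    omega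
  rw [this, bot_inf_eq, Subgroup.card_bot]

/-- weights from the orders of the fixed points -/
noncomputable def wt {Q : ℕ} {e : ℕ → ℕ} (hc : ∀ a < T.m, Nat.card ↥(g.XS F (g.Sneg (T.ww a)) ⊓ T.FG) = Q ^ e a) : Wt T.toTwC Q e where
  c := T.cw
  c1 := by rw [← g.wP_nil, T.cw_wP (by simp), T.card_Sneg_nil]
  cm := by
    intro w hw a ha hp
    obtain ⟨L, hL, _, rfl⟩ := T.TW_word hw
    have h1 : g.wP L * T.tP a = g.wP (L ++ T.ww a) := by rw [g.wP_append]; rfl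
    rw [h1, T.cw_wP (T.Cm_append hL (T.ww_Cm ha)).1, T.cw_wP hL.1, T.card_split hL ha ?_, hc a ha, mul_comm]
    intro i hi
    have := hp i (T.J_lt a ha i hi) hi
    rwa [g.wP_val hL.1] at this

theorem card_FG [Fintype F] {Q : ℕ} {e : ℕ → ℕ} (hc : ∀ a < T.m, Nat.card ↥(g.XS F (g.Sneg (T.ww a)) ⊓ T.FG) = Q ^ e a) :
    Nat.card ↥T.FG = Nat.card ↥(g.BB F ⊓ T.FG) * (T.wt hc).SW T.m := by
  classical
  let W := T.TW T.m
  have hW : ∀ w : W, ∃ A : List ℕ, (∀ a ∈ A, a < T.m) ∧ (w : Equiv.Perm (Fin D.nroots)) = g.wP (T.tl A) := by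
    rintro ⟨_, A, hA, rfl⟩
    exact ⟨A, fun i hi => (hA i hi).1, (T.wP_tl A).symm⟩
  choose A hA hAe using hW
  have hv : ∀ w : W, ∀ i ∈ T.tl (A w), i < D.rank := fun w => (T.tl_Cm (hA w)).1
  have hk : ∀ w : W, ∃ k ∈ g.HH F, T.nuL (A w) = k * g.nl F (T.tl (A w)) := fun w => T.nuL_w (hA w)
  have hnN : ∀ w : W, T.nuL (A w) ∈ g.NN F := by
    intro w
    obtain ⟨k, hk, he⟩ := hk w
    rw [he]
    exact Subgroup.mul_mem _ (g.HH_le_NN hk) (g.nl_mem (hv w))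
  let ψ : (Σ w : W, ↥(g.BB F ⊓ T.FG) × ↥(g.XS F (g.Sneg (T.tl (A w))) ⊓ T.FG)) → ↥T.FG := fun p =>
    ⟨(p.2.1 : GL D.Idx F) * T.nuL (A p.1) * (p.2.2 : GL D.Idx F),
      Subgroup.mul_mem _ (Subgroup.mul_mem _ p.2.1.2.2 (T.nuL_FG (hA p.1))) p.2.2.2.2⟩
  have hu : ∀ L, g.XS F (g.Sneg L) ≤ g.BB F := fun L => (T.Sneg_le_UU L).trans g.UU_le_BB
  have hψ : Function.Bijective ψ := by
    constructor
    · rintro ⟨w, b, u⟩ ⟨w', b', u'⟩ h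
      have h1 : (b : GL D.Idx F) * T.nuL (A w) * (u : GL D.Idx F) = b' * T.nuL (A w') * u' := congrArg Subtype.val h
      have h2 := g.bruhat_unique_coset b.2.1 b'.2.1 (hnN w) (hnN w') (hu _ u.2.1) (hu _ u'.2.1) h1
      have h3 : w = w' := by
        apply Subtype.ext
        rw [hAe w, hAe w']
        ext s
        rw [g.wP_val (hv w), g.wP_val (hv w')]
        obtain ⟨k', hk', he'⟩ := hk w'
        obtain ⟨k, hk, he⟩ := hk w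
        have h4 : g.nl F (T.tl (A w')) = (k'⁻¹ * (T.nuL (A w) * ((T.nuL (A w))⁻¹ * T.nuL (A w')) * (T.nuL (A w))⁻¹) * k) * g.nl F (T.tl (A w)) := by
          have : k * g.nl F (T.tl (A w)) = T.nuL (A w) := he.symm
          calc g.nl F (T.tl (A w')) = k'⁻¹ * (k' * g.nl F (T.tl (A w'))) := by group
            _ = k'⁻¹ * T.nuL (A w') := by rw [he']
            _ = (k'⁻¹ * (T.nuL (A w) * ((T.nuL (A w))⁻¹ * T.nuL (A w')) * (T.nuL (A w))⁻¹)) * T.nuL (A w) := by group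
            _ = _ := by rw [← this]; group
        refine (g.wl_eq_of_nl (hv w') (hv w) ?_ h4 s.2).symm
        exact Subgroup.mul_mem _ (Subgroup.mul_mem _ (Subgroup.inv_mem _ hk') (g.NN_HH (hnN w) h2)) hk
      subst h3
      obtain ⟨k, hk, he⟩ := hk w
      rw [he] at h1
      have h5 := g.bruhat_unique (hv w) hk b.2.1 b'.2.1 u.2.1 u'.2.1 h1
      have h6 : b = b' := Subtype.ext h5.1
      have h7 : u = u' := Subtype.ext h5.2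
      rw [h6, h7]
    · rintro ⟨x, hx⟩
      obtain ⟨y, hy, L, hL, h, hh, hn, u, hu', rfl⟩ := T.fix_bruhat hx
      let w : W := ⟨g.wP L, T.wP_TW' hL⟩
      have hwl : ∀ s < D.nroots, g.wl L s = g.wl (T.tl (A w)) s := by
        intro s hs
        have h1 := hAe w
        have h2 := congrArg (fun p : Equiv.Perm (Fin D.nroots) => ((p ⟨s, hs⟩ : Fin D.nroots) : ℕ)) h1
        rw [g.wP_val (hv w)] at h2
        rw [← h2, ← g.wP_val hL.1 ⟨s, hs⟩]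
      have h3 := g.nl_of_wl_eq (F := F) hL.1 (hv w) hwl
      obtain ⟨k, hk, he⟩ := hk w
      have h4 : (h * g.nl F L) * (T.nuL (A w))⁻¹ ∈ g.HH F ⊓ T.FG := by
        refine ⟨?_, Subgroup.mul_mem _ hn (Subgroup.inv_mem _ (T.nuL_FG (hA w)))⟩
        have : (h * g.nl F L) * (T.nuL (A w))⁻¹ = h * (g.nl F L * (g.nl F (T.tl (A w)))⁻¹) * k⁻¹ := by rw [he]; group
        rw [this]
        exact Subgroup.mul_mem _ (Subgroup.mul_mem _ hh h3) (Subgroup.inv_mem _ hk)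
      refine ⟨⟨w, ⟨y * ((h * g.nl F L) * (T.nuL (A w))⁻¹), Subgroup.mul_mem _ (g.UU_le_BB hy.1) (g.HH_le_BB h4.1), Subgroup.mul_mem _ hy.2 h4.2⟩,
        ⟨u, by rw [← g.Sneg_congr hwl]; exact hu'⟩⟩, ?_⟩
      apply Subtype.ext
      show y * ((h * g.nl F L) * (T.nuL (A w))⁻¹) * T.nuL (A w) * u = y * (h * g.nl F L) * u
      group
  haveI hfin : Finite (GL D.Idx F) := inferInstance
  rw [← Nat.card_congr (Equiv.ofBijective ψ hψ), Nat.card_sigma]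
  have e1 : ∀ w : W, Nat.card (↥(g.BB F ⊓ T.FG) × ↥(g.XS F (g.Sneg (T.tl (A w))) ⊓ T.FG)) = Nat.card ↥(g.BB F ⊓ T.FG) * T.cw (w : Equiv.Perm (Fin D.nroots)) := by
    intro w
    rw [Nat.card_prod, hAe w, T.cw_wP (hv w)]
  rw [Finset.sum_congr rfl (fun w _ => e1 w), ← Finset.mul_sum]
  congr 1
  unfold Wt.SW
  rw [Finset.sum_subtype (p := fun w => w ∈ T.TW T.m) (Finset.univ.filter (fun w => w ∈ T.TW T.m)) (by simp)
    (fun w => (T.wt hc).c w⁻¹)]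
  exact (Equiv.sum_comp (Equiv.inv W) (fun w : W => T.cw (w : Equiv.Perm (Fin D.nroots)))).symm

/-- orders of the fixed points in the unipotent groups -/
theorem card_Sneg {Q d : ℕ} {e : ℕ → ℕ} (hc : ∀ a < T.m, Nat.card ↥(g.XS F (g.Sneg (T.ww a)) ⊓ T.FG) = Q ^ e a) (he : ∀ a < T.m, d * e a = g.cnt (T.ww a)) :
    ∀ L, T.Cm L → ∃ n, d * n = g.cnt L ∧ Nat.card ↥(g.XS F (g.Sneg L) ⊓ T.FG) = Q ^ n := by
  apply T.cm_induction (P := fun L => ∃ n, d * n = g.cnt L ∧ Nat.card ↥(g.XS F (g.Sneg L) ⊓ T.FG) = Q ^ n)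
  · rintro L L' _ _ h ⟨n, h1, h2⟩
    exact ⟨n, by rw [h1, T.cnt_congr h], by rw [← g.Sneg_congr h]; exact h2⟩
  · refine ⟨0, ?_, by rw [T.card_Sneg_nil, pow_zero]⟩
    rw [mul_zero, ← g.ln_wP (by simp), g.wP_nil, g.ln_one]
  · rintro L hL a ha hp ⟨n, h1, h2⟩
    exact ⟨n + e a, by rw [T.cnt_ww hL.1 ha hp, mul_add, h1, he a ha], by rw [T.card_split hL ha hp, h2, hc a ha, pow_add]⟩

theorem card_UUF {Q d : ℕ} {e : ℕ → ℕ} (hc : ∀ a < T.m, Nat.card ↥(g.XS F (g.Sneg (T.ww a)) ⊓ T.FG) = Q ^ e a) (he : ∀ a < T.m, d * e a = g.cnt (T.ww a)) :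
    ∃ n, d * n = g.N ∧ Nat.card ↥(g.UU F ⊓ T.FG) = Q ^ n := by
  obtain ⟨L, hL, hU, hn⟩ := T.UU_eq_w0
  obtain ⟨n, h1, h2⟩ := T.card_Sneg hc he L hL
  refine ⟨n, ?_, by rw [hU]; exact h2⟩
  rw [h1]
  unfold Good.cnt
  rw [Finset.filter_true_of_mem, Nat.card_Ico, g.hN]
  · omega
  · intro r hr
    have := Finset.mem_Ico.1 hr
    exact hn r this.2 this.1

/-! ### the (B,N)-pair -/

omit T in
theorem bn_word {K : ℕ → Prop} {x : GL D.Idx F} (hx : x ∈ g.NN F) {b : GL D.Idx F} (hb : b ∈ g.BB F) : ∀ L : List ℕ, (∀ i ∈ L, i < D.rank ∧ K i) →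
    ∃ L' : List ℕ, (∀ i ∈ L', i < D.rank ∧ K i) ∧ ∃ b1 ∈ g.BB F, ∃ b2 ∈ g.BB F, g.nl F L * b * x = b1 * (g.nl F L' * x) * b2 := by
  intro L
  induction L with
  | nil => intro _; exact ⟨[], by simp, b, hb, 1, Subgroup.one_mem _, by rw [g.nl_nil]; group⟩
  | cons i L ih =>
    intro hL
    obtain ⟨L', hL', b1, h1, b2, h2, he⟩ := ih fun j hj => hL j (by simp [hj])
    have hi := hL i (by simp)
    have hN : g.nl F L' * x ∈ g.NN F := Subgroup.mul_mem _ (g.nl_mem fun j hj => (hL' j hj).1) hx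
    obtain ⟨b3, h3, b4, h4, h5⟩ := g.bn3 hi.1 hN h1
    have e1 : g.nl F (i :: L) * b * x = (g.nn i * b1 * (g.nl F L' * x)) * b2 := by
      rw [g.nl_cons]
      have : g.nn i * g.nl F L * b * x = g.nn i * (g.nl F L * b * x) := by group
      rw [this, he]; group
    rcases h5 with h5 | h5
    · refine ⟨i :: L', ?_, b3, h3, b4 * b2, Subgroup.mul_mem _ h4 h2, ?_⟩
      · intro j hj
        rcases List.mem_cons.1 hj with rfl | hj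
        · exact hi
        · exact hL' j hj
      · rw [e1, h5, g.nl_cons]; group
    · refine ⟨L', hL', b3, h3, b4 * b2, Subgroup.mul_mem _ h4 h2, ?_⟩
      rw [e1, h5]; group

/-- the double coset condition -/
theorem bn3T {a : ℕ} (ha : a < T.m) {n b : GL D.Idx F} (hn : n ∈ g.NN F ⊓ T.FG) (hb : b ∈ g.BB F ⊓ T.FG) :
    ∃ b1 ∈ g.BB F ⊓ T.FG, ∃ b2 ∈ g.BB F ⊓ T.FG, T.nu a * b * n = b1 * (T.nu a * n) * b2 ∨ T.nu a * b * n = b1 * n * b2 := by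
  obtain ⟨k, hk, hke⟩ := T.nu_w a ha
  obtain ⟨L', hL', b1, h1, b2, h2, he⟩ := bn_word (g := g) (K := fun i => i ∈ T.J a) hn.1 hb.1 (T.ww a) (fun i hi => ⟨T.ww_lt ha i hi, T.ww_J a ha i hi⟩)
  have hF : T.nu a * b * n ∈ T.FG := Subgroup.mul_mem _ (Subgroup.mul_mem _ (T.nu_FG ha) hb.2) hn.2
  obtain ⟨u, hu, L, hL, h, hh, hn1, u', hu', he'⟩ := T.fix_bruhat hF
  have hL'' : ∀ i ∈ L', i < D.rank := fun i hi => (hL' i hi).1
  obtain ⟨n1, hn1e⟩ : ∃ n1, n1 = h * g.nl F L := ⟨_, rfl⟩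
  rw [← hn1e] at hn1 he'
  have hn1N : n1 ∈ g.NN F := by rw [hn1e]; exact Subgroup.mul_mem _ (g.HH_le_NN hh) (g.nl_mem hL.1)
  have hMN : g.nl F L' * n ∈ g.NN F := Subgroup.mul_mem _ (g.nl_mem hL'') hn.1
  have e1 : (k * b1) * (g.nl F L' * n) * b2 = u * n1 * u' := by
    rw [← he', hke]
    have : k * g.nl F (T.ww a) * b * n = k * (g.nl F (T.ww a) * b * n) := by group
    rw [this, he]; group
  have hS := T.Sneg_le_UU L
  have h3 := g.bruhat_unique_coset (Subgroup.mul_mem _ (g.HH_le_BB hk) h1) (g.UU_le_BB hu.1) hMN hn1N h2 (g.UU_le_BB (hS hu'.1)) e1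
  -- n1 n⁻¹ = c' nl L'
  obtain ⟨x1, hx1⟩ : ∃ x1, x1 = n1 * n⁻¹ := ⟨_, rfl⟩
  have hx1F : x1 ∈ g.NN F ⊓ T.FG := by
    rw [hx1]
    exact ⟨Subgroup.mul_mem _ hn1N (Subgroup.inv_mem _ hn.1), Subgroup.mul_mem _ hn1 (Subgroup.inv_mem _ hn.2)⟩
  obtain ⟨c, hc⟩ : ∃ c, c = g.nl F L' * (n * ((g.nl F L' * n)⁻¹ * n1) * n⁻¹) * (g.nl F L')⁻¹ := ⟨_, rfl⟩
  have hcH : c ∈ g.HH F := by rw [hc]; exact g.nl_HH hL'' (g.NN_HH hn.1 h3)
  have hx1c : x1 = c * g.nl F L' := by rw [hx1, hc]; group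
  obtain ⟨A1, hA1, h4, hh4, he4⟩ := T.NN_fix hx1F
  obtain ⟨k2, hk2, hke2⟩ := T.nuL_w hA1
  have hwl : ∀ s < D.nroots, g.wl L' s = g.wl (T.tl A1) s := by
    intro s hs
    refine g.wl_eq_of_nl (F := F) hL'' (T.tl_Cm hA1).1 (h := c⁻¹ * (h4 * k2)) ?_ ?_ hs
    · exact Subgroup.mul_mem _ (Subgroup.inv_mem _ hcH) (Subgroup.mul_mem _ hh4.1 hk2)
    · have : g.nl F L' = c⁻¹ * x1 := by rw [hx1c]; group
      rw [this, he4, hke2]; group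
  have hCm : T.Cm L' := ⟨hL'', fun s hs => by rw [hwl _ (T.ρ_lt s hs), (T.tl_Cm hA1).2 s hs, hwl s hs]⟩
  have hbu : u ∈ g.BB F ⊓ T.FG := ⟨g.UU_le_BB hu.1, hu.2⟩
  have hbu' : u' ∈ g.BB F ⊓ T.FG := ⟨g.UU_le_BB (hS hu'.1), hu'.2⟩
  rcases T.one_orbit hCm ha (fun i hi => (hL' i hi).2) with hid | hid
  · -- trivial
    have h5 : g.nl F L' ∈ g.HH F := by
      have := g.nl_of_wl_eq (F := F) (L' := []) hL'' (by simp) (fun s hs => hid s hs)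
      rwa [g.nl_nil, inv_one, mul_one] at this
    have h6 : x1 ∈ g.BB F ⊓ T.FG := ⟨g.HH_le_BB (by rw [hx1c]; exact Subgroup.mul_mem _ hcH h5), hx1F.2⟩
    refine ⟨u * x1, Subgroup.mul_mem _ hbu h6, u', hbu', Or.inr ?_⟩
    rw [he', hx1]; group
  · have h5 := g.nl_of_wl_eq (F := F) hL'' (T.ww_lt ha) hid
    have h6 : x1 * (T.nu a)⁻¹ ∈ g.BB F ⊓ T.FG := by
      refine ⟨g.HH_le_BB ?_, Subgroup.mul_mem _ hx1F.2 (Subgroup.inv_mem _ (T.nu_FG ha))⟩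
      have : x1 * (T.nu a)⁻¹ = c * (g.nl F L' * (g.nl F (T.ww a))⁻¹) * k⁻¹ := by rw [hx1c, hke]; group
      rw [this]
      exact Subgroup.mul_mem _ (Subgroup.mul_mem _ hcH h5) (Subgroup.inv_mem _ hk)
    refine ⟨u * (x1 * (T.nu a)⁻¹), Subgroup.mul_mem _ hbu h6, u', hbu', Or.inl ?_⟩
    rw [he', hx1]; group

theorem nu_inj {a b : ℕ} (ha : a < T.m) (hb : b < T.m) (h : (T.nu a)⁻¹ * T.nu b ∈ g.HH F) : a = b := by
  obtain ⟨k, hk, hke⟩ := T.nu_w a ha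
  obtain ⟨k', hk', hke'⟩ := T.nu_w b hb
  have hwl : ∀ s < D.nroots, g.wl (T.ww b) s = g.wl (T.ww a) s := by
    intro s hs
    refine g.wl_eq_of_nl (F := F) (T.ww_lt hb) (T.ww_lt ha) (h := k'⁻¹ * (T.nu a * ((T.nu a)⁻¹ * T.nu b) * (T.nu a)⁻¹) * k) ?_ ?_ hs
    · exact Subgroup.mul_mem _ (Subgroup.mul_mem _ (Subgroup.inv_mem _ hk') (g.NN_HH (T.nu_NN ha) h)) hk
    · have e1 : g.nl F (T.ww b) = k'⁻¹ * T.nu b := by rw [hke']; group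
      have e2 : g.nl F (T.ww a) = k⁻¹ * T.nu a := by rw [hke]; group
      rw [e1, e2]; group
  obtain ⟨i, hi⟩ := T.J_ne a ha
  have hi' := T.J_lt a ha i hi
  by_contra hne
  have hib : i ∉ T.J b := fun hib => hne (T.J_disj a ha b hb i hi hib)
  have h1 := T.ww_neg_pos ha hi
  rw [← hwl _ (g.simple_lt i hi')] at h1
  have h2 := g.coef_nonpos (g.wl_lt (T.ww_lt hb) (g.simple_lt i hi')) h1 hi'
  rw [g.coef_wl_K (K := fun i => i ∈ T.J b) (fun j hj => ⟨T.ww_lt hb j hj, T.ww_J b hb j hj⟩) (g.simple_lt i hi') hi' hib,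
    g.coef_simple i hi' i hi', if_pos rfl] at h2
  omega

theorem nu_conj_not_mem {a : ℕ} (ha : a < T.m) {u : GL D.Idx F} (hu : u ∈ g.XS F (g.Sneg (T.ww a))) (h1 : u ≠ 1) : T.nu a * u * (T.nu a)⁻¹ ∉ g.BB F := by
  intro h
  obtain ⟨k, hk, hke⟩ := T.nu_w a ha
  have h2 := g.conj_map_XS (S := g.Sneg (T.ww a)) (T := fun r => r < g.N) (T.ww_lt ha) (fun r _ h => h.2) u hu
  have h3 := g.HH_conj_XS hk _ h2
  have h4 : k * (g.nl F (T.ww a) * u * (g.nl F (T.ww a))⁻¹) * k⁻¹ = T.nu a * u * (T.nu a)⁻¹ := by rw [hke]; group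
  rw [h4] at h3
  have h5 : T.nu a * u * (T.nu a)⁻¹ ∈ g.BB F ⊓ g.VV F := ⟨h, h3⟩
  rw [g.BB_inf_VV, Subgroup.mem_bot] at h5
  apply h1
  have : u = (T.nu a)⁻¹ * (T.nu a * u * (T.nu a)⁻¹) * T.nu a := by group
  rw [this, h5]; group

theorem nu_sq {a : ℕ} (ha : a < T.m) : T.nu a * T.nu a ∈ g.HH F ⊓ T.FG := by
  refine ⟨?_, Subgroup.mul_mem _ (T.nu_FG ha) (T.nu_FG ha)⟩
  obtain ⟨k, hk, hke⟩ := T.nu_w a ha
  have h1 : ∀ s < D.nroots, g.wl (T.ww a ++ T.ww a) s = g.wl [] s := fun s hs => by rw [g.wl_append, T.ww_inv a ha s hs]; rfl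
  have h2 := g.nl_of_wl_eq (F := F) (T.Cm_append (T.ww_Cm ha) (T.ww_Cm ha)).1 (by simp) h1
  rw [g.nl_nil, inv_one, mul_one] at h2
  have h3 : T.nu a * T.nu a = k * (g.nl F (T.ww a) * k * (g.nl F (T.ww a))⁻¹) * g.nl F (T.ww a ++ T.ww a) := by rw [hke, g.nl_append]; group
  rw [h3]
  exact Subgroup.mul_mem _ (Subgroup.mul_mem _ hk (g.nl_HH (T.ww_lt ha) hk)) h2

/-- the (B,N)-pair of the fixed points -/
noncomputable def bn (hne : ∀ a < T.m, ∃ u ∈ g.XS F (g.Sneg (T.ww a)) ⊓ T.FG, u ≠ 1) : Cfsg.BNPair ↥T.FG where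
  B := (g.BB F ⊓ T.FG).subgroupOf T.FG
  N := (g.NN F ⊓ T.FG).subgroupOf T.FG
  S := {n | ∃ a < T.m, (n : GL D.Idx F) = T.nu a}
  sup_eq_top := by
    rw [eq_top_iff]
    rintro ⟨x, hx⟩ _
    obtain ⟨u, hu, L, hL, h, hh, hn, u', hu', he⟩ := T.fix_bruhat hx
    have hnN : h * g.nl F L ∈ g.NN F := Subgroup.mul_mem _ (g.HH_le_NN hh) (g.nl_mem hL.1)
    have h1 : (⟨x, hx⟩ : ↥T.FG) = ⟨u, hu.2⟩ * ⟨h * g.nl F L, hn⟩ * ⟨u', hu'.2⟩ := Subtype.ext he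
    rw [h1]
    refine Subgroup.mul_mem _ (Subgroup.mul_mem _ (Subgroup.mem_sup_left ?_) (Subgroup.mem_sup_right ?_)) (Subgroup.mem_sup_left ?_)
    · exact ⟨g.UU_le_BB hu.1, hu.2⟩
    · exact ⟨hnN, hn⟩
    · exact ⟨g.UU_le_BB (T.Sneg_le_UU L hu'.1), hu'.2⟩
  conj_mem := by
    rintro n hn t ⟨ht1, ht2⟩
    have ht1 : (t : GL D.Idx F) ∈ g.BB F ⊓ T.FG := ht1
    have ht2 : (t : GL D.Idx F) ∈ g.NN F ⊓ T.FG := ht2
    rw [Subgroup.mem_subgroupOf] at hn ⊢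
    have h1 := g.BB_inf_NN ht1.1 ht2.1
    refine ⟨g.HH_le_BB (by simpa using g.NN_HH hn.1 h1), (n * t * n⁻¹).2⟩
  subset := by
    rintro n ⟨a, ha, h⟩
    rw [SetLike.mem_coe, Subgroup.mem_subgroupOf, h]
    exact ⟨T.nu_NN ha, T.nu_FG ha⟩
  sq_mem := by
    rintro n ⟨a, ha, h⟩
    rw [Subgroup.mem_subgroupOf, Subgroup.coe_mul, h]
    exact ⟨g.HH_le_BB (T.nu_sq ha).1, (T.nu_sq ha).2⟩
  inj := by
    rintro n ⟨i, hi, h⟩ n' ⟨j, hj, h'⟩ hB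
    rw [Subgroup.mem_subgroupOf, Subgroup.coe_mul, Subgroup.coe_inv, h, h'] at hB
    have h1 := g.BB_inf_NN hB.1 (Subgroup.mul_mem _ (Subgroup.inv_mem _ (T.nu_NN hi)) (T.nu_NN hj))
    have h2 := T.nu_inj hi hj h1
    apply Subtype.ext
    rw [h, h', h2]
  closure_sup := by
    apply le_antisymm
    · apply sup_le
      · rw [Subgroup.closure_le]
        rintro n ⟨a, ha, h⟩
        rw [SetLike.mem_coe, Subgroup.mem_subgroupOf, h]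
        exact ⟨T.nu_NN ha, T.nu_FG ha⟩
      · exact inf_le_right
    · rintro ⟨x, hx⟩ hn
      rw [Subgroup.mem_subgroupOf] at hn
      obtain ⟨A, hA, h, hh, he⟩ := T.NN_fix hn
      have key : ∀ A : List ℕ, (∀ a ∈ A, a < T.m) → ∀ hm : T.nuL A ∈ T.FG, (⟨T.nuL A, hm⟩ : ↥T.FG) ∈
          Subgroup.closure {n : ↥T.FG | ∃ a < T.m, (n : GL D.Idx F) = T.nu a} := by
        intro A
        induction A with
        | nil =>
          intro _ hm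
          have : (⟨T.nuL [], hm⟩ : ↥T.FG) = 1 := Subtype.ext (by simp [nuL])
          rw [this]; exact Subgroup.one_mem _
        | cons a A ih =>
          intro hA hm
          have h1 : ∀ b ∈ A, b < T.m := fun b hb => hA b (by simp [hb])
          have ha := hA a (by simp)
          have h2 : (⟨T.nuL (a :: A), hm⟩ : ↥T.FG) = ⟨T.nu a, T.nu_FG ha⟩ * ⟨T.nuL A, T.nuL_FG h1⟩ :=
            Subtype.ext (by simp [nuL])
          rw [h2]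
          exact Subgroup.mul_mem _ (Subgroup.subset_closure ⟨a, ha, rfl⟩) (ih h1 _)
      have h3 : (⟨x, hx⟩ : ↥T.FG) = ⟨h, hh.2⟩ * ⟨T.nuL A, T.nuL_FG hA⟩ := Subtype.ext he
      rw [h3]
      refine Subgroup.mul_mem _ (Subgroup.mem_sup_right ⟨?_, ?_⟩) (Subgroup.mem_sup_left (key A hA _))
      · exact ⟨g.HH_le_BB hh.1, hh.2⟩
      · exact ⟨g.HH_le_NN hh.1, hh.2⟩
  mul_mem_union := by
    rintro s ⟨a, ha, h⟩ n hn b hb
    rw [Subgroup.mem_subgroupOf] at hn hb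
    obtain ⟨b1, h1, b2, h2, h3 | h3⟩ := T.bn3T ha hn hb
    · left
      rw [DoubleCoset.mem_doubleCoset]
      refine ⟨⟨b1, h1.2⟩, h1, ⟨b2, h2.2⟩, h2, ?_⟩
      apply Subtype.ext
      simp only [Subgroup.coe_mul, h]
      exact h3
    · right
      rw [DoubleCoset.mem_doubleCoset]
      refine ⟨⟨b1, h1.2⟩, h1, ⟨b2, h2.2⟩, h2, ?_⟩
      apply Subtype.ext
      simp only [Subgroup.coe_mul, h]
      exact h3
  conj_ne := by
    rintro s ⟨a, ha, h⟩ he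
    obtain ⟨u, hu, hu1⟩ := hne a ha
    have h1 : s * (⟨u, hu.2⟩ : ↥T.FG) * s ∈ ((g.BB F ⊓ T.FG).subgroupOf T.FG : Set ↥T.FG) := by
      rw [← he]
      refine ⟨⟨u, hu.2⟩, ?_, rfl⟩
      exact ⟨g.UU_le_BB (T.Sneg_le_UU _ hu.1), hu.2⟩
    rw [SetLike.mem_coe, Subgroup.mem_subgroupOf, Subgroup.coe_mul, Subgroup.coe_mul, h] at h1
    have h2 : T.nu a * u * (T.nu a)⁻¹ ∈ g.BB F := by
      have h3 : T.nu a * u * (T.nu a)⁻¹ = T.nu a * u * T.nu a * (T.nu a * T.nu a)⁻¹ := by group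
      rw [h3]
      exact Subgroup.mul_mem _ h1.1 (Subgroup.inv_mem _ (g.HH_le_BB (T.nu_sq ha).1))
    exact T.nu_conj_not_mem ha hu.1 hu1 h2

end Tw

end Chv
end CfsgH6
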