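import Cfsg.Agent.H6.Tw4
import Cfsg.Agent.H6.ChM1

set_option autoImplicit false

/-! Twisted groups: construction of the automorphism. -/

namespace CfsgH6
namespace Chv

open Cfsg.Lie

/-- words evaluated with a reflection table -/
def wlF (w : ℕ → ℕ → ℕ) : List ℕ → ℕ → ℕ
  | [], s => s
  | i :: L, s => w i (wlF w L s)

variable {D : ChevalleyDatum}

theorem wl_eq_wlF (g : Good D) (L : List ℕ) (s : ℕ) : g.wl L s = wlF g.w L s := by
  induction L with
  | nil => rfl
  | cons i L ih => show g.w i (g.wl L s) = g.w i (wlF g.w L s); rw [ih]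

/-- the combinatorial check -/
def twB (D : ChevalleyDatum) (w : ℕ → ℕ → ℕ) (N : ℕ) (T : GrT) (Js Ws : List (List ℕ)) : Bool :=
  ((List.range D.nroots).all fun r => decide (N ≤ T.rho r ↔ N ≤ r)) &&
  decide (Ws.length = Js.length) &&
  ((List.range Js.length).all fun a => (Js.getD a []).all (fun i => decide (i < D.rank) &&
      ((Js.getD a []).all fun j => decide (j = i ∨ j = T.pi i ∨ j = T.pi (T.pi i))) &&
      ((Js.getD a []).any fun i' => decide (wlF w (Ws.getD a []) (D.simple i) = D.neg (D.simple i')))) && !(Js.getD a []).isEmpty &&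
      ((Ws.getD a []).all fun i => (Js.getD a []).contains i) &&
      ((List.range Js.length).all fun b => decide (a = b) || (Js.getD a []).all fun i => !(Js.getD b []).contains i) &&
      ((List.range D.nroots).all fun r => decide (wlF w (Ws.getD a []) (T.rho r) = T.rho (wlF w (Ws.getD a []) r)) &&
        decide (wlF w (Ws.getD a []) (wlF w (Ws.getD a []) r) = r))) &&
  ((List.range D.rank).all fun i => (List.range Js.length).any fun a => (Js.getD a []).contains i)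

/-- combinatorial data from the check -/
def mkTwC (g : Good D) {T : GrT} (hP : GrP D g.w g.e T) {Js Ws : List (List ℕ)} (h : twB D g.w g.N T Js Ws = true) : TwC g where
  ρ := T.rho
  π := T.pi
  m := Js.length
  J := fun a => Js.getD a []
  ww := fun a => Ws.getD a []
  ρ_lt := hP.rho_lt
  ρ_neg := hP.rho_neg
  ρ_surj := hP.surj
  ρ_w := hP.rho_w
  ρ_s := hP.rho_s
  π_lt := hP.pi_lt
  ρ_pos := by
    unfold twB at h
    simp only [Bool.and_eq_true, List.all_eq_true, List.mem_range, decide_eq_true_eq] at h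
    exact h.1.1.1
  J_lt := by
    unfold twB at h
    simp only [Bool.and_eq_true, List.all_eq_true, List.mem_range, decide_eq_true_eq] at h
    exact fun a ha i hi => ((h.1.2 a ha).1.1.1.1 i hi).1.1
  J_cov := by
    unfold twB at h
    simp only [Bool.and_eq_true, List.all_eq_true, List.mem_range, decide_eq_true_eq, List.any_eq_true, List.contains_iff_mem] at h
    exact fun i hi => h.2 i hi
  J_disj := by
    unfold twB at h
    simp only [Bool.and_eq_true, List.all_eq_true, List.mem_range, decide_eq_true_eq, Bool.or_eq_true, Bool.not_eq_true', ← Bool.not_eq_true,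
      List.contains_iff_mem] at h
    intro a ha b hb i hi hi'
    rcases (h.1.2 a ha).1.2 b hb with h1 | h1
    · exact h1
    · exact absurd hi' (h1 i hi)
  J_orb := by
    unfold twB at h
    simp only [Bool.and_eq_true, List.all_eq_true, List.mem_range, decide_eq_true_eq] at h
    exact fun a ha i hi j hj => ((h.1.2 a ha).1.1.1.1 i hi).1.2 j hj
  J_ne := by
    unfold twB at h
    simp only [Bool.and_eq_true, List.all_eq_true, List.mem_range, decide_eq_true_eq, Bool.not_eq_true', List.isEmpty_eq_false_iff_exists_mem] at h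
    exact fun a ha => (h.1.2 a ha).1.1.1.2
  ww_J := by
    unfold twB at h
    simp only [Bool.and_eq_true, List.all_eq_true, List.mem_range, decide_eq_true_eq, List.contains_iff_mem] at h
    exact fun a ha => (h.1.2 a ha).1.1.2
  ww_neg := by
    unfold twB at h
    simp only [Bool.and_eq_true, List.all_eq_true, List.mem_range, decide_eq_true_eq, List.any_eq_true] at h
    intro a ha i hi
    obtain ⟨i', h1, h2⟩ := ((h.1.2 a ha).1.1.1.1 i hi).2
    exact ⟨i', h1, by rw [wl_eq_wlF]; exact h2⟩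
  ww_ρ := by
    unfold twB at h
    simp only [Bool.and_eq_true, List.all_eq_true, List.mem_range, decide_eq_true_eq] at h
    intro a ha r hr
    rw [wl_eq_wlF, wl_eq_wlF]
    exact ((h.1.2 a ha).2 r hr).1
  ww_inv := by
    unfold twB at h
    simp only [Bool.and_eq_true, List.all_eq_true, List.mem_range, decide_eq_true_eq] at h
    intro a ha r hr
    rw [wl_eq_wlF, wl_eq_wlF]
    exact ((h.1.2 a ha).2 r hr).2

section signs

variable (g : Good D) {F : Type*} [Field F] {T : GrT}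

theorem GrP.ell_neg (hP : GrP D g.w g.e T) : ∀ r < D.nroots, T.ell (D.neg r) = T.ell r := by
  apply g.root_induction (P := fun r => T.ell (D.neg r) = T.ell r)
  · intro i hi
    rw [← g.w_simple i hi, hP.ell_w i hi _ (g.simple_lt i hi)]
  · intro i hi s hs h
    rw [← g.w_neg i hi s hs, hP.ell_w i hi _ (g.neg_lt hs), hP.ell_w i hi s hs, h]

theorem GrP.eps_neg (hF : GrF F T.m) (hP : GrP D g.w g.e T) : ∀ r < D.nroots, ((T.eps (D.neg r) : ℤ) : F) = ((T.eps r : ℤ) : F) := by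
  by_cases hm : T.m = 2
  · intro r hr
    rw [hF.int2 hm (hP.eps _ (g.neg_lt hr)), hF.int2 hm (hP.eps _ hr)]
  · have key : ∀ r < D.nroots, T.eps (D.neg r) = T.eps r := by
      apply g.root_induction (P := fun r => T.eps (D.neg r) = T.eps r)
      · intro i hi
        rw [hP.eps_n i hi, hP.eps_s i hi]
      · intro i hi s hs h
        have h1 := (hP.eps_w i hi s hs).resolve_left hm
        have h2 := (hP.eps_w i hi _ (g.neg_lt hs)).resolve_left hm
        rw [hP.rho_neg s hs, g.e_neg _ (hP.pi_lt i hi) _ (hP.rho_lt s hs), h, h1, g.e_neg i hi s hs, g.w_neg i hi s hs] at h2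
        have h3 : g.e i s ≠ 0 := by rcases g.e_pm i hi s hs with h | h <;> rw [h] <;> norm_num
        exact (mul_right_cancel₀ h3 h2).symm
    intro r hr
    rw [key r hr]

end signs

section build

variable (g : Good D) {F : Type*} [Field F] {T : GrT}

/-- the field automorphism on the Chevalley group -/
noncomputable def fldA (φ : F ≃+* F) : ↥(g.GG F) ≃* ↥(g.GG F) :=
  (MulEquiv.subgroupMap (glf D.Idx φ) (g.GG F)).trans (MulEquiv.subgroupCongr (g.glf_GG φ))

theorem fldA_val (φ : F ≃+* F) (x : ↥(g.GG F)) : ((fldA g φ x : ↥(g.GG F)) : GL D.Idx F) = glf D.Idx φ x := rfl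

/-- the twisting automorphism -/
theorem exists_tw (hF : GrF F T.m) (hP : GrP D g.w g.e T) (hD : CmAll D)
    (hperf : T.m = 0 ∨ ∀ x : F, ∃ y : F, y ^ T.m = x) (hs : IsSimpleGroup ↥(g.GG F) ∨ Finite F) (φ : F ≃+* F) :
    ∃ f : ↥(g.GG F) ≃* ↥(g.GG F),
      ∀ r < D.nroots, ∀ t : F, (f ⟨g.xg r t, g.xg_mem_GG r t⟩ : GL D.Idx F) = g.xg (T.rho r) (((T.eps r : ℤ) : F) * φ t ^ T.ell r) := by
  obtain ⟨α, hα⟩ := graph_equiv g hF hP hD hperf hs
  refine ⟨(fldA g φ).trans α, fun r hr t => ?_⟩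
  have h1 : fldA g φ ⟨g.xg r t, g.xg_mem_GG r t⟩ = ⟨g.xg r (φ t), g.xg_mem_GG r _⟩ := by
    apply Subtype.ext
    rw [fldA_val, g.glf_xg]
  rw [MulEquiv.trans_apply, h1, hα r hr]

variable {g}

theorem tw_nn (hF : GrF F T.m) (hP : GrP D g.w g.e T) {φ : F ≃+* F} {f : ↥(g.GG F) ≃* ↥(g.GG F)}
    (hf : ∀ r < D.nroots, ∀ t : F, (f ⟨g.xg r t, g.xg_mem_GG r t⟩ : GL D.Idx F) = g.xg (T.rho r) (((T.eps r : ℤ) : F) * φ t ^ T.ell r))
    {i : ℕ} (hi : i < D.rank) : (f ⟨g.nn i, g.nn_mem_GG i⟩ : GL D.Idx F) = g.nn (T.pi i) := by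
  have hs := g.simple_lt i hi
  have e1 : (⟨g.nn i, g.nn_mem_GG i⟩ : ↥(g.GG F)) = ⟨g.xg (D.simple i) 1, g.xg_mem_GG _ _⟩ * ⟨g.xg (D.neg (D.simple i)) (-1), g.xg_mem_GG _ _⟩ *
      ⟨g.xg (D.simple i) 1, g.xg_mem_GG _ _⟩ := rfl
  have e2 : (-1 : F) ^ T.ell (D.simple i) = -1 := by
    have := hF.int (hP.ell _ hs) (-1)
    push_cast at this
    exact this
  rw [e1, map_mul, map_mul, Subgroup.coe_mul, Subgroup.coe_mul, hf _ hs, hf _ (g.neg_lt hs), hP.rho_neg _ hs, hP.rho_s i hi, hP.eps_s i hi,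
    hP.eps_n i hi, hP.ell_neg g _ hs, map_one, map_neg, map_one, one_pow, e2]
  simp only [Int.cast_one, one_mul]
  rfl

theorem tw_ng (hF : GrF F T.m) (hP : GrP D g.w g.e T) {φ : F ≃+* F} {f : ↥(g.GG F) ≃* ↥(g.GG F)}
    (hf : ∀ r < D.nroots, ∀ t : F, (f ⟨g.xg r t, g.xg_mem_GG r t⟩ : GL D.Idx F) = g.xg (T.rho r) (((T.eps r : ℤ) : F) * φ t ^ T.ell r))
    {r : ℕ} (hr : r < D.nroots) (t : F) : (f ⟨g.ng r t, g.ng_mem_GG r t⟩ : GL D.Idx F) = g.ng (T.rho r) (((T.eps r : ℤ) : F) * φ t ^ T.ell r) := by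
  have e1 : (⟨g.ng r t, g.ng_mem_GG r t⟩ : ↥(g.GG F)) = ⟨g.xg r t, g.xg_mem_GG _ _⟩ * ⟨g.xg (D.neg r) (-t⁻¹), g.xg_mem_GG _ _⟩ *
      ⟨g.xg r t, g.xg_mem_GG _ _⟩ := rfl
  have e2 : (-1 : F) ^ T.ell r = -1 := by
    have := hF.int (hP.ell _ hr) (-1)
    push_cast at this
    exact this
  have e3 : ((T.eps r : ℤ) : F)⁻¹ = ((T.eps r : ℤ) : F) := by
    rcases hP.eps r hr with h | h <;> rw [h] <;> simp
  rw [e1, map_mul, map_mul, Subgroup.coe_mul, Subgroup.coe_mul, hf _ hr, hf _ (g.neg_lt hr), hP.rho_neg _ hr, hP.eps_neg g hF _ hr, hP.ell_neg g _ hr]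
  have e4 : ((T.eps r : ℤ) : F) * φ (-t⁻¹) ^ T.ell r = -(((T.eps r : ℤ) : F) * φ t ^ T.ell r)⁻¹ := by
    rw [map_neg, map_inv₀, neg_eq_neg_one_mul, mul_pow, e2, mul_inv, e3, inv_pow]
    ring
  rw [e4]
  rfl

theorem tw_hD (hF : GrF F T.m) (hP : GrP D g.w g.e T) {φ : F ≃+* F} {f : ↥(g.GG F) ≃* ↥(g.GG F)}
    (hf : ∀ r < D.nroots, ∀ t : F, (f ⟨g.xg r t, g.xg_mem_GG r t⟩ : GL D.Idx F) = g.xg (T.rho r) (((T.eps r : ℤ) : F) * φ t ^ T.ell r))
    {r : ℕ} (hr : r < D.nroots) (t : Fˣ) : (f ⟨g.hD r t, g.HH_le_GG (g.hD_mem r t)⟩ : GL D.Idx F) =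
      g.hD (T.rho r) ((Units.map (φ : F →* F) t) ^ T.ell r) := by
  have hR := hP.rho_lt r hr
  have e1 : (⟨g.hD r t, g.HH_le_GG (g.hD_mem r t)⟩ : ↥(g.GG F)) = ⟨g.ng r (t : F), g.ng_mem_GG _ _⟩ * ⟨g.ng r (-1), g.ng_mem_GG _ _⟩ :=
    Subtype.ext (g.ng_mul_eq_hD hr t).symm
  have e2 : (-1 : F) ^ T.ell r = -1 := by
    have := hF.int (hP.ell _ hr) (-1)
    push_cast at this
    exact this
  rw [e1, map_mul, Subgroup.coe_mul, tw_ng hF hP hf hr, tw_ng hF hP hf hr, map_neg, map_one, e2]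
  obtain ⟨u, hu⟩ : ∃ u : Fˣ, u = (Units.map (φ : F →* F) t) ^ T.ell r := ⟨_, rfl⟩
  have hu' : φ (t : F) ^ T.ell r = (u : F) := by rw [hu]; simp
  rw [hu', ← hu]
  rcases hP.eps r hr with h | h
  · rw [h, Int.cast_one, one_mul, one_mul, g.ng_mul_eq_hD hR]
  · have h1 : ((-1 : ℤ) : F) * (u : F) = ((-u : Fˣ) : F) := by push_cast; ring
    have h2 : ((-1 : ℤ) : F) * -1 = 1 := by push_cast; ring
    rw [h, h1, h2, g.ng_eq hR, mul_assoc, g.ng_sq hR, g.hD_mul]
    congr 1
    simp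

/-- the word of `n_i` -/
def nw (D : ChevalleyDatum) (L : List ℕ) : List (ℕ × ℤ) :=
  L.flatMap fun i => [(D.simple i, 1), (D.neg (D.simple i), -1), (D.simple i, 1)]

theorem nw_val {L : List ℕ} (hL : ∀ i ∈ L, i < D.rank) : ((g.nl F L : GL D.Idx F) : Matrix D.Idx D.Idx F) = (wordR D (nw D L)).map (Int.castRingHom F) := by
  rw [Good.wordR_map]
  induction L with
  | nil => rw [g.nl_nil]; rfl
  | cons i L ih =>
    have hi := hL i (by simp)
    have hs := g.simple_lt i hi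
    rw [g.nl_cons, Units.val_mul, ih (fun j hj => hL j (by simp [hj]))]
    have e1 : ((g.nn i : GL D.Idx F) : Matrix D.Idx D.Idx F) = xR D (D.simple i) 1 * xR D (D.neg (D.simple i)) (-1) * xR D (D.simple i) 1 := by
      unfold Good.nn
      rw [Units.val_mul, Units.val_mul, g.xg_val hs, g.xg_val (g.neg_lt hs)]
    rw [e1]
    simp [wordR, nw, Matrix.mul_assoc]

theorem nl_eq_of_word {L L' : List ℕ} (hL : ∀ i ∈ L, i < D.rank) (hL' : ∀ i ∈ L', i < D.rank) (h : wordR D (nw D L) = wordR D (nw D L')) :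
    g.nl F L = g.nl F L' := by
  apply Units.ext
  rw [nw_val hL, nw_val hL', h]

theorem nl_eq_of_chk {E : Enc} (C : Checks D E) {L L' : List ℕ} (hL : ∀ i ∈ L, i < D.rank) (hL' : ∀ i ∈ L', i < D.rank)
    (h : chkW E (nw D L) (nw D L') = true) : g.nl F L = g.nl F L' := by
  apply nl_eq_of_word hL hL'
  have hv : ∀ L : List ℕ, (∀ i ∈ L, i < D.rank) → ∀ q ∈ nw D L, q.1 < D.nroots := by
    intro L hL q hq
    obtain ⟨i, hi, hq⟩ := List.mem_flatMap.1 hq
    simp only [List.mem_cons, List.not_mem_nil, or_false] at hq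
    have hs := g.simple_lt i (hL i hi)
    rcases hq with rfl | rfl | rfl
    · exact hs
    · exact g.neg_lt hs
    · exact hs
  exact chkW_sound C.link C.entOK C.dneg (hv L hL) (hv L' hL') h

/-- the twisted data -/
noncomputable def mkTw (hF : GrF F T.m) (hP : GrP D g.w g.e T) {Js Ws : List (List ℕ)} (h : twB D g.w g.N T Js Ws = true)
    {φ : F ≃+* F} {f : ↥(g.GG F) ≃* ↥(g.GG F)}
    (hf : ∀ r < D.nroots, ∀ t : F, (f ⟨g.xg r t, g.xg_mem_GG r t⟩ : GL D.Idx F) = g.xg (T.rho r) (((T.eps r : ℤ) : F) * φ t ^ T.ell r))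
    (hw : ∀ a < Js.length, g.nl F ((Ws.getD a []).map T.pi) = g.nl F (Ws.getD a [])) : Tw g F where
  toTwC := mkTwC g hP h
  f := f
  τ := fun r t => ((T.eps r : ℤ) : F) * φ t ^ T.ell r
  th := fun r t => (Units.map (φ : F →* F) t) ^ T.ell r
  f_xg := hf
  f_hD := fun r hr t => tw_hD hF hP hf hr t
  f_nn := fun i hi => tw_nn hF hP hf hi
  nu := fun a => g.nl F (Ws.getD a [])
  nu_GG := fun a _ => by
    generalize Ws.getD a [] = L
    induction L with
    | nil => rw [g.nl_nil]; exact Subgroup.one_mem _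
    | cons i L ih => rw [g.nl_cons]; exact Subgroup.mul_mem _ (g.nn_mem_GG i) ih
  nu_f := by
    intro a ha hG
    have hlt := (mkTwC g hP h).ww_lt ha
    have hlt' : ∀ i ∈ Ws.getD a [], i < D.rank := hlt
    have hw' := hw a ha
    revert hG hw' hlt'
    generalize Ws.getD a [] = L
    intro hG hlt' hw'
    refine Eq.trans ?_ hw'
    have key : ∀ L : List ℕ, (∀ i ∈ L, i < D.rank) → ∀ hG : g.nl F L ∈ g.GG F, (f ⟨g.nl F L, hG⟩ : GL D.Idx F) = g.nl F (L.map T.pi) := by
      intro L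
      induction L with
      | nil =>
        intro _ hG
        have : (⟨g.nl F [], hG⟩ : ↥(g.GG F)) = 1 := Subtype.ext g.nl_nil
        rw [this, map_one, List.map_nil, g.nl_nil]; rfl
      | cons i L ih =>
        intro hL hG
        have h1 : ∀ j ∈ L, j < D.rank := fun j hj => hL j (by simp [hj])
        have hG' : g.nl F L ∈ g.GG F := by
          have : g.nl F L = (g.nn i)⁻¹ * g.nl F (i :: L) := by rw [g.nl_cons]; group
          rw [this]
          exact Subgroup.mul_mem _ (Subgroup.inv_mem _ (g.nn_mem_GG i)) hG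
        have h2 : (⟨g.nl F (i :: L), hG⟩ : ↥(g.GG F)) = ⟨g.nn i, g.nn_mem_GG i⟩ * ⟨g.nl F L, hG'⟩ := Subtype.ext (g.nl_cons i L)
        rw [h2, map_mul, Subgroup.coe_mul, tw_nn hF hP hf (hL i (by simp)), ih h1, List.map_cons, g.nl_cons]
    exact key L hlt' hG
  nu_w := fun a _ => ⟨1, Subgroup.one_mem _, by rw [one_mul]; rfl⟩

end build

end Chv
end CfsgH6
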