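import Cfsg.Agent.H6.Tw5

set_option autoImplicit false
set_option maxRecDepth 100000

/-! Certificates for the twisted groups. -/

namespace CfsgH6
namespace Chv

open Cfsg.Lie

def tJE6 : List (List ℕ) := [[1], [3], [2, 4], [0, 5]]
def tWE6 : List (List ℕ) := [[1], [3], [2, 4], [0, 5]]
def teE6 : List ℕ := [1, 1, 2, 2]
def tAE6 : List (List ℤ) := [[2, 0, -1, 0, 0, 0], [0, 2, 0, -1, 0, 0], [-1, 0, 2, -1, 0, 0], [0, -1, -1, 2, -1, 0], [0, 0, 0, -1, 2, -1], [0, 0, 0, 0, -1, 2]]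
def tOE6_0 : ℕ × List OEt := (21, [([-2, 0, 1, 0, 1, -2], 13, [0, 0, 1, 23]), ([-1, 0, -1, 2, -1, -1], 15, [1, 5, 0, 15]), ([-1, 0, 0, 0, 0, -1], 24, [2, 2, 2, 16]), ([-1, 2, 0, 0, 0, -1], 9, [4, 3, 3, 17]), ([-1, -2, 0, 2, 0, -1], 10, [3, 8, 4, 18]), ([-1, 2, 1, -2, 1, -1], 16, [6, 1, 9, 19]), ([-1, -2, 1, 0, 1, -1], 17, [5, 6, 10, 20]), ([-1, 0, 1, 0, 1, -1], 2, [7, 7, 11, 21]), ([-1, 0, 2, -2, 2, -1], 11, [8, 4, 15, 22]), ([0, 2, -1, 0, -1, 0], 18, [10, 9, 5, 9]), ([0, -2, -1, 2, -1, 0], 19, [9, 12, 6, 10]), ([0, 0, -1, 2, -1, 0], 4, [11, 13, 7, 11]), ([0, 0, 1, -2, 1, 0], 20, [12, 10, 16, 12]), ([0, 2, 1, -2, 1, 0], 5, [14, 11, 17, 13]), ([0, -2, 1, 0, 1, 0], 6, [13, 14, 18, 14]), ([1, 0, -2, 2, -2, 1], 13, [15, 19, 8, 1]), ([1, 0, -1, 0, -1, 1], 22, [16, 16, 12, 2]), ([1, 2, -1, 0, -1, 1], 7, [18, 17, 13, 3]), ([1, -2, -1,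 2, -1, 1], 8, [17, 22, 14, 4]), ([1, 2, 0, -2, 0, 1], 14, [20, 15, 19, 5]), ([1, -2, 0, 0, 0, 1], 15, [19, 20, 20, 6]), ([1, 0, 0, 0, 0, 1], 0, [21, 21, 21, 7]), ([1, 0, 1, -2, 1, 1], 9, [22, 18, 23, 8]), ([2, 0, -1, 0, -1, 2], 11, [23, 23, 22, 0])])
def tOE6_1 : ℕ × List OEt := (0, [([0, 0, 1, 0, 1, 0], 0, [0, 0, 1]), ([1, 0, -1, 2, -1, 1], 2, [1, 2, 0]), ([1, 2, 1, -2, 1, 1], 3, [3, 1, 4]), ([1, -2, 1, 0, 1, 1], 4, [2, 3, 5]), ([2, 2, -1, 0, -1, 2], 5, [5, 4, 2]), ([2, -2, -1, 2, -1, 2], 6, [4, 6, 3]), ([2, 0, 1, -2, 1, 2], 7, [6, 5, 7]), ([3, 0, -1, 0, -1, 3], 9, [7, 7, 6])])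
def tOE6_2 : ℕ × List OEt := (0, [([0, 0, 0, 1, 0, 0], 0, [0, 1]), ([0, 1, 1, -1, 1, 0], 1, [2, 0]), ([0, -1, 1, 0, 1, 0], 2, [1, 2])])
def tOE6_3 : ℕ × List OEt := (0, [([0, 1, 0, 0, 0, 0], 0, [1]), ([0, -1, 0, 1, 0, 0], 1, [0])])
def tOsE6 : List (ℕ × List OEt) := [tOE6_0, tOE6_1, tOE6_2, tOE6_3]

theorem tcE6 : tOs tAE6 6 4 tJE6 tWE6 teE6 tOsE6 = true := by decide +kernel
theorem cartE6 : cartB chevE6 tAE6 = true := by decide +kernel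
def tJD4 : List (List ℕ) := [[1], [0, 2, 3]]
def tWD4 : List (List ℕ) := [[1], [0, 2, 3]]
def teD4 : List ℕ := [1, 3]
def tAD4 : List (List ℤ) := [[2, -1, 0, 0], [-1, 2, -1, -1], [0, -1, 2, 0], [0, -1, 0, 2]]
def tOD4_0 : ℕ × List OEt := (4, [([-2, 3, -2, -2], 7, [3, 5]), ([-1, 0, -1, -1], 11, [1, 3]), ([-1, 3, -1, -1], 3, [5, 4]), ([1, -3, 1, 1], 8, [0, 1]), ([1, 0, 1, 1], 0, [4, 2]), ([2, -3, 2, 2], 4, [2, 0])])
def tOD4_1 : ℕ × List OEt := (0, [([0, 1, 0, 0], 0, [1]), ([1, -1, 1, 1], 1, [0])])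
def tOsD4 : List (ℕ × List OEt) := [tOD4_0, tOD4_1]

theorem tcD4 : tOs tAD4 4 2 tJD4 tWD4 teD4 tOsD4 = true := by decide +kernel
theorem cartD4 : cartB chevD4 tAD4 = true := by decide +kernel
def tJF4 : List (List ℕ) := [[0, 3], [1, 2]]
def tWF4 : List (List ℕ) := [[0, 3], [1, 2, 1, 2]]
def teF4 : List ℕ := [1, 2]
def tAF4 : List (List ℤ) := [[2, -1, 0, 0], [-1, 2, -2, 0], [0, -1, 2, -1], [0, 0, -1, 2]]
def tOF4_0 : ℕ × List OEt := (4, [([-6, 3, 2, -4], 6, [7, 5]), ([-4, 1, 1, -3], 9, [5, 3]), ([-4, 3, 2, -3], 3, [6, 7]), ([0, -1, -1, 0], 11, [3, 1]), ([0, 1, 1, 0], 0, [4, 6]), ([4, -3, -2, 3], 8, [1, 0]), ([4, -1, -1, 3], 2, [2, 4]), ([6, -3, -2, 4], 5, [0, 2])])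
def tOF4_1 : ℕ × List OEt := (1, [([-1, 1, 1, -1], 1, [1]), ([1, 0, 0, 1], 0, [0])])
def tOsF4 : List (ℕ × List OEt) := [tOF4_0, tOF4_1]

theorem tcF4 : tOs tAF4 4 2 tJF4 tWF4 teF4 tOsF4 = true := by decide +kernel
theorem cartF4 : cartB chevF4 tAF4 = true := by decide +kernel
def tJG2 : List (List ℕ) := [[0, 1]]
def tWG2 : List (List ℕ) := [[0, 1, 0, 1, 0, 1]]
def teG2 : List ℕ := [3]
def tAG2 : List (List ℤ) := [[2, -3], [-1, 2]]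
def tOG2_0 : ℕ × List OEt := (1, [([-1, -1], 3, [1]), ([1, 1], 0, [0])])
def tOsG2 : List (ℕ × List OEt) := [tOG2_0]

theorem tcG2 : tOs tAG2 2 1 tJG2 tWG2 teG2 tOsG2 = true := by decide +kernel
theorem cartG2 : cartB chevG2 tAG2 = true := by decide +kernel

def qpP (d : ℕ) : List ℤ := 1 :: (List.replicate (d - 1) 0 ++ [1])

theorem hev_qpP (q : ℤ) {d : ℕ} (hd : 1 ≤ d) : hev (qpP d) q = q ^ d + 1 := by
  obtain ⟨e, rfl⟩ : ∃ e, d = e + 1 := ⟨d - 1, by omega⟩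
  rw [qpP, hev_cons, Nat.add_sub_cancel, hev_mono, pow_succ]; ring

theorem polE6 : mulP (polyOs tOsE6) (prodP [qdP 1, qdP 1, qdP 1, qdP 1, qpP 1, qpP 1]) =
  prodP [qdP 2, qpP 5, qdP 6, qdP 8, qpP 9, qdP 12] := by decide +kernel
theorem polD4 : mulP (polyOs tOsD4) (prodP [qdP 1, qdP 1, [1, 1, 1]]) =
  prodP [qdP 2, qdP 6, [1, 0, 0, 0, 1, 0, 0, 0, 1]] := by decide +kernel
theorem polF4 : mulP (polyOs tOsF4) (prodP [qdP 1, qdP 1]) =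
  prodP [qdP 1, qpP 3, qdP 4, qpP 6] := by decide +kernel
theorem polG2 : polyOs tOsG2 = [1, 0, 0, 1] := by decide +kernel

theorem tbE6 : twB chevE6 encE6.w encE6.N grE6 tJE6 tWE6 = true := by decide +kernel
theorem tbD4 : twB chevD4 encD4.w encD4.N grD4 tJD4 tWD4 = true := by decide +kernel
theorem tbF4 : twB chevF4 encF4.w encF4.N grF4 tJF4 tWF4 = true := by decide +kernel
theorem tbG2 : twB chevG2 encG2.w encG2.N grG2 tJG2 tWG2 = true := by decide +kernel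

theorem nwE6_2 : chkW encE6 (nw chevE6 [2, 4]) (nw chevE6 [4, 2]) = true := by decide +kernel
theorem nwE6_3 : chkW encE6 (nw chevE6 [0, 5]) (nw chevE6 [5, 0]) = true := by decide +kernel
theorem nwD4_1 : chkW encD4 (nw chevD4 [0, 2, 3]) (nw chevD4 [2, 3, 0]) = true := by decide +kernel
theorem nwF4_0 : chkW encF4 (nw chevF4 [0, 3]) (nw chevF4 [3, 0]) = true := by decide +kernel
theorem nwF4_1 : chkW encF4 (nw chevF4 [1, 2, 1, 2]) (nw chevF4 [2, 1, 2, 1]) = true := by decide +kernel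
theorem nwG2_0 : chkW encG2 (nw chevG2 [0, 1, 0, 1, 0, 1]) (nw chevG2 [1, 0, 1, 0, 1, 0]) = true := by decide +kernel

end Chv
end CfsgH6
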