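import Cfsg.Agent.H6.Tw6

set_option autoImplicit false

/-! Word identities modulo an integer; orbit groups of type `A₁ × ⋯ × A₁`. -/

namespace CfsgH6
namespace Chv

open Cfsg.Lie Matrix

variable {D : ChevalleyDatum}

/-- equality of two words modulo `m` -/
def chkWm (E : Enc) (m : ℤ) (w w' : List (ℕ × ℤ)) : Bool :=
  allB (Nat.add E.l E.n) fun p => (insL (scl (-1) (evW E w' [(p, 1)])) (evW E w [(p, 1)])).all fun q => decide (q.2 % m = 0)

theorem itp_mod {F : Type*} [Field F] {l : ℕ} {m : ℤ} (hm : (m : F) = 0) {L : List (ℕ × ℤ)} (h : ∀ q ∈ L, q.2 % m = 0) (b : D.Idx) :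
    ((itp D l L b : ℤ) : F) = 0 := by
  induction L with
  | nil => simp [itp]
  | cons q L ih =>
    have h1 := ih fun z hz => h z (by simp [hz])
    have h2 := h q (by simp)
    have h3 : ((q.2 : ℤ) : F) = 0 := by
      have := Int.emod_add_mul_ediv q.2 m
      rw [h2, zero_add] at this
      rw [← this, Int.cast_mul, hm, zero_mul]
    show ((((q.2 • bv D l q.1 + itp D l L) : D.Idx → ℤ) b : ℤ) : F) = 0
    rw [Pi.add_apply, Pi.smul_apply, smul_eq_mul, Int.cast_add, Int.cast_mul, h3, zero_mul, h1, zero_add]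

theorem chkWm_sound (g : Good D) {E : Enc} (C : Checks D E) {m : ℤ} {w w' : List (ℕ × ℤ)}
    (hw : ∀ q ∈ w, q.1 < D.nroots) (hw' : ∀ q ∈ w', q.1 < D.nroots) (h : chkWm E m w w' = true) {F : Type*} [Field F] (hm : (m : F) = 0) :
    (wordR D w).map (Int.castRingHom F) = (wordR D w').map (Int.castRingHom F) := by
  have hL := C.link
  have hent := C.entOK
  have hneg := C.dneg
  have key : ∀ p < E.l + E.n, ∀ b, (((wordR D w *ᵥ bv D E.l p) b : ℤ) : F) = (((wordR D w' *ᵥ bv D E.l p) b : ℤ) : F) := by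
    intro p hp b
    have h1 := allB_iff.1 h p hp
    rw [List.all_eq_true] at h1
    have hv : Vld (E.l + E.n) [(p, 1)] := Vld.cons hp (Vld.nil _)
    have h2 := (evW_sound hL hent hneg w hw _ hv).2
    have h3 := (evW_sound hL hent hneg w' hw' _ hv).2
    rw [itp_single] at h2 h3
    have h4 := itp_mod (D := D) (l := E.l) hm (fun q hq => by simpa using h1 q hq) b
    rw [itp_insL, itp_scl, h2, h3, Pi.add_apply, Pi.smul_apply, smul_eq_mul] at h4
    push_cast at h4
    linear_combination h4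
  have hmv : ∀ A : Matrix D.Idx D.Idx ℤ, ∀ v : D.Idx → ℤ, A.map (Int.castRingHom F) *ᵥ ((Int.castRingHom F) ∘ v) = (Int.castRingHom F) ∘ (A *ᵥ v) :=
    fun A v => g.map_mulVec' (Int.castRingHom F) A v
  apply mat_ext
  · intro s hs
    rw [g.ev_cast, hmv, hmv]
    funext b
    have := key (E.l + s) (by have := hL.n; omega) b
    rw [bv, if_neg (by omega), Nat.add_sub_cancel_left] at this
    exact this
  · intro i hi
    rw [g.hv_cast, hmv, hmv]
    funext b
    have := key i (by have := hL.rank; omega) b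
    rw [bv, if_pos (by have := hL.rank; omega)] at this
    exact this

/-- value of an integer word -/
theorem word_val (g : Good D) {F : Type*} [Field F] {w : List (ℕ × ℤ)} (hw : ∀ q ∈ w, q.1 < D.nroots) :
    (((w.map fun q => g.xg q.1 ((q.2 : ℤ) : F)).prod : GL D.Idx F) : Matrix D.Idx D.Idx F) = (wordR D w).map (Int.castRingHom F) := by
  rw [Good.wordR_map]
  induction w with
  | nil => simp [wordR]
  | cons q w ih =>
    rw [List.map_cons, List.prod_cons, Units.val_mul, ih (fun z hz => hw z (by simp [hz])), g.xg_val (hw q (by simp))]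
    simp [wordR]

theorem nw_word (g : Good D) {F : Type*} [Field F] (L : List ℕ) : g.nl F L = ((nw D L).map fun q => g.xg q.1 ((q.2 : ℤ) : F)).prod := by
  induction L with
  | nil => simp [nw, g.nl_nil]
  | cons i L ih =>
    rw [g.nl_cons, ih]
    unfold nw Good.nn
    simp [mul_assoc]

theorem word_eq_of_chk (g : Good D) {E : Enc} (C : Checks D E) {m : ℤ} {w w' : List (ℕ × ℤ)} (h : chkWm E m w w' = true)
    (hv : (w ++ w').all (fun q => decide (q.1 < D.nroots)) = true) {F : Type*} [Field F] (hm : (m : F) = 0) :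
    ((w.map fun q => g.xg q.1 ((q.2 : ℤ) : F)).prod : GL D.Idx F) = (w'.map fun q => g.xg q.1 ((q.2 : ℤ) : F)).prod := by
  rw [List.all_eq_true] at hv
  have h1 : ∀ q ∈ w, q.1 < D.nroots := fun q hq => by simpa using hv q (List.mem_append_left _ hq)
  have h2 : ∀ q ∈ w', q.1 < D.nroots := fun q hq => by simpa using hv q (List.mem_append_right _ hq)
  apply Units.ext
  rw [word_val g h1, word_val g h2, chkWm_sound g C h1 h2 h hm]

namespace Good

variable (g : Good D) {F : Type*} [Field F]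
include g

/-- commuting root groups -/
theorem xg_commute {r s : ℕ} (hr : r < D.nroots) (hs : s < D.nroots) (h1 : s ≠ r) (h2 : s ≠ D.neg r)
    (h : ∀ c ∈ D.commTerms r s, ((c.2.1 : ℤ) : F) = 0) (t u : F) : g.xg r t * g.xg s u = g.xg s u * g.xg r t := by
  have h3 := g.xg_comm hr hs h1 h2 t u
  have h4 : ((D.commTerms r s).map fun c => g.xg c.1 (((c.2.1 : ℤ) : F) * (-t) ^ c.2.2.1 * u ^ c.2.2.2)).prod = 1 := by
    apply List.prod_eq_one
    intro z hz
    obtain ⟨c, hc, rfl⟩ := List.mem_map.1 hz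
    rw [h c hc, zero_mul, zero_mul, g.xg_zero]
  rw [h4, mul_one] at h3
  exact h3.symm

/-- the simple root group meets the span of the other positive roots trivially -/
theorem simple_sep {i : ℕ} (hi : i < D.rank) {S : ℕ → Prop} (hS : ∀ r < D.nroots, S r → g.N ≤ r ∧ r ≠ D.simple i) {t : F}
    (h : g.xg (D.simple i) t ∈ g.XS F S) : t = 0 := by
  have hs := g.simple_lt i hi
  have h1 : g.nn i * g.xg (D.simple i) t * (g.nn i)⁻¹ ∈ g.UU F := by
    have h2 : ∀ y ∈ g.XS F S, g.nn i * y * (g.nn i)⁻¹ ∈ g.UU F := by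
      intro y hy
      have h3 := g.conj_map_XS (F := F) (S := S) (T := fun r => g.N ≤ r) (L := [i]) (by simpa using hi) (fun r hr hr' =>
        g.w_pos i hi r hr (hS r hr hr').1 (hS r hr hr').2) y hy
      rwa [g.nl_cons, g.nl_nil, mul_one] at h3
    exact h2 _ h
  rw [g.nn_x hi hs, g.w_simple i hi] at h1
  have h2 : g.xg (D.neg (D.simple i)) (((g.e i (D.simple i) : ℤ) : F) * t) ∈ g.VV F := by
    apply g.xg_mem_VV
    rw [g.neg_lt_iff hs]
    exact g.N_le_simple hi
  have h3 := g.UU_inf_VV h1 h2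
  have h4 := g.xg_eq_one (g.neg_lt hs) h3
  rw [g.e_simple i hi] at h4
  simpa using h4

theorem XS_one {p : ℕ} (hp : p < D.nroots) {S : ℕ → Prop} (hS : ∀ r < D.nroots, S r ↔ r = p) {x : GL D.Idx F} :
    x ∈ g.XS F S ↔ ∃ t, x = g.xg p t := by
  constructor
  · intro hx
    induction hx using Subgroup.closure_induction with
    | mem y hy =>
      obtain ⟨s, u, h1, h2, rfl⟩ := hy
      exact ⟨u, by rw [(hS s h2).1 h1]⟩
    | one => exact ⟨0, (g.xg_zero p).symm⟩
    | mul a b _ _ ha hb =>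
      obtain ⟨t, rfl⟩ := ha
      obtain ⟨u, rfl⟩ := hb
      exact ⟨t + u, g.xg_add hp t u⟩
    | inv a _ ha =>
      obtain ⟨t, rfl⟩ := ha
      exact ⟨-t, g.xg_inv hp t⟩
  · rintro ⟨t, rfl⟩
    exact g.xg_mem ((hS p hp).2 rfl) t

theorem XS_two {p p' : ℕ} (hp : p < D.nroots) (hp' : p' < D.nroots) (hc : ∀ t u : F, g.xg p t * g.xg p' u = g.xg p' u * g.xg p t)
    {S : ℕ → Prop} (hS : ∀ r < D.nroots, S r ↔ r = p ∨ r = p') {x : GL D.Idx F} :
    x ∈ g.XS F S ↔ ∃ t u, x = g.xg p t * g.xg p' u := by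
  constructor
  · intro hx
    induction hx using Subgroup.closure_induction with
    | mem y hy =>
      obtain ⟨s, u, h1, h2, rfl⟩ := hy
      rcases (hS s h2).1 h1 with rfl | rfl
      · exact ⟨u, 0, by rw [g.xg_zero, mul_one]⟩
      · exact ⟨0, u, by rw [g.xg_zero, one_mul]⟩
    | one => exact ⟨0, 0, by rw [g.xg_zero, g.xg_zero, one_mul]⟩
    | mul a b _ _ ha hb =>
      obtain ⟨t, u, rfl⟩ := ha
      obtain ⟨t', u', rfl⟩ := hb
      refine ⟨t + t', u + u', ?_⟩
      rw [← g.xg_add hp, ← g.xg_add hp']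
      have : g.xg p t * g.xg p' u * (g.xg p t' * g.xg p' u') = g.xg p t * (g.xg p' u * g.xg p t') * g.xg p' u' := by group
      rw [this, ← hc]; group
    | inv a _ ha =>
      obtain ⟨t, u, rfl⟩ := ha
      refine ⟨-t, -u, ?_⟩
      rw [_root_.mul_inv_rev, g.xg_inv hp, g.xg_inv hp', hc]
  · rintro ⟨t, u, rfl⟩
    exact Subgroup.mul_mem _ (g.xg_mem ((hS p hp).2 (Or.inl rfl)) t) (g.xg_mem ((hS p' hp').2 (Or.inr rfl)) u)

theorem XS_three {p p' p'' : ℕ} (hp : p < D.nroots) (hp' : p' < D.nroots) (hp'' : p'' < D.nroots)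
    (hc : ∀ t u : F, g.xg p t * g.xg p' u = g.xg p' u * g.xg p t) (hc' : ∀ t u : F, g.xg p t * g.xg p'' u = g.xg p'' u * g.xg p t)
    (hc'' : ∀ t u : F, g.xg p' t * g.xg p'' u = g.xg p'' u * g.xg p' t)
    {S : ℕ → Prop} (hS : ∀ r < D.nroots, S r ↔ r = p ∨ r = p' ∨ r = p'') {x : GL D.Idx F} :
    x ∈ g.XS F S ↔ ∃ t u v, x = g.xg p t * g.xg p' u * g.xg p'' v := by
  constructor
  · intro hx
    induction hx using Subgroup.closure_induction with
    | mem y hy =>
      obtain ⟨s, u, h1, h2, rfl⟩ := hy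
      rcases (hS s h2).1 h1 with rfl | rfl | rfl
      · exact ⟨u, 0, 0, by rw [g.xg_zero, g.xg_zero, mul_one, mul_one]⟩
      · exact ⟨0, u, 0, by rw [g.xg_zero, g.xg_zero, one_mul, mul_one]⟩
      · exact ⟨0, 0, u, by rw [g.xg_zero, g.xg_zero, one_mul, one_mul]⟩
    | one => exact ⟨0, 0, 0, by rw [g.xg_zero, g.xg_zero, g.xg_zero, one_mul, one_mul]⟩
    | mul a b _ _ ha hb =>
      obtain ⟨t, u, v, rfl⟩ := ha
      obtain ⟨t', u', v', rfl⟩ := hb
      refine ⟨t + t', u + u', v + v', ?_⟩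
      rw [← g.xg_add hp, ← g.xg_add hp', ← g.xg_add hp'']
      have e1 : g.xg p t * g.xg p' u * g.xg p'' v * (g.xg p t' * g.xg p' u' * g.xg p'' v') =
        g.xg p t * g.xg p' u * (g.xg p'' v * g.xg p t') * g.xg p' u' * g.xg p'' v' := by group
      have e2 : g.xg p t * g.xg p' u * (g.xg p t' * g.xg p'' v) * g.xg p' u' * g.xg p'' v' =
        g.xg p t * (g.xg p' u * g.xg p t') * (g.xg p'' v * g.xg p' u') * g.xg p'' v' := by group
      rw [e1, ← hc', e2, ← hc, ← hc'']
      group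
    | inv a _ ha =>
      obtain ⟨t, u, v, rfl⟩ := ha
      refine ⟨-t, -u, -v, ?_⟩
      rw [_root_.mul_inv_rev, _root_.mul_inv_rev, g.xg_inv hp, g.xg_inv hp', g.xg_inv hp'', ← mul_assoc, ← hc'', mul_assoc, ← hc', ← mul_assoc, hc]
  · rintro ⟨t, u, v, rfl⟩
    exact Subgroup.mul_mem _ (Subgroup.mul_mem _ (g.xg_mem ((hS p hp).2 (Or.inl rfl)) t) (g.xg_mem ((hS p' hp').2 (Or.inr (Or.inl rfl))) u))
      (g.xg_mem ((hS p'' hp'').2 (Or.inr (Or.inr rfl))) v)

theorem two_inj {i p' : ℕ} (hi : i < D.rank) (hp' : p' < D.nroots) (hpp : g.N ≤ p') (hne : p' ≠ D.simple i) {t u t' u' : F}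
    (h : g.xg (D.simple i) t * g.xg p' u = g.xg (D.simple i) t' * g.xg p' u') : t = t' ∧ u = u' := by
  have hs := g.simple_lt i hi
  have h1 : g.xg (D.simple i) (-t' + t) = g.xg p' (u' + -u) := by
    rw [← g.xg_add hs, ← g.xg_add hp', ← g.xg_inv hs, ← g.xg_inv hp']
    calc (g.xg (D.simple i) t')⁻¹ * g.xg (D.simple i) t = (g.xg (D.simple i) t')⁻¹ * (g.xg (D.simple i) t * g.xg p' u) * (g.xg p' u)⁻¹ := by group
      _ = _ := by rw [h]; group
  have h2 := g.simple_sep hi (S := fun r => r = p') (t := -t' + t) (fun r hr hr' => by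
    rw [hr']; exact ⟨hpp, hne⟩) (by rw [h1]; exact g.xg_mem (S := fun r => r = p') rfl _)
  have h3 : t = t' := by linear_combination h2
  subst h3
  refine ⟨rfl, ?_⟩
  have h4 := mul_left_cancel h
  have h5 : g.xg p' (u - u') = 1 := by
    rw [sub_eq_add_neg, ← g.xg_add hp', h4, ← g.xg_inv hp', mul_inv_cancel]
  have := g.xg_eq_one hp' h5
  linear_combination this

end Good

end Chv
end CfsgH6
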