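import Cfsg.Agent.H6.Tw7

set_option autoImplicit false

/-! Orbit groups of type `A₁ × ⋯ × A₁`, the four twisted types. -/

namespace CfsgH6
namespace Chv

open Cfsg.Lie

variable {D : ChevalleyDatum}

def snB (D : ChevalleyDatum) (w : ℕ → ℕ → ℕ) (N : ℕ) (W R : List ℕ) : Bool :=
  (List.range D.nroots).all fun r => decide ((N ≤ r ∧ wlF w W r < N) ↔ r ∈ R)

theorem snB_spec (g : Good D) {W R : List ℕ} (h : snB D g.w g.N W R = true) : ∀ r < D.nroots, g.Sneg W r ↔ r ∈ R := by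
  unfold snB at h
  simp only [List.all_eq_true, List.mem_range, decide_eq_true_eq] at h
  intro r hr
  unfold Good.Sneg
  rw [wl_eq_wlF]
  exact h r hr

namespace Tw

variable {g : Good D} {F : Type*} [Field F] (T : Tw g F)
include T

theorem orb1 {p : ℕ} (hp : p < D.nroots) {S : ℕ → Prop} (hS : ∀ r < D.nroots, S r ↔ r = p) {φ : F → F}
    (h : ∀ t, T.ff (g.xg p t) = g.xg p (φ t)) {x : GL D.Idx F} : x ∈ g.XS F S ⊓ T.FG ↔ ∃ t, φ t = t ∧ x = g.xg p t := by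
  constructor
  · rintro ⟨h1, h2⟩
    obtain ⟨t, rfl⟩ := (g.XS_one hp hS).1 h1
    refine ⟨t, ?_, rfl⟩
    have h3 := h2.2
    rw [h t] at h3
    have h4 : g.xg p (φ t - t) = 1 := by rw [sub_eq_add_neg, ← g.xg_add hp, h3, ← g.xg_inv hp, mul_inv_cancel]
    have := g.xg_eq_one hp h4
    linear_combination this
  · rintro ⟨t, ht, rfl⟩
    exact ⟨(g.XS_one hp hS).2 ⟨t, rfl⟩, g.xg_mem_GG _ _, by rw [h t, ht]⟩

theorem orb2 {i p' : ℕ} (hi : i < D.rank) (hp' : p' < D.nroots) (hpp : g.N ≤ p') (hne : p' ≠ D.simple i)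
    (hc : ∀ t u : F, g.xg (D.simple i) t * g.xg p' u = g.xg p' u * g.xg (D.simple i) t)
    {S : ℕ → Prop} (hS : ∀ r < D.nroots, S r ↔ r = D.simple i ∨ r = p') {φ ψ : F → F}
    (h : ∀ t, T.ff (g.xg (D.simple i) t) = g.xg p' (φ t)) (h' : ∀ t, T.ff (g.xg p' t) = g.xg (D.simple i) (ψ t)) (hφ : ∀ t, ψ (φ t) = t)
    {x : GL D.Idx F} : x ∈ g.XS F S ⊓ T.FG ↔ ∃ t, x = g.xg (D.simple i) t * g.xg p' (φ t) := by
  have hp := g.simple_lt i hi
  constructor
  · rintro ⟨h1, h2⟩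
    obtain ⟨t, u, rfl⟩ := (g.XS_two hp hp' hc hS).1 h1
    have h3 := h2.2
    rw [T.ff_mul (g.xg_mem_GG _ _) (g.xg_mem_GG _ _), h t, h' u, ← hc] at h3
    obtain ⟨h4, h5⟩ := g.two_inj hi hp' hpp hne h3
    exact ⟨t, by rw [h5]⟩
  · rintro ⟨t, rfl⟩
    refine ⟨(g.XS_two hp hp' hc hS).2 ⟨t, _, rfl⟩, Subgroup.mul_mem _ (g.xg_mem_GG _ _) (g.xg_mem_GG _ _), ?_⟩
    rw [T.ff_mul (g.xg_mem_GG _ _) (g.xg_mem_GG _ _), h t, h' (φ t), hφ, hc]

theorem orb3 {i j p'' : ℕ} (hi : i < D.rank) (hj : j < D.rank) (hp'' : p'' < D.nroots) (hpp : g.N ≤ p'') (hne1 : D.simple j ≠ D.simple i)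
    (hne2 : p'' ≠ D.simple i) (hne3 : p'' ≠ D.simple j)
    (hc : ∀ t u : F, g.xg (D.simple i) t * g.xg (D.simple j) u = g.xg (D.simple j) u * g.xg (D.simple i) t)
    (hc' : ∀ t u : F, g.xg (D.simple i) t * g.xg p'' u = g.xg p'' u * g.xg (D.simple i) t)
    (hc'' : ∀ t u : F, g.xg (D.simple j) t * g.xg p'' u = g.xg p'' u * g.xg (D.simple j) t)
    {S : ℕ → Prop} (hS : ∀ r < D.nroots, S r ↔ r = D.simple i ∨ r = D.simple j ∨ r = p'') {φ : F → F}
    (h : ∀ t, T.ff (g.xg (D.simple i) t) = g.xg (D.simple j) (φ t)) (h' : ∀ t, T.ff (g.xg (D.simple j) t) = g.xg p'' (φ t))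
    (h'' : ∀ t, T.ff (g.xg p'' t) = g.xg (D.simple i) (φ t)) (hφ : ∀ t, φ (φ (φ t)) = t)
    {x : GL D.Idx F} : x ∈ g.XS F S ⊓ T.FG ↔ ∃ t, x = g.xg (D.simple i) t * g.xg (D.simple j) (φ t) * g.xg p'' (φ (φ t)) := by
  have hp := g.simple_lt i hi
  have hp' := g.simple_lt j hj
  have hx : ∀ r (t : F), g.xg r t ∈ g.GG F := fun r t => g.xg_mem_GG r t
  have key : ∀ t u v : F, T.ff (g.xg (D.simple i) t * g.xg (D.simple j) u * g.xg p'' v) = g.xg (D.simple i) (φ v) * g.xg (D.simple j) (φ t) * g.xg p'' (φ u) := by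
    intro t u v
    rw [T.ff_mul (Subgroup.mul_mem _ (hx _ _) (hx _ _)) (hx _ _), T.ff_mul (hx _ _) (hx _ _), h, h', h'', mul_assoc, ← hc', ← mul_assoc, ← hc]
  constructor
  · rintro ⟨h1, h2⟩
    obtain ⟨t, u, v, rfl⟩ := (g.XS_three hp hp' hp'' hc hc' hc'' hS).1 h1
    have h3 := h2.2
    rw [key] at h3
    -- separate the first factor
    have h4 : g.xg (D.simple i) (-t + φ v) = g.xg (D.simple j) u * g.xg p'' v * (g.xg (D.simple j) (φ t) * g.xg p'' (φ u))⁻¹ := by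
      rw [← g.xg_add hp, ← g.xg_inv hp]
      calc (g.xg (D.simple i) t)⁻¹ * g.xg (D.simple i) (φ v) = (g.xg (D.simple i) t)⁻¹ *
          (g.xg (D.simple i) (φ v) * g.xg (D.simple j) (φ t) * g.xg p'' (φ u)) * (g.xg (D.simple j) (φ t) * g.xg p'' (φ u))⁻¹ := by group
        _ = _ := by rw [h3]; group
    have hm : ∀ a b : F, g.xg (D.simple j) a * g.xg p'' b ∈ g.XS F (fun r => r = D.simple j ∨ r = p'') := fun a b =>
      Subgroup.mul_mem _ (g.xg_mem (S := fun r => r = D.simple j ∨ r = p'') (Or.inl rfl) a) (g.xg_mem (S := fun r => r = D.simple j ∨ r = p'') (Or.inr rfl) b)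
    have h5 := g.simple_sep hi (S := fun r => r = D.simple j ∨ r = p'') (t := -t + φ v) (by
      rintro r hr (rfl | rfl)
      · exact ⟨g.N_le_simple hj, hne1⟩
      · exact ⟨hpp, hne2⟩) (by rw [h4]; exact Subgroup.mul_mem _ (hm _ _) (Subgroup.inv_mem _ (hm _ _)))
    have h6 : φ v = t := by linear_combination h5
    rw [h6, mul_assoc, mul_assoc] at h3
    have h7 := mul_left_cancel h3
    obtain ⟨h8, h9⟩ := g.two_inj hj hp'' hpp hne3 h7
    exact ⟨t, by rw [h8, h9]⟩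
  · rintro ⟨t, rfl⟩
    refine ⟨(g.XS_three hp hp' hp'' hc hc' hc'' hS).2 ⟨t, _, _, rfl⟩, Subgroup.mul_mem _ (Subgroup.mul_mem _ (hx _ _) (hx _ _)) (hx _ _), ?_⟩
    rw [key, hφ]

theorem card_orb1 {p : ℕ} (hp : p < D.nroots) {S : ℕ → Prop} (hS : ∀ r < D.nroots, S r ↔ r = p) {φ : F → F}
    (h : ∀ t, T.ff (g.xg p t) = g.xg p (φ t)) : Nat.card ↥(g.XS F S ⊓ T.FG) = Nat.card {t : F // φ t = t} := by
  symm
  refine Nat.card_congr (Equiv.ofBijective (fun t : {t : F // φ t = t} => (⟨g.xg p t.1, (T.orb1 hp hS h).2 ⟨t.1, t.2, rfl⟩⟩ : ↥(g.XS F S ⊓ T.FG))) ⟨?_, ?_⟩)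
  · rintro ⟨t, ht⟩ ⟨u, hu⟩ he
    have h1 : g.xg p t = g.xg p u := congrArg Subtype.val he
    have h2 : g.xg p (t - u) = 1 := by rw [sub_eq_add_neg, ← g.xg_add hp, h1, ← g.xg_inv hp, mul_inv_cancel]
    have := g.xg_eq_one hp h2
    exact Subtype.ext (by show t = u; linear_combination this)
  · rintro ⟨x, hx⟩
    obtain ⟨t, ht, he⟩ := (T.orb1 hp hS h).1 hx
    exact ⟨⟨t, ht⟩, Subtype.ext he.symm⟩

theorem card_orb2 {i p' : ℕ} (hi : i < D.rank) (hp' : p' < D.nroots) (hpp : g.N ≤ p') (hne : p' ≠ D.simple i)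
    (hc : ∀ t u : F, g.xg (D.simple i) t * g.xg p' u = g.xg p' u * g.xg (D.simple i) t)
    {S : ℕ → Prop} (hS : ∀ r < D.nroots, S r ↔ r = D.simple i ∨ r = p') {φ ψ : F → F}
    (h : ∀ t, T.ff (g.xg (D.simple i) t) = g.xg p' (φ t)) (h' : ∀ t, T.ff (g.xg p' t) = g.xg (D.simple i) (ψ t)) (hφ : ∀ t, ψ (φ t) = t) :
    Nat.card ↥(g.XS F S ⊓ T.FG) = Nat.card F := by
  symm
  refine Nat.card_congr (Equiv.ofBijective (fun t : F => (⟨g.xg (D.simple i) t * g.xg p' (φ t), (T.orb2 hi hp' hpp hne hc hS h h' hφ).2 ⟨t, rfl⟩⟩ : ↥(g.XS F S ⊓ T.FG))) ⟨?_, ?_⟩)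
  · intro t u he
    exact (g.two_inj hi hp' hpp hne (congrArg Subtype.val he)).1
  · rintro ⟨x, hx⟩
    obtain ⟨t, he⟩ := (T.orb2 hi hp' hpp hne hc hS h h' hφ).1 hx
    exact ⟨t, Subtype.ext he.symm⟩

theorem card_orb3 {i j p'' : ℕ} (hi : i < D.rank) (hj : j < D.rank) (hp'' : p'' < D.nroots) (hpp : g.N ≤ p'') (hne1 : D.simple j ≠ D.simple i)
    (hne2 : p'' ≠ D.simple i) (hne3 : p'' ≠ D.simple j)
    (hc : ∀ t u : F, g.xg (D.simple i) t * g.xg (D.simple j) u = g.xg (D.simple j) u * g.xg (D.simple i) t)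
    (hc' : ∀ t u : F, g.xg (D.simple i) t * g.xg p'' u = g.xg p'' u * g.xg (D.simple i) t)
    (hc'' : ∀ t u : F, g.xg (D.simple j) t * g.xg p'' u = g.xg p'' u * g.xg (D.simple j) t)
    {S : ℕ → Prop} (hS : ∀ r < D.nroots, S r ↔ r = D.simple i ∨ r = D.simple j ∨ r = p'') {φ : F → F}
    (h : ∀ t, T.ff (g.xg (D.simple i) t) = g.xg (D.simple j) (φ t)) (h' : ∀ t, T.ff (g.xg (D.simple j) t) = g.xg p'' (φ t))
    (h'' : ∀ t, T.ff (g.xg p'' t) = g.xg (D.simple i) (φ t)) (hφ : ∀ t, φ (φ (φ t)) = t) :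
    Nat.card ↥(g.XS F S ⊓ T.FG) = Nat.card F := by
  symm
  refine Nat.card_congr (Equiv.ofBijective (fun t : F => (⟨g.xg (D.simple i) t * g.xg (D.simple j) (φ t) * g.xg p'' (φ (φ t)),
    (T.orb3 hi hj hp'' hpp hne1 hne2 hne3 hc hc' hc'' hS h h' h'' hφ).2 ⟨t, rfl⟩⟩ : ↥(g.XS F S ⊓ T.FG))) ⟨?_, ?_⟩)
  · intro t u he
    have h1 : g.xg (D.simple i) t * g.xg (D.simple j) (φ t) * g.xg p'' (φ (φ t)) = g.xg (D.simple i) u * g.xg (D.simple j) (φ u) * g.xg p'' (φ (φ u)) :=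
      congrArg Subtype.val he
    have hp := g.simple_lt i hi
    have h4 : g.xg (D.simple i) (-u + t) = g.xg (D.simple j) (φ u) * g.xg p'' (φ (φ u)) * (g.xg (D.simple j) (φ t) * g.xg p'' (φ (φ t)))⁻¹ := by
      rw [← g.xg_add hp, ← g.xg_inv hp]
      calc (g.xg (D.simple i) u)⁻¹ * g.xg (D.simple i) t = (g.xg (D.simple i) u)⁻¹ *
          (g.xg (D.simple i) t * g.xg (D.simple j) (φ t) * g.xg p'' (φ (φ t))) * (g.xg (D.simple j) (φ t) * g.xg p'' (φ (φ t)))⁻¹ := by group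
        _ = _ := by rw [h1]; group
    have hm : ∀ a b : F, g.xg (D.simple j) a * g.xg p'' b ∈ g.XS F (fun r => r = D.simple j ∨ r = p'') := fun a b =>
      Subgroup.mul_mem _ (g.xg_mem (S := fun r => r = D.simple j ∨ r = p'') (Or.inl rfl) a) (g.xg_mem (S := fun r => r = D.simple j ∨ r = p'') (Or.inr rfl) b)
    have h5 := g.simple_sep hi (S := fun r => r = D.simple j ∨ r = p'') (t := -u + t) (by
      rintro r hr (rfl | rfl)
      · exact ⟨g.N_le_simple hj, hne1⟩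
      · exact ⟨hpp, hne2⟩) (by rw [h4]; exact Subgroup.mul_mem _ (hm _ _) (Subgroup.inv_mem _ (hm _ _)))
    linear_combination h5
  · rintro ⟨x, hx⟩
    obtain ⟨t, he⟩ := (T.orb3 hi hj hp'' hpp hne1 hne2 hne3 hc hc' hc'' hS h h' h'' hφ).1 hx
    exact ⟨t, Subtype.ext he.symm⟩

end Tw

/-! ### Frobenius -/

section frob

variable {K : Type*} [Field K] [Fintype K] {q : ℕ}

theorem exists_frob (hq : IsPrimePow q) {k : ℕ} (hK : Fintype.card K = q ^ k) : ∃ φ : K ≃+* K, ∀ t, φ t = t ^ q := by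
  obtain ⟨p, n, hp, hn, rfl⟩ := hq
  have hp' := hp.nat_prime
  haveI := Fact.mk hp'
  obtain ⟨l, hl⟩ := CharP.exists K
  obtain ⟨m, hlp, hm⟩ := FiniteField.card K l
  have h1 : l = p := by
    rw [← pow_mul, hm] at hK
    have h2 : p ∣ l ^ (m : ℕ) := by
      rw [hK]
      apply dvd_pow_self
      intro h0
      rw [h0, pow_zero] at hK
      have := Nat.one_lt_pow (PNat.ne_zero m) hlp.one_lt
      omega
    exact ((Nat.prime_dvd_prime_iff_eq hp' hlp).1 (hp'.dvd_of_dvd_pow h2)).symm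
  subst h1
  exact ⟨RingEquiv.ofBijective (iterateFrobenius K l n) ⟨RingHom.injective _, Finite.surjective_of_injective (RingHom.injective _)⟩, fun t => rfl⟩

open Classical in
/-- the `q`-th power map -/
noncomputable def frobQ (K : Type*) [Field K] (q : ℕ) : K ≃+* K :=
  if h : ∃ φ : K ≃+* K, ∀ t, φ t = t ^ q then h.choose else RingEquiv.refl K

theorem frobQ_eq (hq : IsPrimePow q) {k : ℕ} (hK : Fintype.card K = q ^ k) (t : K) : frobQ K q t = t ^ q := by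
  have h := exists_frob hq hK
  unfold frobQ
  rw [dif_pos h]
  exact h.choose_spec t

/-- the number of elements fixed by the `q`-th power map -/
theorem card_fix {k : ℕ} (hq : 2 ≤ q) (hK : Fintype.card K = q ^ k) : Nat.card {t : K // t ^ q = t} = q := by
  have hd : q - 1 ∣ Fintype.card K - 1 := by
    rw [hK]
    simpa using Nat.sub_dvd_pow_sub_pow q 1 k
  have h1 : Nat.card (powMonoidHom (q - 1) : Kˣ →* Kˣ).ker = q - 1 := by
    rw [IsCyclic.card_powMonoidHom_ker, Nat.card_units, Nat.card_eq_fintype_card]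
    exact Nat.gcd_eq_right hd
  have e : {t : K // t ^ q = t} ≃ Option (powMonoidHom (q - 1) : Kˣ →* Kˣ).ker := by
    classical
    refine
      { toFun := fun t => if h : t.1 = 0 then none else some ⟨Units.mk0 t.1 h, ?_⟩
        invFun := fun o => o.elim ⟨0, by rw [zero_pow (by omega)]⟩ (fun u => ⟨((u : Kˣ) : K), ?_⟩)
        left_inv := ?_
        right_inv := ?_ }
    · rw [MonoidHom.mem_ker]
      apply Units.ext
      show (t.1) ^ (q - 1) = 1
      have h2 := t.2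
      have h3 : t.1 ^ q = t.1 ^ (q - 1) * t.1 := by rw [← pow_succ]; congr 1; omega
      rw [h3] at h2
      exact mul_right_cancel₀ h (h2.trans (one_mul _).symm)
    · have h2 := congrArg (Units.val) (MonoidHom.mem_ker.1 u.2)
      have h3 : ((u : Kˣ) : K) ^ (q - 1) = 1 := h2
      have h4 : ((u : Kˣ) : K) ^ q = ((u : Kˣ) : K) ^ (q - 1) * (u : Kˣ) := by rw [← pow_succ]; congr 1; omega
      rw [h4, h3, one_mul]
    · rintro ⟨t, ht⟩
      by_cases h : t = 0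
      · subst h; simp
      · simp [h]
    · rintro (_ | ⟨u, hu⟩)
      · simp
      · simp
  rw [Nat.card_congr e, Finite.card_option, h1]
  omega

end frob

/-! ### the four types -/

theorem hwE6 (K : Type*) [Field K] : ∀ a < tJE6.length, goodE6.nl K ((tWE6.getD a []).map grE6.pi) = goodE6.nl K (tWE6.getD a []) := by
  intro a ha
  have ha' : a < 4 := ha
  interval_cases a
  · rfl
  · rfl
  · exact (nl_eq_of_chk (g := goodE6) checksE6 (L := [2, 4]) (L' := [4, 2]) (by decide) (by decide) nwE6_2).symm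
  · exact (nl_eq_of_chk (g := goodE6) checksE6 (L := [0, 5]) (L' := [5, 0]) (by decide) (by decide) nwE6_3).symm

theorem hwD4 (K : Type*) [Field K] : ∀ a < tJD4.length, goodD4.nl K ((tWD4.getD a []).map grD4.pi) = goodD4.nl K (tWD4.getD a []) := by
  intro a ha
  have ha' : a < 2 := ha
  interval_cases a
  · rfl
  · exact (nl_eq_of_chk (g := goodD4) checksD4 (L := [0, 2, 3]) (L' := [2, 3, 0]) (by decide) (by decide) nwD4_1).symm

theorem hwF4 (K : Type*) [Field K] : ∀ a < tJF4.length, goodF4.nl K ((tWF4.getD a []).map grF4.pi) = goodF4.nl K (tWF4.getD a []) := by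
  intro a ha
  have ha' : a < 2 := ha
  interval_cases a
  · exact (nl_eq_of_chk (g := goodF4) checksF4 (L := [0, 3]) (L' := [3, 0]) (by decide) (by decide) nwF4_0).symm
  · exact (nl_eq_of_chk (g := goodF4) checksF4 (L := [1, 2, 1, 2]) (L' := [2, 1, 2, 1]) (by decide) (by decide) nwF4_1).symm

theorem hwG2 (K : Type*) [Field K] : ∀ a < tJG2.length, goodG2.nl K ((tWG2.getD a []).map grG2.pi) = goodG2.nl K (tWG2.getD a []) := by
  intro a ha
  have ha' : a < 1 := ha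
  interval_cases a
  exact (nl_eq_of_chk (g := goodG2) checksG2 (L := [0, 1, 0, 1, 0, 1]) (L' := [1, 0, 1, 0, 1, 0]) (by decide) (by decide) nwG2_0).symm

section types

variable (K : Type*) [Field K] [Finite K]

noncomputable def twE6 (q : ℕ) : Tw goodE6 K :=
  mkTw (T := grE6) (Or.inl rfl) grE6_P tbE6 (φ := frobQ K q)
    (exists_tw goodE6 (F := K) (T := grE6) (Or.inl rfl) grE6_P cmE6 (Or.inl rfl) (Or.inr inferInstance) (frobQ K q)).choose_spec (hwE6 K)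

noncomputable def twD4 (q : ℕ) : Tw goodD4 K :=
  mkTw (T := grD4) (Or.inl rfl) grD4_P tbD4 (φ := frobQ K q)
    (exists_tw goodD4 (F := K) (T := grD4) (Or.inl rfl) grD4_P cmD4 (Or.inl rfl) (Or.inr inferInstance) (frobQ K q)).choose_spec (hwD4 K)

theorem perf2 [CharP K 2] : ∀ x : K, ∃ y : K, y ^ 2 = x := by
  intro x
  haveI : Fact (Nat.Prime 2) := ⟨Nat.prime_two⟩
  exact Finite.surjective_of_injective (RingHom.injective (frobenius K 2)) x

theorem perf3 [CharP K 3] : ∀ x : K, ∃ y : K, y ^ 3 = x := by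
  intro x
  haveI : Fact (Nat.Prime 3) := ⟨Nat.prime_three⟩
  exact Finite.surjective_of_injective (RingHom.injective (frobenius K 3)) x

noncomputable def twF4 [hc : CharP K 2] (q : ℕ) : Tw goodF4 K :=
  mkTw (T := grF4) (Or.inr ⟨Nat.prime_two, hc⟩) grF4_P tbF4 (φ := frobQ K q)
    (exists_tw goodF4 (F := K) (T := grF4) (Or.inr ⟨Nat.prime_two, hc⟩) grF4_P cmF4 (Or.inr (perf2 K)) (Or.inr inferInstance) (frobQ K q)).choose_spec (hwF4 K)

noncomputable def twG2 [hc : CharP K 3] (q : ℕ) : Tw goodG2 K :=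
  mkTw (T := grG2) (Or.inr ⟨Nat.prime_three, hc⟩) grG2_P tbG2 (φ := frobQ K q)
    (exists_tw goodG2 (F := K) (T := grG2) (Or.inr ⟨Nat.prime_three, hc⟩) grG2_P cmG2 (Or.inr (perf3 K)) (Or.inr inferInstance) (frobQ K q)).choose_spec (hwG2 K)

end types

end Chv
end CfsgH6
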