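import Cfsg.Agent.H6.Tw8
import Cfsg.Agent.H6.ChO2

set_option autoImplicit false

/-! Tori of the twisted groups; pairs and triples of root `SL₂`s. -/

namespace CfsgH6
namespace Chv

open Cfsg.Lie

variable {D : ChevalleyDatum}

theorem comm3 {G : Type*} [Group G] {x1 y1 x2 y2 : G} (h1 : x1 * x2 = x2 * x1) (h2 : y1 * x2 = x2 * y1) (h3 : y1 * y2 = y2 * y1)
    (h4 : x1 * y2 = y2 * x1) : x1 * y1 * x1 * (x2 * y2 * x2) = (x1 * x2) * (y1 * y2) * (x1 * x2) := by
  calc x1 * y1 * x1 * (x2 * y2 * x2) = x1 * y1 * (x1 * x2) * y2 * x2 := by group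
    _ = x1 * (y1 * x2) * x1 * y2 * x2 := by rw [h1]; group
    _ = x1 * x2 * y1 * (x1 * y2) * x2 := by rw [h2]; group
    _ = x1 * x2 * y1 * y2 * x1 * x2 := by rw [h4]; group
    _ = _ := by group

namespace Good

variable (g : Good D) {F : Type*} [Field F]
include g

theorem hc_congr {c c' : ℕ → Fˣ} (h : ∀ i < D.rank, c i = c' i) : g.hc c = g.hc c' := by
  unfold hc
  apply g.dgl_congr
  intro s _
  unfold hcf
  apply Finset.prod_congr rfl
  intro i hi
  rw [h i (Finset.mem_range.1 hi)]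

theorem hc_div (c c' : ℕ → Fˣ) : g.hc (fun i => c i / c' i) = g.hc c * (g.hc c')⁻¹ := by
  rw [g.hc_inv, g.hc_mul]
  congr 1

theorem hc_list {ι : Type*} (l : List ι) (f : ι → ℕ → Fˣ) : (l.map fun i => g.hc (f i)).prod = g.hc (fun j => (l.map fun i => f i j).prod) := by
  induction l with
  | nil => simp [g.hc_one]
  | cons a l ih => rw [List.map_cons, List.prod_cons, ih, g.hc_mul]; rfl

/-- mutually commuting rank one groups -/
def Orth (F : Type*) [Field F] (r s : ℕ) : Prop :=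
  (∀ t u : F, g.xg r t * g.xg s u = g.xg s u * g.xg r t) ∧ (∀ t u : F, g.xg (D.neg r) t * g.xg s u = g.xg s u * g.xg (D.neg r) t) ∧
  (∀ t u : F, g.xg (D.neg r) t * g.xg (D.neg s) u = g.xg (D.neg s) u * g.xg (D.neg r) t) ∧
  (∀ t u : F, g.xg r t * g.xg (D.neg s) u = g.xg (D.neg s) u * g.xg r t)

theorem ng_two {r s : ℕ} (h : g.Orth F r s) (t u : F) : g.ng r t * g.ng s u =
    (g.xg r t * g.xg s u) * (g.xg (D.neg r) (-t⁻¹) * g.xg (D.neg s) (-u⁻¹)) * (g.xg r t * g.xg s u) :=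
  comm3 (h.1 _ _) (h.2.1 _ _) (h.2.2.1 _ _) (h.2.2.2 _ _)

theorem ng_three {r s p : ℕ} (h : g.Orth F r s) (h' : g.Orth F r p) (h'' : g.Orth F s p) (t u v : F) : g.ng r t * g.ng s u * g.ng p v =
    (g.xg r t * g.xg s u * g.xg p v) * (g.xg (D.neg r) (-t⁻¹) * g.xg (D.neg s) (-u⁻¹) * g.xg (D.neg p) (-v⁻¹)) * (g.xg r t * g.xg s u * g.xg p v) := by
  rw [g.ng_two h]
  have m : ∀ {a b c : GL D.Idx F}, a * c = c * a → b * c = c * b → a * b * c = c * (a * b) := by
    intro a b c h1 h2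
    rw [mul_assoc, h2, ← mul_assoc, h1, mul_assoc]
  exact comm3 (m (h'.1 _ _) (h''.1 _ _)) (m (h'.2.1 _ _) (h''.2.1 _ _)) (m (h'.2.2.1 _ _) (h''.2.2.1 _ _)) (m (h'.2.2.2 _ _) (h''.2.2.2 _ _))

theorem Orth.ng_comm {r s : ℕ} (h : g.Orth F r s) (t u : F) : g.ng r t * g.ng s u = g.ng s u * g.ng r t := by
  have m : ∀ {a b c : GL D.Idx F}, a * c = c * a → b * c = c * b → a * b * c = c * (a * b) := by
    intro a b c h1 h2
    rw [mul_assoc, h2, ← mul_assoc, h1, mul_assoc]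
  have m' : ∀ {a b c : GL D.Idx F}, c * a = a * c → c * b = b * c → c * (a * b) = a * b * c := by
    intro a b c h1 h2
    rw [← mul_assoc, h1, mul_assoc, h2, ← mul_assoc]
  unfold ng
  exact m' (m' (m (m (h.1 _ _) (h.2.1 _ _)) (h.1 _ _)) (m (m (h.2.2.2 _ _) (h.2.2.1 _ _)) (h.2.2.2 _ _))) (m (m (h.1 _ _) (h.2.1 _ _)) (h.1 _ _))

theorem hD_two {r s : ℕ} (hr : r < D.nroots) (hs : s < D.nroots) (h : g.Orth F r s) (t u : Fˣ) :
    g.hD r t * g.hD s u = (g.ng r (t : F) * g.ng s (u : F)) * (g.ng r (-1) * g.ng s (-1)) := by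
  rw [← g.ng_mul_eq_hD hr, ← g.ng_mul_eq_hD hs]
  calc g.ng r (t : F) * g.ng r (-1) * (g.ng s (u : F) * g.ng s (-1)) = g.ng r (t : F) * (g.ng r (-1) * g.ng s (u : F)) * g.ng s (-1) := by group
    _ = _ := by rw [h.ng_comm]; group

theorem hD_three {r s p : ℕ} (hr : r < D.nroots) (hs : s < D.nroots) (hp : p < D.nroots) (h : g.Orth F r s) (h' : g.Orth F r p) (h'' : g.Orth F s p)
    (t u v : Fˣ) : g.hD r t * g.hD s u * g.hD p v = (g.ng r (t : F) * g.ng s (u : F) * g.ng p (v : F)) * (g.ng r (-1) * g.ng s (-1) * g.ng p (-1)) := by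
  rw [g.hD_two hr hs h, ← g.ng_mul_eq_hD hp]
  calc g.ng r (t : F) * g.ng s (u : F) * (g.ng r (-1) * g.ng s (-1)) * (g.ng p (v : F) * g.ng p (-1)) =
      g.ng r (t : F) * g.ng s (u : F) * (g.ng r (-1) * (g.ng s (-1) * g.ng p (v : F))) * g.ng p (-1) := by group
    _ = g.ng r (t : F) * g.ng s (u : F) * ((g.ng r (-1) * g.ng p (v : F)) * g.ng s (-1)) * g.ng p (-1) := by rw [h''.ng_comm]; group
    _ = _ := by rw [h'.ng_comm]; group

theorem orth_of {r s : ℕ} (h : decide (r < D.nroots ∧ s < D.nroots ∧ s ≠ r ∧ s ≠ D.neg r ∧ D.commTerms r s = [] ∧ D.commTerms (D.neg r) s = [] ∧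
    D.commTerms (D.neg r) (D.neg s) = [] ∧ D.commTerms r (D.neg s) = []) = true) : g.Orth F r s := by
  rw [decide_eq_true_eq] at h
  obtain ⟨hr, hs, h1, h2, h3, h4, h5, h6⟩ := h
  have hnr := g.neg_lt hr
  have hns := g.neg_lt hs
  have n1 : D.neg s ≠ r := fun hh => h2 (by rw [← hh, g.neg_neg hs])
  have n2 : D.neg s ≠ D.neg r := fun hh => h1 (by rw [← g.neg_neg hs, hh, g.neg_neg hr])
  refine ⟨fun t u => g.xg_commute hr hs h1 h2 (by rw [h3]; simp) t u, fun t u => g.xg_commute hnr hs h2 (by rw [g.neg_neg hr]; exact h1) (by rw [h4]; simp) t u,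
    fun t u => g.xg_commute hnr hns n2 (by rw [g.neg_neg hr]; exact n1) (by rw [h5]; simp) t u,
    fun t u => g.xg_commute hr hns n1 n2 (by rw [h6]; simp) t u⟩

end Good

namespace Tw

variable {g : Good D} {F : Type*} [Field F] (T : Tw g F)
include T

theorem ff_hc {πi : ℕ → ℕ} (h1 : ∀ j < D.rank, πi j < D.rank ∧ T.π (πi j) = j) (h2 : ∀ i < D.rank, πi (T.π i) = i) (c : ℕ → Fˣ) :
    T.ff (g.hc c) = g.hc (fun j => T.th (D.simple (πi j)) (c (πi j))) := by
  have key : ∀ l : List ℕ, (∀ i ∈ l, i < D.rank) → T.ff (l.map fun i => g.hD (D.simple i) (c i)).prod =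
      (l.map fun i => g.hc (fun j => T.th (D.simple i) (c i) ^ (if T.π i = j then 1 else 0))).prod := by
    intro l
    induction l with
    | nil => intro _; rw [List.map_nil, List.prod_nil, T.ff_one]; rfl
    | cons i l ih =>
      intro hl
      have hi := hl i (by simp)
      have hl' : ∀ j ∈ l, j < D.rank := fun j hj => hl j (by simp [hj])
      have hG : (l.map fun i => g.hD (D.simple i) (c i)).prod ∈ g.GG F := by
        apply Subgroup.list_prod_mem
        intro z hz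
        obtain ⟨j, hj, rfl⟩ := List.mem_map.1 hz
        exact g.HH_le_GG (g.hD_mem _ _)
      rw [List.map_cons, List.prod_cons, T.ff_mul (g.HH_le_GG (g.hD_mem _ _)) hG, ih hl', T.ff_hD (g.simple_lt i hi), T.ρ_s i hi, List.map_cons, List.prod_cons]
      congr 1
      rw [g.hD_eq_hc]
      apply g.hc_congr
      intro j hj
      rw [g.cor_simple _ (T.π_lt i hi) j hj]
      split_ifs <;> simp
  rw [g.hc_eq_prod, key _ (fun i hi => List.mem_range.1 hi), g.hc_list]
  apply g.hc_congr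
  intro j hj
  obtain ⟨h3, h4⟩ := h1 j hj
  have e1 : ∀ l : List ℕ, l.Nodup → (∀ i ∈ l, i < D.rank) → (l.map fun i => T.th (D.simple i) (c i) ^ (if T.π i = j then 1 else 0)).prod =
      if πi j ∈ l then T.th (D.simple (πi j)) (c (πi j)) else 1 := by
    intro l
    induction l with
    | nil => intro _ _; simp
    | cons i l ih =>
      intro hn hl
      rw [List.nodup_cons] at hn
      rw [List.map_cons, List.prod_cons, ih hn.2 fun k hk => hl k (by simp [hk])]
      have hi := hl i (by simp)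
      by_cases hij : T.π i = j
      · have e2 : i = πi j := by rw [← hij, h2 i hi]
        rw [if_pos hij, pow_one, if_neg (by rw [← e2]; exact hn.1), mul_one, if_pos (by rw [e2]; simp), e2]
      · have e2 : πi j ≠ i := fun h => hij (by rw [← h, h4])
        rw [if_neg hij, pow_zero, one_mul]
        simp [e2]
  rw [e1 _ (List.nodup_range) (fun i hi => List.mem_range.1 hi), if_pos (List.mem_range.2 h3)]

end Tw

end Chv
end CfsgH6
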