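import Cfsg.Agent.H6.Tw9
import Cfsg.Prelude.Def_LieTwisted

set_option autoImplicit false

/-! The twisted group of type `²E₆`. -/

namespace CfsgH6
namespace Chv

open Cfsg.Lie

theorem s0E6 : chevE6.simple 0 = 56 := by decide +kernel
theorem s1E6 : chevE6.simple 1 = 46 := by decide +kernel
theorem s2E6 : chevE6.simple 2 = 42 := by decide +kernel
theorem s3E6 : chevE6.simple 3 = 39 := by decide +kernel
theorem s4E6 : chevE6.simple 4 = 37 := by decide +kernel
theorem s5E6 : chevE6.simple 5 = 36 := by decide +kernel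
theorem n0E6 : chevE6.neg 56 = 15 := by decide +kernel
theorem n1E6 : chevE6.neg 46 = 25 := by decide +kernel
theorem n2E6 : chevE6.neg 42 = 29 := by decide +kernel
theorem n3E6 : chevE6.neg 39 = 32 := by decide +kernel
theorem n4E6 : chevE6.neg 37 = 34 := by decide +kernel
theorem n5E6 : chevE6.neg 36 = 35 := by decide +kernel
theorem rkE6 : chevE6.rank = 6 := rfl
theorem sn0E6 : snB chevE6 goodE6.w goodE6.N [1] [46] = true := by decide +kernel
theorem sn1E6 : snB chevE6 goodE6.w goodE6.N [3] [39] = true := by decide +kernel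
theorem sn2E6 : snB chevE6 goodE6.w goodE6.N [2, 4] [42, 37] = true := by decide +kernel
theorem sn3E6 : snB chevE6 goodE6.w goodE6.N [0, 5] [56, 36] = true := by decide +kernel
theorem orE6_2 (F : Type*) [Field F] : goodE6.Orth F 42 37 := goodE6.orth_of (by decide +kernel)
theorem orE6_3 (F : Type*) [Field F] : goodE6.Orth F 56 36 := goodE6.orth_of (by decide +kernel)

section gen

variable {D : ChevalleyDatum} (g : Good D) {F : Type*} [Field F]

theorem mem_gen {S : Set (List (ℕ × F))} {w : List (ℕ × F)} (h : w ∈ S) : ((w.map fun q => g.xg q.1 q.2).prod : GL D.Idx F) ∈ D.genSubgroup F S :=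
  Subgroup.subset_closure ⟨w, h, (g.wordMat_eq w).symm⟩

theorem gen_le {S : Set (List (ℕ × F))} {P : Subgroup (GL D.Idx F)} (h : ∀ w ∈ S, ((w.map fun q => g.xg q.1 q.2).prod : GL D.Idx F) ∈ P) :
    D.genSubgroup F S ≤ P := by
  unfold ChevalleyDatum.genSubgroup
  rw [Subgroup.closure_le]
  rintro x ⟨w, hw, he⟩
  rw [g.wordMat_eq] at he
  rw [Units.ext he]
  exact h w hw

end gen

section E6

variable {K : Type*} [Field K] [Fintype K] {q : ℕ}

theorem neg_one_pow_q (hq : IsPrimePow q) {k : ℕ} (hK : Fintype.card K = q ^ k) : (-1 : K) ^ q = -1 := by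
  rw [← frobQ_eq hq hK, map_neg, map_one]

theorem ffE6_s (hq : IsPrimePow q) (hK : Fintype.card K = q ^ 2) {i : ℕ} (hi : i < 6) (t : K) :
    (twE6 K q).ff (goodE6.xg (chevE6.simple i) t) = goodE6.xg (chevE6.simple (grE6.pi i)) (t ^ q) := by
  rw [(twE6 K q).ff_xg (goodE6.simple_lt i hi)]
  show goodE6.xg (grE6.rho (chevE6.simple i)) (((grE6.eps (chevE6.simple i) : ℤ) : K) * frobQ K q t ^ 1) = _
  rw [grE6_P.rho_s i hi, grE6_P.eps_s i hi, frobQ_eq hq hK, pow_one, Int.cast_one, one_mul]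

theorem ffE6_n (hq : IsPrimePow q) (hK : Fintype.card K = q ^ 2) {i : ℕ} (hi : i < 6) (t : K) :
    (twE6 K q).ff (goodE6.xg (chevE6.neg (chevE6.simple i)) t) = goodE6.xg (chevE6.neg (chevE6.simple (grE6.pi i))) (t ^ q) := by
  rw [(twE6 K q).ff_xg (goodE6.neg_lt (goodE6.simple_lt i hi))]
  show goodE6.xg (grE6.rho (chevE6.neg (chevE6.simple i))) (((grE6.eps (chevE6.neg (chevE6.simple i)) : ℤ) : K) * frobQ K q t ^ 1) = _
  rw [grE6_P.rho_neg _ (goodE6.simple_lt i hi), grE6_P.rho_s i hi, grE6_P.eps_n i hi, frobQ_eq hq hK, pow_one, Int.cast_one, one_mul]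

theorem pow_qq {k : ℕ} (hK : Fintype.card K = q ^ k) (t : K) : t ^ (q ^ k) = t := by
  rw [← hK]; exact FiniteField.pow_card t

/-- the orbit groups -/
theorem orbE6_0 (hq : IsPrimePow q) (hK : Fintype.card K = q ^ 2) {x : GL chevE6.Idx K} :
    x ∈ goodE6.XS K (goodE6.Sneg [1]) ⊓ (twE6 K q).FG ↔ ∃ t : K, t ^ q = t ∧ x = goodE6.xg 46 t :=
  (twE6 K q).orb1 (p := 46) (by decide) (fun r hr => by rw [snB_spec goodE6 sn0E6 r hr]; simp) (fun t => by
    have := ffE6_s hq hK (i := 1) (by norm_num) t; rwa [s1E6, show grE6.pi 1 = 1 from rfl, s1E6] at this)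

theorem orbE6_1 (hq : IsPrimePow q) (hK : Fintype.card K = q ^ 2) {x : GL chevE6.Idx K} :
    x ∈ goodE6.XS K (goodE6.Sneg [3]) ⊓ (twE6 K q).FG ↔ ∃ t : K, t ^ q = t ∧ x = goodE6.xg 39 t :=
  (twE6 K q).orb1 (p := 39) (by decide) (fun r hr => by rw [snB_spec goodE6 sn1E6 r hr]; simp) (fun t => by
    have := ffE6_s hq hK (i := 3) (by norm_num) t; rwa [s3E6, show grE6.pi 3 = 3 from rfl, s3E6] at this)

theorem orbE6_2 (hq : IsPrimePow q) (hK : Fintype.card K = q ^ 2) {x : GL chevE6.Idx K} :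
    x ∈ goodE6.XS K (goodE6.Sneg [2, 4]) ⊓ (twE6 K q).FG ↔ ∃ t : K, x = goodE6.xg 42 t * goodE6.xg 37 (t ^ q) := by
  have := (twE6 K q).orb2 (i := 2) (p' := 37) (φ := fun t => t ^ q) (ψ := fun t => t ^ q) (S := goodE6.Sneg [2, 4]) (x := x) (by decide) (by decide)
    (by decide +kernel) (by rw [s2E6]; decide) (by rw [s2E6]; exact (orE6_2 K).1) (fun r hr => by rw [snB_spec goodE6 sn2E6 r hr, s2E6]; simp)
    (fun t => by have := ffE6_s hq hK (i := 2) (by norm_num) t; rwa [show grE6.pi 2 = 4 from rfl, s4E6] at this)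
    (fun t => by have := ffE6_s hq hK (i := 4) (by norm_num) t; rwa [show grE6.pi 4 = 2 from rfl, s4E6] at this)
    (fun t => by rw [← pow_mul, ← pow_two]; exact pow_qq hK t)
  rw [s2E6] at this
  exact this

theorem orbE6_3 (hq : IsPrimePow q) (hK : Fintype.card K = q ^ 2) {x : GL chevE6.Idx K} :
    x ∈ goodE6.XS K (goodE6.Sneg [0, 5]) ⊓ (twE6 K q).FG ↔ ∃ t : K, x = goodE6.xg 56 t * goodE6.xg 36 (t ^ q) := by
  have := (twE6 K q).orb2 (i := 0) (p' := 36) (φ := fun t => t ^ q) (ψ := fun t => t ^ q) (S := goodE6.Sneg [0, 5]) (x := x) (by decide) (by decide)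
    (by decide +kernel) (by rw [s0E6]; decide) (by rw [s0E6]; exact (orE6_3 K).1) (fun r hr => by rw [snB_spec goodE6 sn3E6 r hr, s0E6]; simp)
    (fun t => by have := ffE6_s hq hK (i := 0) (by norm_num) t; rwa [show grE6.pi 0 = 5 from rfl, s5E6] at this)
    (fun t => by have := ffE6_s hq hK (i := 5) (by norm_num) t; rwa [show grE6.pi 5 = 0 from rfl, s5E6] at this)
    (fun t => by rw [← pow_mul, ← pow_two]; exact pow_qq hK t)
  rw [s0E6] at this
  exact this

theorem cardE6 (hq : IsPrimePow q) (hK : Fintype.card K = q ^ 2) :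
    ∀ a < (twE6 K q).m, Nat.card ↥(goodE6.XS K (goodE6.Sneg ((twE6 K q).ww a)) ⊓ (twE6 K q).FG) = q ^ (teE6.getD a 0) := by
  have h2 := hq.two_le
  have hcK : Nat.card K = q ^ 2 := by rw [Nat.card_eq_fintype_card, hK]
  intro a ha
  have ha' : a < 4 := ha
  interval_cases a
  · show Nat.card ↥(goodE6.XS K (goodE6.Sneg [1]) ⊓ (twE6 K q).FG) = q ^ 1
    rw [(twE6 K q).card_orb1 (p := 46) (φ := fun t => t ^ q) (by decide) (fun r hr => by rw [snB_spec goodE6 sn0E6 r hr]; simp) (fun t => by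
      have := ffE6_s hq hK (i := 1) (by norm_num) t; rwa [s1E6, show grE6.pi 1 = 1 from rfl, s1E6] at this), card_fix h2 hK, pow_one]
  · show Nat.card ↥(goodE6.XS K (goodE6.Sneg [3]) ⊓ (twE6 K q).FG) = q ^ 1
    rw [(twE6 K q).card_orb1 (p := 39) (φ := fun t => t ^ q) (by decide) (fun r hr => by rw [snB_spec goodE6 sn1E6 r hr]; simp) (fun t => by
      have := ffE6_s hq hK (i := 3) (by norm_num) t; rwa [s3E6, show grE6.pi 3 = 3 from rfl, s3E6] at this), card_fix h2 hK, pow_one]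
  · show Nat.card ↥(goodE6.XS K (goodE6.Sneg [2, 4]) ⊓ (twE6 K q).FG) = q ^ 2
    rw [← hcK]
    exact (twE6 K q).card_orb2 (i := 2) (p' := 37) (φ := fun t => t ^ q) (ψ := fun t => t ^ q) (by decide) (by decide)
      (by decide +kernel) (by rw [s2E6]; decide) (by rw [s2E6]; exact (orE6_2 K).1) (fun r hr => by rw [snB_spec goodE6 sn2E6 r hr, s2E6]; simp)
      (fun t => by have := ffE6_s hq hK (i := 2) (by norm_num) t; rwa [show grE6.pi 2 = 4 from rfl, s4E6] at this)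
      (fun t => by have := ffE6_s hq hK (i := 4) (by norm_num) t; rwa [show grE6.pi 4 = 2 from rfl, s4E6] at this)
      (fun t => by rw [← pow_mul, ← pow_two]; exact pow_qq hK t)
  · show Nat.card ↥(goodE6.XS K (goodE6.Sneg [0, 5]) ⊓ (twE6 K q).FG) = q ^ 2
    rw [← hcK]
    exact (twE6 K q).card_orb2 (i := 0) (p' := 36) (φ := fun t => t ^ q) (ψ := fun t => t ^ q) (by decide) (by decide)
      (by decide +kernel) (by rw [s0E6]; decide) (by rw [s0E6]; exact (orE6_3 K).1) (fun r hr => by rw [snB_spec goodE6 sn3E6 r hr, s0E6]; simp)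
      (fun t => by have := ffE6_s hq hK (i := 0) (by norm_num) t; rwa [show grE6.pi 0 = 5 from rfl, s5E6] at this)
      (fun t => by have := ffE6_s hq hK (i := 5) (by norm_num) t; rwa [show grE6.pi 5 = 0 from rfl, s5E6] at this)
      (fun t => by rw [← pow_mul, ← pow_two]; exact pow_qq hK t)

/-! ### the generated group -/

/-- words of the first kind -/
theorem memE6_1 {r : ℕ} (hr : r ∈ [e6p2, e6m2, e6p4, e6m4]) {t : K} (ht : t ^ q = t) : goodE6.xg r t ∈ twistedE6 K q := by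
  have := mem_gen goodE6 (F := K) (S := e6Words K q) (w := [(r, t)]) (Or.inl ⟨t, ht, r, hr, rfl⟩)
  show _ ∈ chevE6.genSubgroup K (e6Words K q)
  simpa using this

/-- words of the second kind -/
theorem memE6_2 {r s : ℕ} (hr : (r, s) ∈ [(e6p1, e6p6), (e6m1, e6m6), (e6p3, e6p5), (e6m3, e6m5)]) (t : K) :
    goodE6.xg r t * goodE6.xg s (t ^ q) ∈ twistedE6 K q := by
  have := mem_gen goodE6 (F := K) (S := e6Words K q) (w := [(r, t), (s, t ^ q)]) (Or.inr ⟨t, (r, s), hr, rfl⟩)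
  show _ ∈ chevE6.genSubgroup K (e6Words K q)
  simpa using this

theorem ngE6_1 (hq : IsPrimePow q) (hK : Fintype.card K = q ^ 2) {r s : ℕ} (hr : r ∈ [e6p2, e6m2, e6p4, e6m4]) (hs : chevE6.neg r = s) (hs' : s ∈ [e6p2, e6m2, e6p4, e6m4])
    {t : K} (ht : t ^ q = t) : goodE6.ng r t ∈ twistedE6 K q := by
  unfold Good.ng
  rw [hs]
  refine Subgroup.mul_mem _ (Subgroup.mul_mem _ (memE6_1 hr ht) (memE6_1 hs' ?_)) (memE6_1 hr ht)
  rw [neg_eq_neg_one_mul, mul_pow, neg_one_pow_q hq hK, inv_pow, ht]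

theorem ngE6_2 (hq : IsPrimePow q) (hK : Fintype.card K = q ^ 2) {r s r' s' : ℕ} (hr : (r, s) ∈ [(e6p1, e6p6), (e6m1, e6m6), (e6p3, e6p5), (e6m3, e6m5)])
    (h1 : chevE6.neg r = r') (h2 : chevE6.neg s = s') (hr' : (r', s') ∈ [(e6p1, e6p6), (e6m1, e6m6), (e6p3, e6p5), (e6m3, e6m5)])
    (ho : goodE6.Orth K r s) (t : K) : goodE6.ng r t * goodE6.ng s (t ^ q) ∈ twistedE6 K q := by
  rw [goodE6.ng_two ho, h1, h2]
  refine Subgroup.mul_mem _ (Subgroup.mul_mem _ (memE6_2 hr t) ?_) (memE6_2 hr t)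
  have : (-(t ^ q)⁻¹ : K) = (-t⁻¹) ^ q := by
    rw [neg_eq_neg_one_mul t⁻¹, mul_pow, neg_one_pow_q hq hK, inv_pow]; ring
  rw [this]
  exact memE6_2 hr' _

theorem HHE6 (hq : IsPrimePow q) (hK : Fintype.card K = q ^ 2) {x : GL chevE6.Idx K} (hx : x ∈ goodE6.HH K ⊓ (twE6 K q).FG) :
    ∃ c : ℕ → Kˣ, (∀ j < 6, c (grE6.pi j) = c j ^ q) ∧ x = goodE6.hc c := by
  obtain ⟨⟨c, rfl⟩, hx⟩ := hx
  have hπ : ∀ j < chevE6.rank, grE6.pi j < chevE6.rank ∧ (twE6 K q).π (grE6.pi j) = j := by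
    intro j hj
    have hj' : j < 6 := hj
    refine ⟨grE6_P.pi_lt j hj, ?_⟩
    show grE6.pi (grE6.pi j) = j
    interval_cases j <;> rfl
  have hπ' : ∀ i < chevE6.rank, grE6.pi ((twE6 K q).π i) = i := fun i hi => (hπ i hi).2
  have h1 := hx.2
  rw [(twE6 K q).ff_hc hπ hπ' c] at h1
  obtain ⟨c', hc'⟩ : ∃ c' : ℕ → Kˣ, c' = fun j => c (grE6.pi j) ^ q := ⟨_, rfl⟩
  have h2 : goodE6.hc c' = goodE6.hc c := by
    rw [← h1]
    apply goodE6.hc_congr
    intro j hj
    show c' j = Units.map (frobQ K q : K →* K) (c (grE6.pi j)) ^ 1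
    rw [pow_one, hc']
    apply Units.ext
    show ((c (grE6.pi j) : K)) ^ q = frobQ K q (c (grE6.pi j) : K)
    rw [frobQ_eq hq hK]
  have hqq : ∀ u : Kˣ, (u ^ q) ^ q = u := fun u => Units.ext (by
    show ((u : K) ^ q) ^ q = u
    rw [← pow_mul, ← pow_two]; exact pow_qq hK _)
  have h3 : goodE6.hc (fun i => c' i / c i) = 1 := by rw [goodE6.hc_div, h2, mul_inv_cancel]
  have h4 := (goodE6.hc_eq_one_iff _).1 h3
  have h5 : ∀ j < 6, (c' j / c j) ^ 3 = 1 := by
    intro j hj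
    have h6 := latE6.det h4 (i := j) hj
    have h7 := latE6.tors h4 (a := 0) (by norm_num)
    rw [Finset.prod_range_one] at h6
    rw [h6, ← zpow_natCast, ← zpow_mul, mul_comm, zpow_mul, zpow_natCast, h7, one_zpow]
  refine ⟨fun j => c j * (c j / c' j), ?_, ?_⟩
  · intro j hj
    have hp : grE6.pi (grE6.pi j) = j := (hπ j hj).2
    have h6 := h5 j hj
    have e1 : c' (grE6.pi j) = c j ^ q := by rw [hc']; simp only; rw [hp]
    have e2 : c' j ^ q = c (grE6.pi j) := by rw [hc']; exact hqq _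
    show c (grE6.pi j) * (c (grE6.pi j) / c' (grE6.pi j)) = (c j * (c j / c' j)) ^ q
    have h7 := congrArg (fun z => z ^ q) h6
    simp only [one_pow, div_pow] at h7
    have h8 : (c' j ^ q) ^ 3 / (c j ^ q) ^ 3 = 1 := by rw [← pow_mul, ← pow_mul, mul_comm q 3, pow_mul, pow_mul]; exact h7
    rw [e2] at h8
    rw [mul_pow, div_pow, e1, e2]
    have h9 : c (grE6.pi j) ^ 3 = (c j ^ q) ^ 3 := div_eq_one.1 h8
    rw [← mul_div_assoc, ← mul_div_assoc, div_eq_div_iff_mul_eq_mul]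
    calc c (grE6.pi j) * c (grE6.pi j) * c (grE6.pi j) = c (grE6.pi j) ^ 3 := by rw [pow_succ, pow_two]
      _ = (c j ^ q) ^ 3 := h9
      _ = _ := by rw [pow_succ, pow_two]
  · have e1 : goodE6.hc (fun j => c j * (c j / c' j)) = goodE6.hc c * goodE6.hc (fun j => c j / c' j) := (goodE6.hc_mul _ _).symm
    rw [e1, goodE6.hc_div, h2, mul_inv_cancel, mul_one]

theorem twistedE6_eq (hq : IsPrimePow q) (hK : Fintype.card K = q ^ 2) : twistedE6 K q = (twE6 K q).FG := by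
  have hpm : ∀ {r s : ℕ}, r < 72 → s < 72 → goodE6.xg r (1 : K) ∈ goodE6.GG K := fun _ _ => goodE6.xg_mem_GG _ _
  apply le_antisymm
  · apply gen_le goodE6
    rintro w (⟨t, ht, r, hr, rfl⟩ | ⟨t, ⟨r, s⟩, hr, rfl⟩)
    · have hG : ([(r, t)].map fun q => goodE6.xg q.1 q.2).prod = goodE6.xg r t := by simp
      rw [hG]
      refine ⟨goodE6.xg_mem_GG _ _, ?_⟩
      simp only [e6p2, e6m2, e6p4, e6m4, List.mem_cons, List.not_mem_nil, or_false] at hr
      rcases hr with rfl | rfl | rfl | rfl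
      · have := ffE6_s hq hK (i := 1) (by norm_num) t; rwa [s1E6, show grE6.pi 1 = 1 from rfl, s1E6, ht] at this
      · have := ffE6_n hq hK (i := 1) (by norm_num) t; rwa [s1E6, show grE6.pi 1 = 1 from rfl, s1E6, n1E6, ht] at this
      · have := ffE6_s hq hK (i := 3) (by norm_num) t; rwa [s3E6, show grE6.pi 3 = 3 from rfl, s3E6, ht] at this
      · have := ffE6_n hq hK (i := 3) (by norm_num) t; rwa [s3E6, show grE6.pi 3 = 3 from rfl, s3E6, n3E6, ht] at this
    · have hG : ([((r, s).1, t), ((r, s).2, t ^ q)].map fun q => goodE6.xg q.1 q.2).prod = goodE6.xg r t * goodE6.xg s (t ^ q) := by simp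
      rw [hG]
      refine ⟨Subgroup.mul_mem _ (goodE6.xg_mem_GG _ _) (goodE6.xg_mem_GG _ _), ?_⟩
      rw [(twE6 K q).ff_mul (goodE6.xg_mem_GG _ _) (goodE6.xg_mem_GG _ _)]
      have htt : (t ^ q) ^ q = t := by rw [← pow_mul, ← pow_two]; exact pow_qq hK t
      simp only [e6p1, e6p6, e6m1, e6m6, e6p3, e6p5, e6m3, e6m5, List.mem_cons, List.not_mem_nil, or_false, Prod.mk.injEq] at hr
      rcases hr with ⟨rfl, rfl⟩ | ⟨rfl, rfl⟩ | ⟨rfl, rfl⟩ | ⟨rfl, rfl⟩
      · have h1 := ffE6_s hq hK (i := 0) (by norm_num) t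
        have h2 := ffE6_s hq hK (i := 5) (by norm_num) (t ^ q)
        rw [s0E6, show grE6.pi 0 = 5 from rfl, s5E6] at h1
        rw [s5E6, show grE6.pi 5 = 0 from rfl, s0E6, htt] at h2
        rw [h1, h2, (orE6_3 K).1]
      · have h1 := ffE6_n hq hK (i := 0) (by norm_num) t
        have h2 := ffE6_n hq hK (i := 5) (by norm_num) (t ^ q)
        rw [s0E6, show grE6.pi 0 = 5 from rfl, s5E6, n0E6, n5E6] at h1
        rw [s5E6, show grE6.pi 5 = 0 from rfl, s0E6, n0E6, n5E6, htt] at h2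
        have h3 := (orE6_3 K).2.2.1 t (t ^ q)
        rw [n0E6, n5E6] at h3
        rw [h1, h2, h3]
      · have h1 := ffE6_s hq hK (i := 2) (by norm_num) t
        have h2 := ffE6_s hq hK (i := 4) (by norm_num) (t ^ q)
        rw [s2E6, show grE6.pi 2 = 4 from rfl, s4E6] at h1
        rw [s4E6, show grE6.pi 4 = 2 from rfl, s2E6, htt] at h2
        rw [h1, h2, (orE6_2 K).1]
      · have h1 := ffE6_n hq hK (i := 2) (by norm_num) t
        have h2 := ffE6_n hq hK (i := 4) (by norm_num) (t ^ q)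
        rw [s2E6, show grE6.pi 2 = 4 from rfl, s4E6, n2E6, n4E6] at h1
        rw [s4E6, show grE6.pi 4 = 2 from rfl, s2E6, n2E6, n4E6, htt] at h2
        have h3 := (orE6_2 K).2.2.1 t (t ^ q)
        rw [n2E6, n4E6] at h3
        rw [h1, h2, h3]
  · have hm46 : (46 : ℕ) ∈ [e6p2, e6m2, e6p4, e6m4] := by decide
    have hm39 : (39 : ℕ) ∈ [e6p2, e6m2, e6p4, e6m4] := by decide
    have hm25 : (25 : ℕ) ∈ [e6p2, e6m2, e6p4, e6m4] := by decide
    have hm32 : (32 : ℕ) ∈ [e6p2, e6m2, e6p4, e6m4] := by decide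
    have hm1 : ((56, 36) : ℕ × ℕ) ∈ [(e6p1, e6p6), (e6m1, e6m6), (e6p3, e6p5), (e6m3, e6m5)] := by decide
    have hm1' : ((15, 35) : ℕ × ℕ) ∈ [(e6p1, e6p6), (e6m1, e6m6), (e6p3, e6p5), (e6m3, e6m5)] := by decide
    have hm2 : ((42, 37) : ℕ × ℕ) ∈ [(e6p1, e6p6), (e6m1, e6m6), (e6p3, e6p5), (e6m3, e6m5)] := by decide
    have hm2' : ((29, 34) : ℕ × ℕ) ∈ [(e6p1, e6p6), (e6m1, e6m6), (e6p3, e6p5), (e6m3, e6m5)] := by decide
    have g46 : ∀ t : K, t ^ q = t → goodE6.ng 46 t ∈ twistedE6 K q := fun t ht => ngE6_1 hq hK hm46 n1E6 hm25 ht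
    have g39 : ∀ t : K, t ^ q = t → goodE6.ng 39 t ∈ twistedE6 K q := fun t ht => ngE6_1 hq hK hm39 n3E6 hm32 ht
    have g56 : ∀ t : K, goodE6.ng 56 t * goodE6.ng 36 (t ^ q) ∈ twistedE6 K q := fun t => ngE6_2 hq hK hm1 n0E6 n5E6 hm1' (orE6_3 K) t
    have g42 : ∀ t : K, goodE6.ng 42 t * goodE6.ng 37 (t ^ q) ∈ twistedE6 K q := fun t => ngE6_2 hq hK hm2 n2E6 n4E6 hm2' (orE6_2 K) t
    apply (twE6 K q).FG_gen
    · intro a ha
      have ha' : a < 4 := ha
      interval_cases a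
      · intro x hx
        obtain ⟨t, ht, rfl⟩ := (orbE6_0 hq hK).1 hx
        exact memE6_1 hm46 ht
      · intro x hx
        obtain ⟨t, ht, rfl⟩ := (orbE6_1 hq hK).1 hx
        exact memE6_1 hm39 ht
      · intro x hx
        obtain ⟨t, rfl⟩ := (orbE6_2 hq hK).1 hx
        exact memE6_2 hm2 t
      · intro x hx
        obtain ⟨t, rfl⟩ := (orbE6_3 hq hK).1 hx
        exact memE6_2 hm1 t
    · intro a ha
      have ha' : a < 4 := ha
      interval_cases a
      · show goodE6.nl K [1] ∈ _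
        rw [goodE6.nl_cons, goodE6.nl_nil, mul_one, goodE6.nn_eq_ng, s1E6]
        exact g46 1 (one_pow _)
      · show goodE6.nl K [3] ∈ _
        rw [goodE6.nl_cons, goodE6.nl_nil, mul_one, goodE6.nn_eq_ng, s3E6]
        exact g39 1 (one_pow _)
      · show goodE6.nl K [2, 4] ∈ _
        rw [goodE6.nl_cons, goodE6.nl_cons, goodE6.nl_nil, mul_one, goodE6.nn_eq_ng, goodE6.nn_eq_ng, s2E6, s4E6]
        have := g42 1
        rwa [one_pow] at this
      · show goodE6.nl K [0, 5] ∈ _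
        rw [goodE6.nl_cons, goodE6.nl_cons, goodE6.nl_nil, mul_one, goodE6.nn_eq_ng, goodE6.nn_eq_ng, s0E6, s5E6]
        have := g56 1
        rwa [one_pow] at this
    · intro x hx
      obtain ⟨c, hc, rfl⟩ := HHE6 hq hK hx
      have m1 : (-1 : K) ^ q = -1 := neg_one_pow_q hq hK
      have k46 : ∀ t : Kˣ, t ^ q = t → goodE6.hD 46 t ∈ twistedE6 K q := by
        intro t ht
        rw [← goodE6.ng_mul_eq_hD (by decide)]
        exact Subgroup.mul_mem _ (g46 _ (by exact_mod_cast congrArg Units.val ht)) (g46 _ m1)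
      have k39 : ∀ t : Kˣ, t ^ q = t → goodE6.hD 39 t ∈ twistedE6 K q := by
        intro t ht
        rw [← goodE6.ng_mul_eq_hD (by decide)]
        exact Subgroup.mul_mem _ (g39 _ (by exact_mod_cast congrArg Units.val ht)) (g39 _ m1)
      have k56 : ∀ t : Kˣ, goodE6.hD 56 t * goodE6.hD 36 (t ^ q) ∈ twistedE6 K q := by
        intro t
        rw [goodE6.hD_two (by decide) (by decide) (orE6_3 K)]
        refine Subgroup.mul_mem _ ?_ ?_
        · have := g56 (t : K); push_cast; exact this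
        · have := g56 (-1 : K); rwa [m1] at this
      have k42 : ∀ t : Kˣ, goodE6.hD 42 t * goodE6.hD 37 (t ^ q) ∈ twistedE6 K q := by
        intro t
        rw [goodE6.hD_two (by decide) (by decide) (orE6_2 K)]
        refine Subgroup.mul_mem _ ?_ ?_
        · have := g42 (t : K); push_cast; exact this
        · have := g42 (-1 : K); rwa [m1] at this
      have e1 : goodE6.hc c = goodE6.hD 56 (c 0) * goodE6.hD 46 (c 1) * goodE6.hD 42 (c 2) * goodE6.hD 39 (c 3) * goodE6.hD 37 (c 4) * goodE6.hD 36 (c 5) := by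
        have hr : List.range chevE6.rank = [0, 1, 2, 3, 4, 5] := by decide
        rw [goodE6.hc_eq_prod, hr]
        simp only [List.map_cons, List.map_nil, List.prod_cons,
          List.prod_nil, mul_one, s0E6, s1E6, s2E6, s3E6, s4E6, s5E6, mul_assoc]
      have e2 : c 5 = c 0 ^ q := hc 0 (by norm_num)
      have e3 : c 4 = c 2 ^ q := hc 2 (by norm_num)
      have e4 : c 1 = c 1 ^ q := hc 1 (by norm_num)
      have e5 : c 3 = c 3 ^ q := hc 3 (by norm_num)
      have hcm : ∀ (r s : ℕ) (t u : Kˣ), goodE6.hD r t * goodE6.hD s u = goodE6.hD s u * goodE6.hD r t := fun r s t u =>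
        goodE6.HH_comm (goodE6.hD_mem _ _) (goodE6.hD_mem _ _)
      have e6 : goodE6.hc c = (goodE6.hD 56 (c 0) * goodE6.hD 36 (c 0 ^ q)) * goodE6.hD 46 (c 1) * goodE6.hD 39 (c 3) * (goodE6.hD 42 (c 2) * goodE6.hD 37 (c 2 ^ q)) := by
        rw [e1, e2, e3]
        calc goodE6.hD 56 (c 0) * goodE6.hD 46 (c 1) * goodE6.hD 42 (c 2) * goodE6.hD 39 (c 3) * goodE6.hD 37 (c 2 ^ q) * goodE6.hD 36 (c 0 ^ q)
            = goodE6.hD 56 (c 0) * goodE6.hD 46 (c 1) * (goodE6.hD 42 (c 2) * goodE6.hD 39 (c 3)) * (goodE6.hD 37 (c 2 ^ q) * goodE6.hD 36 (c 0 ^ q)) := by group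
          _ = goodE6.hD 56 (c 0) * goodE6.hD 46 (c 1) * goodE6.hD 39 (c 3) * (goodE6.hD 42 (c 2) * goodE6.hD 36 (c 0 ^ q)) * goodE6.hD 37 (c 2 ^ q) := by
            rw [hcm 42 39, hcm 37 36]; group
          _ = goodE6.hD 56 (c 0) * goodE6.hD 46 (c 1) * (goodE6.hD 39 (c 3) * goodE6.hD 36 (c 0 ^ q)) * goodE6.hD 42 (c 2) * goodE6.hD 37 (c 2 ^ q) := by
            rw [hcm 42 36]; group
          _ = goodE6.hD 56 (c 0) * (goodE6.hD 46 (c 1) * goodE6.hD 36 (c 0 ^ q)) * goodE6.hD 39 (c 3) * goodE6.hD 42 (c 2) * goodE6.hD 37 (c 2 ^ q) := by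
            rw [hcm 39 36]; group
          _ = _ := by rw [hcm 46 36]; group
      rw [e6]
      exact Subgroup.mul_mem _ (Subgroup.mul_mem _ (Subgroup.mul_mem _ (k56 _) (k46 _ e4.symm)) (k39 _ e5.symm)) (k42 _)

end E6

end Chv
end CfsgH6
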