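import Cfsg.Agent.H6.Tw11

set_option autoImplicit false
set_option maxRecDepth 100000

/-! The twisted group of type `²E₆`: consequences. -/

namespace CfsgH6
namespace Chv

open Cfsg.Lie

section E6

variable {K : Type*} [Field K] [Fintype K] {q : ℕ}

theorem piE6 : ∀ j < chevE6.rank, grE6.pi j < chevE6.rank ∧ grE6.pi (grE6.pi j) = j := by
  intro j hj
  have hj' : j < 6 := hj
  refine ⟨grE6_P.pi_lt j hj, ?_⟩
  interval_cases j <;> rfl

theorem neE6 (hq : IsPrimePow q) (hK : Fintype.card K = q ^ 2) :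
    ∀ a < (twE6 K q).m, ∃ u ∈ goodE6.XS K (goodE6.Sneg ((twE6 K q).ww a)) ⊓ (twE6 K q).FG, u ≠ 1 := by
  intro a ha
  refine ne_of_card hq.two_le ?_ (cardE6 hq hK a ha)
  have ha' : a < 4 := ha
  interval_cases a <;> decide

theorem bnE6 (hq : IsPrimePow q) (hK : Fintype.card K = q ^ 2) : ∃ P : Cfsg.BNPair ↥(twistedE6 K q),
      P.B = (chevE6.borelSubgroup K ⊓ twistedE6 K q).subgroupOf (twistedE6 K q) ∧
      P.N = (chevE6.monomialSubgroup K ⊓ twistedE6 K q).subgroupOf (twistedE6 K q) := by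
  rw [twistedE6_eq hq hK, goodE6.borel_eq, goodE6.mono_eq]
  exact (twE6 K q).exists_bn (neE6 hq hK)

theorem cardUE6 (hq : IsPrimePow q) (hK : Fintype.card K = q ^ 2) : Nat.card ↥(goodE6.UU K ⊓ (twE6 K q).FG) = q ^ 36 := by
  obtain ⟨n, h1, h2⟩ := (twE6 K q).card_UUF (d := 1) (e := fun a => teE6.getD a 0) (cardE6 hq hK) (by
    intro a ha
    have ha' : a < 4 := ha
    interval_cases a
    · show 1 * 1 = goodE6.cnt [1]
      decide +kernel
    · show 1 * 1 = goodE6.cnt [3]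
      decide +kernel
    · show 1 * 2 = goodE6.cnt [2, 4]
      decide +kernel
    · show 1 * 2 = goodE6.cnt [0, 5]
      decide +kernel)
  have h3 : goodE6.N = 36 := rfl
  rw [h3] at h1
  have : n = 36 := by omega
  rw [h2, this]

theorem cenE6 (hq : IsPrimePow q) (hK : Fintype.card K = q ^ 2) : ∀ a < (twE6 K q).m, ∀ i ∈ (twE6 K q).J a, ∀ c : ℕ → Kˣ,
    (∀ u ∈ goodE6.XS K (goodE6.Sneg ((twE6 K q).ww a)) ⊓ (twE6 K q).FG, goodE6.hc c * u * (goodE6.hc c)⁻¹ = u) →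
      goodE6.hcf c (chevE6.simple i) = 1 := by
  intro a ha i hi c h
  have ha' : a < 4 := ha
  have hq0 : (1 : K) ^ q ≠ 0 := by rw [one_pow]; exact one_ne_zero
  interval_cases a
  · have hi' : i ∈ [1] := hi
    simp only [List.mem_cons, List.not_mem_nil, or_false] at hi'
    subst hi'
    rw [s1E6]
    exact goodE6.cen1 (by decide) (h _ ((orbE6_0 hq hK).2 ⟨1, one_pow _, rfl⟩))
  · have hi' : i ∈ [3] := hi
    simp only [List.mem_cons, List.not_mem_nil, or_false] at hi'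
    subst hi'
    rw [s3E6]
    exact goodE6.cen1 (by decide) (h _ ((orbE6_1 hq hK).2 ⟨1, one_pow _, rfl⟩))
  · have hi' : i ∈ [2, 4] := hi
    simp only [List.mem_cons, List.not_mem_nil, or_false] at hi'
    have h1 := goodE6.cen2 (F := K) (i := 2) (p' := 37) (by decide) (by decide) (by decide +kernel) (by rw [s2E6]; decide) one_ne_zero hq0
      (by rw [s2E6]; exact (h _ ((orbE6_2 hq hK).2 ⟨1, rfl⟩)))
    rcases hi' with rfl | rfl
    · exact h1.1
    · rw [s4E6]; exact h1.2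
  · have hi' : i ∈ [0, 5] := hi
    simp only [List.mem_cons, List.not_mem_nil, or_false] at hi'
    have h1 := goodE6.cen2 (F := K) (i := 0) (p' := 36) (by decide) (by decide) (by decide +kernel) (by rw [s0E6]; decide) one_ne_zero hq0
      (by rw [s0E6]; exact (h _ ((orbE6_3 hq hK).2 ⟨1, rfl⟩)))
    rcases hi' with rfl | rfl
    · exact h1.1
    · rw [s5E6]; exact h1.2

theorem coreE6 (hq : IsPrimePow q) (hK : Fintype.card K = q ^ 2) :
    ((chevE6.borelSubgroup K ⊓ twistedE6 K q).subgroupOf (twistedE6 K q)).normalCore = ⊥ := by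
  rw [twistedE6_eq hq hK, goodE6.borel_eq]
  exact (twE6 K q).core_bot (cenE6 hq hK)

theorem hcE6_mem (hq : IsPrimePow q) (hK : Fintype.card K = q ^ 2) {c : ℕ → Kˣ} (hc : ∀ j < 6, c (grE6.pi j) = c j ^ q) :
    goodE6.hc c ∈ (twE6 K q).FG := by
  refine ⟨goodE6.HH_le_GG ⟨c, rfl⟩, ?_⟩
  rw [(twE6 K q).ff_hc piE6 (fun i hi => (piE6 i hi).2) c]
  apply goodE6.hc_congr
  intro j hj
  show Units.map (frobQ K q : K →* K) (c (grE6.pi j)) ^ 1 = c j
  rw [pow_one]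
  apply Units.ext
  show frobQ K q (c (grE6.pi j) : K) = c j
  rw [frobQ_eq hq hK, hc j hj]
  push_cast
  rw [← pow_mul, ← pow_two]
  exact pow_qq hK _

theorem card_units_q {k : ℕ} (hK : Fintype.card K = q ^ k) : Nat.card Kˣ = q ^ k - 1 := by
  classical
  rw [Nat.card_eq_fintype_card, Fintype.card_units, hK]

theorem cardHE6 (hq : IsPrimePow q) (hK : Fintype.card K = q ^ 2) :
    Nat.gcd 3 (q + 1) * Nat.card ↥(goodE6.HH K ⊓ (twE6 K q).FG) = (q - 1) ^ 4 * (q + 1) ^ 2 := by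
  have h2 := hq.two_le
  have hU := card_units_q hK
  have hfac : q ^ 2 - 1 = (q - 1) * (q + 1) := by
    obtain ⟨r, rfl⟩ : ∃ r, q = r + 1 := ⟨q - 1, by omega⟩
    rw [Nat.add_sub_cancel]
    have : (r + 1) ^ 2 = r * (r + 1 + 1) + 1 := by ring
    omega
  obtain ⟨d, hd⟩ : ∃ d, d = Nat.gcd 3 (q + 1) := ⟨_, rfl⟩
  let M : Subgroup Kˣ := (powMonoidHom (q - 1)).ker
  have hM : Nat.card M = q - 1 := by
    rw [IsCyclic.card_powMonoidHom_ker, hU, hfac]
    exact Nat.gcd_eq_right (dvd_mul_right _ _)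
  have hDk : Nat.card (powMonoidHom d : Kˣ →* Kˣ).ker = d := by
    rw [IsCyclic.card_powMonoidHom_ker, hU, hfac, hd]
    exact Nat.gcd_eq_right ((Nat.gcd_dvd_right _ _).trans (dvd_mul_left _ _))
  let v : M × M × Kˣ × Kˣ → ℕ → Kˣ := fun p j => [p.2.2.2, (p.1 : Kˣ), p.2.2.1, (p.2.1 : Kˣ), p.2.2.1 ^ q, p.2.2.2 ^ q].getD j 1
  have hMq : ∀ a : M, (a : Kˣ) ^ q = a := by
    intro a
    have h := a.2
    rw [MonoidHom.mem_ker, powMonoidHom_apply] at h
    calc (a : Kˣ) ^ q = (a : Kˣ) ^ (q - 1 + 1) := by congr 1; omega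
      _ = _ := by rw [pow_succ, h, one_mul]
  have hqq : ∀ u : Kˣ, (u ^ q) ^ q = u := fun u => Units.ext (by
    show ((u : K) ^ q) ^ q = u
    rw [← pow_mul, ← pow_two]; exact pow_qq hK _)
  let Θ : M × M × Kˣ × Kˣ →* GL chevE6.Idx K :=
    { toFun := fun p => goodE6.hc (v p)
      map_one' := by
        rw [← goodE6.hc_one]
        apply goodE6.hc_congr
        intro i hi
        have hi' : i < 6 := hi
        interval_cases i <;> simp [v]
      map_mul' := by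
        intro p p'
        rw [goodE6.hc_mul]
        apply goodE6.hc_congr
        intro i hi
        have hi' : i < 6 := hi
        interval_cases i <;> simp [v, mul_pow] }
  have hΘ : ∀ p, Θ p = goodE6.hc (v p) := fun _ => rfl
  have hrange : Θ.range = goodE6.HH K ⊓ (twE6 K q).FG := by
    ext x
    constructor
    · rintro ⟨p, rfl⟩
      refine ⟨⟨v p, rfl⟩, hcE6_mem hq hK ?_⟩
      intro j hj
      interval_cases j
      · rfl
      · exact (hMq p.1).symm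
      · rfl
      · exact (hMq p.2.1).symm
      · exact (hqq _).symm
      · exact (hqq _).symm
    · intro hx
      obtain ⟨c, hc, rfl⟩ := HHE6 hq hK hx
      have hfix : ∀ j < 6, grE6.pi j = j → c j ∈ M := by
        intro j hj hp
        have h1 := hc j hj
        rw [hp] at h1
        rw [MonoidHom.mem_ker, powMonoidHom_apply]
        have h3 : c j ^ (q - 1) * c j = c j := by
          rw [← pow_succ]
          exact (congrArg (fun n => c j ^ n) (by omega : q - 1 + 1 = q)).trans h1.symm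
        exact mul_eq_right.1 h3
      refine ⟨(⟨c 1, hfix 1 (by norm_num) rfl⟩, ⟨c 3, hfix 3 (by norm_num) rfl⟩, c 2, c 0), ?_⟩
      rw [hΘ]
      apply goodE6.hc_congr
      intro i hi
      have hi' : i < 6 := hi
      interval_cases i
      · rfl
      · rfl
      · rfl
      · rfl
      · exact (hc 2 (by norm_num)).symm
      · exact (hc 0 (by norm_num)).symm
  have hker : Nat.card Θ.ker = d := by
    rw [← hDk]
    have hlat : ∀ p : M × M × Kˣ × Kˣ, p ∈ Θ.ker → (v p 0) ^ 3 = 1 ∧ ∀ i < 6, v p i = (v p 0) ^ ((gl1 [[1, 0, -1, 0, 1, -1]] 0 i)) := by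
      intro p hp
      rw [MonoidHom.mem_ker, hΘ] at hp
      have h4 := (goodE6.hc_eq_one_iff _).1 hp
      refine ⟨latE6.tors h4 (a := 0) (by norm_num), ?_⟩
      intro i hi
      have h6 := latE6.det h4 (i := i) hi
      rw [Finset.prod_range_one] at h6
      exact h6
    have hto : ∀ p : M × M × Kˣ × Kˣ, p ∈ Θ.ker → p.2.2.2 ∈ (powMonoidHom d : Kˣ →* Kˣ).ker := by
      intro p hp
      obtain ⟨h1, h2⟩ := hlat p hp
      have h3 : p.2.2.2 ^ q = p.2.2.2 ^ (-1 : ℤ) := h2 5 (by norm_num)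
      have h4 : p.2.2.2 ^ (q + 1) = 1 := by rw [pow_succ, h3, zpow_neg_one, inv_mul_cancel]
      rw [MonoidHom.mem_ker, powMonoidHom_apply, hd]
      exact pow_gcd_eq_one.2 ⟨h1, h4⟩
    have hinv : ∀ z : Kˣ, z ∈ (powMonoidHom d : Kˣ →* Kˣ).ker → ((1, 1, z⁻¹, z) : M × M × Kˣ × Kˣ) ∈ Θ.ker := by
      intro z hz
      rw [MonoidHom.mem_ker, powMonoidHom_apply] at hz
      have h3 : z ^ 3 = 1 := by
        obtain ⟨k, hk⟩ := Nat.gcd_dvd_left 3 (q + 1)
        rw [hk, ← hd, pow_mul, hz, one_pow]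
      have h4 : z ^ (q + 1) = 1 := by
        obtain ⟨k, hk⟩ := Nat.gcd_dvd_right 3 (q + 1)
        rw [hk, ← hd, pow_mul, hz, one_pow]
      have h5 : z ^ q = z⁻¹ := by
        rw [pow_succ] at h4
        exact eq_inv_of_mul_eq_one_left h4
      rw [MonoidHom.mem_ker, hΘ, goodE6.hc_eq_one_iff]
      have h6 := (latE6.sol (z := fun _ => z) (fun a _ => h3)).1
      intro j hj
      rw [← h6 j hj]
      apply Finset.prod_congr rfl
      intro i hi
      have hi' : i < 6 := Finset.mem_range.1 hi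
      congr 1
      rw [Finset.prod_range_one]
      interval_cases i
      · show z = z ^ (1 : ℤ); rw [zpow_one]
      · show (1 : Kˣ) = z ^ (0 : ℤ); rw [zpow_zero]
      · show z⁻¹ = z ^ (-1 : ℤ); rw [zpow_neg_one]
      · show (1 : Kˣ) = z ^ (0 : ℤ); rw [zpow_zero]
      · show z⁻¹ ^ q = z ^ (1 : ℤ); rw [inv_pow, h5, inv_inv, zpow_one]
      · show z ^ q = z ^ (-1 : ℤ); rw [h5, zpow_neg_one]
    refine Nat.card_congr ⟨fun p => ⟨p.1.2.2.2, hto p.1 p.2⟩, fun z => ⟨(1, 1, (z : Kˣ)⁻¹, (z : Kˣ)), hinv z z.2⟩, ?_, ?_⟩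
    · rintro ⟨⟨a, b, s, t⟩, hp⟩
      apply Subtype.ext
      obtain ⟨h1, h2⟩ := hlat _ hp
      have e1 : (a : Kˣ) = t ^ (0 : ℤ) := h2 1 (by norm_num)
      have e2 : s = t ^ (-1 : ℤ) := h2 2 (by norm_num)
      have e3 : (b : Kˣ) = t ^ (0 : ℤ) := h2 3 (by norm_num)
      show (1, 1, t⁻¹, t) = (a, b, s, t)
      have e4 : (1 : M) = a := Subtype.ext (by rw [e1, zpow_zero]; rfl)
      have e5 : (1 : M) = b := Subtype.ext (by rw [e3, zpow_zero]; rfl)
      rw [← e4, ← e5, e2, zpow_neg_one]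
    · rintro ⟨z, hz⟩
      rfl
  have h1 := Subgroup.card_mul_index Θ.ker
  rw [Subgroup.index_ker, hker, hrange, Nat.card_prod, Nat.card_prod, Nat.card_prod, hM, hU, hfac, hd] at h1
  rw [h1]
  ring

theorem cardFE6 (hq : IsPrimePow q) (hK : Fintype.card K = q ^ 2) :
    Nat.gcd 3 (q + 1) * Nat.card ↥(twistedE6 K q) =
      q ^ 36 * (q ^ 2 - 1) * (q ^ 5 + 1) * (q ^ 6 - 1) * (q ^ 8 - 1) * (q ^ 9 + 1) * (q ^ 12 - 1) := by
  have h2 := hq.two_le
  rw [twistedE6_eq hq hK, (twE6 K q).card_FG (e := fun a => teE6.getD a 0) (cardE6 hq hK), (twE6 K q).card_BBF, cardUE6 hq hK]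
  have h3 := (Wt.SW_eq ((twE6 K q).wt (e := fun a => teE6.getD a 0) (cardE6 hq hK)) (A := tAE6) (Js := tJE6) (Ws := tWE6) (cartB_spec cartE6)
    (fun a _ => rfl) (fun a _ => rfl) tOsE6 tcE6)
  have h4 := cardHE6 hq hK
  have h5 : tOsE6.length = (twE6 K q).m := rfl
  rw [h5] at h3
  obtain ⟨S, hS⟩ : ∃ S, S = ((twE6 K q).wt (e := fun a => teE6.getD a 0) (cardE6 hq hK)).SW (twE6 K q).m := ⟨_, rfl⟩
  rw [← hS] at h3 ⊢
  have h6 := congrArg (fun p => hev p (q : ℤ)) polE6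
  simp only [hev_mulP, hev_prodP, List.map_cons, List.map_nil, List.prod_cons, List.prod_nil, mul_one,
    hev_qdP _ (by norm_num : 1 ≤ 1), hev_qdP _ (by norm_num : 1 ≤ 2), hev_qdP _ (by norm_num : 1 ≤ 6), hev_qdP _ (by norm_num : 1 ≤ 8),
    hev_qdP _ (by norm_num : 1 ≤ 12), hev_qpP _ (by norm_num : 1 ≤ 1), hev_qpP _ (by norm_num : 1 ≤ 5), hev_qpP _ (by norm_num : 1 ≤ 9)] at h6
  rw [← h3] at h6
  have hsub : ∀ n : ℕ, ((q ^ n - 1 : ℕ) : ℤ) = (q : ℤ) ^ n - 1 := by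
    intro n
    have := Nat.one_le_pow n q (by omega)
    push_cast [Nat.cast_sub this]; ring
  have hsub1 : ((q - 1 : ℕ) : ℤ) = (q : ℤ) - 1 := by
    rw [Nat.cast_sub (by omega)]; push_cast; ring
  have h7 : ((Nat.gcd 3 (q + 1) * (q ^ 36 * Nat.card ↥(goodE6.HH K ⊓ (twE6 K q).FG) * S) : ℕ) : ℤ) =
      ((q ^ 36 * (q ^ 2 - 1) * (q ^ 5 + 1) * (q ^ 6 - 1) * (q ^ 8 - 1) * (q ^ 9 + 1) * (q ^ 12 - 1) : ℕ) : ℤ) := by
    have h8 : ((Nat.gcd 3 (q + 1) * Nat.card ↥(goodE6.HH K ⊓ (twE6 K q).FG) : ℕ) : ℤ) = (((q - 1) ^ 4 * (q + 1) ^ 2 : ℕ) : ℤ) := by rw [h4]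
    push_cast [hsub, hsub1] at h8 ⊢
    calc ((Nat.gcd 3 (q + 1) : ℕ) : ℤ) * ((q : ℤ) ^ 36 * (Nat.card ↥(goodE6.HH K ⊓ (twE6 K q).FG) : ℤ) * (S : ℤ))
        = (q : ℤ) ^ 36 * (S : ℤ) * (((Nat.gcd 3 (q + 1) : ℕ) : ℤ) * (Nat.card ↥(goodE6.HH K ⊓ (twE6 K q).FG) : ℤ)) := by ring
      _ = (q : ℤ) ^ 36 * ((S : ℤ) * (((q : ℤ) ^ 1 - 1) * (((q : ℤ) ^ 1 - 1) * (((q : ℤ) ^ 1 - 1) * (((q : ℤ) ^ 1 - 1) * (((q : ℤ) ^ 1 + 1) * ((q : ℤ) ^ 1 + 1))))))) := by
        rw [h8]; ring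
      _ = _ := by rw [h6]; ring
  exact_mod_cast h7

end E6

end Chv
end CfsgH6
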