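import Cfsg.Agent.H6.TwE6b

set_option autoImplicit false
set_option maxRecDepth 100000

/-! The twisted group of type `²E₆`: Weyl group, simplicity. -/

namespace CfsgH6
namespace Chv

open Cfsg.Lie

namespace TwC

variable {D : ChevalleyDatum} {g : Good D} (T : TwC g)
include T

theorem exists_cox_hom {n : ℕ} {G : Type*} [Group G] (M : CoxeterMatrix (Fin n)) (cs : CoxeterSystem M G) (hm : T.m = n)
    (hrel : ∀ i j : Fin n, (T.tP i * T.tP j) ^ (M i j) = 1) :
    ∃ ψ : G →* ↥(T.TW T.m), Function.Surjective ψ := by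
  subst hm
  let f : Fin T.m → ↥(T.TW T.m) := fun a => ⟨T.tP a, T.tP_mem a.2 a.2⟩
  have hf : CoxeterMatrix.IsLiftable M f := by
    intro i j
    apply Subtype.ext
    exact hrel i j
  refine ⟨cs.lift ⟨f, hf⟩, ?_⟩
  rw [← MonoidHom.range_eq_top, eq_top_iff, ← T.TW_gen, Subgroup.closure_le]
  rintro _ ⟨a, rfl⟩
  exact ⟨cs.simple a, cs.lift_apply_simple hf a⟩

end TwC

theorem TwC.tP_ne {D : ChevalleyDatum} {g : Good D} (T : TwC g) {a b : ℕ} (ha : a < T.m) (hb : b < T.m)
    (h : ((List.range D.nroots).all fun r => decide (wlF g.w (T.tl [a, b]) r = wlF g.w (T.tl [b, a]) r)) = false) : T.tP a * T.tP b ≠ T.tP b * T.tP a := by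
  intro he
  have hab : ∀ c ∈ [a, b], c < T.m := by
    intro c hc
    simp only [List.mem_cons, List.not_mem_nil, or_false] at hc
    rcases hc with rfl | rfl <;> assumption
  have hba : ∀ c ∈ [b, a], c < T.m := by
    intro c hc
    simp only [List.mem_cons, List.not_mem_nil, or_false] at hc
    rcases hc with rfl | rfl <;> assumption
  have h1 : g.wP (T.tl [a, b]) = g.wP (T.tl [b, a]) := by
    rw [T.wP_tl, T.wP_tl]; simpa using he
  have h2 : ((List.range D.nroots).all fun r => decide (wlF g.w (T.tl [a, b]) r = wlF g.w (T.tl [b, a]) r)) = true := by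
    simp only [List.all_eq_true, List.mem_range, decide_eq_true_eq]
    intro r hr
    have h3 : (g.wP (T.tl [a, b]) ⟨r, hr⟩ : ℕ) = g.wP (T.tl [b, a]) ⟨r, hr⟩ := by rw [h1]
    rw [g.wP_val (T.tl_Cm hab).1, g.wP_val (T.tl_Cm hba).1, wl_eq_wlF, wl_eq_wlF] at h3
    exact h3
  rw [h2] at h
  exact absurd h (by decide)

section E6

variable {K : Type*} [Field K] [Fintype K] {q : ℕ}

theorem relE6 (hq : IsPrimePow q) (hK : Fintype.card K = q ^ 2) (i j : Fin 4) :
    ((twE6 K q).tP i * (twE6 K q).tP j) ^ (CoxeterMatrix.F₄ i j) = 1 := by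
  have key : ∀ i j : Fin 4, ((List.range chevE6.nroots).all fun r => decide (wlF goodE6.w
      (((List.replicate (CoxeterMatrix.F₄ i j) [(i : ℕ), (j : ℕ)]).flatten.map fun a => tWE6.getD a []).flatten) r = r)) = true := by
    decide +kernel
  exact (twE6 K q).rel_of i.2 j.2 (key i j)

theorem weylE6 (hq : IsPrimePow q) (hK : Fintype.card K = q ^ 2) :
    ∃ φ : ↥(chevE6.monomialSubgroup K ⊓ twistedE6 K q) →* (CoxeterMatrix.F₄).Group, Function.Surjective φ ∧
      φ.ker = (chevE6.diagonalSubgroup K ⊓ twistedE6 K q).subgroupOf (chevE6.monomialSubgroup K ⊓ twistedE6 K q) := by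
  rw [twistedE6_eq hq hK, goodE6.mono_eq, goodE6.diag_eq]
  have h1 : Nat.card (CoxeterMatrix.F₄).Group = 1152 := card_cox goodF4 coxF4 ordF4 hvF4
  have h2 : Nat.card ↥((twE6 K q).TW (twE6 K q).m) = 1152 :=
    (twE6 K q).card_TW (cartB_spec cartE6) (fun a _ => rfl) (fun a _ => rfl) tcE6 rfl (by decide +kernel)
  obtain ⟨ψ, hψ⟩ := (twE6 K q).exists_cox_hom CoxeterMatrix.F₄ (CoxeterMatrix.F₄).toCoxeterSystem rfl (relE6 hq hK)
  haveI : Finite (CoxeterMatrix.F₄).Group := Nat.finite_of_card_ne_zero (by rw [h1]; norm_num)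
  exact (twE6 K q).exists_weyl ψ hψ (by rw [h1, h2])

theorem exists_sq_ne {G : Type*} [CommGroup G] [IsCyclic G] [Finite G] (h : 2 < Nat.card G) : ∃ z : G, z ^ 2 ≠ 1 := by
  by_contra hcon
  push Not at hcon
  have h1 : (powMonoidHom 2 : G →* G).ker = ⊤ := by
    rw [eq_top_iff]; intro z _; exact hcon z
  have h2 := IsCyclic.card_powMonoidHom_ker G 2
  rw [h1, Subgroup.card_top] at h2
  have := Nat.le_of_dvd (by norm_num) (Nat.gcd_dvd_right (Nat.card G) 2)
  omega

theorem posE6 (hq : IsPrimePow q) (hK : Fintype.card K = q ^ 2) :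
    ∀ a < (twE6 K q).m, goodE6.XS K (goodE6.Sneg ((twE6 K q).ww a)) ⊓ (twE6 K q).FG ≤ ⁅(twE6 K q).FG, (twE6 K q).FG⁆ := by
  have h2 := hq.two_le
  have hU := card_units_q hK
  have hfx : ∀ r, grE6.rho r = r → grE6.eps r = 1 → r < 72 → ∀ t : K, t ^ q = t → goodE6.xg r t ∈ (twE6 K q).FG := by
    intro r h1 h2 hr t ht
    refine ⟨goodE6.xg_mem_GG _ _, ?_⟩
    rw [(twE6 K q).ff_xg hr]
    show goodE6.xg (grE6.rho r) (((grE6.eps r : ℤ) : K) * frobQ K q t ^ 1) = _
    rw [h1, h2, frobQ_eq hq hK, ht, pow_one, Int.cast_one, one_mul]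
  obtain ⟨z, hz⟩ : ∃ z : Kˣ, z ^ 2 ≠ 1 := by
    apply exists_sq_ne
    rw [hU]
    have : 2 ^ 2 ≤ q ^ 2 := Nat.pow_le_pow_left h2 2
    omega
  have hzq : (z ^ q) ^ 2 ≠ 1 := by
    intro h
    apply hz
    have h1 : ((z ^ 2) ^ q) ^ q = 1 := by
      rw [← pow_mul z, mul_comm 2 q, pow_mul, h, one_pow]
    apply Units.ext
    have h3 := congrArg Units.val h1
    push_cast at h3 ⊢
    rw [← pow_mul, ← pow_two] at h3
    rw [← h3]
    exact (pow_qq hK _).symm
  intro a ha
  have ha' : a < 4 := ha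
  interval_cases a
  · intro x hx
    obtain ⟨t, ht, rfl⟩ := (orbE6_0 hq hK).1 hx
    have h3 := goodE6.comm_one (r := 1) (s := 71) (p := 46) (c := -1) (by decide) (by decide) (by decide) (by decide +kernel) (by decide +kernel)
      (hfx 1 (by decide +kernel) (by decide +kernel) (by norm_num) t ht) (hfx 71 (by decide +kernel) (by decide +kernel) (by norm_num) 1 (one_pow _))
    have e : (((-1 : ℤ) : K) * -t * 1) = t := by push_cast; ring
    rwa [e] at h3
  · intro x hx
    obtain ⟨t, ht, rfl⟩ := (orbE6_1 hq hK).1 hx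
    have h3 := goodE6.comm_one (r := 2) (s := 70) (p := 39) (c := -1) (by decide) (by decide) (by decide) (by decide +kernel) (by decide +kernel)
      (hfx 2 (by decide +kernel) (by decide +kernel) (by norm_num) t ht) (hfx 70 (by decide +kernel) (by decide +kernel) (by norm_num) 1 (one_pow _))
    have e : (((-1 : ℤ) : K) * -t * 1) = t := by push_cast; ring
    rwa [e] at h3
  · have hqq : (z ^ q) ^ q = z := Units.ext (by
      show ((z : K) ^ q) ^ q = z
      rw [← pow_mul, ← pow_two]; exact pow_qq hK _)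
    refine (twE6 K q).torus_le (a := 2) ha (c := fun j => [1, 1, z, 1, z ^ q, 1].getD j 1) (hcE6_mem hq hK ?_) ?_
    · intro j hj
      interval_cases j
      · exact (one_pow _).symm
      · exact (one_pow _).symm
      · rfl
      · exact (one_pow _).symm
      · exact hqq.symm
      · exact (one_pow _).symm
    · intro r hr hS
      have hS' : r ∈ [42, 37] := (snB_spec goodE6 sn2E6 r hr).1 hS
      simp only [List.mem_cons, List.not_mem_nil, or_false] at hS'
      unfold Good.hcf
      rw [rkE6]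
      simp only [Finset.prod_range_succ, Finset.prod_range_zero, one_mul]
      rcases hS' with rfl | rfl
      · have e0 : chevE6.cartan 2 42 = 2 := by decide +kernel
        have e1 : chevE6.cartan 4 42 = 0 := by decide +kernel
        rw [e0, e1]
        show (1 : Kˣ) ^ _ * 1 ^ _ * z ^ (2 : ℤ) * 1 ^ _ * (z ^ q) ^ (0 : ℤ) * 1 ^ _ ≠ 1
        rw [one_zpow, one_zpow, one_zpow, one_zpow, zpow_zero]
        simpa using hz
      · have e0 : chevE6.cartan 2 37 = 0 := by decide +kernel
        have e1 : chevE6.cartan 4 37 = 2 := by decide +kernel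
        rw [e0, e1]
        show (1 : Kˣ) ^ _ * 1 ^ _ * z ^ (0 : ℤ) * 1 ^ _ * (z ^ q) ^ (2 : ℤ) * 1 ^ _ ≠ 1
        rw [one_zpow, one_zpow, one_zpow, one_zpow, zpow_zero]
        simpa using hzq
  · have hqq : (z ^ q) ^ q = z := Units.ext (by
      show ((z : K) ^ q) ^ q = z
      rw [← pow_mul, ← pow_two]; exact pow_qq hK _)
    refine (twE6 K q).torus_le (a := 3) ha (c := fun j => [z, 1, 1, 1, 1, z ^ q].getD j 1) (hcE6_mem hq hK ?_) ?_
    · intro j hj
      interval_cases j
      · rfl
      · exact (one_pow _).symm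
      · exact (one_pow _).symm
      · exact (one_pow _).symm
      · exact (one_pow _).symm
      · exact hqq.symm
    · intro r hr hS
      have hS' : r ∈ [56, 36] := (snB_spec goodE6 sn3E6 r hr).1 hS
      simp only [List.mem_cons, List.not_mem_nil, or_false] at hS'
      unfold Good.hcf
      rw [rkE6]
      simp only [Finset.prod_range_succ, Finset.prod_range_zero, one_mul]
      rcases hS' with rfl | rfl
      · have e0 : chevE6.cartan 0 56 = 2 := by decide +kernel
        have e1 : chevE6.cartan 5 56 = 0 := by decide +kernel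
        rw [e0, e1]
        show z ^ (2 : ℤ) * (1 : Kˣ) ^ _ * 1 ^ _ * 1 ^ _ * 1 ^ _ * (z ^ q) ^ (0 : ℤ) ≠ 1
        rw [one_zpow, one_zpow, one_zpow, one_zpow, zpow_zero]
        simpa using hz
      · have e0 : chevE6.cartan 0 36 = 0 := by decide +kernel
        have e1 : chevE6.cartan 5 36 = 2 := by decide +kernel
        rw [e0, e1]
        show z ^ (0 : ℤ) * (1 : Kˣ) ^ _ * 1 ^ _ * 1 ^ _ * 1 ^ _ * (z ^ q) ^ (2 : ℤ) ≠ 1
        rw [one_zpow, one_zpow, one_zpow, one_zpow, zpow_zero]
        simpa using hzq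

theorem perfE6 (hq : IsPrimePow q) (hK : Fintype.card K = q ^ 2) : commutator ↥(twE6 K q).FG = ⊤ := by
  refine (twE6 K q).perf_words (S := e6Words K q) (twistedE6_eq hq hK).symm (posE6 hq hK) ?_
  have hm : ∀ a, a < 4 → a < (twE6 K q).m := fun a h => h
  have hp0 : ∀ r, r ∈ [46] → r < chevE6.nroots → goodE6.Sneg [1] r := fun r h hr => (snB_spec goodE6 sn0E6 r hr).2 h
  have hp1 : ∀ r, r ∈ [39] → r < chevE6.nroots → goodE6.Sneg [3] r := fun r h hr => (snB_spec goodE6 sn1E6 r hr).2 h
  have hp2 : ∀ r, r ∈ [42, 37] → r < chevE6.nroots → goodE6.Sneg [2, 4] r := fun r h hr => (snB_spec goodE6 sn2E6 r hr).2 h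
  have hp3 : ∀ r, r ∈ [56, 36] → r < chevE6.nroots → goodE6.Sneg [0, 5] r := fun r h hr => (snB_spec goodE6 sn3E6 r hr).2 h
  rintro w (⟨t, ht, r, hr, rfl⟩ | ⟨t, ⟨r, s⟩, hr, rfl⟩)
  · simp only [e6p2, e6m2, e6p4, e6m4, List.mem_cons, List.not_mem_nil, or_false] at hr
    rcases hr with rfl | rfl | rfl | rfl
    · refine ⟨0, hm 0 (by norm_num), Or.inl ?_⟩
      intro p hp hp'
      simp only [List.mem_cons, List.not_mem_nil, or_false] at hp
      subst hp
      exact hp0 46 (by decide) hp'
    · refine ⟨0, hm 0 (by norm_num), Or.inr ?_⟩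
      intro p hp hp'
      simp only [List.mem_cons, List.not_mem_nil, or_false] at hp
      subst hp
      show goodE6.Sneg [1] (chevE6.neg 25)
      exact hp0 _ (by decide +kernel) (by decide +kernel)
    · refine ⟨1, hm 1 (by norm_num), Or.inl ?_⟩
      intro p hp hp'
      simp only [List.mem_cons, List.not_mem_nil, or_false] at hp
      subst hp
      exact hp1 39 (by decide) hp'
    · refine ⟨1, hm 1 (by norm_num), Or.inr ?_⟩
      intro p hp hp'
      simp only [List.mem_cons, List.not_mem_nil, or_false] at hp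
      subst hp
      show goodE6.Sneg [3] (chevE6.neg 32)
      exact hp1 _ (by decide +kernel) (by decide +kernel)
  · simp only [e6p1, e6p6, e6m1, e6m6, e6p3, e6p5, e6m3, e6m5, List.mem_cons, List.not_mem_nil, or_false, Prod.mk.injEq] at hr
    rcases hr with ⟨rfl, rfl⟩ | ⟨rfl, rfl⟩ | ⟨rfl, rfl⟩ | ⟨rfl, rfl⟩
    · refine ⟨3, hm 3 (by norm_num), Or.inl ?_⟩
      intro p hp hp'
      simp only [List.mem_cons, List.not_mem_nil, or_false] at hp
      rcases hp with rfl | rfl
      · exact hp3 56 (by decide) hp'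
      · exact hp3 36 (by decide) hp'
    · refine ⟨3, hm 3 (by norm_num), Or.inr ?_⟩
      intro p hp hp'
      simp only [List.mem_cons, List.not_mem_nil, or_false] at hp
      rcases hp with rfl | rfl
      · show goodE6.Sneg [0, 5] (chevE6.neg 15)
        exact hp3 _ (by decide +kernel) (by decide +kernel)
      · show goodE6.Sneg [0, 5] (chevE6.neg 35)
        exact hp3 _ (by decide +kernel) (by decide +kernel)
    · refine ⟨2, hm 2 (by norm_num), Or.inl ?_⟩
      intro p hp hp'
      simp only [List.mem_cons, List.not_mem_nil, or_false] at hp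
      rcases hp with rfl | rfl
      · exact hp2 42 (by decide) hp'
      · exact hp2 37 (by decide) hp'
    · refine ⟨2, hm 2 (by norm_num), Or.inr ?_⟩
      intro p hp hp'
      simp only [List.mem_cons, List.not_mem_nil, or_false] at hp
      rcases hp with rfl | rfl
      · show goodE6.Sneg [2, 4] (chevE6.neg 29)
        exact hp2 _ (by decide +kernel) (by decide +kernel)
      · show goodE6.Sneg [2, 4] (chevE6.neg 34)
        exact hp2 _ (by decide +kernel) (by decide +kernel)

theorem simpleE6 (hq : IsPrimePow q) (hK : Fintype.card K = q ^ 2) : IsSimpleGroup ↥(twE6 K q).FG ∧ ¬ IsMulCommutative ↥(twE6 K q).FG := by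
  refine (twE6 K q).simple_FG (neE6 hq hK) (cenE6 hq hK) (show 0 < 4 by norm_num) ?_ (perfE6 hq hK)
  intro a ha
  have ha' : a + 1 < 4 := ha
  have key : ∀ a < 3, ((List.range chevE6.nroots).all fun r => decide (wlF goodE6.w
      ((([a, a + 1]).map fun a => tWE6.getD a []).flatten) r = wlF goodE6.w ((([a + 1, a]).map fun a => tWE6.getD a []).flatten) r)) = false := by
    decide +kernel
  exact (twE6 K q).tP_ne (show a < 4 by omega) ha (key a (by omega))

end E6

end Chv
end CfsgH6
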