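import Cfsg.Agent.H6.Tw12

set_option autoImplicit false
set_option maxRecDepth 100000

/-! The twisted group of type `²F₄`. -/

namespace CfsgH6
namespace Chv

open Cfsg.Lie

theorem s0F4 : chevF4.simple 0 = 33 := by decide +kernel
theorem s1F4 : chevF4.simple 1 = 27 := by decide +kernel
theorem s2F4 : chevF4.simple 2 = 25 := by decide +kernel
theorem s3F4 : chevF4.simple 3 = 24 := by decide +kernel
theorem rkF4 : chevF4.rank = 4 := rfl
theorem sn0F4 : snB chevF4 goodF4.w goodF4.N [0, 3] [33, 24] = true := by decide +kernel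
theorem sn1F4 : snB chevF4 goodF4.w goodF4.N [1, 2, 1, 2] [25, 27, 28, 30] = true := by decide +kernel
theorem slF4 : goodF4.SL [25, 27, 28, 30] := by
  have : (List.range' goodF4.N goodF4.N).filter (fun r => decide (r ∈ [25, 27, 28, 30])) = [25, 27, 28, 30] := by decide +kernel
  exact this
theorem orF4_03 (F : Type*) [Field F] : goodF4.Orth F 33 24 := goodF4.orth_of (by decide +kernel)

theorem Good.nl_hD {D : ChevalleyDatum} (g : Good D) {F : Type*} [Field F] {L : List ℕ} (hL : ∀ i ∈ L, i < D.rank) {r : ℕ} (hr : r < D.nroots) (t : Fˣ) :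
    g.nl F L * g.hD r t * (g.nl F L)⁻¹ = g.hD (g.wl L r) t := by
  induction L with
  | nil => rw [g.nl_nil]; show 1 * g.hD r t * 1⁻¹ = g.hD r t; group
  | cons i L ih =>
    have h1 : ∀ j ∈ L, j < D.rank := fun j hj => hL j (by simp [hj])
    rw [g.nl_cons]
    calc g.nn i * g.nl F L * g.hD r t * (g.nn i * g.nl F L)⁻¹ = g.nn i * (g.nl F L * g.hD r t * (g.nl F L)⁻¹) * (g.nn i)⁻¹ := by group
      _ = _ := by rw [ih h1, g.nn_hD (hL i (by simp)) (g.wl_lt h1 hr)]; rfl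

section B2

variable {K : Type*} [Field K] [Finite K] [CharP K 2]

/-- products over a class of type `B₂` -/
noncomputable def b2w (a b c d : ℕ) (s1 s2 s3 s4 : K) : GL chevF4.Idx K :=
  goodF4.xg a s1 * goodF4.xg b s2 * goodF4.xg c s3 * goodF4.xg d s4

structure B2q (K : Type*) [Field K] [Finite K] [CharP K 2] (e : ℕ) (a b c d : ℕ) : Prop where
  com : ∀ t u : K, goodF4.xg b u * goodF4.xg a t = goodF4.xg a t * goodF4.xg b u * goodF4.xg c (t * u) * goodF4.xg d (t ^ 2 * u)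
  cd : ∀ t u : K, goodF4.xg c t * goodF4.xg d u = goodF4.xg d u * goodF4.xg c t
  add : ∀ (t u : K), goodF4.xg c t * goodF4.xg c u = goodF4.xg c (t + u)
  add' : ∀ (t u : K), goodF4.xg d t * goodF4.xg d u = goodF4.xg d (t + u)
  fa : ∀ t : K, (twF4 K e).ff (goodF4.xg a t) = goodF4.xg b ((t ^ e) ^ 2)
  fb : ∀ t : K, (twF4 K e).ff (goodF4.xg b t) = goodF4.xg a (t ^ e)
  fc : ∀ t : K, (twF4 K e).ff (goodF4.xg c t) = goodF4.xg d ((t ^ e) ^ 2)
  fd : ∀ t : K, (twF4 K e).ff (goodF4.xg d t) = goodF4.xg c (t ^ e)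

theorem B2q.ff_b2w {e a b c d : ℕ} (h : B2q K e a b c d) (s1 s2 s3 s4 : K) : (twF4 K e).ff (b2w a b c d s1 s2 s3 s4) =
    b2w a b c d (s2 ^ e) ((s1 ^ e) ^ 2) (s2 ^ e * (s1 ^ e) ^ 2 + s4 ^ e) ((s2 ^ e) ^ 2 * (s1 ^ e) ^ 2 + (s3 ^ e) ^ 2) := by
  have hx : ∀ (r : ℕ) (t : K), goodF4.xg r t ∈ goodF4.GG K := fun r t => goodF4.xg_mem_GG r t
  unfold b2w
  rw [(twF4 K e).ff_mul (Subgroup.mul_mem _ (Subgroup.mul_mem _ (hx _ _) (hx _ _)) (hx _ _)) (hx _ _),
    (twF4 K e).ff_mul (Subgroup.mul_mem _ (hx _ _) (hx _ _)) (hx _ _), (twF4 K e).ff_mul (hx _ _) (hx _ _), h.fa, h.fb, h.fc, h.fd, h.com,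
    ← h.add, ← h.add']
  obtain ⟨A, hA⟩ : ∃ A, A = goodF4.xg a (s2 ^ e) * goodF4.xg b ((s1 ^ e) ^ 2) * goodF4.xg c (s2 ^ e * (s1 ^ e) ^ 2) := ⟨_, rfl⟩
  rw [← hA]
  calc A * goodF4.xg d ((s2 ^ e) ^ 2 * (s1 ^ e) ^ 2) * goodF4.xg d ((s3 ^ e) ^ 2) * goodF4.xg c (s4 ^ e)
      = A * goodF4.xg d ((s2 ^ e) ^ 2 * (s1 ^ e) ^ 2) * (goodF4.xg d ((s3 ^ e) ^ 2) * goodF4.xg c (s4 ^ e)) := by group
    _ = A * (goodF4.xg d ((s2 ^ e) ^ 2 * (s1 ^ e) ^ 2) * goodF4.xg c (s4 ^ e)) * goodF4.xg d ((s3 ^ e) ^ 2) := by rw [← h.cd]; group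
    _ = A * goodF4.xg c (s4 ^ e) * (goodF4.xg d ((s2 ^ e) ^ 2 * (s1 ^ e) ^ 2) * goodF4.xg d ((s3 ^ e) ^ 2)) := by rw [← h.cd]; group
    _ = _ := by rw [hA]; group

end B2

section F4

variable {K : Type*} [Field K] [Fintype K] [CharP K 2] {m : ℕ}

theorem thF4 (hK : Fintype.card K = 2 ^ (2 * m + 1)) (t : K) : ((t ^ 2 ^ m) ^ 2 ^ m) ^ 2 = t := by
  rw [← pow_mul, ← pow_mul, show 2 ^ m * (2 ^ m * 2) = 2 ^ (2 * m + 1) by rw [pow_succ, two_mul, pow_add]; ring, ← hK, FiniteField.pow_card]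

theorem thF4' (hK : Fintype.card K = 2 ^ (2 * m + 1)) (t : K) : (((t ^ 2 ^ m) ^ 2) ^ 2 ^ m) = t := by
  rw [← pow_mul, mul_comm 2, pow_mul]; exact thF4 hK t

theorem add_pm (s t : K) : (s + t) ^ 2 ^ m = s ^ 2 ^ m + t ^ 2 ^ m := by
  rw [← frobP 2 m, map_add, frobP, frobP]

theorem ffF4 {r : ℕ} (hr : r < 48) (t : K) : (twF4 K (2 ^ m)).ff (goodF4.xg r t) = goodF4.xg (grF4.rho r) ((t ^ 2 ^ m) ^ grF4.ell r) := by
  rw [(twF4 K (2 ^ m)).ff_xg hr]
  show goodF4.xg (grF4.rho r) (((grF4.eps r : ℤ) : K) * frobQ K (2 ^ m) t ^ grF4.ell r) = _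
  rw [frobP, show grF4.eps r = 1 from rfl, Int.cast_one, one_mul]

theorem comF4 {a b c d : ℕ} {ε δ : ℤ} (ha : a < 48) (hb : b < 48) (h1 : b ≠ a) (h2 : b ≠ chevF4.neg a) (hε : ε % 2 = 1) (hδ : δ % 2 = 1)
    (h : chevF4.commTerms a b = [(c, ε, 1, 1), (d, δ, 2, 1)]) (t u : K) :
    goodF4.xg b u * goodF4.xg a t = goodF4.xg a t * goodF4.xg b u * goodF4.xg c (t * u) * goodF4.xg d (t ^ 2 * u) := by
  have h20 : (2 : K) = 0 := CharP.cast_eq_zero K 2
  have hodd : ∀ z : ℤ, z % 2 = 1 → (z : K) = 1 := by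
    intro z hz
    have := Int.emod_add_mul_ediv z 2
    rw [← this, hz]
    push_cast
    rw [h20]; ring
  rw [goodF4.xg_comm ha hb h1 h2 t u, h]
  simp only [List.map_cons, List.map_nil, List.prod_cons, List.prod_nil, mul_one, hodd ε hε, hodd δ hδ, one_mul, pow_one, CharTwo.neg_eq]
  group

theorem b2pos (K : Type*) [Field K] [Fintype K] [CharP K 2] (m : ℕ) : B2q K (2 ^ m) 27 25 28 30 where
  com := comF4 (by decide) (by decide) (by decide) (by decide +kernel) (ε := -1) (δ := -1) (by decide) (by decide) (by decide +kernel)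
  cd := goodF4.xg_commute (by decide) (by decide) (by decide) (by decide +kernel) (by
    have : chevF4.commTerms 28 30 = [] := by decide +kernel
    rw [this]; simp)
  add := goodF4.xg_add (by decide)
  add' := goodF4.xg_add (by decide)
  fa := fun t => ffF4 (by norm_num) t
  fb := fun t => by have := ffF4 (K := K) (m := m) (r := 25) (by norm_num) t; rwa [show grF4.ell 25 = 1 from rfl, pow_one] at this
  fc := fun t => ffF4 (by norm_num) t
  fd := fun t => by have := ffF4 (K := K) (m := m) (r := 30) (by norm_num) t; rwa [show grF4.ell 30 = 1 from rfl, pow_one] at this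

theorem b2neg (K : Type*) [Field K] [Fintype K] [CharP K 2] (m : ℕ) : B2q K (2 ^ m) 20 22 19 17 where
  com := comF4 (by decide) (by decide) (by decide) (by decide +kernel) (ε := 1) (δ := -1) (by decide) (by decide) (by decide +kernel)
  cd := goodF4.xg_commute (by decide) (by decide) (by decide) (by decide +kernel) (by
    have : chevF4.commTerms 19 17 = [] := by decide +kernel
    rw [this]; simp)
  add := goodF4.xg_add (by decide)
  add' := goodF4.xg_add (by decide)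
  fa := fun t => ffF4 (by norm_num) t
  fb := fun t => by have := ffF4 (K := K) (m := m) (r := 22) (by norm_num) t; rwa [show grF4.ell 22 = 1 from rfl, pow_one] at this
  fc := fun t => ffF4 (by norm_num) t
  fd := fun t => by have := ffF4 (K := K) (m := m) (r := 17) (by norm_num) t; rwa [show grF4.ell 17 = 1 from rfl, pow_one] at this

theorem b2w_ord (s1 s2 s3 s4 : K) : b2w 27 25 28 30 s1 s2 s3 s4 =
    goodF4.ordP (fun r => if r = 25 then s2 else if r = 27 then s1 else if r = 28 then s1 * s2 + s3 else s1 ^ 2 * s2 + s4) [25, 27, 28, 30] := by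
  have h := b2pos K 0
  have h1 := h.com s1 s2
  have h4 : goodF4.ordP (fun r => if r = 25 then s2 else if r = 27 then s1 else if r = 28 then s1 * s2 + s3 else s1 ^ 2 * s2 + s4) [25, 27, 28, 30] =
      goodF4.xg 25 s2 * (goodF4.xg 27 s1 * (goodF4.xg 28 (s1 * s2 + s3) * goodF4.xg 30 (s1 ^ 2 * s2 + s4))) := by
    unfold Good.ordP; simp
  rw [h4, ← h.add, ← h.add', b2w]
  have inv : ∀ {r : ℕ}, r < 48 → ∀ t : K, (goodF4.xg r t)⁻¹ = goodF4.xg r t := fun hr t => by rw [goodF4.xg_inv hr, CharTwo.neg_eq]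
  calc goodF4.xg 27 s1 * goodF4.xg 25 s2 * goodF4.xg 28 s3 * goodF4.xg 30 s4
      = (goodF4.xg 27 s1 * goodF4.xg 25 s2 * goodF4.xg 28 (s1 * s2) * goodF4.xg 30 (s1 ^ 2 * s2)) * (goodF4.xg 30 (s1 ^ 2 * s2))⁻¹ * (goodF4.xg 28 (s1 * s2))⁻¹ *
          goodF4.xg 28 s3 * goodF4.xg 30 s4 := by group
    _ = goodF4.xg 25 s2 * goodF4.xg 27 s1 * goodF4.xg 30 (s1 ^ 2 * s2) * (goodF4.xg 28 (s1 * s2) * goodF4.xg 28 s3) * goodF4.xg 30 s4 := by
        rw [← h1, inv (by norm_num), inv (by norm_num)]; group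
    _ = goodF4.xg 25 s2 * goodF4.xg 27 s1 * (goodF4.xg 30 (s1 ^ 2 * s2) * goodF4.xg 28 (s1 * s2 + s3)) * goodF4.xg 30 s4 := by rw [h.add]; group
    _ = goodF4.xg 25 s2 * goodF4.xg 27 s1 * (goodF4.xg 28 (s1 * s2 + s3) * goodF4.xg 30 (s1 ^ 2 * s2)) * goodF4.xg 30 s4 := by rw [h.cd]
    _ = _ := by rw [← h.add]; group

theorem b2w_inj {s1 s2 s3 s4 t1 t2 t3 t4 : K} (h : b2w 27 25 28 30 s1 s2 s3 s4 = b2w 27 25 28 30 t1 t2 t3 t4) : s1 = t1 ∧ s2 = t2 ∧ s3 = t3 ∧ s4 = t4 := by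
  rw [b2w_ord, b2w_ord] at h
  have h1 := slF4.inj _ h
  have e2 : s2 = t2 := h1 25 (by decide)
  have e1 : s1 = t1 := h1 27 (by decide)
  have e3 : s1 * s2 + s3 = t1 * t2 + t3 := h1 28 (by decide)
  have e4 : s1 ^ 2 * s2 + s4 = t1 ^ 2 * t2 + t4 := h1 30 (by decide)
  subst e1; subst e2
  exact ⟨rfl, rfl, add_left_cancel e3, add_left_cancel e4⟩

theorem b2_mem {x : GL chevF4.Idx K} : x ∈ goodF4.XS K (goodF4.Sneg [1, 2, 1, 2]) ↔ ∃ s1 s2 s3 s4 : K, x = b2w 27 25 28 30 s1 s2 s3 s4 := by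
  have hlt : ∀ i ∈ [1, 2, 1, 2], i < chevF4.rank := by decide
  rw [slF4.mem _ (goodF4.Sneg_closed hlt) (fun r hr => snB_spec goodF4 sn1F4 r hr)]
  constructor
  · rintro ⟨t, rfl⟩
    refine ⟨t 27, t 25, t 28 - t 27 * t 25, t 30 - t 27 ^ 2 * t 25, ?_⟩
    rw [b2w_ord]
    apply goodF4.ordP_congr
    intro r hr
    simp only [List.mem_cons, List.not_mem_nil, or_false] at hr
    rcases hr with rfl | rfl | rfl | rfl
    · rfl
    · rfl
    · show t 28 = t 27 * t 25 + (t 28 - t 27 * t 25); ring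
    · show t 30 = t 27 ^ 2 * t 25 + (t 30 - t 27 ^ 2 * t 25); ring
  · rintro ⟨s1, s2, s3, s4, rfl⟩
    exact ⟨_, b2w_ord _ _ _ _⟩

/-- the orbit groups -/
theorem orbF4_0 (hK : Fintype.card K = 2 ^ (2 * m + 1)) {x : GL chevF4.Idx K} :
    x ∈ goodF4.XS K (goodF4.Sneg [0, 3]) ⊓ (twF4 K (2 ^ m)).FG ↔ ∃ t : K, x = goodF4.xg 33 (t ^ 2 ^ m) * goodF4.xg 24 t := by
  have := (twF4 K (2 ^ m)).orb2 (i := 0) (p' := 24) (φ := fun t => (t ^ 2 ^ m) ^ 2) (ψ := fun t => t ^ 2 ^ m) (S := goodF4.Sneg [0, 3]) (x := x) (by decide) (by decide)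
    (by decide +kernel) (by rw [s0F4]; decide) (by rw [s0F4]; exact (orF4_03 K).1) (fun r hr => by rw [snB_spec goodF4 sn0F4 r hr, s0F4]; simp)
    (fun t => by rw [s0F4]; exact ffF4 (by norm_num) t)
    (fun t => by rw [s0F4]; have := ffF4 (K := K) (m := m) (r := 24) (by norm_num) t; rwa [show grF4.ell 24 = 1 from rfl, pow_one] at this)
    (fun t => thF4' hK t)
  rw [s0F4] at this
  rw [this]
  constructor
  · rintro ⟨t, rfl⟩
    exact ⟨(t ^ 2 ^ m) ^ 2, by rw [thF4' hK]⟩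
  · rintro ⟨t, rfl⟩
    exact ⟨t ^ 2 ^ m, by rw [thF4 hK]⟩

theorem orbF4_1 (hK : Fintype.card K = 2 ^ (2 * m + 1)) {x : GL chevF4.Idx K} :
    x ∈ goodF4.XS K (goodF4.Sneg [1, 2, 1, 2]) ⊓ (twF4 K (2 ^ m)).FG ↔
      ∃ t u : K, x = b2w 27 25 28 30 (t ^ 2 ^ m) t (t ^ (2 ^ m + 1) + u) (u ^ (2 * 2 ^ m)) := by
  have h20 : (2 : K) = 0 := CharP.cast_eq_zero K 2
  have hx : ∀ (r : ℕ) (t : K), goodF4.xg r t ∈ goodF4.GG K := fun r t => goodF4.xg_mem_GG r t
  constructor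
  · rintro ⟨h1, h2⟩
    obtain ⟨s1, s2, s3, s4, rfl⟩ := b2_mem.1 h1
    have h3 := h2.2
    rw [(b2pos K m).ff_b2w] at h3
    obtain ⟨e1, e2, e3, e4⟩ := b2w_inj h3
    refine ⟨s2, s4 ^ 2 ^ m, ?_⟩
    rw [e1]
    congr 1
    · rw [← e3, ← e1, show s2 ^ (2 ^ m + 1) = s2 ^ 2 ^ m * s2 from pow_succ _ _]
      congr 2
      rw [thF4 hK]
    · rw [pow_mul, thF4' hK]
  · rintro ⟨t, u, rfl⟩
    refine ⟨b2_mem.2 ⟨_, _, _, _, rfl⟩, ?_, ?_⟩
    · unfold b2w
      exact Subgroup.mul_mem _ (Subgroup.mul_mem _ (Subgroup.mul_mem _ (hx _ _) (hx _ _)) (hx _ _)) (hx _ _)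
    · rw [(b2pos K m).ff_b2w]
      have e1 : (u ^ (2 * 2 ^ m)) ^ 2 ^ m = u := by rw [mul_comm 2, pow_mul]; exact thF4' hK u
      have e2 : t ^ (2 ^ m + 1) = t ^ 2 ^ m * t := pow_succ _ _
      have e3 : u ^ (2 * 2 ^ m) = (u ^ 2 ^ m) ^ 2 := by rw [mul_comm 2, pow_mul]
      rw [thF4 hK, e1, e2, add_pm, mul_pow, CharTwo.add_sq, mul_pow, thF4 hK, e3]
      congr 1
      linear_combination ((t ^ 2 ^ m) ^ 2 * t) * h20

theorem cardF4 (hK : Fintype.card K = 2 ^ (2 * m + 1)) :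
    ∀ a < (twF4 K (2 ^ m)).m, Nat.card ↥(goodF4.XS K (goodF4.Sneg ((twF4 K (2 ^ m)).ww a)) ⊓ (twF4 K (2 ^ m)).FG) = (2 ^ (2 * m + 1)) ^ (teF4.getD a 0) := by
  have hcK : Nat.card K = 2 ^ (2 * m + 1) := by rw [Nat.card_eq_fintype_card, hK]
  intro a ha
  have ha' : a < 2 := ha
  interval_cases a
  · show Nat.card ↥(goodF4.XS K (goodF4.Sneg [0, 3]) ⊓ (twF4 K (2 ^ m)).FG) = (2 ^ (2 * m + 1)) ^ 1
    rw [pow_one, ← hcK]
    exact (twF4 K (2 ^ m)).card_orb2 (i := 0) (p' := 24) (φ := fun t => (t ^ 2 ^ m) ^ 2) (ψ := fun t => t ^ 2 ^ m) (by decide) (by decide)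
      (by decide +kernel) (by rw [s0F4]; decide) (by rw [s0F4]; exact (orF4_03 K).1) (fun r hr => by rw [snB_spec goodF4 sn0F4 r hr, s0F4]; simp)
      (fun t => by rw [s0F4]; exact ffF4 (by norm_num) t)
      (fun t => by rw [s0F4]; have := ffF4 (K := K) (m := m) (r := 24) (by norm_num) t; rwa [show grF4.ell 24 = 1 from rfl, pow_one] at this)
      (fun t => thF4' hK t)
  · show Nat.card ↥(goodF4.XS K (goodF4.Sneg [1, 2, 1, 2]) ⊓ (twF4 K (2 ^ m)).FG) = (2 ^ (2 * m + 1)) ^ 2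
    rw [pow_two, ← hcK, ← Nat.card_prod]
    symm
    refine Nat.card_congr (Equiv.ofBijective (fun p : K × K => (⟨b2w 27 25 28 30 (p.1 ^ 2 ^ m) p.1 (p.1 ^ (2 ^ m + 1) + p.2) (p.2 ^ (2 * 2 ^ m)),
      (orbF4_1 hK).2 ⟨p.1, p.2, rfl⟩⟩ : ↥(goodF4.XS K (goodF4.Sneg [1, 2, 1, 2]) ⊓ (twF4 K (2 ^ m)).FG))) ⟨?_, ?_⟩)
    · rintro ⟨t, u⟩ ⟨t', u'⟩ h
      obtain ⟨_, h2, h3, _⟩ := b2w_inj (congrArg Subtype.val h)
      simp only at h2 h3
      subst h2
      rw [add_left_cancel h3]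
    · rintro ⟨x, hx⟩
      obtain ⟨t, u, h⟩ := (orbF4_1 hK).1 hx
      exact ⟨(t, u), Subtype.ext h.symm⟩

/-! ### the generated group -/

theorem memF4_1 (t : K) : goodF4.xg 33 (t ^ 2 ^ m) * goodF4.xg 24 t ∈ twistedF4 K (2 ^ m) := by
  have := mem_gen goodF4 (F := K) (S := f4Words K (2 ^ m)) (w := [(33, t ^ 2 ^ m), (24, t)]) (Or.inl ⟨t, Or.inl rfl⟩)
  show _ ∈ chevF4.genSubgroup K (f4Words K (2 ^ m))
  simpa using this

theorem memF4_1' (t : K) : goodF4.xg 14 (t ^ 2 ^ m) * goodF4.xg 23 t ∈ twistedF4 K (2 ^ m) := by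
  have := mem_gen goodF4 (F := K) (S := f4Words K (2 ^ m)) (w := [(14, t ^ 2 ^ m), (23, t)]) (Or.inl ⟨t, Or.inr rfl⟩)
  show _ ∈ chevF4.genSubgroup K (f4Words K (2 ^ m))
  simpa using this

theorem memF4_2 (t u : K) : b2w 27 25 28 30 (t ^ 2 ^ m) t (t ^ (2 ^ m + 1) + u) (u ^ (2 * 2 ^ m)) ∈ twistedF4 K (2 ^ m) := by
  have := mem_gen goodF4 (F := K) (S := f4Words K (2 ^ m)) (w := [(27, t ^ 2 ^ m), (25, t), (28, t ^ (2 ^ m + 1) + u), (30, u ^ (2 * 2 ^ m))])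
    (Or.inr ⟨t, u, Or.inl rfl⟩)
  show _ ∈ chevF4.genSubgroup K (f4Words K (2 ^ m))
  unfold b2w
  simpa [mul_assoc] using this

theorem memF4_2' (t u : K) : b2w 20 22 19 17 (t ^ 2 ^ m) t (t ^ (2 ^ m + 1) + u) (u ^ (2 * 2 ^ m)) ∈ twistedF4 K (2 ^ m) := by
  have := mem_gen goodF4 (F := K) (S := f4Words K (2 ^ m)) (w := [(20, t ^ 2 ^ m), (22, t), (19, t ^ (2 ^ m + 1) + u), (17, u ^ (2 * 2 ^ m))])
    (Or.inr ⟨t, u, Or.inr rfl⟩)
  show _ ∈ chevF4.genSubgroup K (f4Words K (2 ^ m))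
  unfold b2w
  simpa [mul_assoc] using this

theorem ngF4_1 (t : K) : goodF4.ng 33 (t ^ 2 ^ m) * goodF4.ng 24 t ∈ twistedF4 K (2 ^ m) := by
  rw [goodF4.ng_two (orF4_03 K), show chevF4.neg 33 = 14 by decide +kernel, show chevF4.neg 24 = 23 by decide +kernel, CharTwo.neg_eq, CharTwo.neg_eq, ← inv_pow]
  exact Subgroup.mul_mem _ (Subgroup.mul_mem _ (memF4_1 t) (memF4_1' _)) (memF4_1 t)

theorem nuF4_1 : goodF4.nl K [1, 2, 1, 2] ∈ twistedF4 K (2 ^ m) := by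
  have h20 : ((2 : ℤ) : K) = 0 := by exact_mod_cast CharP.cast_eq_zero K 2
  have hpos : 2 ^ m ≠ 0 := by positivity
  have hpos2 : 2 * 2 ^ m ≠ 0 := by positivity
  have hpos3 : 2 ^ m + 1 ≠ 0 := Nat.succ_ne_zero _
  have h : chkWm encF4 2 [(27,1),(25,1),(28,1),(19,1),(17,1),(27,1),(25,1),(30,1)] (nw chevF4 [1,2,1,2]) = true := by decide +kernel
  have h1 := word_eq_of_chk goodF4 checksF4 h (by decide +kernel) h20
  rw [nw_word, ← h1]
  have e1 := memF4_2 (K := K) (m := m) 1 0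
  have e2 := memF4_2' (K := K) (m := m) 0 1
  have e3 := memF4_2 (K := K) (m := m) 1 1
  have h2 : (1 : K) + 1 = 0 := by have := CharP.cast_eq_zero K 2; push_cast at this; rw [← this]; norm_num
  rw [one_pow, one_pow, add_zero, zero_pow hpos2] at e1
  rw [zero_pow hpos, zero_pow hpos3, zero_add, one_pow] at e2
  rw [one_pow, one_pow, one_pow, h2] at e3
  unfold b2w at e1 e2 e3
  rw [goodF4.xg_zero, mul_one] at e1
  rw [goodF4.xg_zero, goodF4.xg_zero, one_mul, one_mul] at e2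
  rw [goodF4.xg_zero, mul_one] at e3
  have := Subgroup.mul_mem _ (Subgroup.mul_mem _ e1 e2) e3
  simpa [mul_assoc] using this

theorem piF4 : ∀ j < chevF4.rank, grF4.pi j < chevF4.rank ∧ grF4.pi (grF4.pi j) = j := by
  intro j hj
  have hj' : j < 4 := hj
  refine ⟨grF4_P.pi_lt j hj, ?_⟩
  interval_cases j <;> rfl

theorem hcF4_one {c : ℕ → Kˣ} (h : goodF4.hc c = 1) : ∀ j < 4, c j = 1 := by
  intro j hj
  have h4 := (goodF4.hc_eq_one_iff _).1 h
  have h6 := latF4.det h4 (i := j) hj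
  rwa [Finset.prod_range_zero] at h6

/-- the torus elements -/
def cF4 (m : ℕ) (a b : Kˣ) (j : ℕ) : Kˣ := [a ^ 2 ^ m, b ^ 2 ^ m, b, a].getD j 1

theorem hcF4_mem (hK : Fintype.card K = 2 ^ (2 * m + 1)) (a b : Kˣ) : goodF4.hc (cF4 m a b) ∈ (twF4 K (2 ^ m)).FG := by
  refine ⟨goodF4.HH_le_GG ⟨_, rfl⟩, ?_⟩
  rw [(twF4 K (2 ^ m)).ff_hc piF4 (fun i hi => (piF4 i hi).2) (cF4 m a b)]
  apply goodF4.hc_congr
  have hu : ∀ u : Kˣ, Units.map (frobQ K (2 ^ m) : K →* K) u = u ^ 2 ^ m := fun u => Units.ext (frobP 2 m _)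
  have hth : ∀ u : Kˣ, ((u ^ 2 ^ m) ^ 2 ^ m) ^ 2 = u := fun u => Units.ext (thF4 hK _)
  intro j hj
  have hj' : j < 4 := hj
  interval_cases j
  · show (Units.map (frobQ K (2 ^ m) : K →* K) a) ^ grF4.ell (chevF4.simple 3) = a ^ 2 ^ m
    rw [hu, s3F4]; exact pow_one _
  · show (Units.map (frobQ K (2 ^ m) : K →* K) b) ^ grF4.ell (chevF4.simple 2) = b ^ 2 ^ m
    rw [hu, s2F4]; exact pow_one _
  · show (Units.map (frobQ K (2 ^ m) : K →* K) (b ^ 2 ^ m)) ^ grF4.ell (chevF4.simple 1) = b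
    rw [hu, s1F4]; exact hth b
  · show (Units.map (frobQ K (2 ^ m) : K →* K) (a ^ 2 ^ m)) ^ grF4.ell (chevF4.simple 0) = a
    rw [hu, s0F4]; exact hth a

theorem HHF4 (hK : Fintype.card K = 2 ^ (2 * m + 1)) {x : GL chevF4.Idx K} (hx : x ∈ goodF4.HH K ⊓ (twF4 K (2 ^ m)).FG) :
    ∃ a b : Kˣ, x = goodF4.hc (cF4 m a b) := by
  obtain ⟨⟨c, rfl⟩, hx⟩ := hx
  have h1 := hx.2
  rw [(twF4 K (2 ^ m)).ff_hc piF4 (fun i hi => (piF4 i hi).2) c] at h1
  have hu : ∀ u : Kˣ, Units.map (frobQ K (2 ^ m) : K →* K) u = u ^ 2 ^ m := fun u => Units.ext (frobP 2 m _)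
  obtain ⟨c', hc'⟩ : ∃ c' : ℕ → Kˣ, c' = fun j => (twF4 K (2 ^ m)).th (chevF4.simple (grF4.pi j)) (c (grF4.pi j)) := ⟨_, rfl⟩
  rw [← hc'] at h1
  have h3 : goodF4.hc (fun i => c' i / c i) = 1 := by rw [goodF4.hc_div, h1, mul_inv_cancel]
  have h4 := hcF4_one h3
  refine ⟨c 3, c 2, ?_⟩
  apply goodF4.hc_congr
  intro j hj
  have hj' : j < 4 := hj
  have h5 : c' j = c j := div_eq_one.1 (h4 j hj')
  interval_cases j
  · rw [← h5, hc']
    show (Units.map (frobQ K (2 ^ m) : K →* K) (c 3)) ^ grF4.ell (chevF4.simple 3) = c 3 ^ 2 ^ m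
    rw [hu, s3F4]; exact pow_one _
  · rw [← h5, hc']
    show (Units.map (frobQ K (2 ^ m) : K →* K) (c 2)) ^ grF4.ell (chevF4.simple 2) = c 2 ^ 2 ^ m
    rw [hu, s2F4]; exact pow_one _
  · rfl
  · rfl

theorem surjF4 (hK : Fintype.card K = 2 ^ (2 * m + 1)) (b : Kˣ) : ∃ l : Kˣ, l ^ (2 * 2 ^ m + 2) = b := by
  have hU : Nat.card Kˣ = 2 ^ (2 * m + 1) - 1 := by
    classical
    rw [Nat.card_eq_fintype_card, Fintype.card_units, hK]
  have hco : (Nat.card Kˣ).Coprime (2 * 2 ^ m + 2) := by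
    rw [hU]
    have h0 : 1 ≤ 2 ^ m := Nat.one_le_two_pow
    obtain ⟨r, hr⟩ : ∃ r, 2 ^ m = r + 1 := ⟨2 ^ m - 1, by omega⟩
    have h1 : 2 ^ (2 * m + 1) = 2 * (2 ^ m * 2 ^ m) := by rw [pow_succ, two_mul, pow_add]; ring
    have h2 : 2 ^ (2 * m + 1) - 1 = (2 * 2 ^ m + 2) * r + 1 := by
      rw [h1, hr]
      have : 2 * ((r + 1) * (r + 1)) = (2 * (r + 1) + 2) * r + 1 + 1 := by ring
      omega
    rw [h2, Nat.coprime_comm]
    simp
  exact (powCoprime hco).surjective b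

theorem twistedF4_eq (hK : Fintype.card K = 2 ^ (2 * m + 1)) : twistedF4 K (2 ^ m) = (twF4 K (2 ^ m)).FG := by
  have hx : ∀ (r : ℕ) (t : K), goodF4.xg r t ∈ goodF4.GG K := fun _ _ => goodF4.xg_mem_GG _ _
  have hpair : ∀ (a b : ℕ), a < 48 → b < 48 → grF4.rho a = b → grF4.rho b = a → grF4.ell a = 2 → grF4.ell b = 1 →
      (∀ t u : K, goodF4.xg a t * goodF4.xg b u = goodF4.xg b u * goodF4.xg a t) → ∀ t : K, goodF4.xg a (t ^ 2 ^ m) * goodF4.xg b t ∈ (twF4 K (2 ^ m)).FG := by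
    intro a b ha hb h1 h2 h3 h4 hcom t
    refine ⟨Subgroup.mul_mem _ (hx _ _) (hx _ _), ?_⟩
    rw [(twF4 K (2 ^ m)).ff_mul (hx _ _) (hx _ _), ffF4 ha, ffF4 hb, h1, h2, h3, h4, pow_one, thF4 hK, hcom]
  have hb2 : ∀ (a b c d : ℕ), B2q K (2 ^ m) a b c d → ∀ t u : K, b2w a b c d (t ^ 2 ^ m) t (t ^ (2 ^ m + 1) + u) (u ^ (2 * 2 ^ m)) ∈ (twF4 K (2 ^ m)).FG := by
    intro a b c d h t u
    refine ⟨?_, ?_⟩
    · unfold b2w
      exact Subgroup.mul_mem _ (Subgroup.mul_mem _ (Subgroup.mul_mem _ (hx _ _) (hx _ _)) (hx _ _)) (hx _ _)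
    · have h20 : (2 : K) = 0 := CharP.cast_eq_zero K 2
      rw [h.ff_b2w]
      have e1 : (u ^ (2 * 2 ^ m)) ^ 2 ^ m = u := by rw [mul_comm 2, pow_mul]; exact thF4' hK u
      have e2 : t ^ (2 ^ m + 1) = t ^ 2 ^ m * t := pow_succ _ _
      have e3 : u ^ (2 * 2 ^ m) = (u ^ 2 ^ m) ^ 2 := by rw [mul_comm 2, pow_mul]
      rw [thF4 hK, e1, e2, add_pm, mul_pow, CharTwo.add_sq, mul_pow, thF4 hK, e3]
      congr 1
      linear_combination ((t ^ 2 ^ m) ^ 2 * t) * h20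
  have c1423 : ∀ t u : K, goodF4.xg 14 t * goodF4.xg 23 u = goodF4.xg 23 u * goodF4.xg 14 t := by
    have := (orF4_03 K).2.2.1
    rwa [show chevF4.neg 33 = 14 by decide +kernel, show chevF4.neg 24 = 23 by decide +kernel] at this
  apply le_antisymm
  · apply gen_le goodF4
    rintro w (⟨t, h⟩ | ⟨t, u, h⟩)
    · rcases h with rfl | rfl
      · have := hpair 33 24 (by norm_num) (by norm_num) (by decide +kernel) (by decide +kernel) (by decide +kernel) (by decide +kernel) (orF4_03 K).1 t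
        simpa [f4PairWord, f4p1, f4p4] using this
      · have := hpair 14 23 (by norm_num) (by norm_num) (by decide +kernel) (by decide +kernel) (by decide +kernel) (by decide +kernel) c1423 t
        simpa [f4PairWord, f4m1, f4m4] using this
    · rcases h with rfl | rfl
      · have := hb2 27 25 28 30 (b2pos K m) t u
        unfold b2w at this
        simpa [b2ClassWord, f4a, f4b, f4ab, f4aab, mul_assoc] using this
      · have := hb2 20 22 19 17 (b2neg K m) t u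
        unfold b2w at this
        simpa [b2ClassWord, f4ma, f4mb, f4mab, f4maab, mul_assoc] using this
  · have k1 : ∀ a : Kˣ, goodF4.hD 33 (a ^ 2 ^ m) * goodF4.hD 24 a ∈ twistedF4 K (2 ^ m) := by
      intro a
      rw [goodF4.hD_two (by decide) (by decide) (orF4_03 K)]
      refine Subgroup.mul_mem _ ?_ ?_
      · have := ngF4_1 (m := m) (a : K); push_cast; exact this
      · have := ngF4_1 (m := m) (-1 : K)
        rw [CharTwo.neg_eq, one_pow] at this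
        rw [CharTwo.neg_eq]
        exact this
    apply (twF4 K (2 ^ m)).FG_gen
    · intro a ha
      have ha' : a < 2 := ha
      interval_cases a
      · intro x hx
        obtain ⟨t, rfl⟩ := (orbF4_0 hK).1 hx
        exact memF4_1 t
      · intro x hx
        obtain ⟨t, u, rfl⟩ := (orbF4_1 hK).1 hx
        exact memF4_2 t u
    · intro a ha
      have ha' : a < 2 := ha
      interval_cases a
      · show goodF4.nl K [0, 3] ∈ _
        rw [goodF4.nl_cons, goodF4.nl_cons, goodF4.nl_nil, mul_one, goodF4.nn_eq_ng, goodF4.nn_eq_ng, s0F4, s3F4]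
        have := ngF4_1 (m := m) (1 : K)
        rwa [one_pow] at this
      · exact nuF4_1
    · intro x hx
      obtain ⟨a, b, rfl⟩ := HHF4 hK hx
      have k2 : ∀ b : Kˣ, goodF4.hD 27 (b ^ 2 ^ m) * goodF4.hD 25 b ∈ twistedF4 K (2 ^ m) := by
        intro b
        obtain ⟨l, hl⟩ := surjF4 hK b
        have h1 := Subgroup.mul_mem _ (Subgroup.mul_mem _ (nuF4_1 (K := K) (m := m)) (k1 l)) (Subgroup.inv_mem _ nuF4_1)
        have hlt : ∀ i ∈ [1, 2, 1, 2], i < chevF4.rank := by decide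
        have h2 : goodF4.nl K [1, 2, 1, 2] * (goodF4.hD 33 (l ^ 2 ^ m) * goodF4.hD 24 l) * (goodF4.nl K [1, 2, 1, 2])⁻¹ =
            goodF4.hD 37 (l ^ 2 ^ m) * goodF4.hD 32 l := by
          have e1 := goodF4.nl_hD hlt (r := 33) (by decide) (l ^ 2 ^ m)
          have e2 := goodF4.nl_hD hlt (r := 24) (by decide) l
          rw [show goodF4.wl [1, 2, 1, 2] 33 = 37 by decide +kernel] at e1
          rw [show goodF4.wl [1, 2, 1, 2] 24 = 32 by decide +kernel] at e2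
          rw [← e1, ← e2]; group
        rw [h2] at h1
        have h3 : goodF4.hD 27 (b ^ 2 ^ m) * goodF4.hD 25 b = (goodF4.hD 37 (l ^ 2 ^ m) * goodF4.hD 32 l) * (goodF4.hD 33 (l ^ 2 ^ m) * goodF4.hD 24 l)⁻¹ := by
          rw [eq_mul_inv_iff_mul_eq]
          simp only [goodF4.hD_eq_hc, goodF4.hc_mul]
          apply goodF4.hc_congr
          have hth : ((l ^ 2 ^ m) ^ 2 ^ m) ^ 2 = l := Units.ext (thF4 hK _)
          have e3 : l ^ (2 * 2 ^ m + 2) = (l ^ 2 ^ m) ^ 2 * l ^ 2 := by rw [pow_add, mul_comm 2, pow_mul]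
          intro i hi
          have hi' : i < 4 := hi
          rw [← hl]
          interval_cases i
          · rw [show cor chevF4 27 0 = 0 by decide +kernel, show cor chevF4 25 0 = 0 by decide +kernel, show cor chevF4 33 0 = 1 by decide +kernel,
              show cor chevF4 24 0 = 0 by decide +kernel, show cor chevF4 37 0 = 1 by decide +kernel, show cor chevF4 32 0 = 0 by decide +kernel]
            simp
          · rw [show cor chevF4 27 1 = 1 by decide +kernel, show cor chevF4 25 1 = 0 by decide +kernel, show cor chevF4 33 1 = 0 by decide +kernel,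
              show cor chevF4 24 1 = 0 by decide +kernel, show cor chevF4 37 1 = 2 by decide +kernel, show cor chevF4 32 1 = 1 by decide +kernel]
            rw [zpow_one, zpow_zero, zpow_zero, zpow_zero, mul_one, mul_one, mul_one, zpow_one, e3, mul_pow]
            have e4 : ((l ^ 2 ^ m) ^ 2) ^ 2 ^ m = l := Units.ext (thF4' hK _)
            have e5 : (l ^ 2) ^ 2 ^ m = (l ^ 2 ^ m) ^ 2 := by rw [← pow_mul, mul_comm, pow_mul]
            rw [e4, e5, mul_comm]; norm_cast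
          · rw [show cor chevF4 27 2 = 0 by decide +kernel, show cor chevF4 25 2 = 1 by decide +kernel, show cor chevF4 33 2 = 0 by decide +kernel,
              show cor chevF4 24 2 = 0 by decide +kernel, show cor chevF4 37 2 = 2 by decide +kernel, show cor chevF4 32 2 = 2 by decide +kernel]
            rw [zpow_one, zpow_zero, zpow_zero, zpow_zero, mul_one, mul_one, one_mul, e3]; norm_cast
          · rw [show cor chevF4 27 3 = 0 by decide +kernel, show cor chevF4 25 3 = 0 by decide +kernel, show cor chevF4 33 3 = 0 by decide +kernel,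
              show cor chevF4 24 3 = 1 by decide +kernel, show cor chevF4 37 3 = 0 by decide +kernel, show cor chevF4 32 3 = 1 by decide +kernel]
            simp
        rw [h3]
        exact Subgroup.mul_mem _ h1 (Subgroup.inv_mem _ (k1 l))
      have e1 : goodF4.hc (cF4 m a b) = goodF4.hD 33 (a ^ 2 ^ m) * goodF4.hD 27 (b ^ 2 ^ m) * goodF4.hD 25 b * goodF4.hD 24 a := by
        have hr : List.range chevF4.rank = [0, 1, 2, 3] := by decide
        rw [goodF4.hc_eq_prod, hr]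
        simp only [List.map_cons, List.map_nil, List.prod_cons,
          List.prod_nil, mul_one, s0F4, s1F4, s2F4, s3F4, mul_assoc]
        rfl
      have hcm : ∀ (r s : ℕ) (t u : Kˣ), goodF4.hD r t * goodF4.hD s u = goodF4.hD s u * goodF4.hD r t := fun r s t u =>
        goodF4.HH_comm (goodF4.hD_mem _ _) (goodF4.hD_mem _ _)
      have e6 : goodF4.hc (cF4 m a b) = (goodF4.hD 33 (a ^ 2 ^ m) * goodF4.hD 24 a) * (goodF4.hD 27 (b ^ 2 ^ m) * goodF4.hD 25 b) := by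
        rw [e1]
        calc goodF4.hD 33 (a ^ 2 ^ m) * goodF4.hD 27 (b ^ 2 ^ m) * goodF4.hD 25 b * goodF4.hD 24 a
            = goodF4.hD 33 (a ^ 2 ^ m) * (goodF4.hD 27 (b ^ 2 ^ m) * (goodF4.hD 25 b * goodF4.hD 24 a)) := by group
          _ = goodF4.hD 33 (a ^ 2 ^ m) * (goodF4.hD 27 (b ^ 2 ^ m) * goodF4.hD 24 a) * goodF4.hD 25 b := by rw [hcm 25 24]; group
          _ = _ := by rw [hcm 27 24]; group
      rw [e6]
      exact Subgroup.mul_mem _ (k1 _) (k2 _)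

end F4

end Chv
end CfsgH6
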