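import Cfsg.Agent.H6.TwF4

set_option autoImplicit false
set_option maxRecDepth 100000

/-! The twisted group of type `²F₄`: consequences. -/

namespace CfsgH6
namespace Chv

open Cfsg.Lie

/-- homomorphisms out of a dihedral group -/
theorem exists_dihHom {G : Type*} [Group G] {n : ℕ} [NeZero n] {x y : G} (hx : x * x = 1) (hy : y * y = 1) (h : (x * y) ^ n = 1) :
    ∃ ψ : DihedralGroup n →* G, ψ (DihedralGroup.sr 0) = x ∧ ψ (DihedralGroup.sr 1) = y := by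
  obtain ⟨R, hR⟩ : ∃ R, R = x * y := ⟨_, rfl⟩
  rw [← hR] at h
  have hadd : ∀ i j : ZMod n, R ^ (i + j).val = R ^ i.val * R ^ j.val := by
    intro i j
    rw [ZMod.val_add, ← pow_eq_pow_mod _ h, pow_add]
  have hsub : ∀ i j : ZMod n, R ^ (j - i).val = R ^ j.val * (R ^ i.val)⁻¹ := by
    intro i j
    rw [eq_mul_inv_iff_mul_eq, ← hadd, sub_add_cancel]
  have hxi : x⁻¹ = x := by rw [inv_eq_iff_mul_eq_one, hx]
  have hyi : y⁻¹ = y := by rw [inv_eq_iff_mul_eq_one, hy]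
  have hconj : x * R * x⁻¹ = R⁻¹ := by
    rw [hR, mul_inv_rev, hxi, hyi, ← mul_assoc, hx, one_mul]
  have hconjp : ∀ k : ℕ, x * R ^ k = (R ^ k)⁻¹ * x := by
    intro k
    have h1 : x * R ^ k * x⁻¹ = (R ^ k)⁻¹ := by rw [← conj_pow, hconj, inv_pow]
    rw [← h1]; group
  have hconjp' : ∀ k : ℕ, R ^ k * x = x * (R ^ k)⁻¹ := by
    intro k
    have h1 := hconjp k
    calc R ^ k * x = x * (x * R ^ k) * x := by rw [← mul_assoc, hx, one_mul]
      _ = x * (R ^ k)⁻¹ * (x * x) := by rw [h1]; group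
      _ = _ := by rw [hx, mul_one]
  let ψ : DihedralGroup n →* G := MonoidHom.mk' (fun d => match d with
    | DihedralGroup.r i => R ^ i.val
    | DihedralGroup.sr i => x * R ^ i.val) (by
      rintro (i | i) (j | j)
      · show R ^ (i + j).val = R ^ i.val * R ^ j.val
        exact hadd i j
      · show x * R ^ (j - i).val = R ^ i.val * (x * R ^ j.val)
        rw [← mul_assoc, hconjp', hsub, mul_assoc]
        congr 1
        exact ((Commute.refl R).pow_pow _ _).inv_right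
      · show x * R ^ (i + j).val = x * R ^ i.val * R ^ j.val
        rw [hadd, mul_assoc]
      · show R ^ (j - i).val = x * R ^ i.val * (x * R ^ j.val)
        rw [hconjp i.val, hsub]
        calc R ^ j.val * (R ^ i.val)⁻¹ = (R ^ i.val)⁻¹ * R ^ j.val := ((Commute.refl R).pow_pow _ _).inv_right
          _ = (R ^ i.val)⁻¹ * (x * x) * R ^ j.val := by rw [hx, mul_one]
          _ = _ := by group)
  refine ⟨ψ, ?_, ?_⟩
  · show x * R ^ (0 : ZMod n).val = x
    rw [ZMod.val_zero, pow_zero, mul_one]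
  · show x * R ^ (1 : ZMod n).val = y
    have : R ^ (1 : ZMod n).val = R := by
      by_cases hn : n = 1
      · subst hn
        rw [pow_one] at h
        rw [h, one_pow]
      · haveI : Fact (1 < n) := ⟨by have := NeZero.ne n; omega⟩
        rw [ZMod.val_one, pow_one]
    rw [this, hR, ← mul_assoc, hx, one_mul]

theorem TwC.exists_dih {D : ChevalleyDatum} {g : Good D} (T : TwC g) (hm : T.m = 2) {n : ℕ} [NeZero n] (h : (T.tP 0 * T.tP 1) ^ n = 1) :
    ∃ ψ : DihedralGroup n →* ↥(T.TW T.m), Function.Surjective ψ := by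
  have h0 : 0 < T.m := by omega
  have h1 : 1 < T.m := by omega
  obtain ⟨ψ, e0, e1⟩ := exists_dihHom (n := n) (x := (⟨T.tP 0, T.tP_mem h0 h0⟩ : ↥(T.TW T.m))) (y := ⟨T.tP 1, T.tP_mem h1 h1⟩)
    (Subtype.ext (T.tP_mul h0)) (Subtype.ext (T.tP_mul h1)) (Subtype.ext h)
  refine ⟨ψ, ?_⟩
  rw [← MonoidHom.range_eq_top, eq_top_iff, ← T.TW_gen, Subgroup.closure_le]
  rintro _ ⟨⟨a, ha⟩, rfl⟩
  have ha' : a = 0 ∨ a = 1 := by omega
  rcases ha' with rfl | rfl
  · exact ⟨_, e0⟩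
  · exact ⟨_, e1⟩

section F4

variable {K : Type*} [Field K] [Fintype K] [CharP K 2] {m : ℕ}

theorem qF4 (m : ℕ) : 2 ≤ 2 ^ (2 * m + 1) := by
  have : 2 ^ 1 ≤ 2 ^ (2 * m + 1) := Nat.pow_le_pow_right (by norm_num) (by omega)
  simpa using this

theorem neF4 (hK : Fintype.card K = 2 ^ (2 * m + 1)) :
    ∀ a < (twF4 K (2 ^ m)).m, ∃ u ∈ goodF4.XS K (goodF4.Sneg ((twF4 K (2 ^ m)).ww a)) ⊓ (twF4 K (2 ^ m)).FG, u ≠ 1 := by
  intro a ha
  refine ne_of_card (qF4 m) ?_ (cardF4 hK a ha)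
  have ha' : a < 2 := ha
  interval_cases a <;> decide

theorem bnF4 (hK : Fintype.card K = 2 ^ (2 * m + 1)) : ∃ P : Cfsg.BNPair ↥(twistedF4 K (2 ^ m)),
      P.B = (chevF4.borelSubgroup K ⊓ twistedF4 K (2 ^ m)).subgroupOf (twistedF4 K (2 ^ m)) ∧
      P.N = (chevF4.monomialSubgroup K ⊓ twistedF4 K (2 ^ m)).subgroupOf (twistedF4 K (2 ^ m)) := by
  rw [twistedF4_eq hK, goodF4.borel_eq, goodF4.mono_eq]
  exact (twF4 K (2 ^ m)).exists_bn (neF4 hK)

theorem cardUF4 (hK : Fintype.card K = 2 ^ (2 * m + 1)) : Nat.card ↥(goodF4.UU K ⊓ (twF4 K (2 ^ m)).FG) = (2 ^ (2 * m + 1)) ^ 12 := by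
  obtain ⟨n, h1, h2⟩ := (twF4 K (2 ^ m)).card_UUF (d := 2) (e := fun a => teF4.getD a 0) (cardF4 hK) (by
    intro a ha
    have ha' : a < 2 := ha
    interval_cases a
    · show 2 * 1 = goodF4.cnt [0, 3]
      decide +kernel
    · show 2 * 2 = goodF4.cnt [1, 2, 1, 2]
      decide +kernel)
  have h3 : goodF4.N = 24 := rfl
  rw [h3] at h1
  have : n = 12 := by omega
  rw [h2, this]

theorem b2w_hc (c : ℕ → Kˣ) (s1 s2 s3 s4 : K) : goodF4.hc c * b2w 27 25 28 30 s1 s2 s3 s4 * (goodF4.hc c)⁻¹ =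
    b2w 27 25 28 30 (((goodF4.hcf c 27 : Kˣ) : K) * s1) (((goodF4.hcf c 25 : Kˣ) : K) * s2) (((goodF4.hcf c 28 : Kˣ) : K) * s3) (((goodF4.hcf c 30 : Kˣ) : K) * s4) := by
  unfold b2w
  rw [← goodF4.hc_x c (s := 27) (by decide), ← goodF4.hc_x c (s := 25) (by decide), ← goodF4.hc_x c (s := 28) (by decide), ← goodF4.hc_x c (s := 30) (by decide)]
  group

theorem cenF4 (hK : Fintype.card K = 2 ^ (2 * m + 1)) : ∀ a < (twF4 K (2 ^ m)).m, ∀ i ∈ (twF4 K (2 ^ m)).J a, ∀ c : ℕ → Kˣ,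
    (∀ u ∈ goodF4.XS K (goodF4.Sneg ((twF4 K (2 ^ m)).ww a)) ⊓ (twF4 K (2 ^ m)).FG, goodF4.hc c * u * (goodF4.hc c)⁻¹ = u) →
      goodF4.hcf c (chevF4.simple i) = 1 := by
  intro a ha i hi c h
  have ha' : a < 2 := ha
  have hq0 : (1 : K) ^ 2 ^ m ≠ 0 := by rw [one_pow]; exact one_ne_zero
  interval_cases a
  · have hi' : i ∈ [0, 3] := hi
    simp only [List.mem_cons, List.not_mem_nil, or_false] at hi'
    have h1 := goodF4.cen2 (F := K) (i := 0) (p' := 24) (by decide) (by decide) (by decide +kernel) (by rw [s0F4]; decide) hq0 one_ne_zero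
      (by rw [s0F4]; exact (h _ ((orbF4_0 hK).2 ⟨1, rfl⟩)))
    rcases hi' with rfl | rfl
    · exact h1.1
    · rw [s3F4]; exact h1.2
  · have hi' : i ∈ [1, 2] := hi
    simp only [List.mem_cons, List.not_mem_nil, or_false] at hi'
    have h1 := h _ ((orbF4_1 hK).2 ⟨1, 0, rfl⟩)
    rw [b2w_hc] at h1
    obtain ⟨e1, e2, _, _⟩ := b2w_inj h1
    rw [one_pow, mul_one] at e1
    rw [mul_one] at e2
    rcases hi' with rfl | rfl
    · rw [s1F4]; exact Units.ext e1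
    · rw [s2F4]; exact Units.ext e2

theorem coreF4 (hK : Fintype.card K = 2 ^ (2 * m + 1)) :
    ((chevF4.borelSubgroup K ⊓ twistedF4 K (2 ^ m)).subgroupOf (twistedF4 K (2 ^ m))).normalCore = ⊥ := by
  rw [twistedF4_eq hK, goodF4.borel_eq]
  exact (twF4 K (2 ^ m)).core_bot (cenF4 hK)

theorem cardHF4 (hK : Fintype.card K = 2 ^ (2 * m + 1)) :
    Nat.card ↥(goodF4.HH K ⊓ (twF4 K (2 ^ m)).FG) = (2 ^ (2 * m + 1) - 1) ^ 2 := by
  have hU : Nat.card Kˣ = 2 ^ (2 * m + 1) - 1 := by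
    classical
    rw [Nat.card_eq_fintype_card, Fintype.card_units, hK]
  rw [pow_two, ← hU, ← Nat.card_prod]
  symm
  refine Nat.card_congr (Equiv.ofBijective (fun p : Kˣ × Kˣ => (⟨goodF4.hc (cF4 m p.1 p.2), ⟨⟨_, rfl⟩, hcF4_mem hK p.1 p.2⟩⟩ : ↥(goodF4.HH K ⊓ (twF4 K (2 ^ m)).FG))) ⟨?_, ?_⟩)
  · rintro ⟨a, b⟩ ⟨a', b'⟩ h
    have h1 : goodF4.hc (cF4 m a b) = goodF4.hc (cF4 m a' b') := congrArg Subtype.val h
    have h2 : goodF4.hc (fun i => cF4 m a b i / cF4 m a' b' i) = 1 := by rw [goodF4.hc_div, h1, mul_inv_cancel]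
    have e1 : b / b' = 1 := hcF4_one h2 2 (by norm_num)
    have e2 : a / a' = 1 := hcF4_one h2 3 (by norm_num)
    rw [div_eq_one.1 e1, div_eq_one.1 e2]
  · rintro ⟨x, hx⟩
    obtain ⟨a, b, h⟩ := HHF4 hK hx
    exact ⟨(a, b), Subtype.ext h.symm⟩

theorem cardFF4 (hK : Fintype.card K = 2 ^ (2 * m + 1)) :
    Nat.card ↥(twistedF4 K (2 ^ m)) =
      (2 ^ (2 * m + 1)) ^ 12 * (2 ^ (2 * m + 1) - 1) * ((2 ^ (2 * m + 1)) ^ 3 + 1) * ((2 ^ (2 * m + 1)) ^ 4 - 1) * ((2 ^ (2 * m + 1)) ^ 6 + 1) := by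
  obtain ⟨q, hq⟩ : ∃ q, q = 2 ^ (2 * m + 1) := ⟨_, rfl⟩
  have h2 : 2 ≤ q := by rw [hq]; exact qF4 m
  rw [twistedF4_eq hK, (twF4 K (2 ^ m)).card_FG (e := fun a => teF4.getD a 0) (cardF4 hK), (twF4 K (2 ^ m)).card_BBF, cardUF4 hK]
  have h3 := (Wt.SW_eq ((twF4 K (2 ^ m)).wt (e := fun a => teF4.getD a 0) (cardF4 hK)) (A := tAF4) (Js := tJF4) (Ws := tWF4) (cartB_spec cartF4)
    (fun a _ => rfl) (fun a _ => rfl) tOsF4 tcF4)
  have h4 := cardHF4 hK
  have h5 : tOsF4.length = (twF4 K (2 ^ m)).m := rfl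
  rw [h5] at h3
  obtain ⟨S, hS⟩ : ∃ S, S = ((twF4 K (2 ^ m)).wt (e := fun a => teF4.getD a 0) (cardF4 hK)).SW (twF4 K (2 ^ m)).m := ⟨_, rfl⟩
  rw [← hS] at h3 ⊢
  rw [← hq] at h3 h4 ⊢
  have h6 := congrArg (fun p => hev p (q : ℤ)) polF4
  simp only [hev_mulP, hev_prodP, List.map_cons, List.map_nil, List.prod_cons, List.prod_nil, mul_one,
    hev_qdP _ (by norm_num : 1 ≤ 1), hev_qdP _ (by norm_num : 1 ≤ 4), hev_qpP _ (by norm_num : 1 ≤ 3), hev_qpP _ (by norm_num : 1 ≤ 6)] at h6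
  rw [← h3] at h6
  have hsub : ∀ n : ℕ, ((q ^ n - 1 : ℕ) : ℤ) = (q : ℤ) ^ n - 1 := by
    intro n
    have := Nat.one_le_pow n q (by omega)
    push_cast [Nat.cast_sub this]; ring
  have hsub1 : ((q - 1 : ℕ) : ℤ) = (q : ℤ) - 1 := by
    rw [Nat.cast_sub (by omega)]; push_cast; ring
  have h7 : ((q ^ 12 * Nat.card ↥(goodF4.HH K ⊓ (twF4 K (2 ^ m)).FG) * S : ℕ) : ℤ) =
      ((q ^ 12 * (q - 1) * (q ^ 3 + 1) * (q ^ 4 - 1) * (q ^ 6 + 1) : ℕ) : ℤ) := by
    rw [h4]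
    push_cast [hsub, hsub1]
    linear_combination (q : ℤ) ^ 12 * h6
  exact_mod_cast h7

theorem relF4 : ((twF4 K (2 ^ m)).tP 0 * (twF4 K (2 ^ m)).tP 1) ^ 8 = 1 := by
  have key : ((List.range chevF4.nroots).all fun r => decide (wlF goodF4.w
      (((List.replicate 8 [0, 1]).flatten.map fun a => tWF4.getD a []).flatten) r = r)) = true := by
    decide +kernel
  exact (twF4 K (2 ^ m)).rel_of (show 0 < 2 by norm_num) (show 1 < 2 by norm_num) key

theorem weylF4 (hK : Fintype.card K = 2 ^ (2 * m + 1)) :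
    ∃ φ : ↥(chevF4.monomialSubgroup K ⊓ twistedF4 K (2 ^ m)) →* DihedralGroup 8, Function.Surjective φ ∧
      φ.ker = (chevF4.diagonalSubgroup K ⊓ twistedF4 K (2 ^ m)).subgroupOf (chevF4.monomialSubgroup K ⊓ twistedF4 K (2 ^ m)) := by
  rw [twistedF4_eq hK, goodF4.mono_eq, goodF4.diag_eq]
  have h2 : Nat.card ↥((twF4 K (2 ^ m)).TW (twF4 K (2 ^ m)).m) = 16 :=
    (twF4 K (2 ^ m)).card_TW (cartB_spec cartF4) (fun a _ => rfl) (fun a _ => rfl) tcF4 rfl (by decide +kernel)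
  obtain ⟨ψ, hψ⟩ := (twF4 K (2 ^ m)).exists_dih (n := 8) rfl relF4
  exact (twF4 K (2 ^ m)).exists_weyl ψ hψ (by rw [h2, DihedralGroup.nat_card])

theorem posF4 (hm : 1 ≤ m) (hK : Fintype.card K = 2 ^ (2 * m + 1)) :
    ∀ a < (twF4 K (2 ^ m)).m, goodF4.XS K (goodF4.Sneg ((twF4 K (2 ^ m)).ww a)) ⊓ (twF4 K (2 ^ m)).FG ≤ ⁅(twF4 K (2 ^ m)).FG, (twF4 K (2 ^ m)).FG⁆ := by
  have hU : Nat.card Kˣ = 2 ^ (2 * m + 1) - 1 := by
    classical
    rw [Nat.card_eq_fintype_card, Fintype.card_units, hK]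
  obtain ⟨z, hz⟩ : ∃ z : Kˣ, z ≠ 1 := by
    by_contra hcon
    push Not at hcon
    haveI : Subsingleton Kˣ := ⟨fun a b => by rw [hcon a, hcon b]⟩
    have h1 : Nat.card Kˣ = 1 := Nat.card_unique
    rw [hU] at h1
    have : 2 ^ 3 ≤ 2 ^ (2 * m + 1) := Nat.pow_le_pow_right (by norm_num) (by omega)
    omega
  have hth : (((z ^ 2 ^ m) ^ 2) ^ 2 ^ m) = z := Units.ext (thF4' hK _)
  have hcm : (z ^ 2) ^ 2 ^ m = (z ^ 2 ^ m) ^ 2 := by rw [← pow_mul, mul_comm, pow_mul]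
  have hsq : z ^ 2 ≠ z := by
    intro h
    rw [pow_two] at h
    exact hz (mul_eq_left.1 h)
  have h4 : (z ^ 2 ^ m) ^ 2 ≠ 1 := by
    intro h
    rw [h, one_pow] at hth
    exact hz hth.symm
  have h3 : z ^ 2 ≠ 1 := by
    intro h
    apply h4
    rw [← hcm, h, one_pow]
  have h1 : (z ^ 2 ^ m) ^ 2 ≠ z := by
    intro h
    rw [h] at hth
    apply hsq
    calc z ^ 2 = (z ^ 2 ^ m) ^ 2 := by rw [hth]
      _ = z := h
  have h2 : (z ^ 2 ^ m) ^ 2 ≠ z ^ 2 := by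
    intro h
    rw [h, hcm, h] at hth
    exact hsq hth
  intro a ha
  have ha' : a < 2 := ha
  interval_cases a
  · refine (twF4 K (2 ^ m)).torus_le (a := 0) ha (c := cF4 m z 1) (hcF4_mem hK z 1) ?_
    intro r hr hS
    have hS' : r ∈ [33, 24] := (snB_spec goodF4 sn0F4 r hr).1 hS
    simp only [List.mem_cons, List.not_mem_nil, or_false] at hS'
    unfold Good.hcf
    rw [rkF4]
    simp only [Finset.prod_range_succ, Finset.prod_range_zero, one_mul]
    rcases hS' with rfl | rfl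
    · have e0 : chevF4.cartan 0 33 = 2 := by decide +kernel
      have e3 : chevF4.cartan 3 33 = 0 := by decide +kernel
      rw [e0, e3]
      show (z ^ 2 ^ m) ^ (2 : ℤ) * ((1 : Kˣ) ^ 2 ^ m) ^ _ * 1 ^ _ * z ^ (0 : ℤ) ≠ 1
      rw [one_pow, one_zpow, one_zpow, zpow_zero, mul_one, mul_one, mul_one]
      exact_mod_cast h4
    · have e0 : chevF4.cartan 0 24 = 0 := by decide +kernel
      have e3 : chevF4.cartan 3 24 = 2 := by decide +kernel
      rw [e0, e3]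
      show (z ^ 2 ^ m) ^ (0 : ℤ) * ((1 : Kˣ) ^ 2 ^ m) ^ _ * 1 ^ _ * z ^ (2 : ℤ) ≠ 1
      rw [one_pow, one_zpow, one_zpow, zpow_zero, mul_one, mul_one, one_mul]
      exact_mod_cast h3
  · refine (twF4 K (2 ^ m)).torus_le (a := 1) ha (c := cF4 m 1 z) (hcF4_mem hK 1 z) ?_
    intro r hr hS
    have hS' : r ∈ [25, 27, 28, 30] := (snB_spec goodF4 sn1F4 r hr).1 hS
    simp only [List.mem_cons, List.not_mem_nil, or_false] at hS'
    unfold Good.hcf
    rw [rkF4]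
    simp only [Finset.prod_range_succ, Finset.prod_range_zero, one_mul]
    have key : ∀ (r : ℕ), cF4 m 1 z 0 ^ chevF4.cartan 0 r * cF4 m 1 z 1 ^ chevF4.cartan 1 r * cF4 m 1 z 2 ^ chevF4.cartan 2 r * cF4 m 1 z 3 ^ chevF4.cartan 3 r =
        (z ^ 2 ^ m) ^ chevF4.cartan 1 r * z ^ chevF4.cartan 2 r := by
      intro r
      show ((1 : Kˣ) ^ 2 ^ m) ^ _ * (z ^ 2 ^ m) ^ chevF4.cartan 1 r * z ^ chevF4.cartan 2 r * 1 ^ _ = _
      rw [one_pow, one_zpow, one_zpow, mul_one, one_mul]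
    rw [key]
    rcases hS' with rfl | rfl | rfl | rfl
    · rw [show chevF4.cartan 1 25 = -2 by decide +kernel, show chevF4.cartan 2 25 = 2 by decide +kernel]
      intro h
      apply h2
      rw [zpow_neg, inv_mul_eq_one] at h
      exact_mod_cast h
    · rw [show chevF4.cartan 1 27 = 2 by decide +kernel, show chevF4.cartan 2 27 = -1 by decide +kernel]
      intro h
      apply h1
      rw [zpow_neg_one, mul_inv_eq_one] at h
      exact_mod_cast h
    · rw [show chevF4.cartan 1 28 = 0 by decide +kernel, show chevF4.cartan 2 28 = 1 by decide +kernel, zpow_zero, one_mul, zpow_one]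
      exact hz
    · rw [show chevF4.cartan 1 30 = 2 by decide +kernel, show chevF4.cartan 2 30 = 0 by decide +kernel, zpow_zero, mul_one]
      exact_mod_cast h4

theorem perfF4 (hm : 1 ≤ m) (hK : Fintype.card K = 2 ^ (2 * m + 1)) : commutator ↥(twF4 K (2 ^ m)).FG = ⊤ := by
  refine (twF4 K (2 ^ m)).perf_words (S := f4Words K (2 ^ m)) (twistedF4_eq hK).symm (posF4 hm hK) ?_
  have hm : ∀ a, a < 2 → a < (twF4 K (2 ^ m)).m := fun a h => h
  have hp0 : ∀ r, r ∈ [33, 24] → r < chevF4.nroots → goodF4.Sneg [0, 3] r := fun r h hr => (snB_spec goodF4 sn0F4 r hr).2 h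
  have hp1 : ∀ r, r ∈ [25, 27, 28, 30] → r < chevF4.nroots → goodF4.Sneg [1, 2, 1, 2] r := fun r h hr => (snB_spec goodF4 sn1F4 r hr).2 h
  rintro w (⟨t, h⟩ | ⟨t, u, h⟩)
  · rcases h with rfl | rfl
    · refine ⟨0, hm 0 (by norm_num), Or.inl ?_⟩
      intro p hp hp'
      simp only [f4PairWord, List.mem_cons, List.not_mem_nil, or_false] at hp
      rcases hp with rfl | rfl
      · exact hp0 33 (by decide) hp'
      · exact hp0 24 (by decide) hp'
    · refine ⟨0, hm 0 (by norm_num), Or.inr ?_⟩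
      intro p hp hp'
      simp only [f4PairWord, List.mem_cons, List.not_mem_nil, or_false] at hp
      rcases hp with rfl | rfl
      · show goodF4.Sneg [0, 3] (chevF4.neg 14)
        exact hp0 _ (by decide +kernel) (by decide +kernel)
      · show goodF4.Sneg [0, 3] (chevF4.neg 23)
        exact hp0 _ (by decide +kernel) (by decide +kernel)
  · rcases h with rfl | rfl
    · refine ⟨1, hm 1 (by norm_num), Or.inl ?_⟩
      intro p hp hp'
      simp only [b2ClassWord, List.mem_cons, List.not_mem_nil, or_false] at hp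
      rcases hp with rfl | rfl | rfl | rfl
      · exact hp1 27 (by decide) hp'
      · exact hp1 25 (by decide) hp'
      · exact hp1 28 (by decide) hp'
      · exact hp1 30 (by decide) hp'
    · refine ⟨1, hm 1 (by norm_num), Or.inr ?_⟩
      intro p hp hp'
      simp only [b2ClassWord, List.mem_cons, List.not_mem_nil, or_false] at hp
      rcases hp with rfl | rfl | rfl | rfl
      · show goodF4.Sneg [1, 2, 1, 2] (chevF4.neg 20)
        exact hp1 _ (by decide +kernel) (by decide +kernel)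
      · show goodF4.Sneg [1, 2, 1, 2] (chevF4.neg 22)
        exact hp1 _ (by decide +kernel) (by decide +kernel)
      · show goodF4.Sneg [1, 2, 1, 2] (chevF4.neg 19)
        exact hp1 _ (by decide +kernel) (by decide +kernel)
      · show goodF4.Sneg [1, 2, 1, 2] (chevF4.neg 17)
        exact hp1 _ (by decide +kernel) (by decide +kernel)

theorem simpleF4 (hm : 1 ≤ m) (hK : Fintype.card K = 2 ^ (2 * m + 1)) :
    IsSimpleGroup ↥(twF4 K (2 ^ m)).FG ∧ ¬ IsMulCommutative ↥(twF4 K (2 ^ m)).FG := by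
  refine (twF4 K (2 ^ m)).simple_FG (neF4 hK) (cenF4 hK) (show 0 < 2 by norm_num) ?_ (perfF4 hm hK)
  intro a ha
  have ha' : a + 1 < 2 := ha
  have key : ∀ a < 1, ((List.range chevF4.nroots).all fun r => decide (wlF goodF4.w
      ((([a, a + 1]).map fun a => tWF4.getD a []).flatten) r = wlF goodF4.w ((([a + 1, a]).map fun a => tWF4.getD a []).flatten) r)) = false := by
    decide +kernel
  exact (twF4 K (2 ^ m)).tP_ne (show a < 2 by omega) ha (key a (by omega))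

end F4

end Chv
end CfsgH6
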