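import Cfsg.Agent.H6.TwF4b

set_option autoImplicit false
set_option maxRecDepth 100000

/-! The twisted group of type `²G₂`. -/

namespace CfsgH6
namespace Chv

open Cfsg.Lie

theorem s0G2 : chevG2.simple 0 = 7 := by decide +kernel
theorem s1G2 : chevG2.simple 1 = 6 := by decide +kernel
theorem rkG2 : chevG2.rank = 2 := rfl
theorem sn0G2 : snB chevG2 goodG2.w goodG2.N [0, 1, 0, 1, 0, 1] [6, 7, 8, 9, 10, 11] = true := by decide +kernel
theorem slG2 : goodG2.SL [6, 7, 8, 9, 10, 11] := by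
  have : (List.range' goodG2.N goodG2.N).filter (fun r => decide (r ∈ [6, 7, 8, 9, 10, 11])) = [6, 7, 8, 9, 10, 11] := by decide +kernel
  exact this
theorem orG2 (F : Type*) [Field F] : goodG2.Orth F 8 10 := goodG2.orth_of (by decide +kernel)

section R2

variable {K : Type*} [Field K] [Finite K] [CharP K 3]

/-- products over the positive (or negative) roots -/
noncomputable def r2w (X1 X2 X3 X4 X5 X6 : K → GL chevG2.Idx K) (s1 s2 s3 s4 s5 s6 : K) : GL chevG2.Idx K :=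
  X1 s1 * X2 s2 * X3 s3 * X4 s4 * X5 s5 * X6 s6

structure R2q (K : Type*) [Field K] [Finite K] [CharP K 3] (e : ℕ) (X1 X2 X3 X4 X5 X6 : K → GL chevG2.Idx K) : Prop where
  com : ∀ t u : K, X2 u * X1 t = X1 t * X2 u * X3 (t * u) * X4 (t ^ 2 * u) * X5 (-(t ^ 3 * u)) * X6 (-(t ^ 3 * u ^ 2))
  c34 : ∀ t u : K, Commute (X3 t) (X4 u)
  c35 : ∀ t u : K, Commute (X3 t) (X5 u)
  c36 : ∀ t u : K, Commute (X3 t) (X6 u)
  c45 : ∀ t u : K, Commute (X4 t) (X5 u)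
  c46 : ∀ t u : K, Commute (X4 t) (X6 u)
  c56 : ∀ t u : K, Commute (X5 t) (X6 u)
  a1 : ∀ t u : K, X1 t * X1 u = X1 (t + u)
  a2 : ∀ t u : K, X2 t * X2 u = X2 (t + u)
  a3 : ∀ t u : K, X3 t * X3 u = X3 (t + u)
  a4 : ∀ t u : K, X4 t * X4 u = X4 (t + u)
  a5 : ∀ t u : K, X5 t * X5 u = X5 (t + u)
  a6 : ∀ t u : K, X6 t * X6 u = X6 (t + u)
  m1 : ∀ t : K, X1 t ∈ goodG2.GG K
  m2 : ∀ t : K, X2 t ∈ goodG2.GG K
  m3 : ∀ t : K, X3 t ∈ goodG2.GG K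
  m4 : ∀ t : K, X4 t ∈ goodG2.GG K
  m5 : ∀ t : K, X5 t ∈ goodG2.GG K
  m6 : ∀ t : K, X6 t ∈ goodG2.GG K
  f1 : ∀ t : K, (twG2 K e).ff (X1 t) = X2 ((t ^ e) ^ 3)
  f2 : ∀ t : K, (twG2 K e).ff (X2 t) = X1 (t ^ e)
  f3 : ∀ t : K, (twG2 K e).ff (X3 t) = X5 ((t ^ e) ^ 3)
  f4 : ∀ t : K, (twG2 K e).ff (X4 t) = X6 ((t ^ e) ^ 3)
  f5 : ∀ t : K, (twG2 K e).ff (X5 t) = X3 (t ^ e)
  f6 : ∀ t : K, (twG2 K e).ff (X6 t) = X4 (t ^ e)

theorem tail_comm' {G : Type*} [Group G] {x3 x4 x5 x6 y3 y4 y5 y6 : G}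
    (k1 : Commute x4 y3) (k2 : Commute x5 y3) (k3 : Commute x6 y3) (k4 : Commute x5 y4) (k5 : Commute x6 y4) (k6 : Commute x6 y5) :
    x3 * x4 * x5 * x6 * (y3 * (y4 * (y5 * y6))) = x3 * y3 * (x4 * y4) * (x5 * y5) * (x6 * y6) := by
  have e2 : Commute (x4 * (x5 * x6)) y3 := k1.mul_left (k2.mul_left k3)
  have e3 : Commute (x5 * x6) y4 := k4.mul_left k5
  calc x3 * x4 * x5 * x6 * (y3 * (y4 * (y5 * y6))) = x3 * ((x4 * (x5 * x6)) * y3) * (y4 * (y5 * y6)) := by group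
    _ = x3 * y3 * x4 * ((x5 * x6) * y4) * (y5 * y6) := by rw [e2.eq]; group
    _ = x3 * y3 * (x4 * y4) * x5 * (x6 * y5) * y6 := by rw [e3.eq]; group
    _ = _ := by rw [k6.eq]; group

theorem tail_comm {G : Type*} [Group G] {x3 x4 x5 x6 y3 y4 y5 y6 : G}
    (h1 : Commute y5 y3) (h2 : Commute y6 y3) (h3 : Commute y5 y4) (h4 : Commute y6 y4)
    (k1 : Commute x4 y3) (k2 : Commute x5 y3) (k3 : Commute x6 y3) (k4 : Commute x5 y4) (k5 : Commute x6 y4) (k6 : Commute x6 y5) :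
    x3 * x4 * x5 * x6 * (y5 * y6 * y3 * y4) = x3 * y3 * (x4 * y4) * (x5 * y5) * (x6 * y6) := by
  have e1 : y5 * y6 * y3 * y4 = y3 * (y4 * (y5 * y6)) := by
    have h5 : Commute (y5 * y6) y3 := h1.mul_left h2
    have h6 : Commute (y5 * y6) y4 := h3.mul_left h4
    rw [h5.eq, mul_assoc, h6.eq]
  rw [e1]
  have e2 : Commute (x4 * (x5 * x6)) y3 := k1.mul_left (k2.mul_left k3)
  have e3 : Commute (x5 * x6) y4 := k4.mul_left k5
  calc x3 * x4 * x5 * x6 * (y3 * (y4 * (y5 * y6))) = x3 * ((x4 * (x5 * x6)) * y3) * (y4 * (y5 * y6)) := by group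
    _ = x3 * y3 * x4 * ((x5 * x6) * y4) * (y5 * y6) := by rw [e2.eq]; group
    _ = x3 * y3 * (x4 * y4) * x5 * (x6 * y5) * y6 := by rw [e3.eq]; group
    _ = _ := by rw [k6.eq]; group

theorem R2q.ff_r2w {e : ℕ} {X1 X2 X3 X4 X5 X6 : K → GL chevG2.Idx K} (h : R2q K e X1 X2 X3 X4 X5 X6) (s1 s2 s3 s4 s5 s6 : K) :
    (twG2 K e).ff (r2w X1 X2 X3 X4 X5 X6 s1 s2 s3 s4 s5 s6) =
    r2w X1 X2 X3 X4 X5 X6 (s2 ^ e) ((s1 ^ e) ^ 3) (s2 ^ e * (s1 ^ e) ^ 3 + s5 ^ e) ((s2 ^ e) ^ 2 * (s1 ^ e) ^ 3 + s6 ^ e)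
      (-((s2 ^ e) ^ 3 * (s1 ^ e) ^ 3) + (s3 ^ e) ^ 3) (-((s2 ^ e) ^ 3 * ((s1 ^ e) ^ 3) ^ 2) + (s4 ^ e) ^ 3) := by
  have hm := fun {x y : GL chevG2.Idx K} (hx : x ∈ goodG2.GG K) (hy : y ∈ goodG2.GG K) => Subgroup.mul_mem _ hx hy
  unfold r2w
  rw [(twG2 K e).ff_mul (hm (hm (hm (hm (h.m1 _) (h.m2 _)) (h.m3 _)) (h.m4 _)) (h.m5 _)) (h.m6 _),
    (twG2 K e).ff_mul (hm (hm (hm (h.m1 _) (h.m2 _)) (h.m3 _)) (h.m4 _)) (h.m5 _),
    (twG2 K e).ff_mul (hm (hm (h.m1 _) (h.m2 _)) (h.m3 _)) (h.m4 _),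
    (twG2 K e).ff_mul (hm (h.m1 _) (h.m2 _)) (h.m3 _), (twG2 K e).ff_mul (h.m1 _) (h.m2 _), h.f1, h.f2, h.f3, h.f4, h.f5, h.f6, h.com,
    ← h.a3, ← h.a4, ← h.a5, ← h.a6]
  obtain ⟨A, hA⟩ : ∃ A, A = X1 (s2 ^ e) * X2 ((s1 ^ e) ^ 3) := ⟨_, rfl⟩
  rw [← hA]
  have key := tail_comm (x3 := X3 (s2 ^ e * (s1 ^ e) ^ 3)) (x4 := X4 ((s2 ^ e) ^ 2 * (s1 ^ e) ^ 3)) (x5 := X5 (-((s2 ^ e) ^ 3 * (s1 ^ e) ^ 3)))
    (x6 := X6 (-((s2 ^ e) ^ 3 * ((s1 ^ e) ^ 3) ^ 2))) (y3 := X3 (s5 ^ e)) (y4 := X4 (s6 ^ e)) (y5 := X5 ((s3 ^ e) ^ 3)) (y6 := X6 ((s4 ^ e) ^ 3))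
    (h.c35 _ _).symm (h.c36 _ _).symm (h.c45 _ _).symm (h.c46 _ _).symm (h.c34 _ _).symm (h.c35 _ _).symm (h.c36 _ _).symm (h.c45 _ _).symm (h.c46 _ _).symm
    (h.c56 _ _).symm
  have key' := congrArg (fun z => A * z) key
  simp only [mul_assoc] at key' ⊢
  exact key'

/-- the fixed elements -/
theorem R2q.fix {m : ℕ} {X1 X2 X3 X4 X5 X6 : K → GL chevG2.Idx K} (h : R2q K (3 ^ m) X1 X2 X3 X4 X5 X6)
    (hth : ∀ t : K, ((t ^ 3 ^ m) ^ 3 ^ m) ^ 3 = t) (hadd : ∀ s t : K, (s + t) ^ 3 ^ m = s ^ 3 ^ m + t ^ 3 ^ m) (hadd3 : ∀ s t : K, (s + t) ^ 3 = s ^ 3 + t ^ 3) (t u v : K) :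
    r2w X1 X2 X3 X4 X5 X6 (t ^ 3 ^ m) t (t ^ (3 ^ m + 1) + u ^ 3 ^ m) (t ^ (2 * 3 ^ m + 1) + v ^ 3 ^ m) u v ∈ (twG2 K (3 ^ m)).FG := by
  have hm := fun {x y : GL chevG2.Idx K} (hx : x ∈ goodG2.GG K) (hy : y ∈ goodG2.GG K) => Subgroup.mul_mem _ hx hy
  refine ⟨?_, ?_⟩
  · unfold r2w
    exact hm (hm (hm (hm (hm (h.m1 _) (h.m2 _)) (h.m3 _)) (h.m4 _)) (h.m5 _)) (h.m6 _)
  · rw [h.ff_r2w, hth]
    have e1 : t ^ (3 ^ m + 1) = t ^ 3 ^ m * t := pow_succ _ _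
    have e2 : t ^ (2 * 3 ^ m + 1) = (t ^ 3 ^ m) ^ 2 * t := by rw [pow_succ, mul_comm 2, pow_mul]
    rw [e1, e2, hadd, hadd, hadd3, hadd3, hth, hth, mul_pow, mul_pow, mul_pow, mul_pow, hth]
    have e3 : (((t ^ 3 ^ m) ^ 2) ^ 3 ^ m) ^ 3 = t ^ 2 := by
      rw [← pow_mul, ← pow_mul, ← pow_mul, show 3 ^ m * (2 * (3 ^ m * 3)) = 3 ^ m * (3 ^ m * 3) * 2 by ring, pow_mul, pow_mul, pow_mul, hth]
    rw [e3]
    congr 1 <;> ring

theorem R2q.swap {e : ℕ} {X1 X2 X3 X4 X5 X6 : K → GL chevG2.Idx K} (h : R2q K e X1 X2 X3 X4 X5 X6) (s1 s2 s3 s4 s5 s6 : K) :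
    r2w X1 X2 X3 X4 X5 X6 s1 s2 s3 s4 s5 s6 =
      X2 s2 * X1 s1 * X3 (s3 - s1 * s2) * X4 (s4 - s1 ^ 2 * s2) * X5 (s5 + s1 ^ 3 * s2) * X6 (s6 + s1 ^ 3 * s2 ^ 2) := by
  rw [h.com]
  have key := tail_comm' (x3 := X3 (s1 * s2)) (x4 := X4 (s1 ^ 2 * s2)) (x5 := X5 (-(s1 ^ 3 * s2)))
    (x6 := X6 (-(s1 ^ 3 * s2 ^ 2))) (y3 := X3 (s3 - s1 * s2)) (y4 := X4 (s4 - s1 ^ 2 * s2)) (y5 := X5 (s5 + s1 ^ 3 * s2)) (y6 := X6 (s6 + s1 ^ 3 * s2 ^ 2))
    (h.c34 _ _).symm (h.c35 _ _).symm (h.c36 _ _).symm (h.c45 _ _).symm (h.c46 _ _).symm (h.c56 _ _).symm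
  rw [h.a3, h.a4, h.a5, h.a6, show s1 * s2 + (s3 - s1 * s2) = s3 by ring, show s1 ^ 2 * s2 + (s4 - s1 ^ 2 * s2) = s4 by ring,
    show -(s1 ^ 3 * s2) + (s5 + s1 ^ 3 * s2) = s5 by ring, show -(s1 ^ 3 * s2 ^ 2) + (s6 + s1 ^ 3 * s2 ^ 2) = s6 by ring] at key
  have key' := congrArg (fun z => X1 s1 * X2 s2 * z) key
  unfold r2w
  simp only [mul_assoc] at key' ⊢
  exact key'.symm

end R2

section G2

variable {K : Type*} [Field K] [Fintype K] [CharP K 3] {m : ℕ}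

theorem thG2 (hK : Fintype.card K = 3 ^ (2 * m + 1)) (t : K) : ((t ^ 3 ^ m) ^ 3 ^ m) ^ 3 = t := by
  rw [← pow_mul, ← pow_mul, show 3 ^ m * (3 ^ m * 3) = 3 ^ (2 * m + 1) by rw [pow_succ, two_mul, pow_add]; ring, ← hK, FiniteField.pow_card]

theorem thG2' (hK : Fintype.card K = 3 ^ (2 * m + 1)) (t : K) : (((t ^ 3 ^ m) ^ 3) ^ 3 ^ m) = t := by
  rw [← pow_mul, mul_comm 3, pow_mul]; exact thG2 hK t

theorem addG2 (s t : K) : (s + t) ^ 3 ^ m = s ^ 3 ^ m + t ^ 3 ^ m := by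
  rw [← frobP 3 m, map_add, frobP, frobP]

theorem add3G2 (s t : K) : (s + t) ^ 3 = s ^ 3 + t ^ 3 := by
  have := addG2 (m := 1) s t
  rwa [pow_one] at this

theorem negG2 (s : K) : (-s) ^ 3 ^ m = -(s ^ 3 ^ m) := by
  rw [← frobP 3 m, map_neg, frobP]

theorem ffG2 {r : ℕ} (hr : r < 12) (t : K) : (twG2 K (3 ^ m)).ff (goodG2.xg r t) = goodG2.xg (grG2.rho r) ((t ^ 3 ^ m) ^ grG2.ell r) := by
  rw [(twG2 K (3 ^ m)).ff_xg hr]
  show goodG2.xg (grG2.rho r) (((grG2.eps r : ℤ) : K) * frobQ K (3 ^ m) t ^ grG2.ell r) = _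
  have : grG2.eps r = 1 := by
    interval_cases r <;> rfl
  rw [frobP, this, Int.cast_one, one_mul]

theorem ffG2n {r : ℕ} (hr : r < 12) (hell : grG2.ell r = 1 ∨ grG2.ell r = 3) (t : K) :
    (twG2 K (3 ^ m)).ff (goodG2.xg r (-t)) = goodG2.xg (grG2.rho r) (-((t ^ 3 ^ m) ^ grG2.ell r)) := by
  rw [ffG2 hr, negG2]
  congr 1
  rcases hell with h | h
  · rw [h, pow_one, pow_one]
  · rw [h]; ring

theorem c0G2 {r s : ℕ} (hr : r < chevG2.nroots) (hs : s < chevG2.nroots) (h1 : s ≠ r) (h2 : s ≠ chevG2.neg r)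
    (h : ((chevG2.commTerms r s).all fun c => decide (c.2.1 % 3 = 0)) = true) (t u : K) : Commute (goodG2.xg r t) (goodG2.xg s u) := by
  apply goodG2.xg_commute hr hs h1 h2
  intro c hc
  rw [List.all_eq_true] at h
  have h3 := h c hc
  rw [decide_eq_true_eq] at h3
  have h4 := Int.emod_add_mul_ediv c.2.1 3
  rw [h3, zero_add] at h4
  rw [← h4]
  push_cast
  have : (3 : K) = 0 := CharP.cast_eq_zero K 3
  rw [this, zero_mul]

theorem r2pos (K : Type*) [Field K] [Fintype K] [CharP K 3] (m : ℕ) :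
    R2q K (3 ^ m) (goodG2.xg 7) (goodG2.xg 6) (goodG2.xg 8) (goodG2.xg 9) (goodG2.xg 10) (goodG2.xg 11) where
  com := fun t u => by
    rw [goodG2.xg_comm (r := 7) (s := 6) (by decide) (by decide) (by decide) (by decide +kernel) t u,
      show chevG2.commTerms 7 6 = [(8, -1, 1, 1), (9, 1, 2, 1), (10, 1, 3, 1), (11, 1, 3, 2)] by decide +kernel]
    have e3 : ((-1 : ℤ) : K) * (-t) ^ 1 * u ^ 1 = t * u := by push_cast; ring
    have e4 : ((1 : ℤ) : K) * (-t) ^ 2 * u ^ 1 = t ^ 2 * u := by push_cast; ring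
    have e5 : ((1 : ℤ) : K) * (-t) ^ 3 * u ^ 1 = -(t ^ 3 * u) := by push_cast; ring
    have e6 : ((1 : ℤ) : K) * (-t) ^ 3 * u ^ 2 = -(t ^ 3 * u ^ 2) := by push_cast; ring
    simp only [List.map_cons, List.map_nil, List.prod_cons, List.prod_nil, e3, e4, e5, e6]
    group
  c34 := c0G2 (by decide) (by decide) (by decide) (by decide +kernel) (by decide +kernel)
  c35 := c0G2 (by decide) (by decide) (by decide) (by decide +kernel) (by decide +kernel)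
  c36 := c0G2 (by decide) (by decide) (by decide) (by decide +kernel) (by decide +kernel)
  c45 := c0G2 (by decide) (by decide) (by decide) (by decide +kernel) (by decide +kernel)
  c46 := c0G2 (by decide) (by decide) (by decide) (by decide +kernel) (by decide +kernel)
  c56 := c0G2 (by decide) (by decide) (by decide) (by decide +kernel) (by decide +kernel)
  a1 := goodG2.xg_add (by decide)
  a2 := goodG2.xg_add (by decide)
  a3 := goodG2.xg_add (by decide)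
  a4 := goodG2.xg_add (by decide)
  a5 := goodG2.xg_add (by decide)
  a6 := goodG2.xg_add (by decide)
  m1 := goodG2.xg_mem_GG _
  m2 := goodG2.xg_mem_GG _
  m3 := goodG2.xg_mem_GG _
  m4 := goodG2.xg_mem_GG _
  m5 := goodG2.xg_mem_GG _
  m6 := goodG2.xg_mem_GG _
  f1 := fun t => ffG2 (by norm_num) t
  f2 := fun t => by have := ffG2 (K := K) (m := m) (r := 6) (by norm_num) t; rwa [show grG2.ell 6 = 1 from rfl, pow_one] at this
  f3 := fun t => ffG2 (by norm_num) t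
  f4 := fun t => ffG2 (by norm_num) t
  f5 := fun t => by have := ffG2 (K := K) (m := m) (r := 10) (by norm_num) t; rwa [show grG2.ell 10 = 1 from rfl, pow_one] at this
  f6 := fun t => by have := ffG2 (K := K) (m := m) (r := 11) (by norm_num) t; rwa [show grG2.ell 11 = 1 from rfl, pow_one] at this

theorem r2neg (K : Type*) [Field K] [Fintype K] [CharP K 3] (m : ℕ) :
    R2q K (3 ^ m) (fun t => goodG2.xg 4 (-t)) (fun t => goodG2.xg 5 (-t)) (fun t => goodG2.xg 3 (-t)) (fun t => goodG2.xg 2 (-t))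
      (fun t => goodG2.xg 1 (-t)) (fun t => goodG2.xg 0 (-t)) where
  com := fun t u => by
    rw [goodG2.xg_comm (r := 4) (s := 5) (by decide) (by decide) (by decide) (by decide +kernel) (-t) (-u),
      show chevG2.commTerms 4 5 = [(3, 1, 1, 1), (2, 1, 2, 1), (1, -1, 3, 1), (0, 1, 3, 2)] by decide +kernel]
    have e3 : ((1 : ℤ) : K) * (- -t) ^ 1 * (-u) ^ 1 = -(t * u) := by push_cast; ring
    have e4 : ((1 : ℤ) : K) * (- -t) ^ 2 * (-u) ^ 1 = -(t ^ 2 * u) := by push_cast; ring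
    have e5 : ((-1 : ℤ) : K) * (- -t) ^ 3 * (-u) ^ 1 = - -(t ^ 3 * u) := by push_cast; ring
    have e6 : ((1 : ℤ) : K) * (- -t) ^ 3 * (-u) ^ 2 = - -(t ^ 3 * u ^ 2) := by push_cast; ring
    simp only [List.map_cons, List.map_nil, List.prod_cons, List.prod_nil, e3, e4, e5, e6]
    group
  c34 := fun _ _ => c0G2 (by decide) (by decide) (by decide) (by decide +kernel) (by decide +kernel) _ _
  c35 := fun _ _ => c0G2 (by decide) (by decide) (by decide) (by decide +kernel) (by decide +kernel) _ _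
  c36 := fun _ _ => c0G2 (by decide) (by decide) (by decide) (by decide +kernel) (by decide +kernel) _ _
  c45 := fun _ _ => c0G2 (by decide) (by decide) (by decide) (by decide +kernel) (by decide +kernel) _ _
  c46 := fun _ _ => c0G2 (by decide) (by decide) (by decide) (by decide +kernel) (by decide +kernel) _ _
  c56 := fun _ _ => c0G2 (by decide) (by decide) (by decide) (by decide +kernel) (by decide +kernel) _ _
  a1 := fun t u => by rw [goodG2.xg_add (by decide), neg_add]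
  a2 := fun t u => by rw [goodG2.xg_add (by decide), neg_add]
  a3 := fun t u => by rw [goodG2.xg_add (by decide), neg_add]
  a4 := fun t u => by rw [goodG2.xg_add (by decide), neg_add]
  a5 := fun t u => by rw [goodG2.xg_add (by decide), neg_add]
  a6 := fun t u => by rw [goodG2.xg_add (by decide), neg_add]
  m1 := fun _ => goodG2.xg_mem_GG _ _
  m2 := fun _ => goodG2.xg_mem_GG _ _
  m3 := fun _ => goodG2.xg_mem_GG _ _
  m4 := fun _ => goodG2.xg_mem_GG _ _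
  m5 := fun _ => goodG2.xg_mem_GG _ _
  m6 := fun _ => goodG2.xg_mem_GG _ _
  f1 := fun t => ffG2n (by norm_num) (Or.inr rfl) t
  f2 := fun t => by have := ffG2n (K := K) (m := m) (r := 5) (by norm_num) (Or.inl rfl) t; rwa [show grG2.ell 5 = 1 from rfl, pow_one] at this
  f3 := fun t => ffG2n (by norm_num) (Or.inr rfl) t
  f4 := fun t => ffG2n (by norm_num) (Or.inr rfl) t
  f5 := fun t => by have := ffG2n (K := K) (m := m) (r := 1) (by norm_num) (Or.inl rfl) t; rwa [show grG2.ell 1 = 1 from rfl, pow_one] at this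
  f6 := fun t => by have := ffG2n (K := K) (m := m) (r := 0) (by norm_num) (Or.inl rfl) t; rwa [show grG2.ell 0 = 1 from rfl, pow_one] at this

/-- the positive products -/
noncomputable def g2w (s1 s2 s3 s4 s5 s6 : K) : GL chevG2.Idx K :=
  r2w (goodG2.xg 7) (goodG2.xg 6) (goodG2.xg 8) (goodG2.xg 9) (goodG2.xg 10) (goodG2.xg 11) s1 s2 s3 s4 s5 s6

/-- the negative products -/
noncomputable def g2v (s1 s2 s3 s4 s5 s6 : K) : GL chevG2.Idx K :=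
  r2w (fun t => goodG2.xg 4 (-t)) (fun t => goodG2.xg 5 (-t)) (fun t => goodG2.xg 3 (-t)) (fun t => goodG2.xg 2 (-t))
      (fun t => goodG2.xg 1 (-t)) (fun t => goodG2.xg 0 (-t)) s1 s2 s3 s4 s5 s6

theorem g2w_ord (s1 s2 s3 s4 s5 s6 : K) : g2w s1 s2 s3 s4 s5 s6 =
    goodG2.ordP (fun r => if r = 6 then s2 else if r = 7 then s1 else if r = 8 then s3 - s1 * s2 else if r = 9 then s4 - s1 ^ 2 * s2 else
      if r = 10 then s5 + s1 ^ 3 * s2 else s6 + s1 ^ 3 * s2 ^ 2) [6, 7, 8, 9, 10, 11] := by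
  unfold g2w
  rw [(r2pos K 0).swap]
  unfold Good.ordP
  simp [mul_assoc]

theorem g2w_inj {s1 s2 s3 s4 s5 s6 t1 t2 t3 t4 t5 t6 : K} (h : g2w s1 s2 s3 s4 s5 s6 = g2w t1 t2 t3 t4 t5 t6) :
    s1 = t1 ∧ s2 = t2 ∧ s3 = t3 ∧ s4 = t4 ∧ s5 = t5 ∧ s6 = t6 := by
  rw [g2w_ord, g2w_ord] at h
  have h1 := slG2.inj _ h
  have e2 : s2 = t2 := h1 6 (by decide)
  have e1 : s1 = t1 := h1 7 (by decide)
  have e3 : s3 - s1 * s2 = t3 - t1 * t2 := h1 8 (by decide)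
  have e4 : s4 - s1 ^ 2 * s2 = t4 - t1 ^ 2 * t2 := h1 9 (by decide)
  have e5 : s5 + s1 ^ 3 * s2 = t5 + t1 ^ 3 * t2 := h1 10 (by decide)
  have e6 : s6 + s1 ^ 3 * s2 ^ 2 = t6 + t1 ^ 3 * t2 ^ 2 := h1 11 (by decide)
  subst e1; subst e2
  exact ⟨rfl, rfl, sub_left_injective e3, sub_left_injective e4, add_right_cancel e5, add_right_cancel e6⟩

theorem g2_mem {x : GL chevG2.Idx K} : x ∈ goodG2.XS K (goodG2.Sneg [0, 1, 0, 1, 0, 1]) ↔ ∃ s1 s2 s3 s4 s5 s6 : K, x = g2w s1 s2 s3 s4 s5 s6 := by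
  have hlt : ∀ i ∈ [0, 1, 0, 1, 0, 1], i < chevG2.rank := by decide
  rw [slG2.mem _ (goodG2.Sneg_closed hlt) (fun r hr => snB_spec goodG2 sn0G2 r hr)]
  constructor
  · rintro ⟨t, rfl⟩
    refine ⟨t 7, t 6, t 8 + t 7 * t 6, t 9 + t 7 ^ 2 * t 6, t 10 - t 7 ^ 3 * t 6, t 11 - t 7 ^ 3 * t 6 ^ 2, ?_⟩
    rw [g2w_ord]
    apply goodG2.ordP_congr
    intro r hr
    simp only [List.mem_cons, List.not_mem_nil, or_false] at hr
    rcases hr with rfl | rfl | rfl | rfl | rfl | rfl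
    · rfl
    · rfl
    · show t 8 = t 8 + t 7 * t 6 - t 7 * t 6; ring
    · show t 9 = t 9 + t 7 ^ 2 * t 6 - t 7 ^ 2 * t 6; ring
    · show t 10 = t 10 - t 7 ^ 3 * t 6 + t 7 ^ 3 * t 6; ring
    · show t 11 = t 11 - t 7 ^ 3 * t 6 ^ 2 + t 7 ^ 3 * t 6 ^ 2; ring
  · rintro ⟨s1, s2, s3, s4, s5, s6, rfl⟩
    exact ⟨_, g2w_ord _ _ _ _ _ _⟩

/-- the Ree elements -/
noncomputable def reeU (m : ℕ) (t u v : K) : GL chevG2.Idx K :=
  g2w (t ^ 3 ^ m) t (t ^ (3 ^ m + 1) + u ^ 3 ^ m) (t ^ (2 * 3 ^ m + 1) + v ^ 3 ^ m) u v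

noncomputable def reeV (m : ℕ) (t u v : K) : GL chevG2.Idx K :=
  g2v (t ^ 3 ^ m) t (t ^ (3 ^ m + 1) + u ^ 3 ^ m) (t ^ (2 * 3 ^ m + 1) + v ^ 3 ^ m) u v

theorem reeU_word (t u v : K) : reeU m t u v = ((reeWordU (3 ^ m) t u v).map fun q => goodG2.xg q.1 q.2).prod := by
  unfold reeU g2w r2w reeWordU
  simp [g2a, g2b, g2ab, g2aab, g2aaab, g2aaabb, mul_assoc]

theorem reeV_word (t u v : K) : reeV m t u v = ((reeWordV (3 ^ m) t u v).map fun q => goodG2.xg q.1 q.2).prod := by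
  have h : ∀ i : ℕ, i < 12 → chevG2.negIdx.getD i 0 = chevG2.neg i := fun _ _ => rfl
  unfold reeV g2v r2w reeWordV reeWordU ChevalleyDatum.negWord
  simp only [g2a, g2b, g2ab, g2aab, g2aaab, g2aaabb, List.map_cons, List.map_nil, List.prod_cons, List.prod_nil, mul_one, mul_assoc]
  rw [show chevG2.negIdx.getD 7 0 = 4 by decide +kernel, show chevG2.negIdx.getD 6 0 = 5 by decide +kernel, show chevG2.negIdx.getD 8 0 = 3 by decide +kernel,
    show chevG2.negIdx.getD 9 0 = 2 by decide +kernel, show chevG2.negIdx.getD 10 0 = 1 by decide +kernel, show chevG2.negIdx.getD 11 0 = 0 by decide +kernel]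

theorem reeU_inj {t u v t' u' v' : K} (h : reeU m t u v = reeU m t' u' v') : t = t' ∧ u = u' ∧ v = v' := by
  obtain ⟨_, h2, _, _, h5, h6⟩ := g2w_inj h
  exact ⟨h2, h5, h6⟩

theorem reeU_FG (hK : Fintype.card K = 3 ^ (2 * m + 1)) (t u v : K) : reeU m t u v ∈ (twG2 K (3 ^ m)).FG :=
  (r2pos K m).fix (thG2 hK) addG2 add3G2 t u v

theorem reeV_FG (hK : Fintype.card K = 3 ^ (2 * m + 1)) (t u v : K) : reeV m t u v ∈ (twG2 K (3 ^ m)).FG :=
  (r2neg K m).fix (thG2 hK) addG2 add3G2 t u v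

theorem orbG2 (hK : Fintype.card K = 3 ^ (2 * m + 1)) {x : GL chevG2.Idx K} :
    x ∈ goodG2.XS K (goodG2.Sneg [0, 1, 0, 1, 0, 1]) ⊓ (twG2 K (3 ^ m)).FG ↔ ∃ t u v : K, x = reeU m t u v := by
  constructor
  · rintro ⟨h1, h2⟩
    obtain ⟨s1, s2, s3, s4, s5, s6, rfl⟩ := g2_mem.1 h1
    have h3 := h2.2
    unfold g2w at h3
    rw [(r2pos K m).ff_r2w] at h3
    obtain ⟨e1, e2, e3, e4, e5, e6⟩ := g2w_inj h3
    refine ⟨s2, s5, s6, ?_⟩
    unfold reeU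
    have k1 : s2 ^ (3 ^ m + 1) = s2 ^ 3 ^ m * s2 := pow_succ _ _
    have k2 : s2 ^ (2 * 3 ^ m + 1) = (s2 ^ 3 ^ m) ^ 2 * s2 := by rw [pow_succ, mul_comm 2, pow_mul]
    rw [k1, k2]
    rw [e2] at e3 e4
    rw [e3, e4, e1]
  · rintro ⟨t, u, v, rfl⟩
    exact ⟨g2_mem.2 ⟨_, _, _, _, _, _, rfl⟩, reeU_FG hK t u v⟩

theorem cardG2 (hK : Fintype.card K = 3 ^ (2 * m + 1)) :
    ∀ a < (twG2 K (3 ^ m)).m, Nat.card ↥(goodG2.XS K (goodG2.Sneg ((twG2 K (3 ^ m)).ww a)) ⊓ (twG2 K (3 ^ m)).FG) = (3 ^ (2 * m + 1)) ^ (teG2.getD a 0) := by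
  have hcK : Nat.card K = 3 ^ (2 * m + 1) := by rw [Nat.card_eq_fintype_card, hK]
  intro a ha
  have ha' : a < 1 := ha
  interval_cases a
  show Nat.card ↥(goodG2.XS K (goodG2.Sneg [0, 1, 0, 1, 0, 1]) ⊓ (twG2 K (3 ^ m)).FG) = (3 ^ (2 * m + 1)) ^ 3
  rw [show (3 ^ (2 * m + 1)) ^ 3 = 3 ^ (2 * m + 1) * (3 ^ (2 * m + 1) * 3 ^ (2 * m + 1)) by ring, ← hcK, ← Nat.card_prod, ← Nat.card_prod]
  symm
  refine Nat.card_congr (Equiv.ofBijective (fun p : K × K × K => (⟨reeU m p.1 p.2.1 p.2.2,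
    (orbG2 hK).2 ⟨p.1, p.2.1, p.2.2, rfl⟩⟩ : ↥(goodG2.XS K (goodG2.Sneg [0, 1, 0, 1, 0, 1]) ⊓ (twG2 K (3 ^ m)).FG))) ⟨?_, ?_⟩)
  · rintro ⟨t, u, v⟩ ⟨t', u', v'⟩ h
    obtain ⟨h1, h2, h3⟩ := reeU_inj (congrArg Subtype.val h)
    simp only at h1 h2 h3
    rw [h1, h2, h3]
  · rintro ⟨x, hx⟩
    obtain ⟨t, u, v, h⟩ := (orbG2 hK).1 hx
    exact ⟨(t, u, v), Subtype.ext h.symm⟩

/-! ### the generated group -/

theorem memG2_1 (t u v : K) : reeU m t u v ∈ twistedG2 K (3 ^ m) := by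
  rw [reeU_word]
  exact mem_gen goodG2 (S := g2Words K (3 ^ m)) ⟨t, u, v, Or.inl rfl⟩

theorem memG2_2 (t u v : K) : reeV m t u v ∈ twistedG2 K (3 ^ m) := by
  rw [reeV_word]
  exact mem_gen goodG2 (S := g2Words K (3 ^ m)) ⟨t, u, v, Or.inr rfl⟩

theorem reeU_0u0 (u : K) : reeU m 0 u 0 = goodG2.xg 8 (u ^ 3 ^ m) * goodG2.xg 10 u := by
  have h1 : 3 ^ m ≠ 0 := by positivity
  unfold reeU g2w r2w
  rw [zero_pow h1, zero_pow (Nat.succ_ne_zero _), zero_pow (Nat.succ_ne_zero _), zero_add, zero_add]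
  simp only [goodG2.xg_zero, one_mul, mul_one]

theorem reeV_0u0 (u : K) : reeV m 0 u 0 = goodG2.xg 3 (-(u ^ 3 ^ m)) * goodG2.xg 1 (-u) := by
  have h1 : 3 ^ m ≠ 0 := by positivity
  unfold reeV g2v r2w
  rw [zero_pow h1, zero_pow (Nat.succ_ne_zero _), zero_pow (Nat.succ_ne_zero _), zero_add, zero_add]
  simp only [neg_zero, goodG2.xg_zero, one_mul, mul_one]

theorem ngG2_1 (t : K) : goodG2.ng 8 (t ^ 3 ^ m) * goodG2.ng 10 t ∈ twistedG2 K (3 ^ m) := by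
  rw [goodG2.ng_two (orG2 K), show chevG2.neg 8 = 3 by decide +kernel, show chevG2.neg 10 = 1 by decide +kernel, ← inv_pow, ← reeU_0u0, ← reeV_0u0]
  exact Subgroup.mul_mem _ (Subgroup.mul_mem _ (memG2_1 _ _ _) (memG2_2 _ _ _)) (memG2_1 _ _ _)

theorem nuG2 : goodG2.nl K [0, 1, 0, 1, 0, 1] ∈ twistedG2 K (3 ^ m) := by
  have h30 : ((3 : ℤ) : K) = 0 := by exact_mod_cast CharP.cast_eq_zero K 3
  have h : chkWm encG2 3 [(8,1),(10,1),(3,-1),(1,-1),(8,1),(10,1)] (nw chevG2 [0,1,0,1,0,1]) = true := by decide +kernel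
  have h1 := word_eq_of_chk goodG2 checksG2 h (by decide +kernel) h30
  rw [nw_word, ← h1]
  have e1 := memG2_1 (K := K) (m := m) 0 1 0
  have e2 := memG2_2 (K := K) (m := m) 0 1 0
  rw [reeU_0u0, one_pow] at e1
  rw [reeV_0u0, one_pow] at e2
  have := Subgroup.mul_mem _ (Subgroup.mul_mem _ e1 e2) e1
  simpa [mul_assoc] using this

theorem odd3 (m : ℕ) : ∃ k, 3 ^ m = 2 * k + 1 := by
  have : Odd (3 ^ m) := Odd.pow (by decide)
  exact this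

/-- `h(-1)` -/
theorem hnG2 : goodG2.hD 7 (-1) * goodG2.hD 6 (-1) ∈ twistedG2 K (3 ^ m) := by
  have h30 : ((3 : ℤ) : K) = 0 := by exact_mod_cast CharP.cast_eq_zero K 3
  have h3 : (3 : K) = 0 := by exact_mod_cast CharP.cast_eq_zero K 3
  have h : chkWm encG2 3 [(7,-1),(6,-1),(9,-1),(10,-1),(4,-1),(5,-1),(2,-1),(1,1),(7,-1),(6,-1),(9,-1),(10,-1)]
    (nw chevG2 ([0,1,0,1,0,1] ++ [0,0,1,1])) = true := by decide +kernel
  have h1 := word_eq_of_chk goodG2 checksG2 h (by decide +kernel) h30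
  rw [← nw_word, goodG2.nl_append] at h1
  obtain ⟨k, hk⟩ := odd3 m
  have m1 : (-1 : K) ^ 3 ^ m = -1 := by rw [hk, pow_succ, pow_mul]; norm_num
  have m2 : (-1 : K) ^ (3 ^ m + 1) = 1 := by rw [pow_succ, m1]; norm_num
  have m3 : (-1 : K) ^ (2 * 3 ^ m + 1) = -1 := by rw [pow_succ, pow_mul]; norm_num
  have hz : 3 ^ m ≠ 0 := by positivity
  have e1 := memG2_1 (K := K) (m := m) (-1) (-1) 0
  have e2 := memG2_2 (K := K) (m := m) 1 (-1) 0
  have f1 : reeU m (-1) (-1) (0 : K) = goodG2.xg 7 (-1) * goodG2.xg 6 (-1) * goodG2.xg 9 (-1) * goodG2.xg 10 (-1) := by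
    unfold reeU g2w r2w
    rw [m1, m2, m3, zero_pow hz, add_zero, show (1 : K) + -1 = 0 by ring]
    simp only [goodG2.xg_zero, mul_one]
  have f2 : reeV m 1 (-1) (0 : K) = goodG2.xg 4 (-1) * goodG2.xg 5 (-1) * goodG2.xg 2 (-1) * goodG2.xg 1 1 := by
    unfold reeV g2v r2w
    rw [one_pow, one_pow, one_pow, m1, zero_pow hz, add_zero, show (1 : K) + -1 = 0 by ring]
    simp only [neg_zero, goodG2.xg_zero, mul_one, neg_neg]
  rw [f1] at e1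
  rw [f2] at e2
  have h4 := Subgroup.mul_mem _ (Subgroup.mul_mem _ e1 e2) e1
  have h5 : goodG2.nl K [0, 1, 0, 1, 0, 1] * goodG2.nl K [0, 0, 1, 1] ∈ twistedG2 K (3 ^ m) := by
    rw [← h1]
    simpa [mul_assoc] using h4
  have h6 := Subgroup.mul_mem _ (Subgroup.inv_mem _ nuG2) h5
  rw [inv_mul_cancel_left] at h6
  have h7 : goodG2.nl K [0, 0, 1, 1] = goodG2.hD 7 (-1) * goodG2.hD 6 (-1) := by
    rw [goodG2.nl_cons, goodG2.nl_cons, goodG2.nl_cons, goodG2.nl_cons, goodG2.nl_nil, mul_one, ← mul_assoc, goodG2.nn_sq (by decide), goodG2.nn_sq (by decide), s0G2, s1G2]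
  rwa [h7] at h6

theorem piG2 : ∀ j < chevG2.rank, grG2.pi j < chevG2.rank ∧ grG2.pi (grG2.pi j) = j := by
  intro j hj
  have hj' : j < 2 := hj
  refine ⟨grG2_P.pi_lt j hj, ?_⟩
  interval_cases j <;> rfl

theorem hcG2_one {c : ℕ → Kˣ} (h : goodG2.hc c = 1) : ∀ j < 2, c j = 1 := by
  intro j hj
  have h4 := (goodG2.hc_eq_one_iff _).1 h
  have h6 := latG2.det h4 (i := j) hj
  rwa [Finset.prod_range_zero] at h6

/-- the torus elements -/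
def cG2 (m : ℕ) (a : Kˣ) (j : ℕ) : Kˣ := [a ^ 3 ^ m, a].getD j 1

theorem hcG2_mem (hK : Fintype.card K = 3 ^ (2 * m + 1)) (a : Kˣ) : goodG2.hc (cG2 m a) ∈ (twG2 K (3 ^ m)).FG := by
  refine ⟨goodG2.HH_le_GG ⟨_, rfl⟩, ?_⟩
  rw [(twG2 K (3 ^ m)).ff_hc piG2 (fun i hi => (piG2 i hi).2) (cG2 m a)]
  apply goodG2.hc_congr
  have hu : ∀ u : Kˣ, Units.map (frobQ K (3 ^ m) : K →* K) u = u ^ 3 ^ m := fun u => Units.ext (frobP 3 m _)
  have hth : ∀ u : Kˣ, ((u ^ 3 ^ m) ^ 3 ^ m) ^ 3 = u := fun u => Units.ext (thG2 hK _)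
  intro j hj
  have hj' : j < 2 := hj
  interval_cases j
  · show (Units.map (frobQ K (3 ^ m) : K →* K) a) ^ grG2.ell (chevG2.simple 1) = a ^ 3 ^ m
    rw [hu, s1G2]; exact pow_one _
  · show (Units.map (frobQ K (3 ^ m) : K →* K) (a ^ 3 ^ m)) ^ grG2.ell (chevG2.simple 0) = a
    rw [hu, s0G2]; exact hth a

theorem HHG2 (hK : Fintype.card K = 3 ^ (2 * m + 1)) {x : GL chevG2.Idx K} (hx : x ∈ goodG2.HH K ⊓ (twG2 K (3 ^ m)).FG) :
    ∃ a : Kˣ, x = goodG2.hc (cG2 m a) := by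
  obtain ⟨⟨c, rfl⟩, hx⟩ := hx
  have h1 := hx.2
  rw [(twG2 K (3 ^ m)).ff_hc piG2 (fun i hi => (piG2 i hi).2) c] at h1
  have hu : ∀ u : Kˣ, Units.map (frobQ K (3 ^ m) : K →* K) u = u ^ 3 ^ m := fun u => Units.ext (frobP 3 m _)
  obtain ⟨c', hc'⟩ : ∃ c' : ℕ → Kˣ, c' = fun j => (twG2 K (3 ^ m)).th (chevG2.simple (grG2.pi j)) (c (grG2.pi j)) := ⟨_, rfl⟩
  rw [← hc'] at h1
  have h3 : goodG2.hc (fun i => c' i / c i) = 1 := by rw [goodG2.hc_div, h1, mul_inv_cancel]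
  have h4 := hcG2_one h3
  refine ⟨c 1, ?_⟩
  apply goodG2.hc_congr
  intro j hj
  have hj' : j < 2 := hj
  have h5 : c' j = c j := div_eq_one.1 (h4 j hj')
  interval_cases j
  · rw [← h5, hc']
    show (Units.map (frobQ K (3 ^ m) : K →* K) (c 1)) ^ grG2.ell (chevG2.simple 1) = c 1 ^ 3 ^ m
    rw [hu, s1G2]; exact pow_one _
  · rfl

theorem cardUnitsG2 (hK : Fintype.card K = 3 ^ (2 * m + 1)) : ∃ k, Nat.card Kˣ = 2 * (2 * k + 1) ∧ Nat.card Kˣ = 3 ^ (2 * m + 1) - 1 := by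
  have hU : Nat.card Kˣ = 3 ^ (2 * m + 1) - 1 := by
    classical
    rw [Nat.card_eq_fintype_card, Fintype.card_units, hK]
  have h1 : 3 ^ (2 * m + 1) = 3 * 9 ^ m := by rw [pow_succ, pow_mul]; norm_num; ring
  have h2 : 9 ^ m % 8 = 1 := by
    rw [Nat.pow_mod]; norm_num
  obtain ⟨j, hj⟩ : ∃ j, 9 ^ m = 8 * j + 1 := ⟨9 ^ m / 8, by omega⟩
  exact ⟨6 * j, by rw [hU, h1, hj]; omega, hU⟩

theorem surjG2 (hK : Fintype.card K = 3 ^ (2 * m + 1)) (b : Kˣ) : ∃ l : Kˣ, l ^ (3 * 3 ^ m + 1) = b ∨ (-1) * l ^ (3 * 3 ^ m + 1) = b := by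
  obtain ⟨k, hk, hU⟩ := cardUnitsG2 hK
  obtain ⟨r, hr⟩ := odd3 m
  have h3e : 3 * 3 ^ m + 1 = 2 * (3 * r + 2) := by rw [hr]; ring
  have hg : (Nat.card Kˣ).gcd (3 * 3 ^ m + 1) = 2 := by
    have h0 : 3 ^ (2 * m + 1) = 3 * (3 ^ m * 3 ^ m) := by rw [pow_succ, two_mul, pow_add]; ring
    have hd1 : (Nat.card Kˣ).gcd (3 * 3 ^ m + 1) ∣ 2 := by
      obtain ⟨D, hD⟩ : ∃ D, D = (Nat.card Kˣ).gcd (3 * 3 ^ m + 1) := ⟨_, rfl⟩
      have d1 : (D : ℤ) ∣ 3 * (3 ^ m * 3 ^ m) - 1 := by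
        have h5 : D ∣ 3 ^ (2 * m + 1) - 1 := by rw [hD, ← hU]; exact Nat.gcd_dvd_left _ _
        have h6 : ((3 ^ (2 * m + 1) - 1 : ℕ) : ℤ) = 3 * (3 ^ m * 3 ^ m) - 1 := by
          rw [Nat.cast_sub (Nat.one_le_pow _ _ (by norm_num)), h0]; push_cast; ring
        rw [← h6]; exact_mod_cast h5
      have d2 : (D : ℤ) ∣ 3 * 3 ^ m + 1 := by
        have h5 : D ∣ 3 * 3 ^ m + 1 := by rw [hD]; exact Nat.gcd_dvd_right _ _
        exact_mod_cast h5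
      have d3 : (D : ℤ) ∣ 2 := by
        have h7 : (2 : ℤ) = -((3 * 3 ^ m + 1) - 3 * (((3 * 3 ^ m + 1) * 3 ^ m) - (3 * (3 ^ m * 3 ^ m) - 1))) := by ring
        rw [h7]
        exact (dvd_neg).2 (dvd_sub d2 (Dvd.dvd.mul_left (dvd_sub (Dvd.dvd.mul_right d2 _) d1) _))
      rw [← hD]
      exact_mod_cast d3
    have hd2 : 2 ∣ (Nat.card Kˣ).gcd (3 * 3 ^ m + 1) := Nat.dvd_gcd ⟨_, hk⟩ ⟨_, h3e⟩
    exact Nat.dvd_antisymm hd1 hd2
  let R : Subgroup Kˣ := (powMonoidHom (3 * 3 ^ m + 1)).range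
  have hR : R.index = 2 := by rw [IsCyclic.index_powMonoidHom_range, hg]
  have hm1 : (-1 : Kˣ) ∉ R := by
    rintro ⟨l, hl⟩
    have hl' : l ^ (3 * 3 ^ m + 1) = -1 := hl
    have h5 : (-1 : Kˣ) ^ (2 * k + 1) = 1 := by
      rw [← hl', h3e, ← pow_mul, show 2 * (3 * r + 2) * (2 * k + 1) = 2 * (2 * k + 1) * (3 * r + 2) by ring, ← hk, pow_mul, pow_card_eq_one', one_pow]
    rw [pow_succ, pow_mul] at h5
    have h6 : ((-1 : Kˣ) : K) = 1 := by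
      have := congrArg Units.val h5
      simpa using this
    have h7 : (-1 : K) = 1 := by simpa using h6
    have h8 : (2 : K) = 0 := by linear_combination -h7
    have h9 : (3 : K) = 0 := CharP.cast_eq_zero K 3
    have : (1 : K) = 0 := by linear_combination h9 - h8
    exact one_ne_zero this
  by_cases hb : b ∈ R
  · obtain ⟨l, hl⟩ := hb
    exact ⟨l, Or.inl hl⟩
  · have h5 : (-1 : Kˣ) * b ∈ R := by
      rw [Subgroup.mul_mem_iff_of_index_two hR]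
      exact ⟨fun h => absurd h hm1, fun h => absurd h hb⟩
    obtain ⟨l, hl⟩ := h5
    refine ⟨l, Or.inr ?_⟩
    have hl' : l ^ (3 * 3 ^ m + 1) = -1 * b := hl
    rw [hl', ← mul_assoc]
    simp

theorem twistedG2_eq (hK : Fintype.card K = 3 ^ (2 * m + 1)) : twistedG2 K (3 ^ m) = (twG2 K (3 ^ m)).FG := by
  apply le_antisymm
  · apply gen_le goodG2
    rintro w ⟨t, u, v, rfl | rfl⟩
    · rw [← reeU_word]; exact reeU_FG hK t u v
    · rw [← reeV_word]; exact reeV_FG hK t u v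
  · apply (twG2 K (3 ^ m)).FG_gen
    · intro a ha
      have ha' : a < 1 := ha
      interval_cases a
      intro x hx
      obtain ⟨t, u, v, rfl⟩ := (orbG2 hK).1 hx
      exact memG2_1 t u v
    · intro a ha
      have ha' : a < 1 := ha
      interval_cases a
      exact nuG2
    · intro x hx
      obtain ⟨b, rfl⟩ := HHG2 hK hx
      obtain ⟨k, hk⟩ := odd3 m
      have m1 : (-1 : K) ^ 3 ^ m = -1 := by rw [hk, pow_succ, pow_mul]; norm_num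
      have m1' : (-1 : Kˣ) ^ 3 ^ m = -1 := Units.ext (by push_cast; exact m1)
      have k1 : ∀ a : Kˣ, goodG2.hD 8 (a ^ 3 ^ m) * goodG2.hD 10 a ∈ twistedG2 K (3 ^ m) := by
        intro a
        rw [goodG2.hD_two (by decide) (by decide) (orG2 K)]
        refine Subgroup.mul_mem _ ?_ ?_
        · have := ngG2_1 (m := m) (a : K); push_cast; exact this
        · have := ngG2_1 (m := m) (-1 : K)
          rwa [m1] at this
      have k2 : ∀ l : Kˣ, goodG2.hc (cG2 m (l ^ (3 * 3 ^ m + 1))) ∈ twistedG2 K (3 ^ m) := by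
        intro l
        have h1 := k1 l
        rw [goodG2.hD_eq_hc, goodG2.hD_eq_hc, goodG2.hc_mul] at h1
        rw [goodG2.hc_congr (c' := fun i => (l ^ 3 ^ m) ^ cor chevG2 8 i * l ^ cor chevG2 10 i)]
        · exact h1
        · intro i hi
          have hi' : i < 2 := hi
          have hth : ((l ^ 3 ^ m) ^ 3 ^ m) ^ 3 = l := Units.ext (thG2 hK _)
          interval_cases i
          · show (l ^ (3 * 3 ^ m + 1)) ^ 3 ^ m = _
            rw [show cor chevG2 8 0 = 1 by decide +kernel, show cor chevG2 10 0 = 1 by decide +kernel, zpow_one, zpow_one, pow_succ, mul_pow, mul_comm]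
            congr 1
            rw [← pow_mul, show 3 * 3 ^ m * 3 ^ m = 3 ^ m * 3 ^ m * 3 by ring, pow_mul, pow_mul, hth]
          · show l ^ (3 * 3 ^ m + 1) = _
            rw [show cor chevG2 8 1 = 3 by decide +kernel, show cor chevG2 10 1 = 1 by decide +kernel, zpow_one, pow_succ]
            congr 1
            rw [mul_comm 3, pow_mul]; norm_cast
      have k3 : goodG2.hc (cG2 m (-1)) ∈ twistedG2 K (3 ^ m) := by
        have h1 := hnG2 (K := K) (m := m)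
        rw [goodG2.hD_eq_hc, goodG2.hD_eq_hc, goodG2.hc_mul] at h1
        rw [goodG2.hc_congr (c' := fun i => (-1 : Kˣ) ^ cor chevG2 7 i * (-1) ^ cor chevG2 6 i)]
        · exact h1
        · intro i hi
          have hi' : i < 2 := hi
          interval_cases i
          · show (-1 : Kˣ) ^ 3 ^ m = _
            rw [m1', show cor chevG2 7 0 = 1 by decide +kernel, show cor chevG2 6 0 = 0 by decide +kernel, zpow_one, zpow_zero, mul_one]
          · show (-1 : Kˣ) = _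
            rw [show cor chevG2 7 1 = 0 by decide +kernel, show cor chevG2 6 1 = 1 by decide +kernel, zpow_one, zpow_zero, one_mul]
      obtain ⟨l, hl | hl⟩ := surjG2 hK b
      · rw [← hl]; exact k2 l
      · have h2 := Subgroup.mul_mem _ k3 (k2 l)
        rw [goodG2.hc_mul] at h2
        rw [← hl, goodG2.hc_congr (c' := fun i => cG2 m (-1) i * cG2 m (l ^ (3 * 3 ^ m + 1)) i)]
        · exact h2
        · intro i hi
          have hi' : i < 2 := hi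
          interval_cases i
          · show (-1 * l ^ (3 * 3 ^ m + 1)) ^ 3 ^ m = (-1) ^ 3 ^ m * (l ^ (3 * 3 ^ m + 1)) ^ 3 ^ m
            rw [mul_pow]
          · rfl

end G2

end Chv
end CfsgH6
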