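import Cfsg.Agent.H6.TwG2

set_option autoImplicit false
set_option maxRecDepth 100000

/-! The twisted group of type `²G₂`: consequences. -/

namespace CfsgH6
namespace Chv

open Cfsg.Lie

section G2

variable {K : Type*} [Field K] [Fintype K] [CharP K 3] {m : ℕ}

theorem qG2 (m : ℕ) : 2 ≤ 3 ^ (2 * m + 1) := by
  have : 3 ^ 1 ≤ 3 ^ (2 * m + 1) := Nat.pow_le_pow_right (by norm_num) (by omega)
  omega

theorem neG2 (hK : Fintype.card K = 3 ^ (2 * m + 1)) :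
    ∀ a < (twG2 K (3 ^ m)).m, ∃ u ∈ goodG2.XS K (goodG2.Sneg ((twG2 K (3 ^ m)).ww a)) ⊓ (twG2 K (3 ^ m)).FG, u ≠ 1 := by
  intro a ha
  refine ne_of_card (qG2 m) ?_ (cardG2 hK a ha)
  have ha' : a < 1 := ha
  interval_cases a
  decide

theorem bnG2 (hK : Fintype.card K = 3 ^ (2 * m + 1)) : ∃ P : Cfsg.BNPair ↥(twistedG2 K (3 ^ m)),
      P.B = (chevG2.borelSubgroup K ⊓ twistedG2 K (3 ^ m)).subgroupOf (twistedG2 K (3 ^ m)) ∧
      P.N = (chevG2.monomialSubgroup K ⊓ twistedG2 K (3 ^ m)).subgroupOf (twistedG2 K (3 ^ m)) := by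
  rw [twistedG2_eq hK, goodG2.borel_eq, goodG2.mono_eq]
  exact (twG2 K (3 ^ m)).exists_bn (neG2 hK)

theorem cardUG2 (hK : Fintype.card K = 3 ^ (2 * m + 1)) : Nat.card ↥(goodG2.UU K ⊓ (twG2 K (3 ^ m)).FG) = (3 ^ (2 * m + 1)) ^ 3 := by
  obtain ⟨n, h1, h2⟩ := (twG2 K (3 ^ m)).card_UUF (d := 2) (e := fun a => teG2.getD a 0) (cardG2 hK) (by
    intro a ha
    have ha' : a < 1 := ha
    interval_cases a
    show 2 * 3 = goodG2.cnt [0, 1, 0, 1, 0, 1]
    decide +kernel)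
  have h3 : goodG2.N = 6 := rfl
  rw [h3] at h1
  have : n = 3 := by omega
  rw [h2, this]

theorem UUG2_eq : goodG2.UU K = goodG2.XS K (goodG2.Sneg [0, 1, 0, 1, 0, 1]) := by
  unfold Good.UU
  apply goodG2.XS_congr
  intro r hr
  rw [snB_spec goodG2 sn0G2 r hr]
  have hr' : r < 12 := hr
  have h3 : goodG2.N = 6 := rfl
  simp only [h3, List.mem_cons, List.not_mem_nil, or_false]
  omega

theorem UUG2 (hK : Fintype.card K = 3 ^ (2 * m + 1)) {x : GL chevG2.Idx K} :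
    x ∈ goodG2.UU K ⊓ (twG2 K (3 ^ m)).FG ↔ ∃ t u v : K, x = reeU m t u v := by
  rw [UUG2_eq]; exact orbG2 hK

theorem g2w_hc (c : ℕ → Kˣ) (s1 s2 s3 s4 s5 s6 : K) : goodG2.hc c * g2w s1 s2 s3 s4 s5 s6 * (goodG2.hc c)⁻¹ =
    g2w (((goodG2.hcf c 7 : Kˣ) : K) * s1) (((goodG2.hcf c 6 : Kˣ) : K) * s2) (((goodG2.hcf c 8 : Kˣ) : K) * s3) (((goodG2.hcf c 9 : Kˣ) : K) * s4)
      (((goodG2.hcf c 10 : Kˣ) : K) * s5) (((goodG2.hcf c 11 : Kˣ) : K) * s6) := by
  unfold g2w r2w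
  rw [← goodG2.hc_x c (s := 7) (by decide), ← goodG2.hc_x c (s := 6) (by decide), ← goodG2.hc_x c (s := 8) (by decide), ← goodG2.hc_x c (s := 9) (by decide),
    ← goodG2.hc_x c (s := 10) (by decide), ← goodG2.hc_x c (s := 11) (by decide)]
  group

theorem cenG2 (hK : Fintype.card K = 3 ^ (2 * m + 1)) : ∀ a < (twG2 K (3 ^ m)).m, ∀ i ∈ (twG2 K (3 ^ m)).J a, ∀ c : ℕ → Kˣ,
    (∀ u ∈ goodG2.XS K (goodG2.Sneg ((twG2 K (3 ^ m)).ww a)) ⊓ (twG2 K (3 ^ m)).FG, goodG2.hc c * u * (goodG2.hc c)⁻¹ = u) →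
      goodG2.hcf c (chevG2.simple i) = 1 := by
  intro a ha i hi c h
  have ha' : a < 1 := ha
  interval_cases a
  have hi' : i ∈ [0, 1] := hi
  simp only [List.mem_cons, List.not_mem_nil, or_false] at hi'
  have h1 := h _ ((orbG2 hK).2 ⟨1, 0, 0, rfl⟩)
  unfold reeU at h1
  rw [g2w_hc] at h1
  obtain ⟨e1, e2, _⟩ := g2w_inj h1
  rw [one_pow, mul_one] at e1
  rw [mul_one] at e2
  rcases hi' with rfl | rfl
  · rw [s0G2]; exact Units.ext e1
  · rw [s1G2]; exact Units.ext e2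

theorem coreG2 (hK : Fintype.card K = 3 ^ (2 * m + 1)) :
    ((chevG2.borelSubgroup K ⊓ twistedG2 K (3 ^ m)).subgroupOf (twistedG2 K (3 ^ m))).normalCore = ⊥ := by
  rw [twistedG2_eq hK, goodG2.borel_eq]
  exact (twG2 K (3 ^ m)).core_bot (cenG2 hK)

/-- the torus as a group isomorphic to the units -/
theorem exists_torG2 (hK : Fintype.card K = 3 ^ (2 * m + 1)) :
    ∃ e : Kˣ ≃* ↥(goodG2.HH K ⊓ (twG2 K (3 ^ m)).FG), ∀ a, (e a : GL chevG2.Idx K) = goodG2.hc (cG2 m a) := by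
  let f : Kˣ →* ↥(goodG2.HH K ⊓ (twG2 K (3 ^ m)).FG) :=
    { toFun := fun a => ⟨goodG2.hc (cG2 m a), ⟨_, rfl⟩, hcG2_mem hK a⟩
      map_one' := Subtype.ext (by
        show goodG2.hc (cG2 m 1) = 1
        rw [← goodG2.hc_one]
        apply goodG2.hc_congr
        intro i hi
        have hi' : i < 2 := hi
        interval_cases i <;> simp [cG2])
      map_mul' := fun a b => Subtype.ext (by
        show goodG2.hc (cG2 m (a * b)) = goodG2.hc (cG2 m a) * goodG2.hc (cG2 m b)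
        rw [goodG2.hc_mul]
        apply goodG2.hc_congr
        intro i hi
        have hi' : i < 2 := hi
        interval_cases i <;> simp [cG2, mul_pow]) }
  have hf : Function.Bijective f := by
    constructor
    · rw [injective_iff_map_eq_one]
      intro a ha
      exact hcG2_one (congrArg Subtype.val ha) 1 (by norm_num)
    · rintro ⟨x, hx⟩
      obtain ⟨a, h⟩ := HHG2 hK hx
      exact ⟨a, Subtype.ext h.symm⟩
  exact ⟨MulEquiv.ofBijective f hf, fun a => rfl⟩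

theorem cardHG2 (hK : Fintype.card K = 3 ^ (2 * m + 1)) : Nat.card ↥(goodG2.HH K ⊓ (twG2 K (3 ^ m)).FG) = 3 ^ (2 * m + 1) - 1 := by
  obtain ⟨e, _⟩ := exists_torG2 hK
  obtain ⟨_, _, hU⟩ := cardUnitsG2 hK
  rw [← Nat.card_congr e.toEquiv, hU]

theorem cardFG2 (hK : Fintype.card K = 3 ^ (2 * m + 1)) :
    Nat.card ↥(twistedG2 K (3 ^ m)) = (3 ^ (2 * m + 1)) ^ 3 * (3 ^ (2 * m + 1) - 1) * ((3 ^ (2 * m + 1)) ^ 3 + 1) := by
  rw [twistedG2_eq hK, (twG2 K (3 ^ m)).card_FG (e := fun a => teG2.getD a 0) (cardG2 hK), (twG2 K (3 ^ m)).card_BBF, cardUG2 hK, cardHG2 hK]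
  have h3 := (Wt.SW_eq ((twG2 K (3 ^ m)).wt (e := fun a => teG2.getD a 0) (cardG2 hK)) (A := tAG2) (Js := tJG2) (Ws := tWG2) (cartB_spec cartG2)
    (fun a _ => rfl) (fun a _ => rfl) tOsG2 tcG2)
  have h5 : tOsG2.length = (twG2 K (3 ^ m)).m := rfl
  rw [h5, polG2] at h3
  simp only [hev_cons, hev_nil] at h3
  have h6 : ((twG2 K (3 ^ m)).wt (e := fun a => teG2.getD a 0) (cardG2 hK)).SW (twG2 K (3 ^ m)).m = (3 ^ (2 * m + 1)) ^ 3 + 1 := by
    have h7 : ((((twG2 K (3 ^ m)).wt (e := fun a => teG2.getD a 0) (cardG2 hK)).SW (twG2 K (3 ^ m)).m : ℕ) : ℤ) = (((3 ^ (2 * m + 1)) ^ 3 + 1 : ℕ) : ℤ) := by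
      rw [h3]; push_cast; ring
    exact_mod_cast h7
  rw [h6]

theorem weylG2 (hK : Fintype.card K = 3 ^ (2 * m + 1)) :
    ∃ φ : ↥(chevG2.monomialSubgroup K ⊓ twistedG2 K (3 ^ m)) →* Multiplicative (ZMod 2), Function.Surjective φ ∧
      φ.ker = (chevG2.diagonalSubgroup K ⊓ twistedG2 K (3 ^ m)).subgroupOf (chevG2.monomialSubgroup K ⊓ twistedG2 K (3 ^ m)) := by
  rw [twistedG2_eq hK, goodG2.mono_eq, goodG2.diag_eq]
  have h2 : Nat.card ↥((twG2 K (3 ^ m)).TW (twG2 K (3 ^ m)).m) = 2 :=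
    (twG2 K (3 ^ m)).card_TW (cartB_spec cartG2) (fun a _ => rfl) (fun a _ => rfl) tcG2 rfl (by decide +kernel)
  have h1 : Nat.card (Multiplicative (ZMod 2)) = 2 := by simp
  haveI : Fact (Nat.Prime 2) := ⟨Nat.prime_two⟩
  exact (twG2 K (3 ^ m)).exists_weyl (mulEquivOfPrimeCardEq h1 h2).toMonoidHom (mulEquivOfPrimeCardEq h1 h2).surjective (by rw [h1, h2])

/-- the characters of the torus -/
theorem chG2 (a : Kˣ) (r : ℕ) : goodG2.hcf (cG2 m a) r = (a ^ 3 ^ m) ^ chevG2.cartan 0 r * a ^ chevG2.cartan 1 r := by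
  unfold Good.hcf
  rw [rkG2]
  simp only [Finset.prod_range_succ, Finset.prod_range_zero, one_mul]
  rfl

theorem posG2 (hm : 1 ≤ m) (hK : Fintype.card K = 3 ^ (2 * m + 1)) :
    ∀ a < (twG2 K (3 ^ m)).m, goodG2.XS K (goodG2.Sneg ((twG2 K (3 ^ m)).ww a)) ⊓ (twG2 K (3 ^ m)).FG ≤ ⁅(twG2 K (3 ^ m)).FG, (twG2 K (3 ^ m)).FG⁆ := by
  obtain ⟨_, _, hU⟩ := cardUnitsG2 hK
  obtain ⟨z, hz⟩ : ∃ z : Kˣ, z ^ 2 ≠ 1 := by
    apply exists_sq_ne
    rw [hU]
    have : 3 ^ 3 ≤ 3 ^ (2 * m + 1) := Nat.pow_le_pow_right (by norm_num) (by omega)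
    omega
  obtain ⟨w, hw⟩ : ∃ w, w = z ^ 3 ^ m := ⟨_, rfl⟩
  have hth : (w ^ 3 ^ m) ^ 3 = z := by rw [hw]; exact Units.ext (thG2 hK _)
  have hz1 : z ≠ 1 := fun h => hz (by rw [h, one_pow])
  have h1 : w ≠ 1 := by
    intro h
    rw [h, one_pow, one_pow] at hth
    exact hz1 hth.symm
  have hpm : ∀ (x : Kˣ) (n : ℕ), (x ^ n) ^ 3 ^ m = (x ^ 3 ^ m) ^ n := fun x n => by rw [← pow_mul, mul_comm, pow_mul]
  have h2 : w ≠ z := by
    intro h
    rw [h] at hw
    rw [h, ← hw] at hth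
    apply hz
    have : z ^ 2 * z = 1 * z := by rw [← pow_succ, hth, one_mul]
    exact mul_right_cancel this
  have h3 : w ^ 2 ≠ z := by
    intro h
    have h4 : (w ^ 3 ^ m) ^ 2 = w := by rw [← hpm, h, hw]
    have h5 : z ^ 2 = w ^ 3 := by rw [← hth, ← pow_mul, mul_comm, pow_mul, h4]
    have h6 : z * z = w * z := by rw [← pow_two, h5, pow_succ, h, mul_comm]
    exact h2 (mul_right_cancel h6).symm
  have h4 : w ^ 3 ≠ z ^ 2 := by
    intro h
    have h5 : (w ^ 3 ^ m) ^ 3 = w ^ 2 := by rw [← hpm, h, hpm, hw]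
    exact h3 (by rw [← h5, hth])
  have h5 : w ^ 3 ≠ z := by
    intro h
    have h6 : (w ^ 3 ^ m) ^ 3 = w := by rw [← hpm, h, hw]
    exact h2 (by rw [← h6, hth])
  intro a ha
  have ha' : a < 1 := ha
  interval_cases a
  refine (twG2 K (3 ^ m)).torus_le (a := 0) ha (c := cG2 m z) (hcG2_mem hK z) ?_
  intro r hr hS
  have hS' : r ∈ [6, 7, 8, 9, 10, 11] := (snB_spec goodG2 sn0G2 r hr).1 hS
  simp only [List.mem_cons, List.not_mem_nil, or_false] at hS'
  rw [chG2, ← hw]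
  rcases hS' with rfl | rfl | rfl | rfl | rfl | rfl
  · rw [show chevG2.cartan 0 6 = -3 by decide +kernel, show chevG2.cartan 1 6 = 2 by decide +kernel, zpow_neg]
    intro h
    apply h4
    rw [inv_mul_eq_one] at h
    exact_mod_cast h
  · rw [show chevG2.cartan 0 7 = 2 by decide +kernel, show chevG2.cartan 1 7 = -1 by decide +kernel, zpow_neg_one]
    intro h
    apply h3
    rw [mul_inv_eq_one] at h
    exact_mod_cast h
  · rw [show chevG2.cartan 0 8 = -1 by decide +kernel, show chevG2.cartan 1 8 = 1 by decide +kernel, zpow_neg_one, zpow_one]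
    intro h
    apply h2
    rwa [inv_mul_eq_one] at h
  · rw [show chevG2.cartan 0 9 = 1 by decide +kernel, show chevG2.cartan 1 9 = 0 by decide +kernel, zpow_zero, zpow_one, mul_one]
    exact h1
  · rw [show chevG2.cartan 0 10 = 3 by decide +kernel, show chevG2.cartan 1 10 = -1 by decide +kernel, zpow_neg_one]
    intro h
    apply h5
    rw [mul_inv_eq_one] at h
    exact_mod_cast h
  · rw [show chevG2.cartan 0 11 = 0 by decide +kernel, show chevG2.cartan 1 11 = 1 by decide +kernel, zpow_zero, zpow_one, one_mul]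
    exact hz1

theorem perfG2 (hm : 1 ≤ m) (hK : Fintype.card K = 3 ^ (2 * m + 1)) : commutator ↥(twG2 K (3 ^ m)).FG = ⊤ := by
  refine (twG2 K (3 ^ m)).perf_words (S := g2Words K (3 ^ m)) (twistedG2_eq hK).symm (posG2 hm hK) ?_
  have hm : ∀ a, a < 1 → a < (twG2 K (3 ^ m)).m := fun a h => h
  have hp0 : ∀ r, r ∈ [6, 7, 8, 9, 10, 11] → r < chevG2.nroots → goodG2.Sneg [0, 1, 0, 1, 0, 1] r := fun r h hr => (snB_spec goodG2 sn0G2 r hr).2 h
  rintro w ⟨t, u, v, rfl | rfl⟩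
  · refine ⟨0, hm 0 (by norm_num), Or.inl ?_⟩
    intro p hp hp'
    simp only [reeWordU, g2a, g2b, g2ab, g2aab, g2aaab, g2aaabb, List.mem_cons, List.not_mem_nil, or_false] at hp
    rcases hp with rfl | rfl | rfl | rfl | rfl | rfl
    · exact hp0 7 (by decide) hp'
    · exact hp0 6 (by decide) hp'
    · exact hp0 8 (by decide) hp'
    · exact hp0 9 (by decide) hp'
    · exact hp0 10 (by decide) hp'
    · exact hp0 11 (by decide) hp'
  · refine ⟨0, hm 0 (by norm_num), Or.inr ?_⟩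
    intro p hp hp'
    simp only [reeWordV, ChevalleyDatum.negWord, reeWordU, g2a, g2b, g2ab, g2aab, g2aaab, g2aaabb, List.map_cons, List.map_nil, List.mem_cons, List.not_mem_nil, or_false] at hp
    have key : ∀ r ∈ [7, 6, 8, 9, 10, 11], goodG2.Sneg [0, 1, 0, 1, 0, 1] (chevG2.neg (chevG2.negIdx.getD r 0)) := by
      intro r hr
      simp only [List.mem_cons, List.not_mem_nil, or_false] at hr
      rcases hr with rfl | rfl | rfl | rfl | rfl | rfl
      · exact hp0 _ (by decide +kernel) (by decide +kernel)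
      · exact hp0 _ (by decide +kernel) (by decide +kernel)
      · exact hp0 _ (by decide +kernel) (by decide +kernel)
      · exact hp0 _ (by decide +kernel) (by decide +kernel)
      · exact hp0 _ (by decide +kernel) (by decide +kernel)
      · exact hp0 _ (by decide +kernel) (by decide +kernel)
    rcases hp with rfl | rfl | rfl | rfl | rfl | rfl
    · exact key 7 (by decide)
    · exact key 6 (by decide)
    · exact key 8 (by decide)
    · exact key 9 (by decide)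
    · exact key 10 (by decide)
    · exact key 11 (by decide)

theorem simpleG2 (hm : 1 ≤ m) (hK : Fintype.card K = 3 ^ (2 * m + 1)) :
    IsSimpleGroup ↥(twG2 K (3 ^ m)).FG ∧ ¬ IsMulCommutative ↥(twG2 K (3 ^ m)).FG := by
  refine (twG2 K (3 ^ m)).simple_FG (neG2 hK) (cenG2 hK) (show 0 < 1 by norm_num) ?_ (perfG2 hm hK)
  intro a ha
  have ha' : a + 1 < 1 := ha
  omega

end G2

end Chv
end CfsgH6
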