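import Cfsg.Agent.H6.TwG2b

set_option autoImplicit false
set_option maxRecDepth 100000

/-! The small Ree groups: elementary properties. -/

namespace CfsgH6
namespace Chv

open Cfsg.Lie

section Ree

variable {K : Type*} [Field K] [Fintype K] [CharP K 3] {m : ℕ}

theorem comG2_78 (t u : K) : goodG2.xg 8 u * goodG2.xg 7 t = goodG2.xg 7 t * goodG2.xg 8 u * goodG2.xg 9 (-(u * t)) := by
  rw [goodG2.xg_comm (r := 7) (s := 8) (by decide) (by decide) (by decide) (by decide +kernel) t u,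
    show chevG2.commTerms 7 8 = [(9, -2, 1, 1), (10, -3, 2, 1), (11, 3, 1, 2)] by decide +kernel]
  have h3 : (3 : K) = 0 := CharP.cast_eq_zero K 3
  have e1 : ((-2 : ℤ) : K) * (-t) ^ 1 * u ^ 1 = -(u * t) := by push_cast; linear_combination (u * t) * h3
  have e2 : ((-3 : ℤ) : K) * (-t) ^ 2 * u ^ 1 = 0 := by push_cast; linear_combination (-(t ^ 2 * u)) * h3
  have e3 : ((3 : ℤ) : K) * (-t) ^ 1 * u ^ 2 = 0 := by push_cast; linear_combination (-(t * u ^ 2)) * h3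
  simp only [List.map_cons, List.map_nil, List.prod_cons, List.prod_nil, e1, e2, e3, goodG2.xg_zero, mul_one]

theorem comG2_610 (t u : K) : goodG2.xg 10 u * goodG2.xg 6 t = goodG2.xg 6 t * goodG2.xg 10 u * goodG2.xg 11 (-(u * t)) := by
  rw [goodG2.xg_comm (r := 6) (s := 10) (by decide) (by decide) (by decide) (by decide +kernel) t u,
    show chevG2.commTerms 6 10 = [(11, 1, 1, 1)] by decide +kernel]
  have e1 : ((1 : ℤ) : K) * (-t) ^ 1 * u ^ 1 = -(u * t) := by push_cast; ring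
  simp only [List.map_cons, List.map_nil, List.prod_cons, List.prod_nil, e1, mul_one]

/-- the tails -/
noncomputable def tlG2 (a3 a4 a5 a6 : K) : GL chevG2.Idx K := goodG2.xg 8 a3 * goodG2.xg 9 a4 * goodG2.xg 10 a5 * goodG2.xg 11 a6

theorem g2w_tl (a1 a2 a3 a4 a5 a6 : K) : g2w a1 a2 a3 a4 a5 a6 = goodG2.xg 7 a1 * goodG2.xg 6 a2 * tlG2 a3 a4 a5 a6 := by
  unfold g2w r2w tlG2; group

theorem tl_mul (a3 a4 a5 a6 b3 b4 b5 b6 : K) : tlG2 a3 a4 a5 a6 * tlG2 b3 b4 b5 b6 = tlG2 (a3 + b3) (a4 + b4) (a5 + b5) (a6 + b6) := by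
  have h := r2pos K 0
  have key := tail_comm' (x3 := goodG2.xg 8 a3) (x4 := goodG2.xg 9 a4) (x5 := goodG2.xg 10 a5)
    (x6 := goodG2.xg 11 a6) (y3 := goodG2.xg 8 b3) (y4 := goodG2.xg 9 b4) (y5 := goodG2.xg 10 b5) (y6 := goodG2.xg 11 b6)
    (h.c34 _ _).symm (h.c35 _ _).symm (h.c36 _ _).symm (h.c45 _ _).symm (h.c46 _ _).symm (h.c56 _ _).symm
  rw [h.a3, h.a4, h.a5, h.a6] at key
  unfold tlG2
  rw [← key]; group

theorem tl_x7 (a3 a4 a5 a6 b : K) : tlG2 a3 a4 a5 a6 * goodG2.xg 7 b = goodG2.xg 7 b * tlG2 a3 (a4 - a3 * b) a5 a6 := by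
  have c1 : ∀ t u : K, Commute (goodG2.xg 11 t) (goodG2.xg 7 u) := c0G2 (by decide) (by decide) (by decide) (by decide +kernel) (by decide +kernel)
  have c2 : ∀ t u : K, Commute (goodG2.xg 10 t) (goodG2.xg 7 u) := c0G2 (by decide) (by decide) (by decide) (by decide +kernel) (by decide +kernel)
  have c3 : ∀ t u : K, Commute (goodG2.xg 9 t) (goodG2.xg 7 u) := c0G2 (by decide) (by decide) (by decide) (by decide +kernel) (by decide +kernel)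
  have h := r2pos K 0
  have e : a4 - a3 * b = -(a3 * b) + a4 := by ring
  unfold tlG2
  rw [e, ← h.a4]
  calc goodG2.xg 8 a3 * goodG2.xg 9 a4 * goodG2.xg 10 a5 * goodG2.xg 11 a6 * goodG2.xg 7 b
      = goodG2.xg 8 a3 * goodG2.xg 9 a4 * goodG2.xg 10 a5 * (goodG2.xg 11 a6 * goodG2.xg 7 b) := by group
    _ = goodG2.xg 8 a3 * goodG2.xg 9 a4 * (goodG2.xg 10 a5 * goodG2.xg 7 b) * goodG2.xg 11 a6 := by rw [(c1 a6 b).eq]; group
    _ = goodG2.xg 8 a3 * (goodG2.xg 9 a4 * goodG2.xg 7 b) * goodG2.xg 10 a5 * goodG2.xg 11 a6 := by rw [(c2 a5 b).eq]; group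
    _ = (goodG2.xg 8 a3 * goodG2.xg 7 b) * goodG2.xg 9 a4 * goodG2.xg 10 a5 * goodG2.xg 11 a6 := by rw [(c3 a4 b).eq]; group
    _ = _ := by rw [comG2_78]; group

theorem tl_x6 (a3 a4 a5 a6 b : K) : tlG2 a3 a4 a5 a6 * goodG2.xg 6 b = goodG2.xg 6 b * tlG2 a3 a4 a5 (a6 - a5 * b) := by
  have c1 : ∀ t u : K, Commute (goodG2.xg 11 t) (goodG2.xg 6 u) := c0G2 (by decide) (by decide) (by decide) (by decide +kernel) (by decide +kernel)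
  have c2 : ∀ t u : K, Commute (goodG2.xg 8 t) (goodG2.xg 6 u) := c0G2 (by decide) (by decide) (by decide) (by decide +kernel) (by decide +kernel)
  have c3 : ∀ t u : K, Commute (goodG2.xg 9 t) (goodG2.xg 6 u) := c0G2 (by decide) (by decide) (by decide) (by decide +kernel) (by decide +kernel)
  have h := r2pos K 0
  have e : a6 - a5 * b = -(a5 * b) + a6 := by ring
  unfold tlG2
  rw [e, ← h.a6]
  calc goodG2.xg 8 a3 * goodG2.xg 9 a4 * goodG2.xg 10 a5 * goodG2.xg 11 a6 * goodG2.xg 6 b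
      = goodG2.xg 8 a3 * goodG2.xg 9 a4 * goodG2.xg 10 a5 * (goodG2.xg 11 a6 * goodG2.xg 6 b) := by group
    _ = goodG2.xg 8 a3 * goodG2.xg 9 a4 * (goodG2.xg 10 a5 * goodG2.xg 6 b) * goodG2.xg 11 a6 := by rw [(c1 a6 b).eq]; group
    _ = goodG2.xg 8 a3 * (goodG2.xg 9 a4 * goodG2.xg 6 b) * goodG2.xg 10 a5 * goodG2.xg 11 (-(a5 * b)) * goodG2.xg 11 a6 := by rw [comG2_610]; group
    _ = (goodG2.xg 8 a3 * goodG2.xg 6 b) * goodG2.xg 9 a4 * goodG2.xg 10 a5 * goodG2.xg 11 (-(a5 * b)) * goodG2.xg 11 a6 := by rw [(c3 a4 b).eq]; group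
    _ = _ := by rw [(c2 a3 b).eq]; group

/-- the multiplication in `U` -/
theorem g2w_mul (a1 a2 a3 a4 a5 a6 b1 b2 b3 b4 b5 b6 : K) : g2w a1 a2 a3 a4 a5 a6 * g2w b1 b2 b3 b4 b5 b6 =
    g2w (a1 + b1) (a2 + b2) (a3 + b3 + a2 * b1) (a4 + b4 + a2 * b1 ^ 2 - a3 * b1) (a5 + b5 - a2 * b1 ^ 3)
      (a6 + b6 - a2 ^ 2 * b1 ^ 3 - a5 * b2 + a2 * b1 ^ 3 * b2) := by
  have h := r2pos K 0
  have hc : goodG2.xg 6 a2 * goodG2.xg 7 b1 = goodG2.xg 7 b1 * goodG2.xg 6 a2 * tlG2 (b1 * a2) (b1 ^ 2 * a2) (-(b1 ^ 3 * a2)) (-(b1 ^ 3 * a2 ^ 2)) := by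
    rw [h.com]; unfold tlG2; group
  rw [g2w_tl, g2w_tl, g2w_tl]
  calc goodG2.xg 7 a1 * goodG2.xg 6 a2 * tlG2 a3 a4 a5 a6 * (goodG2.xg 7 b1 * goodG2.xg 6 b2 * tlG2 b3 b4 b5 b6)
      = goodG2.xg 7 a1 * goodG2.xg 6 a2 * (tlG2 a3 a4 a5 a6 * goodG2.xg 7 b1) * goodG2.xg 6 b2 * tlG2 b3 b4 b5 b6 := by group
    _ = goodG2.xg 7 a1 * (goodG2.xg 6 a2 * goodG2.xg 7 b1) * tlG2 a3 (a4 - a3 * b1) a5 a6 * goodG2.xg 6 b2 * tlG2 b3 b4 b5 b6 := by rw [tl_x7]; group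
    _ = goodG2.xg 7 a1 * goodG2.xg 7 b1 * goodG2.xg 6 a2 * (tlG2 (b1 * a2) (b1 ^ 2 * a2) (-(b1 ^ 3 * a2)) (-(b1 ^ 3 * a2 ^ 2)) * tlG2 a3 (a4 - a3 * b1) a5 a6) *
        goodG2.xg 6 b2 * tlG2 b3 b4 b5 b6 := by rw [hc]; group
    _ = (goodG2.xg 7 a1 * goodG2.xg 7 b1) * goodG2.xg 6 a2 * (tlG2 (b1 * a2 + a3) (b1 ^ 2 * a2 + (a4 - a3 * b1)) (-(b1 ^ 3 * a2) + a5) (-(b1 ^ 3 * a2 ^ 2) + a6) *
        goodG2.xg 6 b2) * tlG2 b3 b4 b5 b6 := by rw [tl_mul]; group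
    _ = (goodG2.xg 7 a1 * goodG2.xg 7 b1) * (goodG2.xg 6 a2 * goodG2.xg 6 b2) * (tlG2 (b1 * a2 + a3) (b1 ^ 2 * a2 + (a4 - a3 * b1)) (-(b1 ^ 3 * a2) + a5)
        (-(b1 ^ 3 * a2 ^ 2) + a6 - (-(b1 ^ 3 * a2) + a5) * b2) * tlG2 b3 b4 b5 b6) := by rw [tl_x6]; group
    _ = _ := by
      rw [tl_mul, h.a1, h.a2]
      congr 2 <;> ring

theorem reeU_mul (hK : Fintype.card K = 3 ^ (2 * m + 1)) (t1 u1 v1 t2 u2 v2 : K) : reeU m t1 u1 v1 * reeU m t2 u2 v2 =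
    reeU m (t1 + t2) (u1 + u2 - t1 * (t2 ^ 3 ^ m) ^ 3) (v1 + v2 - t1 ^ 2 * (t2 ^ 3 ^ m) ^ 3 - u1 * t2 + t1 * (t2 ^ 3 ^ m) ^ 3 * t2) := by
  have h1 : reeU m t1 u1 v1 * reeU m t2 u2 v2 ∈ goodG2.UU K ⊓ (twG2 K (3 ^ m)).FG :=
    Subgroup.mul_mem _ ((UUG2 hK).2 ⟨_, _, _, rfl⟩) ((UUG2 hK).2 ⟨_, _, _, rfl⟩)
  obtain ⟨t, u, v, h2⟩ := (UUG2 hK).1 h1
  rw [h2]
  unfold reeU at h2
  rw [g2w_mul] at h2
  obtain ⟨_, e2, _, _, e5, e6⟩ := g2w_inj h2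
  rw [← e2, ← e5, ← e6]

theorem reeU_one : reeU m (0 : K) 0 0 = 1 := by
  have h1 : 3 ^ m ≠ 0 := by positivity
  unfold reeU g2w r2w
  rw [zero_pow h1, zero_pow (Nat.succ_ne_zero _), zero_pow (Nat.succ_ne_zero _), zero_add]
  simp only [goodG2.xg_zero, mul_one]

theorem reeU_eq_one {t u v : K} (h : reeU m t u v = 1) : t = 0 ∧ u = 0 ∧ v = 0 := by
  rw [← reeU_one (m := m)] at h
  exact reeU_inj h

theorem reeU_cube (hK : Fintype.card K = 3 ^ (2 * m + 1)) (t u v : K) : reeU m t u v ^ 3 = reeU m 0 0 (-((t ^ 3 ^ m) ^ 3 * t ^ 2)) := by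
  have h3 : (3 : K) = 0 := CharP.cast_eq_zero K 3
  rw [pow_succ, pow_two, reeU_mul hK, reeU_mul hK]
  congr 1
  · linear_combination t * h3
  · linear_combination (u - t * (t ^ 3 ^ m) ^ 3) * h3
  · linear_combination (v - u * t) * h3 + (-(t ^ 3 ^ m) ^ 3 * t ^ 2 * 0) * h3

/-- conjugation by the torus -/
theorem reeU_hc (hK : Fintype.card K = 3 ^ (2 * m + 1)) (a : Kˣ) (t u v : K) : goodG2.hc (cG2 m a) * reeU m t u v * (goodG2.hc (cG2 m a))⁻¹ =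
    reeU m (((goodG2.hcf (cG2 m a) 6 : Kˣ) : K) * t) (((goodG2.hcf (cG2 m a) 10 : Kˣ) : K) * u) (((goodG2.hcf (cG2 m a) 11 : Kˣ) : K) * v) := by
  have h1 : goodG2.hc (cG2 m a) * reeU m t u v * (goodG2.hc (cG2 m a))⁻¹ ∈ goodG2.UU K ⊓ (twG2 K (3 ^ m)).FG := by
    have h2 := (UUG2 hK).2 ⟨t, u, v, rfl⟩
    exact ⟨goodG2.HH_conj_XS ⟨_, rfl⟩ _ h2.1, Subgroup.mul_mem _ (Subgroup.mul_mem _ (hcG2_mem hK a) h2.2) (Subgroup.inv_mem _ (hcG2_mem hK a))⟩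
  obtain ⟨t', u', v', h2⟩ := (UUG2 hK).1 h1
  rw [h2]
  unfold reeU at h2
  rw [g2w_hc] at h2
  obtain ⟨_, e2, _, _, e5, e6⟩ := g2w_inj h2
  rw [e2, e5, e6]

theorem ch_ne (hK : Fintype.card K = 3 ^ (2 * m + 1)) {z : Kˣ} (hz : z ^ 2 ≠ 1) :
    goodG2.hcf (cG2 m z) 6 ≠ 1 ∧ goodG2.hcf (cG2 m z) 10 ≠ 1 ∧ goodG2.hcf (cG2 m z) 11 ≠ 1 := by
  obtain ⟨w, hw⟩ : ∃ w, w = z ^ 3 ^ m := ⟨_, rfl⟩
  have hth : (w ^ 3 ^ m) ^ 3 = z := by rw [hw]; exact Units.ext (thG2 hK _)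
  have hz1 : z ≠ 1 := fun h => hz (by rw [h, one_pow])
  have hpm : ∀ (x : Kˣ) (n : ℕ), (x ^ n) ^ 3 ^ m = (x ^ 3 ^ m) ^ n := fun x n => by rw [← pow_mul, mul_comm, pow_mul]
  have h2 : w ≠ z := by
    intro h
    rw [h] at hw
    rw [h, ← hw] at hth
    apply hz
    have : z ^ 2 * z = 1 * z := by rw [← pow_succ, hth, one_mul]
    exact mul_right_cancel this
  have h3 : w ^ 2 ≠ z := by
    intro h
    have h4 : (w ^ 3 ^ m) ^ 2 = w := by rw [← hpm, h, hw]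
    have h5 : z ^ 2 = w ^ 3 := by rw [← hth, ← pow_mul, mul_comm, pow_mul, h4]
    have h6 : z * z = w * z := by rw [← pow_two, h5, pow_succ, h, mul_comm]
    exact h2 (mul_right_cancel h6).symm
  have h4 : w ^ 3 ≠ z ^ 2 := by
    intro h
    have h5 : (w ^ 3 ^ m) ^ 3 = w ^ 2 := by rw [← hpm, h, hpm, hw]
    exact h3 (by rw [← h5, hth])
  have h5 : w ^ 3 ≠ z := by
    intro h
    have h6 : (w ^ 3 ^ m) ^ 3 = w := by rw [← hpm, h, hw]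
    exact h2 (by rw [← h6, hth])
  rw [chG2, chG2, chG2, ← hw, show chevG2.cartan 0 6 = -3 by decide +kernel, show chevG2.cartan 1 6 = 2 by decide +kernel,
    show chevG2.cartan 0 10 = 3 by decide +kernel, show chevG2.cartan 1 10 = -1 by decide +kernel,
    show chevG2.cartan 0 11 = 0 by decide +kernel, show chevG2.cartan 1 11 = 1 by decide +kernel, zpow_zero, zpow_one, one_mul, zpow_neg, zpow_neg_one]
  refine ⟨?_, ?_, hz1⟩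
  · intro h
    apply h4
    rw [inv_mul_eq_one] at h
    exact_mod_cast h
  · intro h
    apply h5
    rw [mul_inv_eq_one] at h
    exact_mod_cast h

/-- a nontrivial unipotent element is only centralised by torus elements of square one -/
theorem cent_tor (hK : Fintype.card K = 3 ^ (2 * m + 1)) {a : Kˣ} {x : GL chevG2.Idx K} (hx : x ∈ goodG2.UU K ⊓ (twG2 K (3 ^ m)).FG) (hx1 : x ≠ 1)
    (h : goodG2.hc (cG2 m a) * x * (goodG2.hc (cG2 m a))⁻¹ = x) : a ^ 2 = 1 := by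
  by_contra hne
  obtain ⟨h1, h2, h3⟩ := ch_ne (m := m) hK hne
  obtain ⟨t, u, v, rfl⟩ := (UUG2 hK).1 hx
  rw [reeU_hc hK] at h
  obtain ⟨e1, e2, e3⟩ := reeU_inj h
  have key : ∀ (c : Kˣ) (s : K), c ≠ 1 → (c : K) * s = s → s = 0 := by
    intro c s hc hs
    by_contra hs0
    apply hc
    apply Units.ext
    exact mul_right_cancel₀ hs0 (hs.trans (one_mul _).symm)
  rw [key _ _ h1 e1, key _ _ h2 e2, key _ _ h3 e3, reeU_one] at hx1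
  exact hx1 rfl

/-! ### the Bruhat decomposition -/

noncomputable def n0 (K : Type*) [Field K] : GL chevG2.Idx K := goodG2.nl K [0, 1, 0, 1, 0, 1]

theorem n0_FG : n0 K ∈ (twG2 K (3 ^ m)).FG := (twG2 K (3 ^ m)).nu_FG (a := 0) (show 0 < 1 by norm_num)

theorem n0_sq : n0 K * n0 K ∈ goodG2.HH K ⊓ (twG2 K (3 ^ m)).FG := (twG2 K (3 ^ m)).nu_sq (a := 0) (show 0 < 1 by norm_num)

theorem n0_HH {h : GL chevG2.Idx K} (hh : h ∈ goodG2.HH K) : n0 K * h * (n0 K)⁻¹ ∈ goodG2.HH K :=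
  goodG2.nl_HH (by decide) hh

theorem n0_HH' {h : GL chevG2.Idx K} (hh : h ∈ goodG2.HH K) : (n0 K)⁻¹ * h * n0 K ∈ goodG2.HH K := by
  have h1 := (n0_sq (K := K) (m := 0)).1
  have h2 := n0_HH hh
  have h3 : (n0 K)⁻¹ * h * n0 K = (n0 K * n0 K)⁻¹ * (n0 K * h * (n0 K)⁻¹) * (n0 K * n0 K) := by group
  rw [h3]
  exact Subgroup.mul_mem _ (Subgroup.mul_mem _ (Subgroup.inv_mem _ h1) h2) h1

theorem n0_UU {x : GL chevG2.Idx K} (hx : x ∈ goodG2.UU K) : n0 K * x * (n0 K)⁻¹ ∈ goodG2.VV K := by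
  refine goodG2.conj_map_XS (S := fun r => goodG2.N ≤ r) (T := fun r => r < goodG2.N) (by decide) ?_ x hx
  intro r hr h
  have hr' : r < 12 := hr
  have h3 : goodG2.N = 6 := rfl
  rw [h3] at h ⊢
  have key : ∀ r < 12, 6 ≤ r → goodG2.wl [0, 1, 0, 1, 0, 1] r < 6 := by decide +kernel
  exact key r hr' h

theorem NNG2 {x : GL chevG2.Idx K} (hx : x ∈ goodG2.NN K ⊓ (twG2 K (3 ^ m)).FG) :
    x ∈ goodG2.HH K ⊓ (twG2 K (3 ^ m)).FG ∨ ∃ h ∈ goodG2.HH K ⊓ (twG2 K (3 ^ m)).FG, x = h * n0 K := by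
  obtain ⟨A, hA, h, hh, rfl⟩ := (twG2 K (3 ^ m)).NN_fix hx
  have key : ∀ A : List ℕ, (∀ a ∈ A, a < (twG2 K (3 ^ m)).m) → (twG2 K (3 ^ m)).nuL A ∈ goodG2.HH K ⊓ (twG2 K (3 ^ m)).FG ∨
      ∃ h ∈ goodG2.HH K ⊓ (twG2 K (3 ^ m)).FG, (twG2 K (3 ^ m)).nuL A = h * n0 K := by
    intro A
    induction A with
    | nil => intro _; exact Or.inl (Subgroup.one_mem _)
    | cons a A ih =>
      intro hA
      have ha : a < 1 := hA a (by simp)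
      have ha0 : a = 0 := by omega
      subst ha0
      have e : (twG2 K (3 ^ m)).nuL (0 :: A) = n0 K * (twG2 K (3 ^ m)).nuL A := by
        unfold Tw.nuL
        rw [List.map_cons, List.prod_cons]; rfl
      rw [e]
      have hn := n0_FG (K := K) (m := m)
      have hcj : ∀ h ∈ goodG2.HH K ⊓ (twG2 K (3 ^ m)).FG, n0 K * h * (n0 K)⁻¹ ∈ goodG2.HH K ⊓ (twG2 K (3 ^ m)).FG := fun h hh =>
        ⟨n0_HH hh.1, Subgroup.mul_mem _ (Subgroup.mul_mem _ hn hh.2) (Subgroup.inv_mem _ hn)⟩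
      rcases ih (fun b hb => hA b (by simp [hb])) with h | ⟨h, hh, he⟩
      · exact Or.inr ⟨_, hcj _ h, by group⟩
      · left
        rw [he]
        have : n0 K * (h * n0 K) = (n0 K * h * (n0 K)⁻¹) * (n0 K * n0 K) := by group
        rw [this]
        exact Subgroup.mul_mem _ (hcj _ hh) n0_sq
  rcases key A hA with h1 | ⟨k, hk, he⟩
  · exact Or.inl (Subgroup.mul_mem _ hh h1)
  · exact Or.inr ⟨_, Subgroup.mul_mem _ hh hk, by rw [he]; group⟩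

theorem reeBruhat {x : GL chevG2.Idx K} (hx : x ∈ (twG2 K (3 ^ m)).FG) :
    x ∈ goodG2.BB K ⊓ (twG2 K (3 ^ m)).FG ∨ ∃ u ∈ goodG2.UU K ⊓ (twG2 K (3 ^ m)).FG, ∃ h ∈ goodG2.HH K ⊓ (twG2 K (3 ^ m)).FG,
      ∃ u' ∈ goodG2.UU K ⊓ (twG2 K (3 ^ m)).FG, x = u * h * n0 K * u' := by
  obtain ⟨u, hu, L, hL, h, hh, hn, u', hu', he⟩ := (twG2 K (3 ^ m)).fix_bruhat hx
  have hN : h * goodG2.nl K L ∈ goodG2.NN K ⊓ (twG2 K (3 ^ m)).FG := ⟨Subgroup.mul_mem _ (goodG2.HH_le_NN hh) (goodG2.nl_mem hL.1), hn⟩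
  have hu'' : u' ∈ goodG2.UU K ⊓ (twG2 K (3 ^ m)).FG := ⟨(twG2 K (3 ^ m)).Sneg_le_UU _ hu'.1, hu'.2⟩
  rcases NNG2 hN with h1 | ⟨k, hk, hke⟩
  · left
    refine ⟨?_, hx⟩
    rw [he]
    exact Subgroup.mul_mem _ (Subgroup.mul_mem _ (goodG2.UU_le_BB hu.1) (goodG2.HH_le_BB h1.1)) (goodG2.UU_le_BB hu''.1)
  · right
    exact ⟨u, hu, k, hk, u', hu'', by rw [he, hke]; group⟩

theorem BB_conj_UU {b x : GL chevG2.Idx K} (hb : b ∈ goodG2.BB K) (hx : x ∈ goodG2.UU K) : b * x * b⁻¹ ∈ goodG2.UU K := by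
  obtain ⟨u, hu, h, hh, rfl⟩ := hb
  have h1 := goodG2.HH_conj_XS hh x hx
  have h2 : u * h * x * (u * h)⁻¹ = u * (h * x * h⁻¹) * u⁻¹ := by group
  rw [h2]
  exact Subgroup.mul_mem _ (Subgroup.mul_mem _ hu h1) (Subgroup.inv_mem _ hu)

/-- trivial intersection -/
theorem ti_conj {x y : GL chevG2.Idx K} (hx : x ∈ (twG2 K (3 ^ m)).FG) (hy : y ∈ goodG2.UU K) (hy1 : y ≠ 1)
    (h : x * y * x⁻¹ ∈ goodG2.UU K) : x ∈ goodG2.BB K ⊓ (twG2 K (3 ^ m)).FG := by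
  rcases reeBruhat hx with h1 | ⟨u, hu, k, hk, u', hu', rfl⟩
  · exact h1
  · exfalso
    have h2 : u' * y * u'⁻¹ ∈ goodG2.UU K := Subgroup.mul_mem _ (Subgroup.mul_mem _ hu'.1 hy) (Subgroup.inv_mem _ hu'.1)
    have h3 := n0_UU h2
    have hb : (u * k)⁻¹ ∈ goodG2.BB K := Subgroup.inv_mem _ (Subgroup.mul_mem _ (goodG2.UU_le_BB hu.1) (goodG2.HH_le_BB hk.1))
    have h4 := BB_conj_UU hb h
    have h5 : (u * k)⁻¹ * (u * k * n0 K * u' * y * (u * k * n0 K * u')⁻¹) * ((u * k)⁻¹)⁻¹ = n0 K * (u' * y * u'⁻¹) * (n0 K)⁻¹ := by group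
    rw [h5] at h4
    have h6 := goodG2.UU_inf_VV h4 h3
    apply hy1
    have h7 : y = u'⁻¹ * ((n0 K)⁻¹ * (n0 K * (u' * y * u'⁻¹) * (n0 K)⁻¹) * n0 K) * u' := by group
    rw [h7, h6]; group

end Ree

end Chv
end CfsgH6
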