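import Cfsg.Agent.H6.TwR1

set_option autoImplicit false
set_option maxRecDepth 100000

/-! The small Ree groups: the statements on `U`, `H` and the points. -/

namespace CfsgH6
namespace Chv

open Cfsg.Lie

section Ree

variable {K : Type*} [Field K] [Fintype K] [CharP K 3] {m : ℕ}

theorem card_oddG2 (hK : Fintype.card K = 3 ^ (2 * m + 1)) :
    2 * Nat.card {h : ↥(goodG2.HH K ⊓ (twG2 K (3 ^ m)).FG) // Odd (orderOf h)} = 3 ^ (2 * m + 1) - 1 := by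
  obtain ⟨e, _⟩ := exists_torG2 (m := m) hK
  obtain ⟨k, hk, hU⟩ := cardUnitsG2 hK
  have h1 : Nat.card {h : ↥(goodG2.HH K ⊓ (twG2 K (3 ^ m)).FG) // Odd (orderOf h)} = Nat.card (powMonoidHom (2 * k + 1) : Kˣ →* Kˣ).ker := by
    symm
    refine Nat.card_congr (e.toEquiv.subtypeEquiv ?_)
    intro a
    show a ∈ (powMonoidHom (2 * k + 1) : Kˣ →* Kˣ).ker ↔ Odd (orderOf (e a))
    rw [MonoidHom.mem_ker, powMonoidHom_apply, MulEquiv.orderOf_eq]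
    constructor
    · intro h
      exact Odd.of_dvd_nat ⟨k, rfl⟩ (orderOf_dvd_of_pow_eq_one h)
    · intro h
      apply orderOf_dvd_iff_pow_eq_one.1
      have h2 : orderOf a ∣ 2 * (2 * k + 1) := by rw [← hk]; exact orderOf_dvd_natCard a
      exact (Nat.Coprime.dvd_of_dvd_mul_left (Nat.Coprime.symm (Nat.coprime_two_left.2 h)) h2)
  rw [h1, IsCyclic.card_powMonoidHom_ker, hk, Nat.gcd_eq_right (dvd_mul_left _ _), ← hU, hk]

theorem cent_oddG2 (hK : Fintype.card K = 3 ^ (2 * m + 1)) {h : GL chevG2.Idx K} (hh : h ∈ goodG2.HH K ⊓ (twG2 K (3 ^ m)).FG) (h1 : h ≠ 1) (ho : Odd (orderOf h)) :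
    (goodG2.UU K ⊓ (twG2 K (3 ^ m)).FG) ⊓ Subgroup.centralizer {h} = ⊥ := by
  rw [eq_bot_iff]
  rintro x ⟨hx, hc⟩
  rw [Subgroup.mem_bot]
  by_contra hx1
  obtain ⟨a, rfl⟩ := HHG2 hK hh
  have h2 := Subgroup.mem_centralizer_singleton_iff.1 hc
  have h3 : a ^ 2 = 1 := cent_tor (m := m) hK hx hx1 (by rw [← h2]; group)
  apply h1
  obtain ⟨e, he⟩ := exists_torG2 (m := m) hK
  have h4 : goodG2.hc (cG2 m a) ^ 2 = 1 := by
    rw [← he a, ← Subgroup.coe_pow, ← map_pow, h3, map_one]; rfl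
  have h5 := orderOf_dvd_of_pow_eq_one h4
  have h6 : orderOf (goodG2.hc (cG2 m a)) = 1 := by
    obtain ⟨j, hj⟩ := ho
    have h7 := (Nat.dvd_prime Nat.prime_two).1 h5
    omega
  exact orderOf_eq_one_iff.1 h6

theorem card_ord3 (hK : Fintype.card K = 3 ^ (2 * m + 1)) :
    Nat.card {u : ↥(goodG2.UU K ⊓ (twG2 K (3 ^ m)).FG) // orderOf u = 3} = (3 ^ (2 * m + 1)) ^ 2 - 1 := by
  classical
  have hcK : Nat.card (K × K) = (3 ^ (2 * m + 1)) ^ 2 := by rw [Nat.card_prod, Nat.card_eq_fintype_card, hK, pow_two]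
  have hord : ∀ x : ↥(goodG2.UU K ⊓ (twG2 K (3 ^ m)).FG), orderOf x = 3 ↔ x ≠ 1 ∧ ∃ u v : K, (x : GL chevG2.Idx K) = reeU m 0 u v := by
    rintro ⟨x, hx⟩
    obtain ⟨t, u, v, rfl⟩ := (UUG2 hK).1 hx
    have hcube := reeU_cube (m := m) hK t u v
    constructor
    · intro h
      refine ⟨?_, ?_⟩
      · intro h1
        rw [h1, orderOf_one] at h
        omega
      · have h2 := pow_orderOf_eq_one (⟨reeU m t u v, hx⟩ : ↥(goodG2.UU K ⊓ (twG2 K (3 ^ m)).FG))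
        rw [h] at h2
        have h3 : reeU m t u v ^ 3 = 1 := congrArg Subtype.val h2
        rw [hcube] at h3
        obtain ⟨_, _, h4⟩ := reeU_eq_one h3
        have ht : t = 0 := by
          rw [neg_eq_zero, mul_eq_zero] at h4
          rcases h4 with h4 | h4
          · have := pow_eq_zero_iff (three_ne_zero) |>.1 h4
            exact (pow_eq_zero_iff (pow_ne_zero m three_ne_zero)).1 this
          · exact (pow_eq_zero_iff two_ne_zero).1 h4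
        refine ⟨u, v, ?_⟩
        show reeU m t u v = reeU m 0 u v
        rw [ht]
    · rintro ⟨h1, u', v', h2⟩
      have h2' : reeU m t u v = reeU m 0 u' v' := h2
      obtain ⟨ht, _, _⟩ := reeU_inj h2'
      have h3 : reeU m t u v ^ 3 = 1 := by
        rw [hcube, ht]
        have : (-(((0 : K) ^ 3 ^ m) ^ 3 * 0 ^ 2)) = 0 := by ring
        rw [this, reeU_one]
      haveI : Fact (Nat.Prime 3) := ⟨Nat.prime_three⟩
      exact orderOf_eq_prime (Subtype.ext h3) h1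
  have h1 : Nat.card {u : ↥(goodG2.UU K ⊓ (twG2 K (3 ^ m)).FG) // orderOf u = 3} = Nat.card {p : K × K // p ≠ (0, 0)} := by
    symm
    refine Nat.card_congr (Equiv.ofBijective (fun p => ⟨⟨reeU m 0 p.1.1 p.1.2, (UUG2 hK).2 ⟨_, _, _, rfl⟩⟩, (hord _).2 ⟨?_, _, _, rfl⟩⟩) ⟨?_, ?_⟩)
    · intro h
      obtain ⟨_, h2, h3⟩ := reeU_eq_one (congrArg Subtype.val h)
      exact p.2 (Prod.ext h2 h3)
    · rintro ⟨⟨u, v⟩, hp⟩ ⟨⟨u', v'⟩, hp'⟩ h
      have h2 : reeU m 0 u v = reeU m 0 u' v' := congrArg (fun z : {u : ↥(goodG2.UU K ⊓ (twG2 K (3 ^ m)).FG) // orderOf u = 3} => ((z.1 : ↥(goodG2.UU K ⊓ (twG2 K (3 ^ m)).FG)) : GL chevG2.Idx K)) h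
      obtain ⟨_, e1, e2⟩ := reeU_inj h2
      exact Subtype.ext (Prod.ext e1 e2)
    · rintro ⟨x, hx⟩
      obtain ⟨hx1, u, v, h⟩ := (hord x).1 hx
      refine ⟨⟨(u, v), ?_⟩, Subtype.ext (Subtype.ext h.symm)⟩
      intro h0
      apply hx1
      apply Subtype.ext
      rw [h]
      have e1 : u = 0 := congrArg Prod.fst h0
      have e2 : v = 0 := congrArg Prod.snd h0
      rw [e1, e2, reeU_one]; rfl
  rw [h1, ← hcK, Nat.card_eq_fintype_card, Nat.card_eq_fintype_card]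
  exact Set.card_ne_eq ((0, 0) : K × K)

theorem card_factG2 (hK : Fintype.card K = 3 ^ (2 * m + 1)) : (Nat.card ↥(twG2 K (3 ^ m)).FG).factorization 3 = (2 * m + 1) * 3 := by
  have hF : Nat.card ↥(twG2 K (3 ^ m)).FG = (3 ^ (2 * m + 1)) ^ 3 * (3 ^ (2 * m + 1) - 1) * ((3 ^ (2 * m + 1)) ^ 3 + 1) := by
    rw [← cardFG2 hK, twistedG2_eq hK]
  obtain ⟨q, hq⟩ : ∃ q, q = 3 ^ (2 * m + 1) := ⟨_, rfl⟩
  have hq3 : 3 ∣ q := by rw [hq]; exact dvd_pow_self 3 (by omega)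
  obtain ⟨j, hj⟩ := hq3
  have hpos : 0 < q := by rw [hq]; positivity
  have hnd : ¬ 3 ∣ (q - 1) * (q ^ 3 + 1) := by
    intro h
    rcases (Nat.Prime.dvd_mul Nat.prime_three).1 h with h | h
    · omega
    · have : q ^ 3 = 3 * (j * q ^ 2) := by rw [pow_succ, hj]; ring
      omega
  rw [hF, ← hq, mul_assoc, Nat.factorization_mul (by positivity) (by
    apply mul_ne_zero
    · have : 2 ≤ q := by omega
      omega
    · positivity), Finsupp.add_apply, Nat.factorization_eq_zero_of_not_dvd hnd, add_zero, hq, ← pow_mul, Nat.Prime.factorization_pow Nat.prime_three, Finsupp.single_eq_same]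

theorem sylow3G2 (hK : Fintype.card K = 3 ^ (2 * m + 1)) (P Q : Sylow 3 ↥(twG2 K (3 ^ m)).FG) (hPQ : P ≠ Q) :
    (P : Subgroup ↥(twG2 K (3 ^ m)).FG) ⊓ (Q : Subgroup ↥(twG2 K (3 ^ m)).FG) = ⊥ := by
  haveI : Fact (Nat.Prime 3) := ⟨Nat.prime_three⟩
  haveI : Finite (GL chevG2.Idx K) := inferInstance
  let U0 : Subgroup ↥(twG2 K (3 ^ m)).FG := (goodG2.UU K ⊓ (twG2 K (3 ^ m)).FG).subgroupOf (twG2 K (3 ^ m)).FG
  have hU0 : Nat.card U0 = 3 ^ (Nat.card ↥(twG2 K (3 ^ m)).FG).factorization 3 := by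
    rw [card_factG2 hK, pow_mul, ← cardUG2 hK]
    exact Nat.card_congr (Subgroup.subgroupOfEquivOfLe inf_le_right).toEquiv
  let S : Sylow 3 ↥(twG2 K (3 ^ m)).FG := Sylow.ofCard U0 hU0
  obtain ⟨g1, h1⟩ := MulAction.exists_smul_eq ↥(twG2 K (3 ^ m)).FG S P
  obtain ⟨g2, h2⟩ := MulAction.exists_smul_eq ↥(twG2 K (3 ^ m)).FG S Q
  have hmem : ∀ (g x : ↥(twG2 K (3 ^ m)).FG), x ∈ (g • S : Sylow 3 ↥(twG2 K (3 ^ m)).FG) ↔ ((g⁻¹ * x * g : ↥(twG2 K (3 ^ m)).FG) : GL chevG2.Idx K) ∈ goodG2.UU K := by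
    intro g x
    have : x ∈ (g • S : Sylow 3 ↥(twG2 K (3 ^ m)).FG) ↔ g⁻¹ * x * g ∈ U0 := by
      rw [← SetLike.mem_coe, Sylow.coe_smul, Set.mem_smul_set_iff_inv_smul_mem]
      show (MulAut.conj g)⁻¹ • x ∈ (U0 : Set _) ↔ _
      rw [← map_inv, MulAut.smul_def, MulAut.conj_apply, inv_inv]
      rfl
    rw [this]
    exact ⟨fun h => h.1, fun h => ⟨h, (g⁻¹ * x * g).2⟩⟩
  rw [eq_bot_iff]
  rintro x ⟨hxP, hxQ⟩
  rw [Subgroup.mem_bot]
  by_contra hx1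
  apply hPQ
  rw [← h1, ← h2]
  have e1 : ((g1⁻¹ * x * g1 : ↥(twG2 K (3 ^ m)).FG) : GL chevG2.Idx K) ∈ goodG2.UU K := by rw [← hmem, h1]; exact hxP
  have e2 : ((g2⁻¹ * x * g2 : ↥(twG2 K (3 ^ m)).FG) : GL chevG2.Idx K) ∈ goodG2.UU K := by rw [← hmem, h2]; exact hxQ
  have hb : ((g1⁻¹ * g2 : ↥(twG2 K (3 ^ m)).FG) : GL chevG2.Idx K) ∈ goodG2.BB K ⊓ (twG2 K (3 ^ m)).FG := by
    refine ti_conj (m := m) (g1⁻¹ * g2).2 e2 ?_ ?_
    · intro h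
      apply hx1
      have h3 : g2⁻¹ * x * g2 = 1 := Subtype.ext h
      have h4 : x = g2 * (g2⁻¹ * x * g2) * g2⁻¹ := by group
      rw [h4, h3]; group
    · have h3 : ((g1⁻¹ * g2 : ↥(twG2 K (3 ^ m)).FG) : GL chevG2.Idx K) * ((g2⁻¹ * x * g2 : ↥(twG2 K (3 ^ m)).FG) : GL chevG2.Idx K) * ((g1⁻¹ * g2 : ↥(twG2 K (3 ^ m)).FG) : GL chevG2.Idx K)⁻¹ =
          ((g1⁻¹ * x * g1 : ↥(twG2 K (3 ^ m)).FG) : GL chevG2.Idx K) := by
        rw [← Subgroup.coe_inv, ← Subgroup.coe_mul, ← Subgroup.coe_mul]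
        congr 1; group
      rw [h3]; exact e1
  apply Sylow.ext
  ext y
  have hmem1 := hmem g1 y
  have hmem2 := hmem g2 y
  show y ∈ (g1 • S : Sylow 3 ↥(twG2 K (3 ^ m)).FG) ↔ y ∈ (g2 • S : Sylow 3 ↥(twG2 K (3 ^ m)).FG)
  rw [hmem1, hmem2]
  obtain ⟨b, hbdef⟩ : ∃ b, b = g1⁻¹ * g2 := ⟨_, rfl⟩
  rw [← hbdef] at hb
  constructor
  · intro h
    have h3 := BB_conj_UU (Subgroup.inv_mem _ hb.1) h
    rw [← Subgroup.coe_inv, ← Subgroup.coe_inv, ← Subgroup.coe_mul, ← Subgroup.coe_mul, inv_inv] at h3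
    have h4 : b⁻¹ * (g1⁻¹ * y * g1) * b = g2⁻¹ * y * g2 := by rw [hbdef]; group
    rwa [h4] at h3
  · intro h
    have h3 := BB_conj_UU hb.1 h
    rw [← Subgroup.coe_inv, ← Subgroup.coe_mul, ← Subgroup.coe_mul] at h3
    have h4 : b * (g2⁻¹ * y * g2) * b⁻¹ = g1⁻¹ * y * g1 := by rw [hbdef]; group
    rwa [h4] at h3

end Ree

end Chv
end CfsgH6
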