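import Cfsg.Agent.H6.TwR2

set_option autoImplicit false
set_option maxRecDepth 100000

/-! The small Ree groups: three points. -/

namespace CfsgH6
namespace Chv

open Cfsg.Lie

section Ree

variable {K : Type*} [Field K] [Fintype K] [CharP K 3] {m : ℕ}

theorem inter_H {x : GL chevG2.Idx K} (hx : x ∈ goodG2.BB K) (hx' : (n0 K)⁻¹ * x * n0 K ∈ goodG2.BB K) : x ∈ goodG2.HH K := by
  apply goodG2.BB_inf_VH hx
  obtain ⟨u, hu, h, hh, he⟩ := hx'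
  refine ⟨n0 K * u * (n0 K)⁻¹, n0_UU hu, n0 K * h * (n0 K)⁻¹, n0_HH hh, ?_⟩
  have h1 : x = n0 K * ((n0 K)⁻¹ * x * n0 K) * (n0 K)⁻¹ := by group
  rw [h1, he]; group

theorem three_key {x u : GL chevG2.Idx K} (hu : u ∈ goodG2.UU K) (hx : x ∈ goodG2.BB K) (hx' : (n0 K)⁻¹ * x * n0 K ∈ goodG2.BB K)
    (hx'' : (u * n0 K)⁻¹ * x * (u * n0 K) ∈ goodG2.BB K) : x ∈ goodG2.HH K ∧ x * u * x⁻¹ = u := by
  have h1 := inter_H hx hx'
  have h2 : (n0 K)⁻¹ * (u⁻¹ * x * u) * n0 K ∈ goodG2.BB K := by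
    have : (n0 K)⁻¹ * (u⁻¹ * x * u) * n0 K = (u * n0 K)⁻¹ * x * (u * n0 K) := by group
    rw [this]; exact hx''
  have hub := goodG2.UU_le_BB hu
  have h3 := inter_H (Subgroup.mul_mem _ (Subgroup.mul_mem _ (Subgroup.inv_mem _ hub) hx) hub) h2
  refine ⟨h1, ?_⟩
  have h4 : u⁻¹ * (x * u * x⁻¹) ∈ goodG2.UU K ⊓ goodG2.HH K := by
    refine ⟨Subgroup.mul_mem _ (Subgroup.inv_mem _ hu) (BB_conj_UU hx hu), ?_⟩
    have : u⁻¹ * (x * u * x⁻¹) = u⁻¹ * x * u * x⁻¹ := by group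
    rw [this]
    exact Subgroup.mul_mem _ h3 (Subgroup.inv_mem _ h1)
  rw [goodG2.UU_inf_HH, Subgroup.mem_bot] at h4
  exact (inv_mul_eq_one.1 h4).symm

theorem n0_not_BB : n0 K ∉ goodG2.BB K := by
  intro h
  have h1 : goodG2.xg 7 (1 : K) ∈ goodG2.UU K := goodG2.xg_mem_UU (by decide +kernel) _
  have h2 := BB_conj_UU h h1
  have h3 := goodG2.UU_inf_VV h2 (n0_UU h1)
  have h4 : goodG2.xg 7 (1 : K) = 1 := by
    have : goodG2.xg 7 (1 : K) = (n0 K)⁻¹ * (n0 K * goodG2.xg 7 1 * (n0 K)⁻¹) * n0 K := by group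
    rw [this, h3]; group
  exact goodG2.xg_ne_one (by decide) h4

/-- the cardinality of a common stabiliser -/
noncomputable def c3 {G X : Type*} [Group G] [MulAction G X] (x y z : X) : ℕ :=
  Nat.card ↥(MulAction.stabilizer G x ⊓ MulAction.stabilizer G y ⊓ MulAction.stabilizer G z)

theorem c3_smul {G X : Type*} [Group G] [MulAction G X] (g : G) (x y z : X) : c3 (G := G) (g • x) (g • y) (g • z) = c3 (G := G) x y z := by
  unfold c3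
  rw [MulAction.stabilizer_smul_eq_stabilizer_map_conj, MulAction.stabilizer_smul_eq_stabilizer_map_conj, MulAction.stabilizer_smul_eq_stabilizer_map_conj,
    ← Subgroup.map_inf _ _ _ (MulAut.conj g).injective, ← Subgroup.map_inf _ _ _ (MulAut.conj g).injective]
  exact (Nat.card_congr (Subgroup.equivMapOfInjective _ _ (MulAut.conj g).injective).toEquiv).symm

section

variable (K m)

noncomputable abbrev BG : Subgroup ↥(twG2 K (3 ^ m)).FG := (goodG2.BB K ⊓ (twG2 K (3 ^ m)).FG).subgroupOf (twG2 K (3 ^ m)).FG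

noncomputable def nG : ↥(twG2 K (3 ^ m)).FG := ⟨n0 K, n0_FG⟩

end

theorem mem_stab (g x : ↥(twG2 K (3 ^ m)).FG) : x ∈ MulAction.stabilizer ↥(twG2 K (3 ^ m)).FG (g : ↥(twG2 K (3 ^ m)).FG ⧸ BG K m) ↔
    (g : GL chevG2.Idx K)⁻¹ * x * g ∈ goodG2.BB K := by
  rw [MulAction.mem_stabilizer_iff, MulAction.Quotient.smul_coe, smul_eq_mul, eq_comm, QuotientGroup.eq, Subgroup.mem_subgroupOf]
  have h1 : ((g⁻¹ * (x * g) : ↥(twG2 K (3 ^ m)).FG) : GL chevG2.Idx K) = (g : GL chevG2.Idx K)⁻¹ * x * g := by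
    simp [mul_assoc]
  rw [h1]
  exact ⟨fun h => h.1, fun h => ⟨h, by rw [← h1]; exact (g⁻¹ * (x * g)).2⟩⟩

theorem c3_base (hK : Fintype.card K = 3 ^ (2 * m + 1)) (u : ↥(twG2 K (3 ^ m)).FG) (hu : (u : GL chevG2.Idx K) ∈ goodG2.UU K) (hu1 : u ≠ 1) :
    c3 (G := ↥(twG2 K (3 ^ m)).FG) (((1 : ↥(twG2 K (3 ^ m)).FG) : ↥(twG2 K (3 ^ m)).FG ⧸ BG K m)) ((nG K m : ↥(twG2 K (3 ^ m)).FG) : ↥(twG2 K (3 ^ m)).FG ⧸ BG K m)
      ((u * nG K m : ↥(twG2 K (3 ^ m)).FG) : ↥(twG2 K (3 ^ m)).FG ⧸ BG K m) =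
      Nat.card {a : Kˣ // goodG2.hc (cG2 m a) * u * (goodG2.hc (cG2 m a))⁻¹ = u} := by
  obtain ⟨e, he⟩ := exists_torG2 (m := m) hK
  unfold c3
  symm
  refine Nat.card_congr (Equiv.ofBijective (fun a => ⟨⟨goodG2.hc (cG2 m a.1), hcG2_mem hK a.1⟩, ?_⟩) ⟨?_, ?_⟩)
  · have hb : goodG2.hc (cG2 m a.1) ∈ goodG2.BB K := goodG2.HH_le_BB ⟨_, rfl⟩
    refine ⟨⟨?_, ?_⟩, ?_⟩
    · show _ ∈ MulAction.stabilizer _ _
      rw [mem_stab]
      simpa using hb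
    · show _ ∈ MulAction.stabilizer _ _
      rw [mem_stab]
      exact goodG2.HH_le_BB (n0_HH' ⟨_, rfl⟩)
    · show _ ∈ MulAction.stabilizer _ _
      rw [mem_stab]
      have h1 := a.2
      have h2 : goodG2.hc (cG2 m a.1) * (u : GL chevG2.Idx K) = u * goodG2.hc (cG2 m a.1) := by
        rw [mul_inv_eq_iff_eq_mul] at h1; exact h1
      have h3 : ((u * nG K m : ↥(twG2 K (3 ^ m)).FG) : GL chevG2.Idx K)⁻¹ * goodG2.hc (cG2 m a.1) * ((u * nG K m : ↥(twG2 K (3 ^ m)).FG) : GL chevG2.Idx K) =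
          (n0 K)⁻¹ * goodG2.hc (cG2 m a.1) * n0 K := by
        show ((u : GL chevG2.Idx K) * n0 K)⁻¹ * goodG2.hc (cG2 m a.1) * ((u : GL chevG2.Idx K) * n0 K) = _
        calc ((u : GL chevG2.Idx K) * n0 K)⁻¹ * goodG2.hc (cG2 m a.1) * ((u : GL chevG2.Idx K) * n0 K) =
            (n0 K)⁻¹ * (u : GL chevG2.Idx K)⁻¹ * (goodG2.hc (cG2 m a.1) * u) * n0 K := by group
          _ = _ := by rw [h2]; group
      show ((u * nG K m : ↥(twG2 K (3 ^ m)).FG) : GL chevG2.Idx K)⁻¹ * goodG2.hc (cG2 m a.1) * ((u * nG K m : ↥(twG2 K (3 ^ m)).FG) : GL chevG2.Idx K) ∈ _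
      rw [h3]
      exact goodG2.HH_le_BB (n0_HH' ⟨_, rfl⟩)
  · intro a b h
    have h1 : goodG2.hc (cG2 m a.1) = goodG2.hc (cG2 m b.1) := congrArg (fun z => ((z.1 : ↥(twG2 K (3 ^ m)).FG) : GL chevG2.Idx K)) h
    rw [← he, ← he] at h1
    exact Subtype.ext (e.injective (Subtype.ext h1))
  · rintro ⟨x, ⟨hx1, hx2⟩, hx3⟩
    have h1 := (mem_stab _ _).1 hx1
    have h2 := (mem_stab _ _).1 hx2
    have h3 := (mem_stab _ _).1 hx3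
    have h1' : (x : GL chevG2.Idx K) ∈ goodG2.BB K := by simpa using h1
    obtain ⟨h4, h5⟩ := three_key hu h1' h2 h3
    obtain ⟨a, ha⟩ := HHG2 hK ⟨h4, x.2⟩
    exact ⟨⟨a, by rw [← ha]; exact h5⟩, Subtype.ext (Subtype.ext ha.symm)⟩

theorem card_sq (hK : Fintype.card K = 3 ^ (2 * m + 1)) : Nat.card (powMonoidHom 2 : Kˣ →* Kˣ).ker = 2 := by
  obtain ⟨k, hk, hU⟩ := cardUnitsG2 hK
  rw [IsCyclic.card_powMonoidHom_ker, hk]
  exact Nat.gcd_eq_right (dvd_mul_right _ _)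

theorem c3_le (hK : Fintype.card K = 3 ^ (2 * m + 1)) (u : ↥(twG2 K (3 ^ m)).FG) (hu : (u : GL chevG2.Idx K) ∈ goodG2.UU K) (hu1 : u ≠ 1) :
    Nat.card {a : Kˣ // goodG2.hc (cG2 m a) * u * (goodG2.hc (cG2 m a))⁻¹ = u} ≤ 2 := by
  rw [← card_sq (m := m) hK]
  refine Nat.card_le_card_of_injective (fun a => ⟨a.1, ?_⟩) ?_
  · exact cent_tor (m := m) hK ⟨hu, u.2⟩ (fun h => hu1 (Subtype.ext h)) a.2
  · intro a b h
    exact Subtype.ext (congrArg (fun z : ↥(powMonoidHom 2 : Kˣ →* Kˣ).ker => (z : Kˣ)) h)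

theorem c3_eq (hK : Fintype.card K = 3 ^ (2 * m + 1)) :
    Nat.card {a : Kˣ // goodG2.hc (cG2 m a) * reeU m 0 1 0 * (goodG2.hc (cG2 m a))⁻¹ = reeU m 0 1 0} = 2 := by
  rw [← card_sq (m := m) hK]
  refine Nat.card_congr (Equiv.subtypeEquivRight ?_)
  intro a
  show _ ↔ a ^ 2 = 1
  constructor
  · intro h
    exact cent_tor (m := m) hK ((UUG2 hK).2 ⟨_, _, _, rfl⟩) (fun h1 => by
      obtain ⟨_, h2, _⟩ := reeU_eq_one h1
      exact one_ne_zero h2) h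
  · intro h
    rw [reeU_hc hK]
    have h1 : goodG2.hcf (cG2 m a) 10 = 1 := by
      rw [chG2, show chevG2.cartan 0 10 = 3 by decide +kernel, show chevG2.cartan 1 10 = -1 by decide +kernel]
      obtain ⟨k, hk⟩ := odd3 m
      have h2 : a ^ 3 ^ m = a := by rw [hk, pow_succ, pow_mul, h, one_pow, one_mul]
      rw [h2, zpow_neg_one]
      have h3 : a ^ (3 : ℤ) = a ^ 2 * a := by rw [← pow_succ]; norm_cast
      rw [h3, h]; group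
    rw [h1]
    simp

theorem ree_three_le (hK : Fintype.card K = 3 ^ (2 * m + 1)) (x y z : ↥(twG2 K (3 ^ m)).FG ⧸ BG K m) (hxy : x ≠ y) (hxz : x ≠ z) (hyz : y ≠ z) :
    c3 (G := ↥(twG2 K (3 ^ m)).FG) x y z ≤ 2 := by
  have hcoe : ∀ (g g' : ↥(twG2 K (3 ^ m)).FG), ((g * g' : ↥(twG2 K (3 ^ m)).FG) : ↥(twG2 K (3 ^ m)).FG ⧸ BG K m) = g • (g' : ↥(twG2 K (3 ^ m)).FG ⧸ BG K m) :=
    fun g g' => rfl
  -- a point different from the base point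
  have key : ∀ w : ↥(twG2 K (3 ^ m)).FG ⧸ BG K m, w ≠ ((1 : ↥(twG2 K (3 ^ m)).FG) : ↥(twG2 K (3 ^ m)).FG ⧸ BG K m) →
      ∃ u : ↥(twG2 K (3 ^ m)).FG, (u : GL chevG2.Idx K) ∈ goodG2.UU K ∧ w = ((u * nG K m : ↥(twG2 K (3 ^ m)).FG) : ↥(twG2 K (3 ^ m)).FG ⧸ BG K m) := by
    intro w hw
    obtain ⟨g, rfl⟩ := QuotientGroup.mk_surjective w
    rcases reeBruhat g.2 with h | ⟨u, hu, h, hh, u', hu', he⟩
    · exfalso
      apply hw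
      rw [QuotientGroup.eq, mul_one, inv_mem_iff]
      exact Subgroup.mem_subgroupOf.2 h
    · refine ⟨⟨u, hu.2⟩, hu.1, ?_⟩
      rw [QuotientGroup.eq, Subgroup.mem_subgroupOf, Subgroup.mem_inf]
      refine ⟨?_, SetLike.coe_mem _⟩
      show (g : GL chevG2.Idx K)⁻¹ * (u * n0 K) ∈ goodG2.BB K
      have h1 : (g : GL chevG2.Idx K)⁻¹ * (u * n0 K) = u'⁻¹ * ((n0 K)⁻¹ * h * n0 K)⁻¹ := by rw [he]; group
      rw [h1]
      exact Subgroup.mul_mem _ (Subgroup.inv_mem _ (goodG2.UU_le_BB hu'.1)) (Subgroup.inv_mem _ (goodG2.HH_le_BB (n0_HH' hh.1)))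
  obtain ⟨g1, rfl⟩ := QuotientGroup.mk_surjective x
  have e1 : ((g1 : ↥(twG2 K (3 ^ m)).FG ⧸ BG K m)) = g1 • ((1 : ↥(twG2 K (3 ^ m)).FG) : ↥(twG2 K (3 ^ m)).FG ⧸ BG K m) := by rw [← hcoe, mul_one]
  obtain ⟨u, hu, hyu⟩ := key (g1⁻¹ • y) (by
    intro h
    apply hxy
    show (g1 : ↥(twG2 K (3 ^ m)).FG ⧸ BG K m) = y
    rw [e1, ← h, smul_inv_smul])
  have hu1 : u • ((1 : ↥(twG2 K (3 ^ m)).FG) : ↥(twG2 K (3 ^ m)).FG ⧸ BG K m) = ((1 : ↥(twG2 K (3 ^ m)).FG) : ↥(twG2 K (3 ^ m)).FG ⧸ BG K m) := by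
    rw [← hcoe, mul_one, QuotientGroup.eq, mul_one, inv_mem_iff]
    exact Subgroup.mem_subgroupOf.2 ⟨goodG2.UU_le_BB hu, u.2⟩
  have e2 : (g1 * u) • ((1 : ↥(twG2 K (3 ^ m)).FG) : ↥(twG2 K (3 ^ m)).FG ⧸ BG K m) = (g1 : ↥(twG2 K (3 ^ m)).FG ⧸ BG K m) := by
    rw [mul_smul, hu1, ← e1]
  have e3 : (g1 * u) • ((nG K m : ↥(twG2 K (3 ^ m)).FG) : ↥(twG2 K (3 ^ m)).FG ⧸ BG K m) = y := by
    rw [mul_smul, ← hcoe, ← hyu, smul_inv_smul]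
  obtain ⟨v, hv, hzv⟩ := key ((g1 * u)⁻¹ • z) (by
    intro h
    apply hxz
    show (g1 : ↥(twG2 K (3 ^ m)).FG ⧸ BG K m) = z
    rw [← e2, ← h, smul_inv_smul])
  have hv1 : v ≠ 1 := by
    intro h
    apply hyz
    rw [h, one_mul] at hzv
    rw [← e3, ← hzv, smul_inv_smul]
  have e4 : (g1 * u) • ((v * nG K m : ↥(twG2 K (3 ^ m)).FG) : ↥(twG2 K (3 ^ m)).FG ⧸ BG K m) = z := by
    rw [← hzv, smul_inv_smul]
  show c3 (G := ↥(twG2 K (3 ^ m)).FG) (g1 : ↥(twG2 K (3 ^ m)).FG ⧸ BG K m) y z ≤ 2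
  rw [← e2, ← e3, ← e4, c3_smul, c3_base hK v hv hv1]
  exact c3_le hK v hv hv1

theorem ree_three_ex (hK : Fintype.card K = 3 ^ (2 * m + 1)) : ∃ x y z : ↥(twG2 K (3 ^ m)).FG ⧸ BG K m, x ≠ y ∧ x ≠ z ∧ y ≠ z ∧
    c3 (G := ↥(twG2 K (3 ^ m)).FG) x y z = 2 := by
  have hU := (UUG2 (m := m) hK).2 ⟨0, 1, 0, rfl⟩
  have hne : reeU m (0 : K) 1 0 ≠ 1 := fun h => by
    obtain ⟨_, h2, _⟩ := reeU_eq_one h
    exact one_ne_zero h2
  obtain ⟨u, hu⟩ : ∃ u : ↥(twG2 K (3 ^ m)).FG, u = ⟨reeU m (0 : K) 1 0, hU.2⟩ := ⟨_, rfl⟩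
  have hu' : (u : GL chevG2.Idx K) = reeU m (0 : K) 1 0 := by rw [hu]
  have huU : (u : GL chevG2.Idx K) ∈ goodG2.UU K := by rw [hu']; exact hU.1
  refine ⟨((1 : ↥(twG2 K (3 ^ m)).FG) : ↥(twG2 K (3 ^ m)).FG ⧸ BG K m), ((nG K m : ↥(twG2 K (3 ^ m)).FG) : ↥(twG2 K (3 ^ m)).FG ⧸ BG K m),
    ((u * nG K m : ↥(twG2 K (3 ^ m)).FG) : ↥(twG2 K (3 ^ m)).FG ⧸ BG K m), ?_, ?_, ?_, ?_⟩
  · intro h
    rw [QuotientGroup.eq, inv_one, one_mul] at h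
    exact n0_not_BB h.1
  · intro h
    rw [QuotientGroup.eq, inv_one, one_mul] at h
    have h1 : (u : GL chevG2.Idx K) * n0 K ∈ goodG2.BB K := h.1
    exact n0_not_BB ((Subgroup.mul_mem_cancel_left _ (goodG2.UU_le_BB huU)).1 h1)
  · intro h
    rw [QuotientGroup.eq] at h
    have h1 : (n0 K)⁻¹ * ((u : GL chevG2.Idx K) * n0 K) ∈ goodG2.BB K := h.1
    rw [← mul_assoc] at h1
    have h2 := inter_H (goodG2.UU_le_BB huU) h1
    have h3 : (u : GL chevG2.Idx K) ∈ goodG2.UU K ⊓ goodG2.HH K := ⟨huU, h2⟩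
    rw [goodG2.UU_inf_HH, Subgroup.mem_bot, hu'] at h3
    exact hne h3
  · rw [c3_base hK u huU (fun h => hne (by rw [← hu', h]; rfl)), hu', c3_eq hK]

end Ree

end Chv
end CfsgH6
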